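import Groth.Agent.H8.J2Dedekind

set_option autoImplicit false
universe u

namespace Groth.Agent.H8.J2

/-- in a domain integral over a ring of dimension `≤ 1`, nonzero primes are maximal -/
theorem isMaximal_of_isIntegral_of_dim_le_one (A A' : Type u) [CommRing A] [CommRing A']
    [IsDomain A'] [Algebra A A'] [Algebra.IsIntegral A A'] (hdim : ringKrullDim A ≤ 1)
    (q : Ideal A') [hq : q.IsPrime] (hq0 : q ≠ ⊥) : q.IsMaximal := by
  have hdim' : Ring.KrullDimLE 1 A := Ring.krullDimLE_iff.mpr (by simpa using hdim)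
  obtain ⟨x, hxq, hx0⟩ : ∃ x ∈ q, x ≠ 0 := by
    by_contra hcon
    push Not at hcon
    exact hq0 (by rw [eq_bot_iff]; intro x hx; exact hcon x hx)
  have hbot : (⊥ : Ideal A').IsPrime := Ideal.isPrime_bot
  have hlt : (⊥ : Ideal A').comap (algebraMap A A') < q.comap (algebraMap A A') :=
    Ideal.comap_lt_comap_of_integral_mem_sdiff bot_le ⟨hxq, by simpa using hx0⟩
      (Algebra.IsIntegral.isIntegral x)
  have hp : (q.comap (algebraMap A A')).IsPrime := inferInstance
  have hp₀ : ((⊥ : Ideal A').comap (algebraMap A A')).IsPrime := inferInstance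
  have hmax : (q.comap (algebraMap A A')).IsMaximal := by
    rcases Ring.krullDimLE_one_iff.mp hdim' _ hp with hmin | hmax
    · exfalso
      have := hmin.2 ⟨hp₀, bot_le⟩ hlt.le
      exact absurd hlt (not_lt_of_ge this)
    · exact hmax
  exact Ideal.isMaximal_of_isIntegral_of_isMaximal_comap q hmax

/-- a finite algebra over a ring with finitely many maximal ideals has finitely many maximal ideals -/
theorem finite_maximal_of_finite (A A' : Type u) [CommRing A] [CommRing A'] [Algebra A A']
    [Module.Finite A A'] (hsl : {I : Ideal A | I.IsMaximal}.Finite) :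
    {I : Ideal A' | I.IsMaximal}.Finite := by
  have hint : Algebra.IsIntegral A A' := Algebra.IsIntegral.of_finite A A'
  have hsub : {I : Ideal A' | I.IsMaximal} ⊆ ⋃ m ∈ {I : Ideal A | I.IsMaximal}, m.primesOver A' := by
    intro M hM
    haveI : M.IsMaximal := hM
    have hm : (M.comap (algebraMap A A')).IsMaximal :=
      Ideal.isMaximal_comap_of_isIntegral_of_isMaximal M
    exact Set.mem_biUnion hm ⟨hM.isPrime, ⟨rfl⟩⟩
  exact (hsl.biUnion fun m _ => Algebra.QuasiFinite.finite_primesOver m).subset hsub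

/-- in a domain with finitely many maximal ideals, all of whose nonzero primes are maximal, and
which is not a field, the generic point is open -/
theorem isOpen_singleton_bot_of_finite (D : Type u) [CommRing D] [IsDomain D]
    (hfin : {I : Ideal D | I.IsMaximal}.Finite)
    (hmax : ∀ (q : Ideal D) [q.IsPrime], q ≠ ⊥ → q.IsMaximal) (hnf : ¬ IsField D) :
    IsOpen ({⟨⊥, Ideal.isPrime_bot⟩} : Set (PrimeSpectrum D)) := by
  have hC : IsClosed (⋃ m ∈ {I : Ideal D | I.IsMaximal}, PrimeSpectrum.zeroLocus (m : Set D)) :=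
    hfin.isClosed_biUnion fun m _ => PrimeSpectrum.isClosed_zeroLocus _
  have heq : ({⟨⊥, Ideal.isPrime_bot⟩} : Set (PrimeSpectrum D)) =
      (⋃ m ∈ {I : Ideal D | I.IsMaximal}, PrimeSpectrum.zeroLocus (m : Set D))ᶜ := by
    ext p
    simp only [Set.mem_singleton_iff, Set.mem_compl_iff, Set.mem_iUnion, PrimeSpectrum.mem_zeroLocus,
      SetLike.coe_subset_coe, exists_prop, not_exists, not_and]
    constructor
    · rintro rfl m hm hle
      have : m = ⊥ := le_bot_iff.mp hle
      rw [this] at hm
      exact hnf (Ring.isField_iff_maximal_bot.mpr hm)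
    · intro h
      by_contra hne
      have hp0 : p.asIdeal ≠ ⊥ := fun h0 => hne (PrimeSpectrum.ext h0)
      haveI := p.2
      exact h p.asIdeal (hmax p.asIdeal hp0) le_rfl
  rw [heq]
  exact hC.isOpen_compl

/-- a Noetherian ring with finitely many maximal ideals and dimension `≤ 1` is J-2 -/
theorem isJ2_of_semilocal_dim_le_one (A : Type u) [CommRing A] [IsNoetherianRing A]
    (hsl : {I : Ideal A | I.IsMaximal}.Finite) (hdim : ringKrullDim A ≤ 1) : EGA4.IsJ2 A := by
  apply isJ2_of_finite_domains
  intro A' _ _ _ hfin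
  have hint : Algebra.IsIntegral A A' := Algebra.IsIntegral.of_finite A A'
  by_cases hA' : IsField A'
  · exact ⟨Set.univ, isOpen_univ, ⟨⟨⊥, Ideal.isPrime_bot⟩, trivial⟩,
      regLocus_eq_univ_of_isField A' hA'⟩
  · refine ⟨{⟨⊥, Ideal.isPrime_bot⟩}, ?_, Set.singleton_nonempty _, ?_⟩
    · exact isOpen_singleton_bot_of_finite A' (finite_maximal_of_finite A A' hsl)
        (fun q _ hq0 => isMaximal_of_isIntegral_of_dim_le_one A A' hdim q hq0) hA'
    · rintro p rfl
      exact Groth.Agent.H8.Nagata.bot_mem_regLocus A'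

end Groth.Agent.H8.J2
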