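import Groth.Agent.H8.ExcellentDedekind
import Groth.Agent.H8.J2Semilocal
import Groth.Agent.S4704
import Groth.Agent.S19379
set_option linter.style.haveILetI false

set_option autoImplicit false
universe u
open TensorProduct IsLocalRing

namespace Groth.Agent.H8.GRing

open Groth.Agent.H8.J2

/-- a ring map with bijective structure map between Noetherian rings is regular -/
theorem isRegularHom_of_bijective (A B : Type u) [CommRing A] [CommRing B] [Algebra A B]
    [IsNoetherianRing A] [IsNoetherianRing B] (h : Function.Bijective (algebraMap A B)) :
    CAlg.IsRegularHom A B := by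
  haveI : Algebra.FormallySmooth A B :=
    Algebra.FormallySmooth.of_equiv (AlgEquiv.ofBijective (Algebra.ofId A B) h)
  exact Groth.Agent.S19379.result A B

/-- for a local ring, regularity of the completion map passes to the localization at the
maximal ideal -/
theorem isRegularHom_cpl_atPrime_maximalIdeal (R : Type u) [CommRing R] [IsNoetherianRing R]
    [IsLocalRing R] (h : CAlg.IsRegularHom R (EGA4.Cpl R)) :
    CAlg.IsRegularHom (Localization.AtPrime (maximalIdeal R))
      (EGA4.Cpl (Localization.AtPrime (maximalIdeal R))) := by
  let e : R ≃ₐ[R] Localization.AtPrime (maximalIdeal R) :=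
    IsLocalization.atUnits R (maximalIdeal R).primeCompl (fun x ↦ by simpa using! fun a ↦ a)
  letI : Algebra (Localization.AtPrime (maximalIdeal R)) R := e.symm.toRingEquiv.toRingHom.toAlgebra
  haveI : IsLocalHom (algebraMap (Localization.AtPrime (maximalIdeal R)) R) := by
    constructor
    intro x hx
    have h1 : IsUnit (e.symm x) := hx
    have h2 := h1.map e
    simpa using h2
  haveI : IsNoetherianRing (Localization.AtPrime (maximalIdeal R)) :=
    IsLocalization.isNoetherianRing (maximalIdeal R).primeCompl _ inferInstance
  have hbij : Function.Bijective (algebraMap (Localization.AtPrime (maximalIdeal R)) R) :=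
    e.symm.toRingEquiv.bijective
  exact Groth.Agent.S4704.result (Localization.AtPrime (maximalIdeal R)) R
    (isRegularHom_of_bijective _ _ hbij) h

/-- for a local ring, regularity of the completion map descends from the localization at the
maximal ideal -/
theorem isRegularHom_cpl_of_atPrime_maximalIdeal (R : Type u) [CommRing R] [IsNoetherianRing R]
    [IsLocalRing R]
    (h : CAlg.IsRegularHom (Localization.AtPrime (maximalIdeal R))
      (EGA4.Cpl (Localization.AtPrime (maximalIdeal R)))) :
    CAlg.IsRegularHom R (EGA4.Cpl R) := by
  let e : R ≃ₐ[R] Localization.AtPrime (maximalIdeal R) :=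
    IsLocalization.atUnits R (maximalIdeal R).primeCompl (fun x ↦ by simpa using! fun a ↦ a)
  haveI : IsNoetherianRing (Localization.AtPrime (maximalIdeal R)) :=
    IsLocalization.isNoetherianRing (maximalIdeal R).primeCompl _ inferInstance
  have hbij : Function.Bijective (algebraMap R (Localization.AtPrime (maximalIdeal R))) := by
    have : (algebraMap R (Localization.AtPrime (maximalIdeal R)) : R → _) = e := by
      ext x
      exact (e.commutes x).symm
    rw [this]
    exact e.bijective
  haveI : IsLocalHom (algebraMap R (Localization.AtPrime (maximalIdeal R))) := by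
    constructor
    intro x hx
    have := (IsLocalization.AtPrime.isUnit_to_map_iff (Localization.AtPrime (maximalIdeal R))
      (maximalIdeal R) x).mp hx
    simpa using this
  exact Groth.Agent.S4704.result R (Localization.AtPrime (maximalIdeal R))
    (isRegularHom_of_bijective _ _ hbij) h


/-- a discrete valuation ring is excellent iff its generic formal fibre is geometrically reduced -/
theorem isExcellent_dvr_iff (R : Type u) [CommRing R] [IsDomain R] [IsDiscreteValuationRing R] :
    EGA4.IsExcellent R ↔
      Algebra.IsGeometricallyReduced (⊥ : Ideal R).ResidueField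
        (EGA4.formalFibre R (⊥ : Ideal R)) := by
  have hdim : ringKrullDim R ≤ 1 := Ring.krullDimLE_iff.mp inferInstance
  constructor
  · rintro ⟨hN, hUC, hG, hJ2⟩
    have h1 := hG.2 (maximalIdeal R)
    have h2 := isRegularHom_cpl_of_atPrime_maximalIdeal R h1
    exact Groth.Agent.H8.QE.isGeometricallyReduced_of_isGeometricallyRegular _ _ (h2.2 ⊥).2
  · intro h
    have hR : CAlg.IsRegularHom R (EGA4.Cpl R) := by
      apply isRegularHom_cpl_of_dim_le_one R hdim
      intro P hP hPm
      have hPbot : P = ⊥ := by
        by_contra hne
        exact hPm (IsLocalRing.eq_maximalIdeal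
          (Ring.krullDimLE_one_iff_of_noZeroDivisors.mp inferInstance P hne hP))
      subst hPbot
      exact h
    refine ⟨inferInstance, isUniversallyCatenary_of_forall_isRegularLocalRing R
      (fun p hp => regLocus_eq_univ_of_isDedekindDomain R (Set.mem_univ ⟨p, hp⟩)),
      ⟨inferInstance, fun p hp => ?_⟩, ?_⟩
    · by_cases hp0 : p = ⊥
      · subst hp0
        have hdim0 : ringKrullDim (Localization.AtPrime (⊥ : Ideal R)) ≤ 0 := by
          rw [IsLocalization.AtPrime.ringKrullDim_eq_height (⊥ : Ideal R), Ideal.height_bot]
          exact le_refl _
        haveI : IsNoetherianRing (Localization.AtPrime (⊥ : Ideal R)) :=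
          IsLocalization.isNoetherianRing (⊥ : Ideal R).primeCompl _ inferInstance
        apply isRegularHom_cpl_of_dim_le_one _ (hdim0.trans zero_le_one)
        intro P hP hPm
        exfalso
        apply hPm
        haveI : Ring.KrullDimLE 0 (Localization.AtPrime (⊥ : Ideal R)) :=
          Ring.krullDimLE_iff.mpr hdim0
        exact IsLocalRing.eq_maximalIdeal (Ideal.IsPrime.isMaximal' hP)
      · have hpm : p = maximalIdeal R := IsLocalRing.eq_maximalIdeal
          (Ring.krullDimLE_one_iff_of_noZeroDivisors.mp inferInstance p hp0 hp)
        subst hpm
        exact isRegularHom_cpl_atPrime_maximalIdeal R hR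
    · apply isJ2_of_semilocal_dim_le_one R _ hdim
      have : {I : Ideal R | I.IsMaximal} = {maximalIdeal R} := by
        ext I
        rw [Set.mem_singleton_iff]
        change I.IsMaximal ↔ _
        exact ⟨fun hI => IsLocalRing.eq_maximalIdeal hI,
          fun hI => hI ▸ IsLocalRing.maximalIdeal.isMaximal R⟩
      rw [this]
      exact Set.finite_singleton _

end Groth.Agent.H8.GRing
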