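import Mathlib
import Groth.Agent.Lib.Helper18.ComplMap
import Groth.Agent.Lib.Helper47.CompletionIso
import Groth.Agent.Lib.Helper3.CompleteFinite
import Groth.Agent.Lib.Helper29.CMLocusOpen

/-!
# Completion of a local ring of a finite algebra (helper8)

`A` Noetherian, `B` a finite `A`-algebra, `n` a prime of `B` over `m ⊆ A`, `Λ` the completion of
`A_m`.  Then `E = Λ ⊗_A B` has a maximal ideal `M` over `n` and the completion of `B_n` is
isomorphic to `E_M`, compatibly with the maps from `B`.
-/

set_option autoImplicit false
set_option linter.style.haveILetI false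
set_option linter.unusedSectionVars false
universe u
open IsLocalRing TensorProduct

namespace Groth.Agent.H8.FinCompl

/-- A flat local homomorphism `C → L` of Noetherian local rings with `C → L/𝔪_C L` surjective
induces an isomorphism on completions, compatible with the canonical maps. -/
theorem exists_cplEquiv (C L : Type u) [CommRing C] [CommRing L] [IsLocalRing C] [IsLocalRing L]
    [IsNoetherianRing C] [IsNoetherianRing L] [Algebra C L] [Module.Flat C L]
    [IsLocalHom (algebraMap C L)]
    (hsurj : ∀ x : L, ∃ c : C, x - algebraMap C L c ∈ (maximalIdeal C).map (algebraMap C L)) :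
    ∃ ψ : AdicCompletion (maximalIdeal C) C ≃+* AdicCompletion (maximalIdeal L) L,
      ∀ c : C, ψ (algebraMap C _ c) = algebraMap L _ (algebraMap C L c) := by
  have hle : (maximalIdeal C).map (algebraMap C L) ≤ maximalIdeal L :=
    ((local_hom_TFAE (algebraMap C L)).out 0 2 rfl rfl).mp inferInstance
  have hm : (maximalIdeal C).map (algebraMap C L) = maximalIdeal L := by
    refine le_antisymm hle fun x hx => ?_
    obtain ⟨c, hc⟩ := hsurj x
    have h1 : algebraMap C L c ∈ maximalIdeal L := by
      have := Ideal.sub_mem _ hx (hle hc)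
      rwa [sub_sub_cancel] at this
    have h2 : c ∈ maximalIdeal C := by
      rw [mem_maximalIdeal, mem_nonunits_iff]
      intro hu
      exact (mem_maximalIdeal _).mp h1 (hu.map _)
    have := Ideal.add_mem _ hc (Ideal.mem_map_of_mem (algebraMap C L) h2)
    rwa [sub_add_cancel] at this
  have hk : Function.Bijective (ResidueField.map (algebraMap C L)) := by
    refine ⟨RingHom.injective _, fun y => ?_⟩
    obtain ⟨x, rfl⟩ := residue_surjective y
    obtain ⟨c, hc⟩ := hsurj x
    refine ⟨residue C c, ?_⟩
    rw [ResidueField.map_residue, eq_comm, ← sub_eq_zero, ← map_sub, residue_eq_zero_iff]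
    exact hle hc
  have hψ := Groth.Agent.Lib.Helper18.complMap_of (maximalIdeal C) (maximalIdeal L)
    (algebraMap C L) hm.le
  have hbij := Groth.Agent.Lib.Helper47.completion_map_bijective C L hm hk
    (FSch.complMap (maximalIdeal C) (maximalIdeal L) (algebraMap C L) hm.le)
    (RingHom.ext fun x => hψ x)
  exact ⟨RingEquiv.ofBijective _ hbij, fun c => hψ c⟩

/-- transport of regularity of local rings along `Ĉ ≃ E_M`. -/
theorem isRegularLocalRing_of_ringEquiv_localization {C' E : Type u} [CommRing C'] [CommRing E]
    (M : Ideal E) [M.IsPrime] (θ : C' ≃+* Localization.AtPrime M) (q : Ideal C') [q.IsPrime]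
    (h : ∀ (P : Ideal E) [P.IsPrime],
      P = ((q.comap θ.symm).comap
        (algebraMap E (Localization.AtPrime M))) →
      IsRegularLocalRing (Localization.AtPrime P)) :
    IsRegularLocalRing (Localization.AtPrime q) := by
  have hq' : (q.comap θ.symm).IsPrime := Ideal.comap_isPrime _ _
  have loc2 : IsLocalization.AtPrime
      (Localization.AtPrime (q.comap θ.symm))
      ((q.comap θ.symm).comap
        (algebraMap E (Localization.AtPrime M))) :=
    IsLocalization.isLocalization_isLocalization_atPrime_isLocalization M.primeCompl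
      (Localization.AtPrime (q.comap θ.symm)) _
  haveI := h _ rfl
  let e := IsLocalization.algEquiv ((q.comap θ.symm).comap
        (algebraMap E (Localization.AtPrime M))).primeCompl
    (Localization.AtPrime ((q.comap θ.symm).comap
        (algebraMap E (Localization.AtPrime M))))
    (Localization.AtPrime (q.comap θ.symm))
  haveI h1 : IsRegularLocalRing
      (Localization.AtPrime (q.comap θ.symm)) :=
    IsRegularLocalRing.of_ringEquiv e.toRingEquiv
  exact IsRegularLocalRing.of_ringEquiv (IsLocalization.ringEquivOfRingEquiv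
    (Localization.AtPrime (q.comap θ.symm))
    (Localization.AtPrime q) θ.symm (θ.symm.map_primeCompl_comap_eq q))

section T

variable (A B Λ E : Type u) [CommRing A] [CommRing B] [CommRing Λ] [CommRing E]
    [Algebra A B] [IsNoetherianRing B]
    [IsLocalRing Λ] [IsNoetherianRing Λ] [IsAdicComplete (maximalIdeal Λ) Λ]
    [Algebra Λ E] [Module.Finite Λ E] [Algebra B E] [Module.Flat B E] [Algebra A E]
    [IsScalarTower A B E]
    (m : Ideal A) [m.IsPrime] (n : Ideal B) [n.IsPrime] [n.LiesOver m]
    (M : Ideal E) [hM : M.IsMaximal] [M.LiesOver n]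

include Λ in
theorem hsurj_loc
    (hstar : ∀ e : E, ∃ r : A, r ∉ m ∧ ∃ b : B,
      r • e - algebraMap B E b ∈ m.map (algebraMap A E)) :
    letI := Localization.AtPrime.algebraOfLiesOver n M
    ∀ x : Localization.AtPrime M, ∃ c : Localization.AtPrime n,
      x - algebraMap (Localization.AtPrime n) (Localization.AtPrime M) c ∈
        (maximalIdeal (Localization.AtPrime n)).map
          (algebraMap (Localization.AtPrime n) (Localization.AtPrime M)) := by
  letI := Localization.AtPrime.algebraOfLiesOver n M
  intro x
  -- basic facts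
  have hnm : ∀ a : A, algebraMap A B a ∈ n ↔ a ∈ m := by
    intro a
    rw [Ideal.over_def n m, Ideal.mem_comap]
  have hMn : ∀ b : B, algebraMap B E b ∈ M ↔ b ∈ n := by
    intro b
    rw [Ideal.over_def M n, Ideal.mem_comap]
  have hmM : m.map (algebraMap A E) ≤ M := by
    rw [Ideal.map_le_iff_le_comap]
    intro a ha
    rw [Ideal.mem_comap, IsScalarTower.algebraMap_apply A B E, hMn, hnm]
    exact ha
  -- the image of `mE` lies in `J`
  have hJ : (m.map (algebraMap A E)).map (algebraMap E (Localization.AtPrime M)) ≤
      (maximalIdeal (Localization.AtPrime n)).map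
          (algebraMap (Localization.AtPrime n) (Localization.AtPrime M)) := by
    rw [Ideal.map_le_iff_le_comap, Ideal.map_le_iff_le_comap]
    intro a ha
    rw [Ideal.mem_comap, Ideal.mem_comap, IsScalarTower.algebraMap_apply A B E,
      ← IsScalarTower.algebraMap_apply B E (Localization.AtPrime M),
      IsScalarTower.algebraMap_apply B (Localization.AtPrime n) (Localization.AtPrime M)]
    apply Ideal.mem_map_of_mem
    rw [IsLocalization.AtPrime.to_map_mem_maximal_iff (Localization.AtPrime n) n, hnm]
    exact ha
  obtain ⟨e, t, rfl⟩ := IsLocalization.exists_mk'_eq M.primeCompl x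
  obtain ⟨r, hr, b, hb⟩ := hstar e
  obtain ⟨r', hr', b', hb'⟩ := hstar (t : E)
  have hb'n : b' ∉ n := by
    intro hb'n
    have h1 : algebraMap B E b' ∈ M := (hMn b').mpr hb'n
    have h2 : r' • (t : E) ∈ M := by
      have := M.add_mem (hmM hb') h1
      rwa [sub_add_cancel] at this
    rw [Algebra.smul_def] at h2
    rcases hM.isPrime.mem_or_mem h2 with h3 | h3
    · rw [IsScalarTower.algebraMap_apply A B E, hMn, hnm] at h3
      exact hr' h3
    · exact t.2 h3
  have hrn : algebraMap A B r ∉ n := fun h => hr ((hnm r).mp h)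
  have hden : algebraMap A B r * b' ∈ n.primeCompl := fun h =>
    (‹n.IsPrime›.mem_or_mem h).elim hrn hb'n
  refine ⟨IsLocalization.mk' _ (b * algebraMap A B r') ⟨algebraMap A B r * b', hden⟩, ?_⟩
  change IsLocalization.mk' _ e t - Localization.localRingHom n M (algebraMap B E)
    Ideal.LiesOver.over (IsLocalization.mk' _ (b * algebraMap A B r')
      ⟨algebraMap A B r * b', hden⟩) ∈ _
  rw [Localization.localRingHom_mk', ← IsLocalization.mk'_sub, IsLocalization.mk'_mem_iff]
  apply hJ
  apply Ideal.mem_map_of_mem
  have e1 : e * (algebraMap B E (algebraMap A B r * b')) -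
      algebraMap B E (b * algebraMap A B r') * (t : E) =
      (r • e - algebraMap B E b) * algebraMap B E b' -
        algebraMap B E b * (r' • (t : E) - algebraMap B E b') := by
    rw [map_mul, map_mul, ← IsScalarTower.algebraMap_apply A B E,
      ← IsScalarTower.algebraMap_apply A B E, Algebra.smul_def, Algebra.smul_def]
    ring
  change e * (algebraMap B E (algebraMap A B r * b')) -
      algebraMap B E (b * algebraMap A B r') * (t : E) ∈ _
  rw [e1]
  exact Ideal.sub_mem _ (Ideal.mul_mem_right _ _ hb) (Ideal.mul_mem_left _ _ hb')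

include Λ in
theorem exists_cplEquiv_localization
    (hstar : ∀ e : E, ∃ r : A, r ∉ m ∧ ∃ b : B,
      r • e - algebraMap B E b ∈ m.map (algebraMap A E)) :
    ∃ θ : AdicCompletion (maximalIdeal (Localization.AtPrime n)) (Localization.AtPrime n) ≃+*
        Localization.AtPrime M,
      ∀ b : B, θ (algebraMap B _ b) = algebraMap E (Localization.AtPrime M) (algebraMap B E b) := by
  letI := Localization.AtPrime.algebraOfLiesOver n M
  haveI : IsLocalHom (algebraMap (Localization.AtPrime n) (Localization.AtPrime M)) :=
    Localization.isLocalHom_localRingHom _ _ _ Ideal.LiesOver.over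
  haveI : IsNoetherianRing E := IsNoetherianRing.of_finite Λ E
  haveI : IsNoetherianRing (Localization.AtPrime M) :=
    IsLocalization.isNoetherianRing M.primeCompl _ inferInstance
  haveI : IsNoetherianRing (Localization.AtPrime n) :=
    IsLocalization.isNoetherianRing n.primeCompl _ inferInstance
  obtain ⟨ψ, hψ⟩ := exists_cplEquiv (Localization.AtPrime n) (Localization.AtPrime M)
    (hsurj_loc A B Λ E m n M hstar)
  obtain ⟨-, -, h3⟩ := Groth.Agent.Lib.Helper3.finite_algebra_over_complete_local Λ E
  haveI : IsAdicComplete (maximalIdeal (Localization.AtPrime M)) (Localization.AtPrime M) :=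
    (h3 ⟨M, hM⟩).2
  refine ⟨ψ.trans (AdicCompletion.ofAlgEquiv
    (maximalIdeal (Localization.AtPrime M))).symm.toRingEquiv, fun b => ?_⟩
  rw [RingEquiv.trans_apply, IsScalarTower.algebraMap_apply B (Localization.AtPrime n)
    (AdicCompletion (maximalIdeal (Localization.AtPrime n)) (Localization.AtPrime n)), hψ]
  change (AdicCompletion.ofAlgEquiv (maximalIdeal (Localization.AtPrime M))).symm
    (AdicCompletion.of _ _ _) = _
  rw [AdicCompletion.ofAlgEquiv_symm_of]
  exact Localization.localRingHom_to_map n M (algebraMap B E) Ideal.LiesOver.over b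

end T

section Tensor

variable (A B : Type u) [CommRing A] [CommRing B] [IsNoetherianRing A] [Algebra A B]
  (m : Ideal A) [m.IsPrime]

/-- the residue map `Λ → κ(m)`, `Λ` the completion of `A_m` -/
noncomputable def resΛ :
    AdicCompletion (maximalIdeal (Localization.AtPrime m)) (Localization.AtPrime m) →ₐ[A]
      m.ResidueField :=
  ((AdicCompletion.evalOneₐ (maximalIdeal (Localization.AtPrime m))).restrictScalars A :)

theorem resΛ_surjective : Function.Surjective (resΛ A m) :=
  AdicCompletion.evalOneₐ_surjective _

theorem ker_resΛ : RingHom.ker (resΛ A m).toRingHom = m.map (algebraMap A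
    (AdicCompletion (maximalIdeal (Localization.AtPrime m)) (Localization.AtPrime m))) := by
  have h1 : RingHom.ker (resΛ A m).toRingHom =
      RingHom.ker (AdicCompletion.evalOneₐ (maximalIdeal (Localization.AtPrime m))).toRingHom := rfl
  rw [h1, AdicCompletion.ker_evalOneₐ_eq_map _ (Ideal.fg_of_isNoetherianRing _),
    ← Localization.AtPrime.map_eq_maximalIdeal, Ideal.map_map]
  rfl

/-- the quotient map `Λ ⊗_A B → κ(m) ⊗_A B` -/
noncomputable def toFiber :
    (AdicCompletion (maximalIdeal (Localization.AtPrime m)) (Localization.AtPrime m)) ⊗[A] B →ₐ[A]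
      m.Fiber B :=
  Algebra.TensorProduct.map (resΛ A m) (AlgHom.id A B)

theorem toFiber_surjective : Function.Surjective (toFiber A B m) :=
  TensorProduct.map_surjective (resΛ_surjective A m) Function.surjective_id

theorem toFiber_one_tmul (b : B) : toFiber A B m (1 ⊗ₜ b) = 1 ⊗ₜ b := by
  rw [toFiber, Algebra.TensorProduct.map_tmul, map_one]
  rfl

/-- kernel of `toFiber` is `𝔪 E`. -/
theorem ker_toFiber :
    RingHom.ker (toFiber A B m).toRingHom = m.map (algebraMap A
      ((AdicCompletion (maximalIdeal (Localization.AtPrime m)) (Localization.AtPrime m)) ⊗[A] B)) := by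
  have h1 := Algebra.TensorProduct.map_ker (resΛ A m) (AlgHom.id A B)
    (resΛ_surjective A m) Function.surjective_id
  have h2 : RingHom.ker (AlgHom.id A B) = ⊥ := by
    ext x; simp [RingHom.mem_ker]
  change RingHom.ker (Algebra.TensorProduct.map (resΛ A m) (AlgHom.id A B)) = _
  rw [h1, h2, Ideal.map_bot, sup_bot_eq]
  change Ideal.map _ (RingHom.ker (resΛ A m).toRingHom) = _
  rw [ker_resΛ]
  change Ideal.map (Algebra.TensorProduct.includeLeft : _ →ₐ[A]
    (AdicCompletion (maximalIdeal (Localization.AtPrime m)) (Localization.AtPrime m)) ⊗[A] B).toRingHom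
    _ = _
  rw [Ideal.map_map]
  congr 1

section Max

variable [Module.Finite A B] (n : Ideal B) [hn : n.IsPrime] [hnm : n.LiesOver m]

/-- the maximal ideal of `Λ ⊗_A B` over `n` -/
noncomputable def maxOver :
    Ideal ((AdicCompletion (maximalIdeal (Localization.AtPrime m)) (Localization.AtPrime m)) ⊗[A] B) :=
  ((PrimeSpectrum.primesOverOrderIsoFiber A B m ⟨n, hn, hnm⟩).asIdeal).comap (toFiber A B m)

theorem maxOver_isMaximal : (maxOver A B m n).IsMaximal := by
  haveI : IsArtinianRing (m.Fiber B) := IsArtinianRing.of_finite m.ResidueField _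
  haveI : (PrimeSpectrum.primesOverOrderIsoFiber A B m ⟨n, hn, hnm⟩).asIdeal.IsMaximal :=
    IsArtinianRing.isMaximal_of_isPrime _
  exact Ideal.comap_isMaximal_of_surjective _ (toFiber_surjective A B m)

theorem comap_maxOver :
    (maxOver A B m n).comap (Algebra.TensorProduct.includeRight : B →ₐ[A] _) = n := by
  have h1 : (PrimeSpectrum.primesOverOrderIsoFiber A B m).symm
      (PrimeSpectrum.primesOverOrderIsoFiber A B m ⟨n, hn, hnm⟩) = ⟨n, hn, hnm⟩ :=
    OrderIso.symm_apply_apply _ _
  have h2 := congrArg Subtype.val h1
  rw [PrimeSpectrum.coe_primesOverOrderIsoFiber_symm_apply] at h2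
  change _ = n at h2
  refine Eq.trans ?_ h2
  ext b
  rw [maxOver, Ideal.mem_comap, Ideal.mem_comap, Ideal.mem_comap]
  change toFiber A B m (1 ⊗ₜ b) ∈ _ ↔ (1 : m.ResidueField) ⊗ₜ b ∈ _
  rw [toFiber_one_tmul]

instance : (maxOver A B m n).IsMaximal := maxOver_isMaximal A B m n

omit [Module.Finite A B] in
theorem hstar_tensor
    (e : (AdicCompletion (maximalIdeal (Localization.AtPrime m)) (Localization.AtPrime m)) ⊗[A] B) :
    ∃ r : A, r ∉ m ∧ ∃ b : B,
      r • e - (1 : AdicCompletion (maximalIdeal (Localization.AtPrime m))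
        (Localization.AtPrime m)) ⊗ₜ[A] b ∈ m.map (algebraMap A
      ((AdicCompletion (maximalIdeal (Localization.AtPrime m)) (Localization.AtPrime m)) ⊗[A] B)) := by
  obtain ⟨r, hr, b, hb⟩ := Ideal.Fiber.exists_smul_eq_one_tmul m (toFiber A B m e)
  refine ⟨r, hr, b, ?_⟩
  rw [← ker_toFiber, RingHom.mem_ker]
  change toFiber A B m (r • e - 1 ⊗ₜ b) = 0
  rw [map_sub, map_smul, hb, toFiber_one_tmul, sub_self]

set_option synthInstance.maxHeartbeats 200000 in
set_option maxHeartbeats 1000000 in
/-- **Completion of a local ring of a finite algebra.** -/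
theorem exists_cplEquiv_tensor :
    ∃ θ : AdicCompletion (maximalIdeal (Localization.AtPrime n)) (Localization.AtPrime n) ≃+*
        Localization.AtPrime (maxOver A B m n),
      ∀ b : B, θ (algebraMap B _ b) =
        algebraMap ((AdicCompletion (maximalIdeal (Localization.AtPrime m))
          (Localization.AtPrime m)) ⊗[A] B) (Localization.AtPrime (maxOver A B m n))
        ((1 : AdicCompletion (maximalIdeal (Localization.AtPrime m))
          (Localization.AtPrime m)) ⊗ₜ[A] b) := by
  letI : Algebra B ((AdicCompletion (maximalIdeal (Localization.AtPrime m))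
    (Localization.AtPrime m)) ⊗[A] B) := Algebra.TensorProduct.rightAlgebra
  haveI : IsScalarTower A B ((AdicCompletion (maximalIdeal (Localization.AtPrime m))
    (Localization.AtPrime m)) ⊗[A] B) := Algebra.TensorProduct.right_isScalarTower
  haveI : IsNoetherianRing (Localization.AtPrime m) :=
    IsLocalization.isNoetherianRing m.primeCompl _ inferInstance
  haveI : Module.Flat A (AdicCompletion (maximalIdeal (Localization.AtPrime m))
      (Localization.AtPrime m)) :=
    Module.Flat.trans A (Localization.AtPrime m) _
  haveI : Module.Flat B ((AdicCompletion (maximalIdeal (Localization.AtPrime m))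
      (Localization.AtPrime m)) ⊗[A] B) := by
    let e : (AdicCompletion (maximalIdeal (Localization.AtPrime m))
      (Localization.AtPrime m)) ⊗[A] B ≃ₐ[B] B ⊗[A] (AdicCompletion (maximalIdeal
        (Localization.AtPrime m)) (Localization.AtPrime m)) :=
      { __ := Algebra.TensorProduct.comm _ _ _, commutes' _ := rfl }
    exact Module.Flat.of_linearEquiv e.toLinearEquiv
  haveI : IsNoetherianRing B := IsNoetherianRing.of_finite A B
  haveI := Groth.Agent.Lib.Helper29.isNoetherianRing_cpl (Localization.AtPrime m)
  haveI := Groth.Agent.Lib.Helper29.isLocalRing_cpl (Localization.AtPrime m)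
  haveI := Groth.Agent.Lib.Helper29.isAdicComplete_cpl (Localization.AtPrime m)
  haveI : (maxOver A B m n).LiesOver n := ⟨(comap_maxOver A B m n).symm⟩
  exact exists_cplEquiv_localization A B (AdicCompletion (maximalIdeal (Localization.AtPrime m))
    (Localization.AtPrime m)) _ m n (maxOver A B m n) (fun e => hstar_tensor A B m e)

end Max

end Tensor

end Groth.Agent.H8.FinCompl
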