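import Groth.Agent.H8.ExcellentDVR
import Groth.Agent.S9126
set_option linter.style.haveILetI false

set_option autoImplicit false
universe u
open TensorProduct IsLocalRing

namespace Groth.Agent.H8.GRing

open Groth.Agent.H8.J2

/-- a localization of a G-ring is a G-ring -/
theorem isGRing_localization (A : Type u) [CommRing A] (hA : CAlg.IsGRing A) (S : Submonoid A) :
    CAlg.IsGRing (Localization S) := by
  haveI := hA.1
  refine ⟨IsLocalization.isNoetherianRing S _ inferInstance, fun q hq => ?_⟩
  let e := IsLocalization.localizationLocalizationAtPrimeIsoLocalization S q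
  letI : Algebra (Localization.AtPrime q)
      (Localization.AtPrime (q.comap (algebraMap A (Localization S)))) :=
    e.symm.toRingEquiv.toRingHom.toAlgebra
  haveI : IsLocalHom (algebraMap (Localization.AtPrime q)
      (Localization.AtPrime (q.comap (algebraMap A (Localization S))))) := by
    constructor
    intro x hx
    have h1 : IsUnit (e.symm x) := hx
    have h2 := h1.map e
    simpa using h2
  haveI : IsNoetherianRing (Localization S) := IsLocalization.isNoetherianRing S _ inferInstance
  haveI : IsNoetherianRing (Localization.AtPrime q) :=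
    IsLocalization.isNoetherianRing q.primeCompl _ inferInstance
  haveI : IsNoetherianRing (Localization.AtPrime (q.comap (algebraMap A (Localization S)))) :=
    IsLocalization.isNoetherianRing (q.comap (algebraMap A (Localization S))).primeCompl _
      inferInstance
  have hbij : Function.Bijective (algebraMap (Localization.AtPrime q)
      (Localization.AtPrime (q.comap (algebraMap A (Localization S))))) :=
    e.symm.toRingEquiv.bijective
  exact Groth.Agent.S4704.result (Localization.AtPrime q)
    (Localization.AtPrime (q.comap (algebraMap A (Localization S))))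
    (isRegularHom_of_bijective _ _ hbij) (hA.2 _)

/-- regularity at a prime of a localization iff regularity at the contracted prime -/
theorem isRegularLocalRing_atPrime_iff_of_isLocalization {S : Type u} [CommRing S] (M : Submonoid S)
    (S' : Type u) [CommRing S'] [Algebra S S'] [IsLocalization M S'] (Q : Ideal S') [Q.IsPrime] :
    IsRegularLocalRing (Localization.AtPrime Q) ↔
      IsRegularLocalRing (Localization.AtPrime (Q.comap (algebraMap S S'))) := by
  have : IsLocalization.AtPrime (Localization.AtPrime Q) (Q.comap (algebraMap S S')) :=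
    IsLocalization.isLocalization_isLocalization_atPrime_isLocalization M
      (Localization.AtPrime Q) Q
  constructor
  · intro h
    exact IsRegularLocalRing.of_ringEquiv
      (IsLocalization.algEquiv (Q.comap (algebraMap S S')).primeCompl
        (Localization.AtPrime (Q.comap (algebraMap S S'))) (Localization.AtPrime Q)).symm.toRingEquiv
  · intro h
    exact isRegularLocalRing_atPrime_of_isLocalization M S' Q h

/-- a localization of a J-2 ring is J-2 -/
theorem isJ2_of_isLocalization (A : Type u) [CommRing A] (hA : EGA4.IsJ2 A) (S : Submonoid A)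
    (B : Type u) [CommRing B] [Algebra A B] [IsLocalization S B] : EGA4.IsJ2 B := by
  intro C _ _ hft
  letI : Algebra A C := ((algebraMap B C).comp (algebraMap A B)).toAlgebra
  haveI : IsScalarTower A B C := IsScalarTower.of_algebraMap_eq' rfl
  obtain ⟨s, hs⟩ := hft.out
  let C₀ : Subalgebra A C := Algebra.adjoin A (s : Set C)
  haveI : Algebra.FiniteType A C₀ := (Subalgebra.fg_iff_finiteType C₀).mp ⟨s, rfl⟩
  have hopen : IsOpen (EGA4.regLocus C₀) := hA C₀ inferInstance
  have hsurj : ∀ z : C, ∃ t ∈ S, algebraMap A C t * z ∈ C₀ := by
    intro z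
    have hz : z ∈ Algebra.adjoin B (s : Set C) := by rw [hs]; trivial
    induction hz using Algebra.adjoin_induction with
    | mem x hx => exact ⟨1, S.one_mem, by rw [map_one, one_mul]; exact Algebra.subset_adjoin hx⟩
    | algebraMap b =>
      obtain ⟨⟨a, t⟩, hat⟩ := IsLocalization.surj S b
      refine ⟨t, t.2, ?_⟩
      have : algebraMap A C t * algebraMap B C b = algebraMap A C a := by
        rw [IsScalarTower.algebraMap_apply A B C, IsScalarTower.algebraMap_apply A B C, ← map_mul,
          mul_comm, hat]
      rw [this]
      exact C₀.algebraMap_mem a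
    | add x y _ _ hx hy =>
      obtain ⟨t₁, ht₁, h₁⟩ := hx
      obtain ⟨t₂, ht₂, h₂⟩ := hy
      refine ⟨t₁ * t₂, S.mul_mem ht₁ ht₂, ?_⟩
      have : algebraMap A C (t₁ * t₂) * (x + y) =
          algebraMap A C t₂ * (algebraMap A C t₁ * x) + algebraMap A C t₁ * (algebraMap A C t₂ * y) := by
        rw [map_mul]; ring
      rw [this]
      exact C₀.add_mem (C₀.mul_mem (C₀.algebraMap_mem _) h₁) (C₀.mul_mem (C₀.algebraMap_mem _) h₂)
    | mul x y _ _ hx hy =>
      obtain ⟨t₁, ht₁, h₁⟩ := hx
      obtain ⟨t₂, ht₂, h₂⟩ := hy
      refine ⟨t₁ * t₂, S.mul_mem ht₁ ht₂, ?_⟩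
      have : algebraMap A C (t₁ * t₂) * (x * y) =
          (algebraMap A C t₁ * x) * (algebraMap A C t₂ * y) := by
        rw [map_mul]; ring
      rw [this]
      exact C₀.mul_mem h₁ h₂
  haveI hloc : IsLocalization (Algebra.algebraMapSubmonoid C₀ S) C := by
    refine ⟨?_, ?_, ?_⟩
    · rintro ⟨y, t, ht, rfl⟩
      have : algebraMap C₀ C (algebraMap A C₀ t) = algebraMap B C (algebraMap A B t) := by
        rw [← IsScalarTower.algebraMap_apply A C₀ C, IsScalarTower.algebraMap_apply A B C]
      rw [this]
      exact (IsLocalization.map_units B ⟨t, ht⟩).map _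
    · intro z
      obtain ⟨t, ht, hz⟩ := hsurj z
      refine ⟨⟨⟨algebraMap A C t * z, hz⟩, ⟨algebraMap A C₀ t, t, ht, rfl⟩⟩, ?_⟩
      change z * algebraMap A C t = algebraMap A C t * z
      ring
    · intro x y hxy
      refine ⟨1, ?_⟩
      have : x = y := Subtype.ext hxy
      rw [this]
  have heq : EGA4.regLocus C =
      PrimeSpectrum.comap (algebraMap C₀ C) ⁻¹' EGA4.regLocus C₀ := by
    ext Q
    exact isRegularLocalRing_atPrime_iff_of_isLocalization
      (Algebra.algebraMapSubmonoid C₀ S) C Q.asIdeal
  rw [heq]
  exact hopen.preimage (PrimeSpectrum.continuous_comap (algebraMap C₀ C))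

/-- a localization of an excellent ring is excellent -/
theorem isExcellent_localization (A : Type u) [CommRing A] (hA : EGA4.IsExcellent A)
    (S : Submonoid A) : EGA4.IsExcellent (Localization S) := by
  obtain ⟨hN, hUC, hG, hJ2⟩ := hA
  haveI : Algebra.EssFiniteType A (Localization S) :=
    Algebra.EssFiniteType.of_isLocalization (Localization S) S
  exact ⟨IsLocalization.isNoetherianRing S _ hN, Groth.Agent.S9126.result A (Localization S) hUC,
    isGRing_localization A hG S, isJ2_of_isLocalization A hJ2 S (Localization S)⟩

end Groth.Agent.H8.GRing
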