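import Mathlib
import Groth.Agent.H8.ExcellentLocalization

/-!
# G-rings: invariance under isomorphism, locality on basic open covers (helper8)
-/

set_option autoImplicit false
set_option linter.style.haveILetI false
universe u

open IsLocalRing

namespace Groth.Agent.H8.GRing

/-- regularity of the completion map transfers along ring isomorphisms of local rings -/
theorem isRegularHom_cpl_of_ringEquiv {R R' : Type u} [CommRing R] [CommRing R'] [IsLocalRing R]
    [IsLocalRing R'] [IsNoetherianRing R] [IsNoetherianRing R'] (e : R ≃+* R')
    (h : CAlg.IsRegularHom R' (AdicCompletion (maximalIdeal R') R')) :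
    CAlg.IsRegularHom R (AdicCompletion (maximalIdeal R) R) := by
  letI : Algebra R R' := e.toRingHom.toAlgebra
  haveI : IsLocalHom (algebraMap R R') := by
    constructor
    intro x hx
    have h1 : IsUnit (e x) := hx
    have h2 := h1.map e.symm
    simpa using h2
  have hbij : Function.Bijective (algebraMap R R') := e.bijective
  exact Groth.Agent.S4704.result R R' (isRegularHom_of_bijective _ _ hbij) h

/-- being a G-ring is local: it suffices to check on a cover by basic opens -/
theorem isGRing_of_span_eq_top {R : Type u} [CommRing R] (s : Finset R)
    (hs : Ideal.span (s : Set R) = ⊤)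
    (h : ∀ f : s, CAlg.IsGRing (Localization.Away (f : R))) : CAlg.IsGRing R := by
  haveI hN : IsNoetherianRing R :=
    AlgebraicGeometry.isNoetherianRing_of_away s hs (fun f => (h f).1)
  refine ⟨hN, fun p hp => ?_⟩
  obtain ⟨f, hfs, hfp⟩ : ∃ f ∈ s, f ∉ p := by
    by_contra hcon
    push Not at hcon
    have : Ideal.span (s : Set R) ≤ p := Ideal.span_le.mpr fun x hx => hcon x hx
    rw [hs] at this
    exact hp.ne_top (top_le_iff.mp this)
  have hG := h ⟨f, hfs⟩
  haveI := hG.1
  have hdisj : Disjoint (Submonoid.powers f : Set R) (p : Set R) := by
    rw [Set.disjoint_left]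
    rintro x ⟨n, rfl⟩ hx
    exact hfp (hp.mem_of_pow_mem n hx)
  haveI hq : (p.map (algebraMap R (Localization.Away f))).IsPrime :=
    IsLocalization.isPrime_of_isPrime_disjoint (Submonoid.powers f) _ _ hp hdisj
  have hqc : (p.map (algebraMap R (Localization.Away f))).comap
      (algebraMap R (Localization.Away f)) = p :=
    IsLocalization.under_map_of_isPrime_disjoint (Submonoid.powers f) _ hp hdisj
  have h1 := hG.2 (p.map (algebraMap R (Localization.Away f)))
  have key : ∀ (J : Ideal R) [J.IsPrime], J = p →
      (Localization.AtPrime J ≃+* Localization.AtPrime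
        (p.map (algebraMap R (Localization.Away f)))) →
      CAlg.IsRegularHom (Localization.AtPrime p)
        (AdicCompletion (maximalIdeal (Localization.AtPrime p)) (Localization.AtPrime p)) := by
    intro J _ hJ e
    subst hJ
    haveI : IsNoetherianRing (Localization.AtPrime J) :=
      IsLocalization.isNoetherianRing J.primeCompl _ inferInstance
    haveI : IsNoetherianRing (Localization.AtPrime
        (J.map (algebraMap R (Localization.Away f)))) :=
      IsLocalization.isNoetherianRing (J.map (algebraMap R (Localization.Away f))).primeCompl _
        inferInstance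
    exact isRegularHom_cpl_of_ringEquiv e h1
  exact key _ hqc (IsLocalization.localizationLocalizationAtPrimeIsoLocalization
    (Submonoid.powers f) (p.map (algebraMap R (Localization.Away f)))).toRingEquiv

/-- G-ring is invariant under ring isomorphism -/
theorem isGRing_of_ringEquiv {A B : Type u} [CommRing A] [CommRing B] (e : A ≃+* B)
    (hA : CAlg.IsGRing A) : CAlg.IsGRing B := by
  haveI := hA.1
  haveI hN : IsNoetherianRing B := isNoetherianRing_of_ringEquiv A e
  refine ⟨hN, fun q hq => ?_⟩
  haveI : (q.comap (e : A →+* B)).IsPrime := Ideal.comap_isPrime _ _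
  haveI : IsNoetherianRing (Localization.AtPrime q) :=
    IsLocalization.isNoetherianRing q.primeCompl _ inferInstance
  haveI : IsNoetherianRing (Localization.AtPrime (q.comap (e : A →+* B))) :=
    IsLocalization.isNoetherianRing (q.comap (e : A →+* B)).primeCompl _ inferInstance
  have e' : Localization.AtPrime (q.comap (e : A →+* B)) ≃+* Localization.AtPrime q :=
    IsLocalization.ringEquivOfRingEquiv (M := (q.comap (e : A →+* B)).primeCompl)
      (T := q.primeCompl) _ _ e (by
        ext x
        simp only [Submonoid.mem_map, Ideal.mem_primeCompl_iff, Ideal.mem_comap]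
        constructor
        · rintro ⟨y, hy, rfl⟩
          exact hy
        · intro hx
          exact ⟨e.symm x, by simpa using hx, by simp⟩)
  exact isRegularHom_cpl_of_ringEquiv e'.symm (hA.2 _)

/-- a localization of a G-ring is a G-ring (`IsLocalization` version) -/
theorem isGRing_of_isLocalization (A : Type u) [CommRing A] (hA : CAlg.IsGRing A) (S : Submonoid A)
    (B : Type u) [CommRing B] [Algebra A B] [IsLocalization S B] : CAlg.IsGRing B :=
  isGRing_of_ringEquiv (IsLocalization.algEquiv S (Localization S) B).toRingEquiv
    (isGRing_localization A hA S)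

end Groth.Agent.H8.GRing
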