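import Mathlib
import Groth.Agent.H8.FinCompl
import Groth.Agent.H8.ExcellentDVR
import Groth.Agent.H8.GRingLocal
import Groth.Agent.Lib.Helper47.RegularLocal3
import Groth.Agent.Lib.Helper47.GeomRegTransport
import Groth.Agent.Lib.Helper29.FibreDescent
import Groth.Agent.S4704
import Groth.Agent.S9293
import Groth.Agent.S9294
import Groth.Agent.S19379

/-!
# Regularity of completion maps passes to finite and quasi-finite algebras (helper8)
-/

set_option autoImplicit false
set_option linter.style.haveILetI false
set_option linter.unusedSectionVars false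
universe u
open IsLocalRing TensorProduct

namespace Groth.Agent.H8.FinReg

open Groth.Agent.H8.FinCompl

/-- regular homomorphisms transport along algebra isomorphisms of the target -/
theorem isRegularHom_of_algEquiv {R S S' : Type u} [CommRing R] [CommRing S] [CommRing S']
    [Algebra R S] [Algebra R S'] (e : S ≃ₐ[R] S') (h : CAlg.IsRegularHom R S) :
    CAlg.IsRegularHom R S' := by
  obtain ⟨hflat, hfib⟩ := h
  refine ⟨Module.Flat.of_linearEquiv e.symm.toLinearEquiv, fun p _ => ?_⟩
  obtain ⟨hN, hG⟩ := hfib p
  let e' : p.Fiber S ≃ₐ[p.ResidueField] p.Fiber S' :=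
    Algebra.TensorProduct.congr AlgEquiv.refl e
  exact ⟨isNoetherianRing_of_ringEquiv _ e'.toRingEquiv,
    Groth.Agent.Lib.Helper47.GeomRegTransport.isGeometricallyRegular_of_semilinear
      (RingEquiv.refl _) e'.toRingEquiv (fun c => e'.commutes c) hG⟩

/-- localizing a regular homomorphism at primes -/
theorem isRegularHom_localization {B E : Type u} [CommRing B] [CommRing E] [Algebra B E]
    [IsNoetherianRing E] (h : CAlg.IsRegularHom B E) (n : Ideal B) [n.IsPrime] (M : Ideal E)
    [M.IsPrime] [M.LiesOver n] :
    letI := Localization.AtPrime.algebraOfLiesOver n M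
    CAlg.IsRegularHom (Localization.AtPrime n) (Localization.AtPrime M) := by
  rw [Groth.Agent.Lib.Helper47.RegularLocal.isRegularHom_localization_iff n M]
  intro q' _ _
  exact (Groth.Agent.Lib.Helper47.RegularLocal.isRegularHom_iff_forall_fl_fs.mp h) q'

section Abstract

variable (B Λ E : Type u) [CommRing B] [CommRing Λ] [CommRing E]
    [IsNoetherianRing B]
    [IsLocalRing Λ] [IsNoetherianRing Λ] [IsAdicComplete (maximalIdeal Λ) Λ]
    [Algebra Λ E] [Module.Finite Λ E] [Algebra B E]
    (n : Ideal B) [n.IsPrime]
    (M : Ideal E) [hM : M.IsMaximal] [M.LiesOver n]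

include Λ M hM in
theorem isRegularHom_cpl_of_finite_complete (h : CAlg.IsRegularHom B E) :
    CAlg.IsRegularHom (Localization.AtPrime n)
      (AdicCompletion (maximalIdeal (Localization.AtPrime n)) (Localization.AtPrime n)) := by
  letI := Localization.AtPrime.algebraOfLiesOver n M
  haveI : IsLocalHom (algebraMap (Localization.AtPrime n) (Localization.AtPrime M)) :=
    Localization.isLocalHom_localRingHom _ _ _ Ideal.LiesOver.over
  haveI : IsNoetherianRing E := IsNoetherianRing.of_finite Λ E
  haveI : IsNoetherianRing (Localization.AtPrime M) :=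
    IsLocalization.isNoetherianRing M.primeCompl _ inferInstance
  haveI : IsNoetherianRing (Localization.AtPrime n) :=
    IsLocalization.isNoetherianRing n.primeCompl _ inferInstance
  obtain ⟨-, -, h3⟩ := Groth.Agent.Lib.Helper3.finite_algebra_over_complete_local Λ E
  haveI : IsAdicComplete (maximalIdeal (Localization.AtPrime M)) (Localization.AtPrime M) :=
    (h3 ⟨M, hM⟩).2
  haveI : IsNoetherianRing (AdicCompletion (maximalIdeal (Localization.AtPrime M))
      (Localization.AtPrime M)) :=
    Groth.Agent.Lib.Helper29.isNoetherianRing_cpl (Localization.AtPrime M)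
  have h4 : CAlg.IsRegularHom (Localization.AtPrime M)
      (AdicCompletion (maximalIdeal (Localization.AtPrime M)) (Localization.AtPrime M)) :=
    Groth.Agent.H8.GRing.isRegularHom_of_bijective _ _
      (AdicCompletion.ofAlgEquiv (maximalIdeal (Localization.AtPrime M))).bijective
  exact Groth.Agent.S4704.result (Localization.AtPrime n) (Localization.AtPrime M)
    (isRegularHom_localization h n M) h4

end Abstract

section Tensor

variable (R B : Type u) [CommRing R] [CommRing B] [IsNoetherianRing R] [Algebra R B]
  [Module.Finite R B] (m : Ideal R) [m.IsPrime] (n : Ideal B) [hn : n.IsPrime]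
  [hnm : n.LiesOver m]

set_option synthInstance.maxHeartbeats 200000 in
set_option maxHeartbeats 1000000 in
/-- **Finite case**: regularity of the completion map passes from `R_m` to `B_n`, `B` finite
over `R`. -/
theorem isRegularHom_cpl_of_finite
    (h : CAlg.IsRegularHom (Localization.AtPrime m)
      (AdicCompletion (maximalIdeal (Localization.AtPrime m)) (Localization.AtPrime m))) :
    CAlg.IsRegularHom (Localization.AtPrime n)
      (AdicCompletion (maximalIdeal (Localization.AtPrime n)) (Localization.AtPrime n)) := by
  haveI : IsNoetherianRing (Localization.AtPrime m) :=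
    IsLocalization.isNoetherianRing m.primeCompl _ inferInstance
  haveI := Groth.Agent.Lib.Helper29.isNoetherianRing_cpl (Localization.AtPrime m)
  haveI := Groth.Agent.Lib.Helper29.isLocalRing_cpl (Localization.AtPrime m)
  haveI := Groth.Agent.Lib.Helper29.isAdicComplete_cpl (Localization.AtPrime m)
  haveI : Algebra.FormallySmooth R (Localization.AtPrime m) :=
    Algebra.FormallySmooth.of_isLocalization m.primeCompl
  have hRΛ : CAlg.IsRegularHom R
      (AdicCompletion (maximalIdeal (Localization.AtPrime m)) (Localization.AtPrime m)) :=
    Groth.Agent.S9294.result R (Localization.AtPrime m) _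
      (Groth.Agent.S19379.result R (Localization.AtPrime m)) h
      (fun q _ => Groth.Agent.Lib.Helper29.isNoetherianRing_fiber R _ q)
  have h1 : CAlg.IsRegularHom B (B ⊗[R]
      (AdicCompletion (maximalIdeal (Localization.AtPrime m)) (Localization.AtPrime m))) :=
    Groth.Agent.S9293.result R _ B hRΛ
  letI : Algebra B ((AdicCompletion (maximalIdeal (Localization.AtPrime m))
    (Localization.AtPrime m)) ⊗[R] B) := Algebra.TensorProduct.rightAlgebra
  have h2 : CAlg.IsRegularHom B ((AdicCompletion (maximalIdeal (Localization.AtPrime m))
      (Localization.AtPrime m)) ⊗[R] B) :=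
    isRegularHom_of_algEquiv
      ({ __ := Algebra.TensorProduct.comm R B _, commutes' := fun _ => rfl } :
        B ⊗[R] (AdicCompletion (maximalIdeal (Localization.AtPrime m))
          (Localization.AtPrime m)) ≃ₐ[B] (AdicCompletion (maximalIdeal (Localization.AtPrime m))
          (Localization.AtPrime m)) ⊗[R] B) h1
  haveI : IsNoetherianRing B := IsNoetherianRing.of_finite R B
  haveI : (maxOver R B m n).LiesOver n := ⟨(comap_maxOver R B m n).symm⟩
  exact isRegularHom_cpl_of_finite_complete B
    (AdicCompletion (maximalIdeal (Localization.AtPrime m)) (Localization.AtPrime m))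
    _ n (maxOver R B m n) h2

end Tensor

end Groth.Agent.H8.FinReg
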