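import Mathlib.RingTheory.HopfAlgebra.Convolution
import Mathlib.RingTheory.HopfAlgebra.TensorProduct
import Mathlib.RingTheory.Kaehler.Basic
import Mathlib.RingTheory.Ideal.Cotangent
import Mathlib.LinearAlgebra.TensorProduct.Basis
import Mathlib.LinearAlgebra.Basis.VectorSpace
import Mathlib.RingTheory.TensorProduct.Maps
import Mathlib.LinearAlgebra.FreeModule.Basic

/-!
# The module of differentials of a commutative Hopf algebra over a field is free

`Ω_{B/K} = J/J²` with `J = ker (B ⊗ B → B)`.  The shear automorphism `a ⊗ b ↦ (a ⊗ 1) Δ(b)` of the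
`B`-algebra `B ⊗ B` carries `J` onto `J' = ker (id ⊗ ε) = B ⊗ I`, `I` the augmentation ideal, and
`J'/J'² ≃ B ⊗_K I/I²` is free because `I/I²` is a `K`-vector space.
-/

set_option autoImplicit false
universe u v w

open TensorProduct

namespace Groth.Agent.H8.AugCotangent

variable (K : Type u) [Field K] (C : Type v) [CommRing C] [Algebra K C]
  (B : Type w) [CommRing B] [Algebra K B] (ε : B →ₐ[K] K)

/-- The map `c ⊗ b ↦ c * ε b`. -/
noncomputable def augProj : C ⊗[K] B →ₐ[C] C :=
  Algebra.TensorProduct.lift (AlgHom.id C C) ((Algebra.ofId K C).comp ε)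
    (fun _ _ => Commute.all _ _)

@[simp] lemma augProj_tmul (c : C) (b : B) :
    augProj K C B ε (c ⊗ₜ b) = c * algebraMap K C (ε b) := by
  simp [augProj]

local notation "incR" => (Algebra.TensorProduct.includeRight : B →ₐ[K] C ⊗[K] B)

lemma sub_augProj_mem (x : C ⊗[K] B) :
    x - (augProj K C B ε x) ⊗ₜ[K] (1 : B) ∈ Ideal.map incR (RingHom.ker ε) := by
  induction x using TensorProduct.induction_on with
  | zero => simp
  | tmul c b =>
    have h : c ⊗ₜ[K] b - (augProj K C B ε (c ⊗ₜ b)) ⊗ₜ[K] (1 : B) =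
        (c ⊗ₜ[K] (1 : B)) * incR (b - algebraMap K B (ε b)) := by
      simp only [augProj_tmul, Algebra.TensorProduct.includeRight_apply, tmul_sub, mul_sub,
        Algebra.TensorProduct.tmul_mul_tmul, mul_one, one_mul]
      rw [Algebra.algebraMap_eq_smul_one, Algebra.algebraMap_eq_smul_one, mul_smul_comm, mul_one,
        smul_tmul]
    rw [h]
    apply Ideal.mul_mem_left
    apply Ideal.mem_map_of_mem
    simp [RingHom.mem_ker]
  | add x y hx hy =>
    have : x + y - (augProj K C B ε (x + y)) ⊗ₜ[K] (1 : B) =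
        (x - (augProj K C B ε x) ⊗ₜ[K] (1 : B)) + (y - (augProj K C B ε y) ⊗ₜ[K] (1 : B)) := by
      rw [map_add, add_tmul]; abel
    rw [this]
    exact add_mem hx hy

lemma ker_augProj :
    RingHom.ker (augProj K C B ε) = Ideal.map incR (RingHom.ker ε) := by
  apply le_antisymm
  · intro x hx
    have := sub_augProj_mem K C B ε x
    rw [RingHom.mem_ker] at hx
    rwa [hx, zero_tmul, sub_zero] at this
  · rw [Ideal.map_le_iff_le_comap]
    intro b hb
    rw [RingHom.mem_ker] at hb
    simp [RingHom.mem_ker, hb]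


lemma ker_le_comap :
    RingHom.ker ε ≤ (RingHom.ker (augProj K C B ε)).comap incR := by
  rw [← Ideal.map_le_iff_le_comap, ker_augProj]

/-- The `K`-linear map `I/I² → J'/J'²` induced by `b ↦ 1 ⊗ b`. -/
noncomputable def psi₀ :
    (RingHom.ker ε).Cotangent →ₗ[K] (RingHom.ker (augProj K C B ε)).Cotangent :=
  Ideal.mapCotangent _ _ incR (ker_le_comap K C B ε)

/-- Its `C`-linear extension `C ⊗ I/I² → J'/J'²`. -/
noncomputable def psi :
    C ⊗[K] (RingHom.ker ε).Cotangent →ₗ[C] (RingHom.ker (augProj K C B ε)).Cotangent :=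
  (psi₀ K C B ε).liftBaseChange C

/-- The algebra map `C ⊗ B → C ⊗ B/I²`. -/
noncomputable def rho : C ⊗[K] B →ₐ[C] C ⊗[K] (B ⧸ (RingHom.ker ε) ^ 2) :=
  Algebra.TensorProduct.map (AlgHom.id C C) (Ideal.Quotient.mkₐ K ((RingHom.ker ε) ^ 2))

lemma rho_eq_zero (a : C ⊗[K] B) (ha : a ∈ (RingHom.ker (augProj K C B ε)) ^ 2) :
    rho K C B ε a = 0 := by
  rw [ker_augProj, ← Ideal.map_pow] at ha
  have : Ideal.map incR ((RingHom.ker ε) ^ 2) ≤ RingHom.ker (rho K C B ε) := by
    rw [Ideal.map_le_iff_le_comap]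
    intro b hb
    simp only [Ideal.mem_comap, RingHom.mem_ker, rho, Algebra.TensorProduct.includeRight_apply,
      Algebra.TensorProduct.map_tmul, Ideal.Quotient.mkₐ_eq_mk]
    rw [Ideal.Quotient.eq_zero_iff_mem.mpr hb, tmul_zero]
  exact this ha

/-- The induced map on the quotient by `J'²`. -/
noncomputable def rhoBar : (C ⊗[K] B) ⧸ (RingHom.ker (augProj K C B ε)) ^ 2 →ₐ[C]
    C ⊗[K] (B ⧸ (RingHom.ker ε) ^ 2) :=
  Ideal.Quotient.liftₐ _ (rho K C B ε) (rho_eq_zero K C B ε)

lemma exists_retraction : ∃ r : (B ⧸ (RingHom.ker ε) ^ 2) →ₗ[K] (RingHom.ker ε).Cotangent,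
    ∀ m, r ((RingHom.ker ε).cotangentToQuotientSquare m) = m := by
  obtain ⟨r, hr⟩ := LinearMap.exists_leftInverse_of_injective
    ((RingHom.ker ε).cotangentToQuotientSquare.restrictScalars K)
    (LinearMap.ker_eq_bot.mpr (RingHom.ker ε).cotangentToQuotientSquare_injective)
  exact ⟨r, fun m => LinearMap.congr_fun hr m⟩

/-- A retraction `B/I² → I/I²` of the inclusion. -/
noncomputable def retr : (B ⧸ (RingHom.ker ε) ^ 2) →ₗ[K] (RingHom.ker ε).Cotangent :=
  (exists_retraction K B ε).choose

lemma retr_apply (m : (RingHom.ker ε).Cotangent) :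
    retr K B ε ((RingHom.ker ε).cotangentToQuotientSquare m) = m :=
  (exists_retraction K B ε).choose_spec m

/-- The `C`-linear map `J'/J'² → C ⊗ I/I²`. -/
noncomputable def lam :
    (RingHom.ker (augProj K C B ε)).Cotangent →ₗ[C] C ⊗[K] (RingHom.ker ε).Cotangent :=
  ((retr K B ε).baseChange C) ∘ₗ (rhoBar K C B ε).toLinearMap ∘ₗ
    ((RingHom.ker (augProj K C B ε)).cotangentToQuotientSquare.restrictScalars C)

lemma lam_psi₀ (m : (RingHom.ker ε).Cotangent) :
    lam K C B ε (psi₀ K C B ε m) = 1 ⊗ₜ m := by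
  obtain ⟨⟨b, hb⟩, rfl⟩ := (RingHom.ker ε).toCotangent_surjective m
  have h2 : (1 : C) ⊗ₜ[K] (RingHom.ker ε).toCotangent ⟨b, hb⟩ =
      (retr K B ε).baseChange C (1 ⊗ₜ Ideal.Quotient.mk ((RingHom.ker ε) ^ 2) b) := by
    rw [LinearMap.baseChange_tmul]
    congr 1
    have := retr_apply K B ε ((RingHom.ker ε).toCotangent ⟨b, hb⟩)
    rw [Ideal.toCotangent_to_quotient_square] at this
    exact this.symm
  rw [h2, psi₀, Ideal.mapCotangent_toCotangent]
  simp only [lam, LinearMap.coe_comp, Function.comp_apply, LinearMap.coe_restrictScalars,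
    Ideal.toCotangent_to_quotient_square, AlgHom.toLinearMap_apply]
  congr 1

lemma lam_psi (x : C ⊗[K] (RingHom.ker ε).Cotangent) :
    lam K C B ε (psi K C B ε x) = x := by
  induction x using TensorProduct.induction_on with
  | zero => simp
  | tmul c m =>
    rw [psi, LinearMap.liftBaseChange_tmul, map_smul, lam_psi₀, smul_tmul', smul_eq_mul, mul_one]
  | add x y hx hy => rw [map_add, map_add, hx, hy]


lemma smul_mem_range_psi (a : C ⊗[K] B) (w : (RingHom.ker (augProj K C B ε)).Cotangent)
    (hw : w ∈ LinearMap.range (psi K C B ε)) : a • w ∈ LinearMap.range (psi K C B ε) := by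
  have h1 : a = (a - (augProj K C B ε a) ⊗ₜ[K] (1 : B)) +
      algebraMap C (C ⊗[K] B) (augProj K C B ε a) := by
    rw [Algebra.TensorProduct.algebraMap_apply, Algebra.algebraMap_self, RingHom.id_apply]; abel
  have h2 : a - (augProj K C B ε a) ⊗ₜ[K] (1 : B) ∈ RingHom.ker (augProj K C B ε) := by
    rw [ker_augProj]; exact sub_augProj_mem K C B ε a
  rw [h1, add_smul, Ideal.Cotangent.smul_eq_zero_of_mem h2, zero_add, algebraMap_smul]
  exact Submodule.smul_mem _ _ hw

lemma toCotangent_mem_range_psi (x : C ⊗[K] B) (hx : x ∈ RingHom.ker (augProj K C B ε)) :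
    (RingHom.ker (augProj K C B ε)).toCotangent ⟨x, hx⟩ ∈ LinearMap.range (psi K C B ε) := by
  have hle : Submodule.span (C ⊗[K] B) (incR '' (RingHom.ker ε : Set B)) ≤
      RingHom.ker (augProj K C B ε) := by
    rw [ker_augProj]; exact le_rfl
  have hx' : x ∈ Submodule.span (C ⊗[K] B) (incR '' (RingHom.ker ε : Set B)) := by
    rw [ker_augProj] at hx; exact hx
  have key : ∀ (x : C ⊗[K] B)
      (hx : x ∈ Submodule.span (C ⊗[K] B) (incR '' (RingHom.ker ε : Set B))),
      (RingHom.ker (augProj K C B ε)).toCotangent ⟨x, hle hx⟩ ∈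
        LinearMap.range (psi K C B ε) := by
    intro x hx
    induction hx using Submodule.span_induction with
    | mem x h =>
      obtain ⟨b, hb, rfl⟩ := h
      refine ⟨1 ⊗ₜ (RingHom.ker ε).toCotangent ⟨b, hb⟩, ?_⟩
      rw [psi, LinearMap.liftBaseChange_tmul, one_smul, psi₀, Ideal.mapCotangent_toCotangent]
    | zero =>
      have : (⟨0, hle (Submodule.zero_mem _)⟩ : RingHom.ker (augProj K C B ε)) = 0 := rfl
      rw [this, map_zero]
      exact Submodule.zero_mem _
    | add x y hx hy ihx ihy =>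
      have : (⟨x + y, hle (Submodule.add_mem _ hx hy)⟩ : RingHom.ker (augProj K C B ε)) =
          ⟨x, hle hx⟩ + ⟨y, hle hy⟩ := rfl
      rw [this, map_add]
      exact Submodule.add_mem _ ihx ihy
    | smul a x hx ihx =>
      have : (⟨a • x, hle (Submodule.smul_mem _ a hx)⟩ : RingHom.ker (augProj K C B ε)) =
          a • ⟨x, hle hx⟩ := rfl
      rw [this, map_smul]
      exact smul_mem_range_psi K C B ε a _ ihx
  exact key x hx'

lemma psi_surjective : Function.Surjective (psi K C B ε) := by
  intro z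
  obtain ⟨⟨x, hx⟩, rfl⟩ := (RingHom.ker (augProj K C B ε)).toCotangent_surjective z
  exact toCotangent_mem_range_psi K C B ε x hx

/-- `J'/J'² ≃ C ⊗ I/I²`. -/
noncomputable def psiEquiv :
    C ⊗[K] (RingHom.ker ε).Cotangent ≃ₗ[C] (RingHom.ker (augProj K C B ε)).Cotangent :=
  LinearEquiv.ofBijective (psi K C B ε)
    ⟨Function.LeftInverse.injective (lam_psi K C B ε), psi_surjective K C B ε⟩

theorem free_cotangent_ker_augProj :
    Module.Free C (RingHom.ker (augProj K C B ε)).Cotangent :=
  Module.Free.of_equiv (psiEquiv K C B ε)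

end Groth.Agent.H8.AugCotangent

open Algebra Coalgebra Bialgebra HopfAlgebra WithConv

namespace Groth.Agent.H8.HopfKaehler

variable (K : Type u) [Field K] (B : Type v) [CommRing B] [HopfAlgebra K B]

/-- The shear map `a ⊗ b ↦ (a ⊗ 1) * Δ b`, a `B`-algebra endomorphism of `B ⊗ B`. -/
noncomputable def shear : B ⊗[K] B →ₐ[B] B ⊗[K] B :=
  Algebra.TensorProduct.lift (Algebra.ofId B (B ⊗[K] B)) (comulAlgHom K B)
    (fun _ _ => Commute.all _ _)

/-- The inverse shear map `a ⊗ b ↦ (a ⊗ 1) * (S ⊗ id) (Δ b)`. -/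
noncomputable def shearInv : B ⊗[K] B →ₐ[B] B ⊗[K] B :=
  Algebra.TensorProduct.lift (Algebra.ofId B (B ⊗[K] B))
    ((Algebra.TensorProduct.map (antipodeAlgHom K B) (AlgHom.id K B)).comp (comulAlgHom K B))
    (fun _ _ => Commute.all _ _)

/-- The map `a ⊗ b ↦ a * ε b`. -/
noncomputable def proj : B ⊗[K] B →ₐ[B] B :=
  Algebra.TensorProduct.lift (AlgHom.id B B) ((Algebra.ofId K B).comp (counitAlgHom K B))
    (fun _ _ => Commute.all _ _)

local notation "p₁" => (toConv (Algebra.TensorProduct.includeLeft : B →ₐ[K] B ⊗[K] B))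
local notation "p₂" => (toConv (Algebra.TensorProduct.includeRight : B →ₐ[K] B ⊗[K] B))

lemma lmul'_comp_map_incl : (Algebra.TensorProduct.lmul' K).comp (Algebra.TensorProduct.map
      (Algebra.TensorProduct.includeLeft : B →ₐ[K] B ⊗[K] B)
      (Algebra.TensorProduct.includeRight : B →ₐ[K] B ⊗[K] B)) = AlgHom.id K _ := by
  ext <;> simp

lemma comul_eq_conv : comulAlgHom K B = (p₁ * p₂).ofConv := by
  rw [AlgHom.convMul_def]
  simp only
  rw [← AlgHom.comp_assoc, lmul'_comp_map_incl, AlgHom.id_comp]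

lemma antipode_comul_eq_conv :
    (Algebra.TensorProduct.map (antipodeAlgHom K B) (AlgHom.id K B)).comp (comulAlgHom K B) =
      (p₁⁻¹ * p₂).ofConv := by
  rw [AlgHom.convMul_def]
  change _ = (Algebra.TensorProduct.lmul' K).comp ((Algebra.TensorProduct.map
    ((Algebra.TensorProduct.includeLeft : B →ₐ[K] B ⊗[K] B).comp (antipodeAlgHom K B))
    ((Algebra.TensorProduct.includeRight : B →ₐ[K] B ⊗[K] B).comp (AlgHom.id K B))).comp
      (comulAlgHom K B))
  rw [Algebra.TensorProduct.map_comp, AlgHom.comp_assoc, ← AlgHom.comp_assoc,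
    lmul'_comp_map_incl, AlgHom.id_comp]

lemma comp_inv (φ : B ⊗[K] B →ₐ[K] B ⊗[K] B) (f : WithConv (B →ₐ[K] B ⊗[K] B)) :
    φ.comp (f⁻¹).ofConv = ((toConv (φ.comp f.ofConv))⁻¹).ofConv := by
  change φ.comp (f.ofConv.comp (antipodeAlgHom K B)) = (φ.comp f.ofConv).comp (antipodeAlgHom K B)
  rw [AlgHom.comp_assoc]

lemma shear_comp_left : ((shear K B).restrictScalars K).comp
    (Algebra.TensorProduct.includeLeft : B →ₐ[K] B ⊗[K] B) =
      Algebra.TensorProduct.includeLeft := by
  ext x
  simp [shear]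

lemma shearInv_comp_left : ((shearInv K B).restrictScalars K).comp
    (Algebra.TensorProduct.includeLeft : B →ₐ[K] B ⊗[K] B) =
      Algebra.TensorProduct.includeLeft := by
  ext x
  simp [shearInv]

lemma shear_comp_right : ((shear K B).restrictScalars K).comp
    (Algebra.TensorProduct.includeRight : B →ₐ[K] B ⊗[K] B) = (p₁ * p₂).ofConv := by
  rw [← comul_eq_conv, shear, Algebra.TensorProduct.lift_comp_includeRight]

lemma shearInv_comp_right : ((shearInv K B).restrictScalars K).comp
    (Algebra.TensorProduct.includeRight : B →ₐ[K] B ⊗[K] B) = (p₁⁻¹ * p₂).ofConv := by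
  rw [← antipode_comul_eq_conv, shearInv, Algebra.TensorProduct.lift_comp_includeRight]

lemma shear_comp_shearInv : (shear K B).comp (shearInv K B) = AlgHom.id B _ := by
  apply Algebra.TensorProduct.ext
  · ext
  · change ((shear K B).restrictScalars K).comp
      (((shearInv K B).restrictScalars K).comp Algebra.TensorProduct.includeRight) =
        Algebra.TensorProduct.includeRight
    rw [shearInv_comp_right, AlgHom.comp_convMul_distrib, comp_inv]
    simp only [shear_comp_left, shear_comp_right, toConv_ofConv]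
    exact congrArg ofConv (inv_mul_cancel_left p₁ p₂)

lemma shearInv_comp_shear : (shearInv K B).comp (shear K B) = AlgHom.id B _ := by
  apply Algebra.TensorProduct.ext
  · ext
  · change ((shearInv K B).restrictScalars K).comp
      (((shear K B).restrictScalars K).comp Algebra.TensorProduct.includeRight) =
        Algebra.TensorProduct.includeRight
    rw [shear_comp_right, AlgHom.comp_convMul_distrib]
    simp only [shearInv_comp_left, shearInv_comp_right, toConv_ofConv]
    exact congrArg ofConv (mul_inv_cancel_left p₁ p₂)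

lemma proj_comp_shear :
    ((proj K B).restrictScalars K).comp ((shear K B).restrictScalars K) =
      Algebra.TensorProduct.lmul' K := by
  apply Algebra.TensorProduct.ext
  · ext x
    simp [shear, proj]
  · change ((proj K B).restrictScalars K).comp
      (((shear K B).restrictScalars K).comp Algebra.TensorProduct.includeRight) = _
    rw [shear_comp_right, AlgHom.comp_convMul_distrib]
    have h1 : ((proj K B).restrictScalars K).comp
        (Algebra.TensorProduct.includeLeft : B →ₐ[K] B ⊗[K] B) = AlgHom.id K B := by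
      ext x; simp [proj]
    have h2 : toConv (((proj K B).restrictScalars K).comp
        (Algebra.TensorProduct.includeRight : B →ₐ[K] B ⊗[K] B)) = 1 := by
      rw [AlgHom.convOne_def]
      congr 1
      ext x; simp [proj]
    simp only [ofConv_toConv, h1, h2, mul_one]
    ext x; simp


open Groth.Agent.H8.AugCotangent in
lemma proj_eq : proj K B = augProj K B B (counitAlgHom K B) := rfl

lemma kaehler_ideal_eq :
    KaehlerDifferential.ideal K B = (RingHom.ker (proj K B)).comap (shear K B) := by
  ext x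
  change x ∈ RingHom.ker (Algebra.TensorProduct.lmul' K : B ⊗[K] B →ₐ[K] B) ↔ _
  rw [Ideal.mem_comap, RingHom.mem_ker, RingHom.mem_ker, ← proj_comp_shear]
  rfl

lemma kaehler_le : KaehlerDifferential.ideal K B ≤ (RingHom.ker (proj K B)).comap (shear K B) :=
  (kaehler_ideal_eq K B).le

lemma ker_proj_le :
    RingHom.ker (proj K B) ≤ (KaehlerDifferential.ideal K B).comap (shearInv K B) := by
  intro x hx
  rw [Ideal.mem_comap, kaehler_ideal_eq, Ideal.mem_comap, ← AlgHom.comp_apply,
    shear_comp_shearInv]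
  exact hx

/-- The map `J/J² → J'/J'²` induced by the shear automorphism. -/
noncomputable def cotShear :
    (KaehlerDifferential.ideal K B).Cotangent →ₗ[B] (RingHom.ker (proj K B)).Cotangent :=
  Ideal.mapCotangent (KaehlerDifferential.ideal K B) (RingHom.ker (proj K B)) (shear K B)
    (kaehler_le K B)

/-- The map `J'/J'² → J/J²` induced by the inverse shear automorphism. -/
noncomputable def cotShearInv :
    (RingHom.ker (proj K B)).Cotangent →ₗ[B] (KaehlerDifferential.ideal K B).Cotangent :=
  Ideal.mapCotangent (RingHom.ker (proj K B)) (KaehlerDifferential.ideal K B) (shearInv K B)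
    (ker_proj_le K B)

lemma cotShear_cotShearInv (z : (RingHom.ker (proj K B)).Cotangent) :
    cotShear K B (cotShearInv K B z) = z := by
  obtain ⟨⟨x, hx⟩, rfl⟩ := Ideal.toCotangent_surjective _ z
  rw [cotShearInv, cotShear, Ideal.mapCotangent_toCotangent, Ideal.mapCotangent_toCotangent]
  congr 1
  ext
  exact AlgHom.congr_fun (shear_comp_shearInv K B) x

lemma cotShearInv_cotShear (z : (KaehlerDifferential.ideal K B).Cotangent) :
    cotShearInv K B (cotShear K B z) = z := by
  obtain ⟨⟨x, hx⟩, rfl⟩ := Ideal.toCotangent_surjective _ z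
  rw [cotShearInv, cotShear, Ideal.mapCotangent_toCotangent, Ideal.mapCotangent_toCotangent]
  congr 1
  ext
  exact AlgHom.congr_fun (shearInv_comp_shear K B) x

/-- `J/J² ≃ J'/J'²` induced by the shear automorphism. -/
noncomputable def kaehlerEquiv :
    (KaehlerDifferential.ideal K B).Cotangent ≃ₗ[B] (RingHom.ker (proj K B)).Cotangent :=
  LinearEquiv.ofLinearMap (cotShear K B) (cotShearInv K B)
    (LinearMap.ext (cotShear_cotShearInv K B)) (LinearMap.ext (cotShearInv_cotShear K B))

theorem free_kaehlerDifferential : Module.Free B (Ω[B⁄K]) := by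
  have : Module.Free B (RingHom.ker (proj K B)).Cotangent :=
    Groth.Agent.H8.AugCotangent.free_cotangent_ker_augProj K B B (counitAlgHom K B)
  have h : Module.Free B (KaehlerDifferential.ideal K B).Cotangent :=
    Module.Free.of_equiv (kaehlerEquiv K B).symm
  exact h

end Groth.Agent.H8.HopfKaehler
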