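import Mathlib.RingTheory.Regular.RegularSequence
import Mathlib.RingTheory.Regular.Flat
import Mathlib.RingTheory.Ideal.Quotient.Operations

/-!
helper8: ring-level lemma for composing regular sequences along a surjection.
-/

set_option autoImplicit false
universe u

namespace Groth.Agent.H8.RegSeqComp

open RingTheory.Sequence

/-- Lifting a list along a surjection. -/
theorem exists_list_map_eq {R S : Type*} (φ : R → S) (hφ : Function.Surjective φ) (ss : List S) :
    ∃ tt : List R, tt.map φ = ss := by
  induction ss with
  | nil => exact ⟨[], rfl⟩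
  | cons s ss ih =>
    obtain ⟨tt, htt⟩ := ih
    obtain ⟨t, ht⟩ := hφ s
    exact ⟨t :: tt, by simp [ht, htt]⟩

/-- If `φ : R → S` is surjective with kernel generated by the weakly regular sequence `rs`, and
`tt` maps to a weakly regular sequence on `S`, then `rs ++ tt` is weakly regular on `R`. -/
theorem isWeaklyRegular_append_of_surjective {R S : Type u} [CommRing R] [CommRing S]
    (φ : R →+* S) (hφ : Function.Surjective φ) (rs : List R) (hker : RingHom.ker φ = Ideal.ofList rs)
    (hrs : IsWeaklyRegular R rs) (tt : List R) (htt : IsWeaklyRegular S (tt.map φ)) :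
    IsWeaklyRegular R (rs ++ tt) := by
  rw [isWeaklyRegular_append_iff]
  refine ⟨hrs, ?_⟩
  letI : Algebra R S := φ.toAlgebra
  have hsurj : Function.Surjective (Algebra.linearMap R S) := hφ
  have hk : (Ideal.ofList rs • ⊤ : Submodule R R) = LinearMap.ker (Algebra.linearMap R S) := by
    rw [smul_eq_mul, Ideal.mul_top, ← hker]
    rfl
  let e : (R ⧸ (Ideal.ofList rs • ⊤ : Submodule R R)) ≃ₗ[R] S :=
    (Submodule.quotEquivOfEq _ _ hk).trans ((Algebra.linearMap R S).quotKerEquivOfSurjective hsurj)
  rw [e.isWeaklyRegular_congr tt]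
  exact (isWeaklyRegular_map_algebraMap_iff S S tt).mp htt

/-- The preimage of `(φ tt)` under a surjection with kernel `(rs)` is `(rs ++ tt)`. -/
theorem comap_ofList_map {R S : Type u} [CommRing R] [CommRing S]
    (φ : R →+* S) (hφ : Function.Surjective φ) (rs : List R) (hker : RingHom.ker φ = Ideal.ofList rs)
    (tt : List R) :
    (Ideal.ofList (tt.map φ)).comap φ = Ideal.ofList (rs ++ tt) := by
  rw [← Ideal.map_ofList, Ideal.comap_map_of_surjective φ hφ, Ideal.ofList_append, ← hker,
    sup_comm]
  rfl

end Groth.Agent.H8.RegSeqComp
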