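import Groth.Agent.Lib.Helper85.RegularLocal
import Groth.Agent.H8.RegSeqComp
import Mathlib.RingTheory.Ideal.Quotient.Operations

/-!
helper8: if `R` and `R ⧸ n` are regular local rings then `n` is generated by a regular sequence.
-/

set_option autoImplicit false
universe u

namespace Groth.Agent.H8.RegLocalQuot

open IsLocalRing RingTheory.Sequence Groth.Agent.Lib.Helper85 Groth.Agent.H8.RegSeqComp

theorem exists_regular_aux : ∀ (d : ℕ) (R : Type u) [CommRing R] [IsRegularLocalRing R],
    (maximalIdeal R).spanFinrank = d → ∀ (n : Ideal R), IsRegularLocalRing (R ⧸ n) →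
      ∃ rs : List R, IsRegular R rs ∧ Ideal.ofList rs = n := by
  intro d
  induction d with
  | zero =>
    intro R _ _ hd n hreg
    by_cases hn : n = ⊥
    · subst hn
      exact ⟨[], IsRegular.nil R R, by simp⟩
    · exfalso
      apply hn
      have hnt : Nontrivial (R ⧸ n) := inferInstance
      have hle : n ≤ maximalIdeal R := le_maximalIdeal_of_quotient_isLocalRing n
      have hm : maximalIdeal R = ⊥ := by
        have := (Submodule.spanFinrank_eq_zero_iff_eq_bot
          (maximalIdeal R).fg_of_isNoetherianRing).mp hd
        exact this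
      rw [hm] at hle
      exact le_bot_iff.mp hle
  | succ d ih =>
    intro R _ _ hd n hreg
    by_cases hn : n = ⊥
    · subst hn
      exact ⟨[], IsRegular.nil R R, by simp⟩
    · have hnt : Nontrivial (R ⧸ n) := inferInstance
      have hle : n ≤ maximalIdeal R := le_maximalIdeal_of_quotient_isLocalRing n
      have hnsq : ¬ n ≤ maximalIdeal R ^ 2 := fun h =>
        hn (eq_bot_of_le_sq_of_quotient_regular n hreg h)
      obtain ⟨x, hxn, hx2⟩ := SetLike.not_le_iff_exists.mp hnsq
      have hx : x ∈ maximalIdeal R := hle hxn
      obtain ⟨hreg', hdim⟩ := isRegularLocalRing_quotient_span_singleton x hx hx2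
      have hdom : IsDomain R := isDomain_of_isRegularLocalRing R
      have hx0 : x ≠ 0 := by
        rintro rfl
        exact hx2 (Ideal.zero_mem _)
      have hspan : Ideal.span ({x} : Set R) ≤ n := (Ideal.span_singleton_le_iff_mem _).mpr hxn
      let φ : R →+* R ⧸ Ideal.span ({x} : Set R) := Ideal.Quotient.mk _
      have hφ : Function.Surjective φ := Ideal.Quotient.mk_surjective
      have hker : RingHom.ker φ = Ideal.ofList [x] := by
        rw [Ideal.ofList_singleton]
        exact Ideal.mk_ker
      have hreg'' : IsRegularLocalRing ((R ⧸ Ideal.span ({x} : Set R)) ⧸ n.map φ) :=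
        IsRegularLocalRing.of_ringEquiv (DoubleQuot.quotQuotEquivQuotOfLE hspan).symm
      obtain ⟨ss, hss, hssn⟩ := ih (R ⧸ Ideal.span ({x} : Set R)) (by omega) (n.map φ) hreg''
      obtain ⟨tt, htt⟩ := exists_list_map_eq φ hφ ss
      have hx1 : IsWeaklyRegular R [x] := by
        rw [isWeaklyRegular_singleton_iff]
        exact (isRegular_of_ne_zero hx0).left.isSMulRegular
      have hideal : Ideal.ofList ([x] ++ tt) = n := by
        rw [← comap_ofList_map φ hφ [x] hker tt, htt, hssn,
          Ideal.comap_map_of_surjective φ hφ]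
        apply le_antisymm
        · refine sup_le le_rfl ?_
          rw [← RingHom.ker_eq_comap_bot, hker, Ideal.ofList_singleton]
          exact hspan
        · exact le_sup_left
      refine ⟨[x] ++ tt, ⟨?_, ?_⟩, hideal⟩
      · exact isWeaklyRegular_append_of_surjective φ hφ [x] hker hx1 tt
          (by rw [htt]; exact hss.toIsWeaklyRegular)
      · rw [hideal, smul_eq_mul, Ideal.mul_top]
        intro h
        exact (Ideal.Quotient.nontrivial_iff.mp hnt) h.symm

/-- If `R` and `R ⧸ n` are regular local rings, then `n` is generated by a regular sequence. -/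
theorem exists_regular (R : Type u) [CommRing R] [IsRegularLocalRing R] (n : Ideal R)
    (h : IsRegularLocalRing (R ⧸ n)) : ∃ rs : List R, IsRegular R rs ∧ Ideal.ofList rs = n :=
  exists_regular_aux _ R rfl n h

/-- Kernel version. -/
theorem exists_regular_ker {R S : Type u} [CommRing R] [CommRing S] [IsRegularLocalRing R]
    [IsRegularLocalRing S] (f : R →+* S) (hf : Function.Surjective f) :
    ∃ rs : List R, IsRegular R rs ∧ RingHom.ker f = Ideal.ofList rs := by
  have h : IsRegularLocalRing (R ⧸ RingHom.ker f) :=
    IsRegularLocalRing.of_ringEquiv (RingHom.quotientKerEquivOfSurjective hf).symm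
  obtain ⟨rs, hrs, hI⟩ := exists_regular R (RingHom.ker f) h
  exact ⟨rs, hrs, hI.symm⟩

end Groth.Agent.H8.RegLocalQuot
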