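import Groth.Agent.H8.EffCartier3
import Mathlib.AlgebraicGeometry.IdealSheaf.Subscheme
import Mathlib.AlgebraicGeometry.Morphisms.ClosedImmersion

/-!
# Flatness of the closed subscheme of an ideal sheaf, affine locally
-/

set_option autoImplicit false
universe u

open CategoryTheory AlgebraicGeometry

namespace Groth.Agent.H8.RelCartier

variable {X S : Scheme.{u}}

lemma preimage_le (𝓘 : X.IdealSheafData) (f : X ⟶ S) (W : S.Opens) (U : X.Opens)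
    (e : U ≤ f ⁻¹ᵁ W) : 𝓘.subschemeι ⁻¹ᵁ U ≤ (𝓘.subschemeι ≫ f) ⁻¹ᵁ W := by
  intro y hy
  exact e hy

lemma subschemeι_comp_appLE (𝓘 : X.IdealSheafData) (f : X ⟶ S) (W : S.affineOpens)
    (U : X.affineOpens) (e : U.1 ≤ f ⁻¹ᵁ W.1) :
    (𝓘.subschemeι ≫ f).appLE W.1 (𝓘.subschemeι ⁻¹ᵁ U.1) (preimage_le 𝓘 f W.1 U.1 e) =
      f.appLE W.1 U.1 e ≫ CommRingCat.ofHom (Ideal.Quotient.mk (𝓘.ideal U)) ≫
        (𝓘.subschemeObjIso U).inv := by
  rw [← 𝓘.subschemeι_app U, Scheme.Hom.app_eq_appLE, Scheme.Hom.appLE_comp_appLE]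

lemma flat_appLE_iff (𝓘 : X.IdealSheafData) (f : X ⟶ S) (W : S.affineOpens)
    (U : X.affineOpens) (e : U.1 ≤ f ⁻¹ᵁ W.1) :
    ((𝓘.subschemeι ≫ f).appLE W.1 (𝓘.subschemeι ⁻¹ᵁ U.1) (preimage_le 𝓘 f W.1 U.1 e)).hom.Flat ↔
      ((Ideal.Quotient.mk (𝓘.ideal U)).comp (f.appLE W.1 U.1 e).hom).Flat := by
  rw [subschemeι_comp_appLE 𝓘 f W U e]
  have hbij : Function.Bijective (𝓘.subschemeObjIso U).inv.hom :=
    (ConcreteCategory.isIso_iff_bijective _).mp inferInstance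
  have : (f.appLE W.1 U.1 e ≫ CommRingCat.ofHom (Ideal.Quotient.mk (𝓘.ideal U)) ≫
        (𝓘.subschemeObjIso U).inv).hom = (𝓘.subschemeObjIso U).inv.hom.comp
      ((Ideal.Quotient.mk (𝓘.ideal U)).comp (f.appLE W.1 U.1 e).hom) := rfl
  rw [this, RingHom.Flat.comp_iff_of_bijective_left hbij]

/-- If the closed subscheme of `𝓘` is flat over `S`, then `Γ(X, U) / 𝓘(U)` is flat over `Γ(S, W)`
for all affine opens `U ⊆ f⁻¹ W`. -/
theorem flat_quotient_of_flat (𝓘 : X.IdealSheafData) (f : X ⟶ S) [Flat (𝓘.subschemeι ≫ f)]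
    (W : S.affineOpens) (U : X.affineOpens) (e : U.1 ≤ f ⁻¹ᵁ W.1) :
    ((Ideal.Quotient.mk (𝓘.ideal U)).comp (f.appLE W.1 U.1 e).hom).Flat :=
  (flat_appLE_iff 𝓘 f W U e).mp
    (HasRingHomProperty.appLE (P := @Flat) (𝓘.subschemeι ≫ f) inferInstance W
      ⟨𝓘.subschemeι ⁻¹ᵁ U.1, U.2.preimage 𝓘.subschemeι⟩ (preimage_le 𝓘 f W.1 U.1 e))

lemma flat_stableUnderCompositionWithLocalizationAwaySource :
    RingHom.StableUnderCompositionWithLocalizationAwaySource RingHom.Flat := by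
  intro R S T _ _ _ _ r _ f hf
  exact RingHom.Flat.comp (RingHom.Flat.holdsForLocalizationAway S r) hf

/-- Flatness of the closed subscheme of `𝓘` over `S` can be checked on the quotients
`Γ(X, U) / 𝓘(U)` locally on `X`. -/
theorem flat_of_locally_flat_quotient (𝓘 : X.IdealSheafData) (f : X ⟶ S)
    (H : ∀ x : X, ∃ (W : S.affineOpens) (U : X.affineOpens) (_ : x ∈ U.1) (e : U.1 ≤ f ⁻¹ᵁ W.1),
      ((Ideal.Quotient.mk (𝓘.ideal U)).comp (f.appLE W.1 U.1 e).hom).Flat) :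
    Flat (𝓘.subschemeι ≫ f) := by
  rw [HasRingHomProperty.iff_exists_appLE (P := @Flat)
    flat_stableUnderCompositionWithLocalizationAwaySource]
  intro y
  obtain ⟨W, U, hxU, e, hflat⟩ := H (𝓘.subschemeι y)
  exact ⟨W, ⟨𝓘.subschemeι ⁻¹ᵁ U.1, U.2.preimage 𝓘.subschemeι⟩, hxU, preimage_le 𝓘 f W.1 U.1 e,
    (flat_appLE_iff 𝓘 f W U e).mpr hflat⟩

end Groth.Agent.H8.RelCartier
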