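import Groth.Agent.H8.EffCartier5
import Mathlib.AlgebraicGeometry.IdealSheaf.Subscheme
import Mathlib.AlgebraicGeometry.Morphisms.ClosedImmersion

/-!
# The local ring of the closed subscheme of an ideal sheaf

`O_{D,d} = O_{X,x} / 𝓘_x`: the stalk map of `𝓘.subschemeι` at `d` is surjective with kernel
generated by the germs of `𝓘(U)` for any affine open `U ∋ x`.
-/

set_option autoImplicit false
universe u

open CategoryTheory AlgebraicGeometry

namespace Groth.Agent.H8.SubschemeStalk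

variable {X : Scheme.{u}}

theorem stalkMap_surjective (𝓘 : X.IdealSheafData) (d : 𝓘.subscheme) :
    Function.Surjective (𝓘.subschemeι.stalkMap d).hom :=
  𝓘.subschemeι.stalkMap_surjective d

/-- The kernel of the stalk map of `𝓘.subschemeι` at `d` is generated by the germs of `𝓘(U)`. -/
theorem ker_stalkMap (𝓘 : X.IdealSheafData) (d : 𝓘.subscheme) (U : X.affineOpens)
    (hx : 𝓘.subschemeι d ∈ U.1) :
    RingHom.ker (𝓘.subschemeι.stalkMap d).hom =
      (𝓘.ideal U).map (X.presheaf.germ U.1 (𝓘.subschemeι d) hx).hom := by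
  set ι := 𝓘.subschemeι with hι
  set x := ι d with hxdef
  have hV : IsAffineOpen (ι ⁻¹ᵁ U.1) := U.2.preimage ι
  have hker : RingHom.ker (ι.app U.1).hom = 𝓘.ideal U := 𝓘.ker_subschemeι_app U
  have hsurj : Function.Surjective (ι.app U.1).hom := 𝓘.subschemeι_app_surjective U
  apply le_antisymm
  · intro b' hb'
    rw [RingHom.mem_ker] at hb'
    letI : Algebra Γ(X, U.1) (X.presheaf.stalk x) :=
      TopCat.Presheaf.algebra_section_stalk X.presheaf ⟨x, hx⟩
    have hloc : IsLocalization.AtPrime (X.presheaf.stalk x)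
        (U.2.primeIdealOf ⟨x, hx⟩).asIdeal := U.2.isLocalization_stalk ⟨x, hx⟩
    letI : Algebra Γ(𝓘.subscheme, ι ⁻¹ᵁ U.1) (𝓘.subscheme.presheaf.stalk d) :=
      TopCat.Presheaf.algebra_section_stalk 𝓘.subscheme.presheaf ⟨d, hx⟩
    have hlocD : IsLocalization.AtPrime (𝓘.subscheme.presheaf.stalk d)
        (hV.primeIdealOf ⟨d, hx⟩).asIdeal := hV.isLocalization_stalk ⟨d, hx⟩
    obtain ⟨⟨b, s⟩, hbs⟩ := IsLocalization.surj (U.2.primeIdealOf ⟨x, hx⟩).asIdeal.primeCompl b'
    have hbs' : b' * (X.presheaf.germ U.1 x hx).hom s.1 = (X.presheaf.germ U.1 x hx).hom b := hbs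
    have hsunit : IsUnit ((X.presheaf.germ U.1 x hx).hom s.1) :=
      IsLocalization.map_units (X.presheaf.stalk x) s
    -- the germ of `ι.app b` at `d` vanishes
    have h1 : (𝓘.subscheme.presheaf.germ (ι ⁻¹ᵁ U.1) d hx).hom ((ι.app U.1).hom b) = 0 := by
      have := Scheme.Hom.germ_stalkMap_apply ι U.1 d hx b
      change (ι.stalkMap d).hom ((X.presheaf.germ U.1 x hx).hom b) = _ at this
      rw [← this, ← hbs', map_mul, hb', zero_mul]
    obtain ⟨m, hm⟩ := (IsLocalization.map_eq_zero_iff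
      (hV.primeIdealOf ⟨d, hx⟩).asIdeal.primeCompl (𝓘.subscheme.presheaf.stalk d) _).mp h1
    obtain ⟨s', hs'⟩ := hsurj m.1
    have hmunit : IsUnit ((𝓘.subscheme.presheaf.germ (ι ⁻¹ᵁ U.1) d hx).hom m.1) :=
      IsLocalization.map_units (𝓘.subscheme.presheaf.stalk d) m
    have hs'unit : IsUnit ((X.presheaf.germ U.1 x hx).hom s') := by
      have h2 := Scheme.Hom.germ_stalkMap_apply ι U.1 d hx s'
      change (ι.stalkMap d).hom ((X.presheaf.germ U.1 x hx).hom s') = _ at h2
      rw [hs'] at h2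
      rw [← h2] at hmunit
      exact (isUnit_map_iff (ι.stalkMap d).hom _).mp hmunit
    have h3 : s' * b ∈ 𝓘.ideal U := by
      rw [← hker, RingHom.mem_ker, map_mul, hs']
      exact hm
    have h4 : (X.presheaf.germ U.1 x hx).hom (s' * b) ∈
        (𝓘.ideal U).map (X.presheaf.germ U.1 x hx).hom := Ideal.mem_map_of_mem _ h3
    rw [map_mul, ← hbs'] at h4
    have h5 : b' * ((X.presheaf.germ U.1 x hx).hom s' * (X.presheaf.germ U.1 x hx).hom s.1) ∈
        (𝓘.ideal U).map (X.presheaf.germ U.1 x hx).hom := by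
      have : b' * ((X.presheaf.germ U.1 x hx).hom s' * (X.presheaf.germ U.1 x hx).hom s.1) =
          (X.presheaf.germ U.1 x hx).hom s' * (b' * (X.presheaf.germ U.1 x hx).hom s.1) := by ring
      rw [this]
      exact h4
    exact (Ideal.mul_unit_mem_iff_mem _ (hs'unit.mul hsunit)).mp h5
  · rw [Ideal.map_le_iff_le_comap]
    intro a ha
    rw [Ideal.mem_comap, RingHom.mem_ker]
    have := Scheme.Hom.germ_stalkMap_apply ι U.1 d hx a
    change (ι.stalkMap d).hom ((X.presheaf.germ U.1 x hx).hom a) = _ at this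
    rw [this]
    have h0 : (ι.app U.1).hom a = 0 := by
      rw [← RingHom.mem_ker, hker]
      exact ha
    change (𝓘.subscheme.presheaf.germ (ι ⁻¹ᵁ U.1) d hx).hom ((ι.app U.1).hom a) = 0
    rw [h0, map_zero]

end Groth.Agent.H8.SubschemeStalk
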