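import Groth.Prelude.Def_BlowUp2
import Groth.Agent.Lib.Helper18.IdealComap
import Mathlib.AlgebraicGeometry.Morphisms.Flat
import Mathlib.RingTheory.Flat.TorsionFree

/-!
# Effective Cartier ideal sheaves: restriction, flat pullback, products and factors
-/

set_option autoImplicit false
universe u

open CategoryTheory AlgebraicGeometry

namespace Groth.Agent.H8.EffCartier

open Groth.Agent.Lib.Helper18

/-! ### Algebra -/

lemma map_mem_nonZeroDivisors_of_flat {A B : Type*} [CommRing A] [CommRing B] (φ : A →+* B)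
    (hφ : φ.Flat) {a : A} (ha : a ∈ nonZeroDivisors A) : φ a ∈ nonZeroDivisors B := by
  let _ := φ.toAlgebra
  have : Module.Flat A B := hφ
  have hreg := Module.Flat.isSMulRegular_of_nonZeroDivisors (M := B) ha
  rw [mem_nonZeroDivisors_iff_right]
  intro z hz
  apply hreg
  change a • z = a • (0 : B)
  rw [smul_zero, Algebra.smul_def, mul_comm]
  exact hz

/-- If `I * J = (f)` with `f` a nonzerodivisor and `x y = u f` for `x ∈ I`, `y ∈ J` and a unit `u`,
then `I = (x)`, `J = (y)` and `x`, `y` are nonzerodivisors. -/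
lemma span_singleton_of_mul_eq {A : Type*} [CommRing A] (I J : Ideal A) (f x y u : A)
    (hf : f ∈ nonZeroDivisors A) (hIJ : I * J = Ideal.span {f}) (hx : x ∈ I) (hy : y ∈ J)
    (hu : IsUnit u) (hxy : x * y = u * f) :
    (x ∈ nonZeroDivisors A ∧ I = Ideal.span {x}) ∧ (y ∈ nonZeroDivisors A ∧ J = Ideal.span {y}) := by
  have hxyn : x * y ∈ nonZeroDivisors A := by
    rw [hxy]
    exact mul_mem (IsUnit.mem_nonZeroDivisors hu) hf
  have hxn : x ∈ nonZeroDivisors A := by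
    rw [mem_nonZeroDivisors_iff_right]
    intro z hz
    apply (mem_nonZeroDivisors_iff_right.mp hxyn) z
    rw [← mul_assoc, hz, zero_mul]
  have hyn : y ∈ nonZeroDivisors A := by
    rw [mem_nonZeroDivisors_iff_right]
    intro z hz
    apply (mem_nonZeroDivisors_iff_right.mp hxyn) z
    rw [mul_comm x y, ← mul_assoc, hz, zero_mul]
  obtain ⟨v, rfl⟩ := hu
  have hfxy : f = ((v⁻¹ : Aˣ) : A) * (x * y) := by
    rw [hxy, ← mul_assoc, Units.inv_mul, one_mul]
  refine ⟨⟨hxn, le_antisymm ?_ ?_⟩, ⟨hyn, le_antisymm ?_ ?_⟩⟩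
  · intro z hz
    have hzy : z * y ∈ Ideal.span {f} := hIJ ▸ Ideal.mul_mem_mul hz hy
    obtain ⟨c, hc⟩ := Ideal.mem_span_singleton'.mp hzy
    have : (z - c * ((v⁻¹ : Aˣ) : A) * x) * y = 0 := by
      rw [sub_mul, ← hc, hfxy]; ring
    have hz' : z = c * ((v⁻¹ : Aˣ) : A) * x :=
      sub_eq_zero.mp ((mem_nonZeroDivisors_iff_right.mp hyn) _ this)
    rw [hz']
    exact Ideal.mem_span_singleton'.mpr ⟨_, rfl⟩
  · rw [Ideal.span_singleton_le_iff_mem]; exact hx
  · intro z hz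
    have hzx : x * z ∈ Ideal.span {f} := hIJ ▸ Ideal.mul_mem_mul hx hz
    obtain ⟨c, hc⟩ := Ideal.mem_span_singleton'.mp hzx
    have : (z - c * ((v⁻¹ : Aˣ) : A) * y) * x = 0 := by
      rw [sub_mul, mul_comm z x, ← hc, hfxy]; ring
    have hz' : z = c * ((v⁻¹ : Aˣ) : A) * y :=
      sub_eq_zero.mp ((mem_nonZeroDivisors_iff_right.mp hxn) _ this)
    rw [hz']
    exact Ideal.mem_span_singleton'.mpr ⟨_, rfl⟩
  · rw [Ideal.span_singleton_le_iff_mem]; exact hy

/-! ### Local generators and flat pullback -/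

variable {X Y : Scheme.{u}}

/-- A local generator of an ideal sheaf pulls back along a flat morphism to a local generator. -/
lemma comap_generator_of_flat (g : Y ⟶ X) [Flat g] (𝓘 : X.IdealSheafData) (V : X.affineOpens)
    (f : Γ(X, V.1)) (hf : f ∈ nonZeroDivisors Γ(X, V.1)) (h : 𝓘.ideal V = Ideal.span {f})
    (U : Y.affineOpens) (e : U.1 ≤ g ⁻¹ᵁ V.1) :
    (g.appLE V.1 U.1 e).hom f ∈ nonZeroDivisors Γ(Y, U.1) ∧
      (𝓘.comap g).ideal U = Ideal.span {(g.appLE V.1 U.1 e).hom f} := by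
  constructor
  · exact map_mem_nonZeroDivisors_of_flat _
      (HasRingHomProperty.appLE (P := @Flat) g inferInstance V U e) hf
  · rw [ideal_comap_of_le g 𝓘 U V e, h, Ideal.map_span, Set.image_singleton]

/-- Flat pullback of an effective Cartier ideal sheaf is effective Cartier. -/
theorem isEffCartierIdeal_comap_of_flat (g : Y ⟶ X) [Flat g] (𝓘 : X.IdealSheafData)
    (h𝓘 : BlowUp.IsEffCartierIdeal 𝓘) : BlowUp.IsEffCartierIdeal (𝓘.comap g) := by
  intro y
  obtain ⟨V, hyV, f, hf, hV⟩ := h𝓘 (g y)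
  obtain ⟨U, hU, hyU, hUV⟩ := TopologicalSpace.Opens.isBasis_iff_nbhd.mp Y.isBasis_affineOpens
    (show y ∈ g ⁻¹ᵁ V.1 from hyV)
  obtain ⟨h1, h2⟩ := comap_generator_of_flat g 𝓘 V f hf hV ⟨U, hU⟩ hUV
  exact ⟨⟨U, hU⟩, hyU, _, h1, h2⟩

/-- A local generator restricts to a local generator on a smaller affine open. -/
lemma restrict_generator (𝓘 : X.IdealSheafData) (V : X.affineOpens)
    (f : Γ(X, V.1)) (hf : f ∈ nonZeroDivisors Γ(X, V.1)) (h : 𝓘.ideal V = Ideal.span {f})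
    (U : X.affineOpens) (e : U.1 ≤ V.1) :
    (X.presheaf.map (homOfLE e).op).hom f ∈ nonZeroDivisors Γ(X, U.1) ∧
      𝓘.ideal U = Ideal.span {(X.presheaf.map (homOfLE e).op).hom f} := by
  have e' : U.1 ≤ (𝟙 X) ⁻¹ᵁ V.1 := e
  have := comap_generator_of_flat (𝟙 X) 𝓘 V f hf h U e'
  rw [Scheme.IdealSheafData.comap_id] at this
  have happ : (𝟙 X : X ⟶ X).appLE V.1 U.1 e' = X.presheaf.map (homOfLE e).op := by
    rw [Scheme.Hom.appLE]
    simp only [Scheme.Hom.id_app, Category.id_comp]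
    rfl
  rw [happ] at this
  exact this

/-- Around every point, an effective Cartier ideal has a generator on arbitrarily small affine
opens. -/
lemma exists_generator_le (𝓘 : X.IdealSheafData) (h𝓘 : BlowUp.IsEffCartierIdeal 𝓘) (x : X)
    (W : X.Opens) (hxW : x ∈ W) :
    ∃ U : X.affineOpens, x ∈ U.1 ∧ U.1 ≤ W ∧
      ∃ f : Γ(X, U.1), f ∈ nonZeroDivisors Γ(X, U.1) ∧ 𝓘.ideal U = Ideal.span {f} := by
  obtain ⟨V, hxV, f, hf, hV⟩ := h𝓘 x
  obtain ⟨U, hU, hxU, hUVW⟩ := TopologicalSpace.Opens.isBasis_iff_nbhd.mp X.isBasis_affineOpens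
    (show x ∈ V.1 ⊓ W from ⟨hxV, hxW⟩)
  obtain ⟨h1, h2⟩ := restrict_generator 𝓘 V f hf hV ⟨U, hU⟩ (hUVW.trans inf_le_left)
  exact ⟨⟨U, hU⟩, hxU, hUVW.trans inf_le_right, _, h1, h2⟩

/-! ### Products -/

/-- The product of two effective Cartier ideal sheaves is effective Cartier. -/
theorem isEffCartierIdeal_mul (𝓘 𝓙 : X.IdealSheafData) (h𝓘 : BlowUp.IsEffCartierIdeal 𝓘)
    (h𝓙 : BlowUp.IsEffCartierIdeal 𝓙) : BlowUp.IsEffCartierIdeal (𝓘 * 𝓙) := by
  intro x
  obtain ⟨V, hxV, f, hf, hV⟩ := h𝓘 x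
  obtain ⟨U, hxU, hUV, g, hg, hU⟩ := exists_generator_le 𝓙 h𝓙 x V.1 hxV
  obtain ⟨h1, h2⟩ := restrict_generator 𝓘 V f hf hV U hUV
  refine ⟨U, hxU, _ * g, mul_mem h1 hg, ?_⟩
  rw [Scheme.IdealSheafData.ideal_mul, Pi.mul_apply, h2, hU, Ideal.span_singleton_mul_span_singleton]

end Groth.Agent.H8.EffCartier
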