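import Groth.Agent.Lib.Helper47.QuasiRegularBaseChange
import Groth.Agent.Lib.Helper90.QuasiRegReg

/-!
# Quasi-regular sequences localize; in Noetherian local rings they are regular (helper8)
-/

set_option autoImplicit false
universe u

namespace Groth.Agent.H8.QuasiRegLoc

open Groth.Agent.Lib.Helper47

/-- Quasi-regularity passes to localizations. -/
theorem isQuasiRegular_localization {R : Type u} [CommRing R] (M : Submonoid R) (L : Type u)
    [CommRing L] [Algebra R L] [IsLocalization M L] {r : ℕ} (f : Fin r → R)
    (hq : CAlgX.IsQuasiRegular f) :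
    CAlgX.IsQuasiRegular (fun i => algebraMap R L (f i)) := by
  rw [isQuasiRegular_iff] at hq ⊢
  intro n c' hc' d
  obtain ⟨s, hs⟩ := IsLocalization.exist_integer_multiples_of_finite M c'
  choose c hc using hs
  set f' : Fin r → L := fun i => algebraMap R L (f i) with hf'
  have hspan : Ideal.span (Set.range f') = (Ideal.span (Set.range f)).map (algebraMap R L) := by
    rw [Ideal.map_span, ← Set.range_comp]
    rfl
  have hmon : ∀ d, mon f' d = algebraMap R L (mon f d) := by
    intro d
    simp [mon, hf', map_prod, map_pow]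
  have h1 : algebraMap R L (monComb f n c) = (s : R) • monComb f' n c' := by
    rw [monComb_apply, monComb_apply, map_sum, Finset.smul_sum]
    refine Finset.sum_congr rfl fun d _ => ?_
    rw [map_mul, hc, hmon, smul_mul_assoc]
  have h2 : algebraMap R L (monComb f n c) ∈
      (Ideal.span (Set.range f) ^ (n + 1)).map (algebraMap R L) := by
    rw [h1, Ideal.map_pow, ← hspan, Algebra.smul_def]
    exact Ideal.mul_mem_left _ _ hc'
  obtain ⟨t, ht⟩ : ∃ t : M, (t : R) * monComb f n c ∈ Ideal.span (Set.range f) ^ (n + 1) := by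
    rw [IsLocalization.mem_map_algebraMap_iff M] at h2
    obtain ⟨⟨a, t⟩, hat⟩ := h2
    rw [← map_mul, IsLocalization.eq_iff_exists M] at hat
    obtain ⟨u, hu⟩ := hat
    refine ⟨u * t, ?_⟩
    have : ((u * t : M) : R) * monComb f n c = u * (a : R) := by
      rw [← hu]; push_cast; ring
    rw [this]
    exact Ideal.mul_mem_left _ _ a.2
  have h3 : monComb f n ((t : R) • c) ∈ Ideal.span (Set.range f) ^ (n + 1) := by
    rw [map_smul, smul_eq_mul]
    exact ht
  have h4 := hq n _ h3 d
  rw [hspan, IsLocalization.mem_map_algebraMap_iff M]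
  refine ⟨⟨⟨(t : R) * c d, h4⟩, t * s⟩, ?_⟩
  simp only [Pi.smul_apply, smul_eq_mul] at h4 ⊢
  rw [map_mul, hc, Algebra.smul_def]
  rw [Submonoid.coe_mul, map_mul]
  ring

/-- In a Noetherian ring, a quasi-regular sequence contained in a prime `p` becomes a weakly regular
sequence in the localization at `p`. -/
theorem isWeaklyRegular_atPrime_of_isQuasiRegular {R : Type u} [CommRing R] [IsNoetherianRing R]
    (p : Ideal R) [p.IsPrime] (L : Type u) [CommRing L] [Algebra R L] [IsLocalization.AtPrime L p]
    (rs : List R) (hq : CAlgX.IsQuasiRegular rs.get) (hle : Ideal.ofList rs ≤ p) :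
    RingTheory.Sequence.IsWeaklyRegular L (rs.map (algebraMap R L)) := by
  have hN : IsNoetherianRing L := IsLocalization.isNoetherianRing p.primeCompl L inferInstance
  have hloc : IsLocalRing L := IsLocalization.AtPrime.isLocalRing L p
  have h1 := isQuasiRegular_localization p.primeCompl L rs.get hq
  have h2 : ∀ i, (fun i => algebraMap R L (rs.get i)) i ∈ Ring.jacobson L := by
    intro i
    rw [IsLocalRing.ringJacobson_eq_maximalIdeal]
    exact (IsLocalization.AtPrime.to_map_mem_maximal_iff L p _).mpr
      (hle (Ideal.subset_span (List.get_mem rs i)))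
  have h3 := Groth.Agent.Lib.Helper90.QuasiRegReg.isWeaklyRegular_of_isQuasiRegular _ L _ h2 h1
  have h4 : List.ofFn (fun i => algebraMap R L (rs.get i)) = rs.map (algebraMap R L) := by
    conv_rhs => rw [← List.ofFn_get rs]
    rw [List.map_ofFn]
    rfl
  rwa [h4] at h3

end Groth.Agent.H8.QuasiRegLoc
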