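import Groth.Agent.Lib.Helper47.QuasiRegularBaseChange

/-!
# Flatness from a quasi-regular sequence with flat quotient (helper8)
-/

set_option autoImplicit false
universe u

namespace Groth.Agent.H8.QuasiRegFlat

open TensorProduct LinearMap

/-- If `B` is Noetherian, `J` lies in the Jacobson radical and all `B/Jⁿ` are flat over `A`, then `B`
is flat over `A`. -/
theorem flat_of_flat_quotient_pow {A B : Type u} [CommRing A] [CommRing B] [Algebra A B]
    [IsNoetherianRing B] (J : Ideal B) (hJ : J ≤ Ideal.jacobson ⊥)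
    (hflat : ∀ n, Module.Flat A (B ⧸ J ^ n)) : Module.Flat A B := by
  rw [Module.Flat.iff_lTensor_injective]
  intro I hI
  rw [injective_iff_map_eq_zero]
  intro x hx
  have : Module.Finite A I := Module.Finite.iff_fg.mpr hI
  have key : ∀ n, x ∈ (J ^ n • ⊤ : Submodule B (B ⊗[A] I)) := by
    intro n
    have := hflat n
    set N : Submodule A B := (J ^ n).restrictScalars A with hN
    set π : B →ₗ[A] B ⧸ J ^ n := (Ideal.Quotient.mkₐ A (J ^ n)).toLinearMap with hπ
    have hπs : Function.Surjective π := Ideal.Quotient.mkₐ_surjective A _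
    have hex : Function.Exact N.subtype π := by
      intro b
      constructor
      · intro hb
        exact ⟨⟨b, Ideal.Quotient.eq_zero_iff_mem.mp hb⟩, rfl⟩
      · rintro ⟨⟨b', hb'⟩, rfl⟩
        exact Ideal.Quotient.eq_zero_iff_mem.mpr hb'
    have hex2 := rTensor_exact I hex hπs
    have h1 : (lTensor (B ⧸ J ^ n) I.subtype) (rTensor I π x) = 0 := by
      rw [← LinearMap.comp_apply, lTensor_comp_rTensor, ← rTensor_comp_lTensor,
        LinearMap.comp_apply, hx, map_zero]
    have h2 : rTensor I π x = 0 :=
      (injective_iff_map_eq_zero _).mp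
        (Module.Flat.lTensor_preserves_injective_linearMap I.subtype Subtype.val_injective) _ h1
    obtain ⟨y, rfl⟩ := (hex2 x).mp h2
    clear h2 h1 hx
    induction y using TensorProduct.induction_on with
    | zero => simp
    | add y₁ y₂ h₁ h₂ => rw [map_add]; exact Submodule.add_mem _ h₁ h₂
    | tmul b a =>
      rw [rTensor_tmul]
      have : (N.subtype b) ⊗ₜ[A] a = (b : B) • ((1 : B) ⊗ₜ[A] a) := by
        rw [TensorProduct.smul_tmul', smul_eq_mul, mul_one]
        rfl
      rw [this]
      exact Submodule.smul_mem_smul b.2 Submodule.mem_top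
  have h := Ideal.iInf_pow_smul_eq_bot_of_le_jacobson (M := B ⊗[A] I) J hJ
  have hx' : x ∈ (⨅ i : ℕ, J ^ i • ⊤ : Submodule B (B ⊗[A] I)) := (Submodule.mem_iInf _).mpr key
  rw [h] at hx'
  exact hx'

/-- If `B` is Noetherian, `f` is a quasi-regular sequence in the Jacobson radical and `B/(f)` is flat
over `A`, then `B` is flat over `A`. -/
theorem flat_of_isQuasiRegular {A B : Type u} [CommRing A] [CommRing B] [Algebra A B]
    [IsNoetherianRing B] {r : ℕ} (f : Fin r → B) (hq : CAlgX.IsQuasiRegular f)
    (hJ : Ideal.span (Set.range f) ≤ Ideal.jacobson ⊥)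
    (hflat : Module.Flat A (B ⧸ Ideal.span (Set.range f))) : Module.Flat A B :=
  flat_of_flat_quotient_pow _ hJ
    (fun n => Groth.Agent.Lib.Helper47.flat_quotient_pow f hq hflat n)

/-- If `φ ∘ α` is flat and `φ` is surjective with kernel `J`, then `B/J` is flat over `A`. -/
theorem flat_quotient_of_flat_comp {A B C : Type u} [CommRing A] [CommRing B] [CommRing C]
    (α : A →+* B) (φ : B →+* C) (hφ : Function.Surjective φ) (J : Ideal B)
    (hJ : J = RingHom.ker φ) (h : (φ.comp α).Flat) :
    letI := α.toAlgebra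
    Module.Flat A (B ⧸ J) := by
  letI := α.toAlgebra
  letI : Algebra A C := (φ.comp α).toAlgebra
  have hC : Module.Flat A C := h
  let e : (B ⧸ J) ≃+* C :=
    (Ideal.quotEquivOfEq hJ).trans (RingHom.quotientKerEquivOfSurjective hφ)
  let el : (B ⧸ J) ≃ₗ[A] C :=
    { e with
      map_smul' := by
        intro a q
        obtain ⟨b, rfl⟩ := Ideal.Quotient.mk_surjective q
        change e (a • Ideal.Quotient.mk J b) = a • e (Ideal.Quotient.mk J b)
        rw [Algebra.smul_def, Algebra.smul_def, map_mul]
        rfl }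
  exact Module.Flat.of_linearEquiv el

end Groth.Agent.H8.QuasiRegFlat
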