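import Groth.Agent.H8.RelCartier3
import Mathlib.AlgebraicGeometry.Morphisms.Flat

/-!
# Base change of a relative effective Cartier divisor (geometry)
-/

set_option autoImplicit false
universe u

open CategoryTheory CategoryTheory.Limits AlgebraicGeometry

namespace Groth.Agent.H8.RelCartier

open Groth.Agent.H8.EffCartier Groth.Agent.Lib.Helper18 in
/-- Let `D` be an effective Cartier divisor on `X` whose closed subscheme is flat over `S`. Then
the inverse image of `D` in `X ×_S S'` is effective Cartier for every `S' ⟶ S`. -/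
theorem isEffCartierIdeal_comap_pullback_fst {X S S' : Scheme.{u}} (f : X ⟶ S)
    (D : X.IdealSheafData) (hD : BlowUp.IsEffCartierIdeal D) [Flat (D.subschemeι ≫ f)]
    (g : S' ⟶ S) : BlowUp.IsEffCartierIdeal (D.comap (pullback.fst f g)) := by
  intro p
  have H : IsPullback (pullback.fst f g) (pullback.snd f g) f g := IsPullback.of_hasPullback f g
  have hcond : f (pullback.fst f g p) = g (pullback.snd f g p) := by
    rw [← Scheme.Hom.comp_apply, ← Scheme.Hom.comp_apply, pullback.condition]
  obtain ⟨W, hW, hxW, -⟩ := TopologicalSpace.Opens.isBasis_iff_nbhd.mp S.isBasis_affineOpens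
    (show f (pullback.fst f g p) ∈ (⊤ : S.Opens) from trivial)
  obtain ⟨U, hxU, hUW, d, hd, hI⟩ := exists_generator_le D hD (pullback.fst f g p) (f ⁻¹ᵁ W) hxW
  obtain ⟨W', hW', hsW', hW'W⟩ := TopologicalSpace.Opens.isBasis_iff_nbhd.mp
    S'.isBasis_affineOpens (show pullback.snd f g p ∈ g ⁻¹ᵁ W from by
      change g (pullback.snd f g p) ∈ W
      rw [← hcond]
      exact hxW)
  obtain ⟨UY, hUY⟩ : ∃ UY : (pullback f g).Opens,
      UY = pullback.fst f g ⁻¹ᵁ U.1 ⊓ pullback.snd f g ⁻¹ᵁ W' := ⟨_, rfl⟩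
  have hpUY : p ∈ UY := by
    rw [hUY]
    exact ⟨hxU, hsW'⟩
  have hUYaff : IsAffineOpen UY := by
    have : IsAffine (Scheme.Opens.toScheme W) := hW
    have : IsAffine (Scheme.Opens.toScheme W') := hW'
    have : IsAffine (Scheme.Opens.toScheme U.1) := U.2
    exact .of_isIso (Scheme.Hom.isPullback_resLE H hW'W hUW hUY).isoPullback.hom
  have hpush := (isIso_pushoutSection_iff H hW'W hUW hUY).mp
    (isIso_pushoutSection_of_isAffineOpen H hW'W hUW hUY hW hW' U.2)
  have hflat := flat_quotient_of_flat D f ⟨W, hW⟩ U hUW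
  rw [hI] at hflat
  have hnz := map_mem_nonZeroDivisors_of_isPushout _ _ _ _ hpush d hd hflat
  refine ⟨⟨UY, hUYaff⟩, hpUY, _, hnz, ?_⟩
  rw [ideal_comap_of_le (pullback.fst f g) D ⟨UY, hUYaff⟩ U ((le_of_eq hUY).trans inf_le_left), hI,
    Ideal.map_span, Set.image_singleton]

end Groth.Agent.H8.RelCartier
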