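import Groth.Agent.H8.BlowUpOffCenter
import Mathlib.RingTheory.Ideal.MinimalPrime.Localization
import Mathlib.AlgebraicGeometry.AffineScheme

/-!
# A blowing up induces a bijection on maximal points off the centre
-/

set_option autoImplicit false
universe u
open CategoryTheory CategoryTheory.Limits AlgebraicGeometry TopologicalSpace

namespace Groth.Agent.H8

/-- A maximal point (no proper generization) does not lie on an effective Cartier divisor. -/
theorem notMem_support_of_isEffCartierIdeal {X : Scheme.{u}} (𝓘 : X.IdealSheafData)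
    (h : BlowUp.IsEffCartierIdeal 𝓘) (x : X) (hx : ∀ y : X, y ⤳ x → y = x) :
    x ∉ 𝓘.support := by
  obtain ⟨W, hxW, f, hf, hW⟩ := h x
  intro hsupp
  rw [Scheme.IdealSheafData.mem_support_iff_of_mem hxW, hW, Scheme.zeroLocus_span,
    Scheme.zeroLocus_singleton] at hsupp
  -- the prime of `x`
  set p := W.2.primeIdealOf ⟨x, hxW⟩ with hp
  have hpx : W.2.fromSpec p = x := W.2.fromSpec_primeIdealOf ⟨x, hxW⟩
  have hfp : f ∈ p.asIdeal := by
    by_contra hfp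
    apply hsupp
    have : p ∈ W.2.fromSpec ⁻¹ᵁ X.basicOpen f := by
      rw [W.2.fromSpec_preimage_basicOpen]
      exact hfp
    rw [← hpx]
    exact this
  have hmin : p.asIdeal ∈ minimalPrimes Γ(X, W.1) := by
    rw [minimalPrimes_eq_minimals]
    refine ⟨p.2, ?_⟩
    intro q hq hqp
    let q' : PrimeSpectrum Γ(X, W.1) := ⟨q, hq⟩
    have hspec : q' ⤳ p := (PrimeSpectrum.le_iff_specializes q' p).mp hqp
    have h2 : W.2.fromSpec q' ⤳ W.2.fromSpec p := hspec.map W.2.fromSpec.continuous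
    rw [hpx] at h2
    have h3 : W.2.fromSpec q' = W.2.fromSpec p := (hx _ h2).trans hpx.symm
    have : IsOpenImmersion W.2.fromSpec := W.2.isOpenImmersion_fromSpec
    have h4 : q' = p := W.2.fromSpec.isOpenEmbedding.injective h3
    rw [← h4]
  exact Set.disjoint_left.mp (Ideal.disjoint_nonZeroDivisors_of_mem_minimalPrimes hmin) hfp hf


theorem blowUp_maximalPoints_bijOn {X X' : Scheme.{u}} (𝓘 : X.IdealSheafData) (b : X' ⟶ X)
    (hb : BlowUp.IsBlowUp b 𝓘) :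
    Set.BijOn (fun x' => b x') {x' : ↥X' | ∀ y : ↥X', y ⤳ x' → y = x'}
      {x : ↥X | (∀ y : ↥X, y ⤳ x → y = x) ∧ x ∉ 𝓘.support} := by
  have hiso : IsIso (b ∣_ 𝓘.support.compl) := blowUp_isIso_off_center 𝓘 b hb
  obtain ⟨U, hU⟩ : ∃ U : X.Opens, U = 𝓘.support.compl := ⟨_, rfl⟩
  rw [← hU] at hiso
  have hmemU : ∀ x : X, x ∈ U ↔ x ∉ 𝓘.support := by
    intro x; rw [hU]; rfl
  let h : ↥(b ⁻¹ᵁ U) ≃ₜ ↥U := (b ∣_ U).homeomorph
  have hh : ∀ v : ↥(b ⁻¹ᵁ U), ((h v : ↥U) : X) = b (v : X') :=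
    fun v => morphismRestrict_base_coe b U v
  have hE : ∀ x' : X', (∀ y : X', y ⤳ x' → y = x') → b x' ∈ U := by
    intro x' hx'
    have := notMem_support_of_isEffCartierIdeal (𝓘.comap b) hb.1 x' hx'
    rw [Scheme.IdealSheafData.support_comap] at this
    exact (hmemU _).mpr this
  have spec_iff : ∀ v w : ↥(b ⁻¹ᵁ U),
      (v : X') ⤳ (w : X') ↔ ((h v : ↥U) : X) ⤳ ((h w : ↥U) : X) := by
    intro v w
    rw [← subtype_specializes_iff, ← subtype_specializes_iff, h.isInducing.specializes_iff]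
  refine ⟨?_, ?_, ?_⟩
  · intro x' hx'
    have hbx : b x' ∈ U := hE x' hx'
    refine ⟨?_, (hmemU _).mp hbx⟩
    intro y hy
    have hyU : y ∈ U := hy.mem_open U.isOpen hbx
    let v : ↥(b ⁻¹ᵁ U) := ⟨x', hbx⟩
    let w : ↥(b ⁻¹ᵁ U) := h.symm ⟨y, hyU⟩
    have hw : h w = ⟨y, hyU⟩ := h.apply_symm_apply _
    have h1 : (w : X') ⤳ (v : X') := by
      rw [spec_iff, hw, hh v]
      exact hy
    have h2 : w = v := Subtype.ext (hx' _ h1)
    have h3 : ((h w : ↥U) : X) = y := by rw [hw]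
    rw [← h3, h2, hh v]
  · intro x₁ hx₁ x₂ hx₂ h12
    have h1 : b x₁ ∈ U := hE x₁ hx₁
    have h2 : b x₂ ∈ U := hE x₂ hx₂
    let v₁ : ↥(b ⁻¹ᵁ U) := ⟨x₁, h1⟩
    let v₂ : ↥(b ⁻¹ᵁ U) := ⟨x₂, h2⟩
    have : h v₁ = h v₂ := Subtype.ext (by rw [hh v₁, hh v₂]; exact h12)
    exact congrArg Subtype.val (h.injective this)
  · rintro x ⟨hx, hxs⟩
    have hxU : x ∈ U := (hmemU x).mpr hxs
    let w : ↥(b ⁻¹ᵁ U) := h.symm ⟨x, hxU⟩
    have hw : h w = ⟨x, hxU⟩ := h.apply_symm_apply _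
    have hbw : b (w : X') = x := by rw [← hh w, hw]
    refine ⟨(w : X'), ?_, hbw⟩
    intro y' hy'
    have hy'U : y' ∈ b ⁻¹ᵁ U := hy'.mem_open (b ⁻¹ᵁ U).isOpen w.2
    let v : ↥(b ⁻¹ᵁ U) := ⟨y', hy'U⟩
    have h1 : ((h v : ↥U) : X) ⤳ ((h w : ↥U) : X) := (spec_iff v w).mp hy'
    rw [hw] at h1
    have h2 : ((h v : ↥U) : X) = x := hx _ h1
    have h3 : h v = h w := Subtype.ext (by rw [h2, hw])
    exact congrArg Subtype.val (h.injective h3)

end Groth.Agent.H8
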