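import Groth.Agent.H8.DimCartier
import Groth.Agent.H8.BlowUpMaxPoints
import Groth.Prelude.Def_Flat
import Mathlib.AlgebraicGeometry.IdealSheaf.Subscheme
import Mathlib.AlgebraicGeometry.Morphisms.ClosedImmersion

/-!
# The local dimension drops on an effective Cartier divisor
-/

set_option autoImplicit false
universe u

open CategoryTheory AlgebraicGeometry TopologicalSpace Topology

namespace Groth.Agent.H8.DimCartier

theorem localDim_lt_of_isEffCartierIdeal (S : Scheme.{u}) (𝓘 : S.IdealSheafData)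
    (h𝓘 : BlowUp.IsEffCartierIdeal 𝓘) (d : ↥𝓘.subscheme)
    (hfin : FlatMor.localDim ↥S (𝓘.subschemeι d) ≠ ⊤) :
    FlatMor.localDim ↥𝓘.subscheme d < FlatMor.localDim ↥S (𝓘.subschemeι d) := by
  have hne : Nonempty {U : Opens ↥S // 𝓘.subschemeι d ∈ U} := ⟨⟨⊤, trivial⟩⟩
  obtain ⟨U₀, hU₀⟩ := ciInf_mem
    (fun U : {U : Opens ↥S // 𝓘.subschemeι d ∈ U} => topologicalKrullDim (U.1 : Set ↥S))
  have hU₀' : topologicalKrullDim (U₀.1 : Set ↥S) = FlatMor.localDim ↥S (𝓘.subschemeι d) := hU₀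
  let V : Opens ↥𝓘.subscheme := 𝓘.subschemeι ⁻¹ᵁ U₀.1
  have hdV : d ∈ V := U₀.2
  have hle : FlatMor.localDim ↥𝓘.subscheme d ≤ topologicalKrullDim (V : Set ↥𝓘.subscheme) :=
    iInf_le (fun U : {U : Opens ↥𝓘.subscheme // d ∈ U} =>
      topologicalKrullDim ((U.1 : Opens ↥𝓘.subscheme) : Set ↥𝓘.subscheme)) ⟨V, hdV⟩
  refine lt_of_le_of_lt hle ?_
  rw [← hU₀']
  have hqs : QuasiSober ↥(U₀.1 : Set ↥S) := U₀.1.isOpen.isOpenEmbedding_subtypeVal.quasiSober
  have hnT : Nonempty ↥(U₀.1 : Set ↥S) := ⟨⟨_, U₀.2⟩⟩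
  have hg : IsClosedEmbedding ((U₀.1 : Set ↥S).restrictPreimage 𝓘.subschemeι) :=
    𝓘.subschemeι.isClosedEmbedding.restrictPreimage _
  apply topologicalKrullDim_lt_of_isClosedEmbedding _ hg
  · intro y
    have hsupp : 𝓘.subschemeι y.1 ∈ 𝓘.support := by
      have : 𝓘.subschemeι y.1 ∈ Set.range 𝓘.subschemeι := ⟨y.1, rfl⟩
      rw [𝓘.range_subschemeι] at this
      exact this
    by_contra hcon
    push_neg at hcon
    apply Groth.Agent.H8.notMem_support_of_isEffCartierIdeal 𝓘 h𝓘 (𝓘.subschemeι y.1) _ hsupp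
    intro y' hy'
    have hy'U : y' ∈ (U₀.1 : Set ↥S) := hy'.mem_open U₀.1.isOpen y.2
    have h1 : (⟨y', hy'U⟩ : ↥(U₀.1 : Set ↥S)) ⤳
        (U₀.1 : Set ↥S).restrictPreimage 𝓘.subschemeι y := (subtype_specializes_iff _ _).mpr hy'
    have h2 := hcon _ h1
    have h3 : 𝓘.subschemeι y.1 ⤳ y' := (subtype_specializes_iff _ _).mp h2
    exact (hy'.antisymm h3).eq
  · rw [hU₀']
    exact hfin

end Groth.Agent.H8.DimCartier
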