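import Groth.Prelude.Def_BlowUp2
import Mathlib.AlgebraicGeometry.Restrict

/-!
# A blowing up is an isomorphism off its centre
-/

set_option autoImplicit false
universe u
open CategoryTheory CategoryTheory.Limits AlgebraicGeometry TopologicalSpace

namespace Groth.Agent.H8

/-- The unit ideal sheaf is effective Cartier (locally generated by the nonzerodivisor `1`). -/
theorem isEffCartierIdeal_top (X : Scheme.{u}) :
    BlowUp.IsEffCartierIdeal (⊤ : X.IdealSheafData) := by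
  intro x
  obtain ⟨U, hU, hxU, -⟩ :=
    exists_isAffineOpen_mem_and_subset (x := x) (U := (⊤ : X.Opens)) trivial
  refine ⟨⟨U, hU⟩, hxU, 1, one_mem _, ?_⟩
  rw [Scheme.IdealSheafData.ideal_top]
  simp [Ideal.span_singleton_one]

/-- If `g` factors through the complement of the support of `𝓘`, the inverse image of `𝓘` is the unit
ideal. -/
theorem comap_eq_top_of_range {X Y : Scheme.{u}} (𝓘 : X.IdealSheafData) (g : Y ⟶ X)
    (hg : ∀ y : Y, g y ∉ 𝓘.support) : 𝓘.comap g = ⊤ := by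
  rw [← Scheme.IdealSheafData.support_eq_bot_iff, Scheme.IdealSheafData.support_comap]
  ext y
  simp only [Closeds.coe_preimage, Set.mem_preimage, SetLike.mem_coe, Closeds.coe_bot,
    Set.mem_empty_iff_false, iff_false]
  exact hg y

theorem blowUp_isIso_off_center {X X' : Scheme.{u}} (𝓘 : X.IdealSheafData) (b : X' ⟶ X)
    (hb : BlowUp.IsBlowUp b 𝓘) : IsIso (b ∣_ 𝓘.support.compl) := by
  set U : X.Opens := 𝓘.support.compl with hU
  have hUι : BlowUp.IsEffCartierIdeal (𝓘.comap U.ι) := by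
    rw [comap_eq_top_of_range]
    · exact isEffCartierIdeal_top _
    · intro y hy
      exact y.2 hy
  obtain ⟨h, hh, -⟩ := hb.2 _ U.ι hUι
  -- `h` lands in `b ⁻¹ᵁ U`
  have hrange : Set.range h ⊆ Set.range (b ⁻¹ᵁ U).ι := by
    rintro _ ⟨y, rfl⟩
    rw [Scheme.Opens.range_ι]
    change b (h y) ∈ U
    rw [← Scheme.Hom.comp_apply, hh]
    exact y.2
  let k : U.toScheme ⟶ (b ⁻¹ᵁ U).toScheme := IsOpenImmersion.lift (b ⁻¹ᵁ U).ι h hrange
  have hk : k ≫ (b ⁻¹ᵁ U).ι = h := IsOpenImmersion.lift_fac _ _ _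
  have hk1 : k ≫ (b ∣_ U) = 𝟙 _ := by
    rw [← cancel_mono U.ι, Category.assoc, morphismRestrict_ι, ← Category.assoc, hk, hh,
      Category.id_comp]
  -- the other composite: use uniqueness for `(b ⁻¹ᵁ U).ι ≫ b`
  have hV : BlowUp.IsEffCartierIdeal (𝓘.comap ((b ⁻¹ᵁ U).ι ≫ b)) := by
    rw [comap_eq_top_of_range]
    · exact isEffCartierIdeal_top _
    · intro y hy
      have : b ((b ⁻¹ᵁ U).ι y) ∈ U := y.2
      exact this (by simpa using hy)
  obtain ⟨h', -, huniq⟩ := hb.2 _ ((b ⁻¹ᵁ U).ι ≫ b) hV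
  have h1 : (b ⁻¹ᵁ U).ι = h' := huniq _ rfl
  have h2 : (b ∣_ U) ≫ k ≫ (b ⁻¹ᵁ U).ι = h' := by
    apply huniq
    rw [hk, Category.assoc, hh, morphismRestrict_ι]
  have hk2 : (b ∣_ U) ≫ k = 𝟙 _ := by
    rw [← cancel_mono (b ⁻¹ᵁ U).ι, Category.assoc, h2, ← h1, Category.id_comp]
  exact ⟨k, hk2, hk1⟩

end Groth.Agent.H8
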