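import Groth.Agent.H8.EffCartier
import Groth.Agent.H8.BlowUpOffCenter

/-!
# Effective Cartier ideal sheaves: factors of a product
-/

set_option autoImplicit false
universe u

open CategoryTheory AlgebraicGeometry

namespace Groth.Agent.H8.EffCartier

/-! ### Algebra -/

/-- If `I * J = (f)` with `f` a nonzerodivisor, then for each proper ideal `p` there are
`x ∈ I`, `y ∈ J` with `x y = a f` and `a ∉ p`. -/
lemma exists_mul_eq_of_mul_eq_span {A : Type*} [CommRing A] (I J : Ideal A) (f : A)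
    (hf : f ∈ nonZeroDivisors A) (hIJ : I * J = Ideal.span {f}) (p : Ideal A) (hp : p ≠ ⊤) :
    ∃ x ∈ I, ∃ y ∈ J, ∃ a, a ∉ p ∧ x * y = a * f := by
  by_contra h
  push_neg at h
  have hle : I * J ≤ p * Ideal.span {f} := by
    rw [Ideal.mul_le]
    intro x hx y hy
    have hxy : x * y ∈ Ideal.span {f} := hIJ ▸ Ideal.mul_mem_mul hx hy
    obtain ⟨a, ha⟩ := Ideal.mem_span_singleton'.mp hxy
    have hap : a ∈ p := by
      by_contra hap
      exact h x hx y hy a hap ha.symm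
    rw [← ha]
    exact Ideal.mul_mem_mul hap (Ideal.mem_span_singleton_self f)
  have hfm : f ∈ p * Ideal.span {f} := hle (hIJ ▸ Ideal.mem_span_singleton_self f)
  obtain ⟨z, hz, hzf⟩ := Ideal.mem_mul_span_singleton.mp hfm
  have : (z - 1) * f = 0 := by rw [sub_mul, hzf, one_mul, sub_self]
  have hz1 : z = 1 := sub_eq_zero.mp ((mem_nonZeroDivisors_iff_right.mp hf) _ this)
  apply hp
  rw [Ideal.eq_top_iff_one, ← hz1]
  exact hz

variable {X : Scheme.{u}}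

lemma mem_basicOpen_iff_notMem_primeIdealOf (V : X.affineOpens) (x : X) (hxV : x ∈ V.1)
    (a : Γ(X, V.1)) :
    x ∈ X.basicOpen a ↔ a ∉ (V.2.primeIdealOf ⟨x, hxV⟩).asIdeal := by
  have hpx : V.2.fromSpec (V.2.primeIdealOf ⟨x, hxV⟩) = x := V.2.fromSpec_primeIdealOf ⟨x, hxV⟩
  have h2 : V.2.primeIdealOf ⟨x, hxV⟩ ∈ V.2.fromSpec ⁻¹ᵁ X.basicOpen a ↔
      a ∉ (V.2.primeIdealOf ⟨x, hxV⟩).asIdeal := by
    rw [V.2.fromSpec_preimage_basicOpen]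
    rfl
  rw [← h2]
  conv_lhs => rw [← hpx]
  rfl

/-- If a product of two ideal sheaves is effective Cartier, then both factors are, with generators on
a common affine neighbourhood of each point. -/
theorem exists_generators_of_mul (𝓘 𝓙 : X.IdealSheafData)
    (h : BlowUp.IsEffCartierIdeal (𝓘 * 𝓙)) (x : X) :
    ∃ W : X.affineOpens, x ∈ W.1 ∧
      (∃ f : Γ(X, W.1), f ∈ nonZeroDivisors Γ(X, W.1) ∧ 𝓘.ideal W = Ideal.span {f}) ∧
      (∃ g : Γ(X, W.1), g ∈ nonZeroDivisors Γ(X, W.1) ∧ 𝓙.ideal W = Ideal.span {g}) := by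
  obtain ⟨V, hxV, f, hf, hV⟩ := h x
  rw [Scheme.IdealSheafData.ideal_mul, Pi.mul_apply] at hV
  set p := V.2.primeIdealOf ⟨x, hxV⟩ with hp
  obtain ⟨x₀, hx₀, y₀, hy₀, a, hap, hxy⟩ :=
    exists_mul_eq_of_mul_eq_span (𝓘.ideal V) (𝓙.ideal V) f hf hV p.asIdeal p.2.ne_top
  have hxa : x ∈ X.basicOpen a := (mem_basicOpen_iff_notMem_primeIdealOf V x hxV a).mpr hap
  let W : X.affineOpens := X.affineBasicOpen a
  have hWV : W.1 ≤ V.1 := X.basicOpen_le a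
  let ρ := (X.presheaf.map (homOfLE hWV).op).hom
  obtain ⟨hρf, hρ⟩ := restrict_generator (𝓘 * 𝓙) V f hf
    (by rw [Scheme.IdealSheafData.ideal_mul, Pi.mul_apply]; exact hV) W hWV
  rw [Scheme.IdealSheafData.ideal_mul, Pi.mul_apply] at hρ
  have hI : 𝓘.ideal W = (𝓘.ideal V).map ρ := (𝓘.map_ideal' (homOfLE hWV).op).symm
  have hJ : 𝓙.ideal W = (𝓙.ideal V).map ρ := (𝓙.map_ideal' (homOfLE hWV).op).symm
  have hu : IsUnit (ρ a) := X.toRingedSpace.isUnit_res_basicOpen a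
  have hmul : ρ x₀ * ρ y₀ = ρ a * ρ f := by rw [← map_mul, hxy, map_mul]
  have hx₀' : ρ x₀ ∈ 𝓘.ideal W := hI ▸ Ideal.mem_map_of_mem ρ hx₀
  have hy₀' : ρ y₀ ∈ 𝓙.ideal W := hJ ▸ Ideal.mem_map_of_mem ρ hy₀
  obtain ⟨⟨h1, h2⟩, ⟨h3, h4⟩⟩ := span_singleton_of_mul_eq (𝓘.ideal W) (𝓙.ideal W) (ρ f) (ρ x₀)
    (ρ y₀) (ρ a) hρf hρ hx₀' hy₀' hu hmul
  exact ⟨W, hxa, ⟨_, h1, h2⟩, ⟨_, h3, h4⟩⟩

theorem isEffCartierIdeal_of_mul (𝓘 𝓙 : X.IdealSheafData)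
    (h : BlowUp.IsEffCartierIdeal (𝓘 * 𝓙)) :
    BlowUp.IsEffCartierIdeal 𝓘 ∧ BlowUp.IsEffCartierIdeal 𝓙 := by
  constructor
  · intro x
    obtain ⟨W, hxW, h1, -⟩ := exists_generators_of_mul 𝓘 𝓙 h x
    exact ⟨W, hxW, h1⟩
  · intro x
    obtain ⟨W, hxW, -, h2⟩ := exists_generators_of_mul 𝓘 𝓙 h x
    exact ⟨W, hxW, h2⟩

end Groth.Agent.H8.EffCartier
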