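import Mathlib
import Groth.Agent.S0543
import Groth.Agent.Lib.Helper18.ComplMap
import Groth.Agent.Lib.Helper47.CompletionIso

set_option autoImplicit false
set_option linter.style.haveILetI false
set_option linter.unusedSectionVars false
universe u

open IsLocalRing

namespace Groth.Agent.H8.AdicMax

variable (A : Type u) [CommRing A] [IsNoetherianRing A] (I : Ideal A)

theorem map_le_of_isMaximal (n : Ideal (AdicCompletion I A)) [hn : n.IsMaximal] :
    I.map (algebraMap A (AdicCompletion I A)) ≤ n := by
  have := AdicCompletion.isAdicComplete_self I (Ideal.fg_of_isNoetherianRing I)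
  exact (IsAdicComplete.le_jacobson_bot (I.map (algebraMap A (AdicCompletion I A)))).trans
    (sInf_le ⟨bot_le, hn⟩)

theorem le_comap_of_isMaximal (n : Ideal (AdicCompletion I A)) [n.IsMaximal] :
    I ≤ n.comap (algebraMap A (AdicCompletion I A)) :=
  Ideal.map_le_iff_le_comap.mp (map_le_of_isMaximal A I n)

theorem isMaximal_comap (n : Ideal (AdicCompletion I A)) [hn : n.IsMaximal] :
    (n.comap (algebraMap A (AdicCompletion I A))).IsMaximal := by
  have hker : RingHom.ker (AdicCompletion.evalOneₐ I).toRingHom ≤ n := by
    have := AdicCompletion.ker_evalOneₐ_eq_map I (Ideal.fg_of_isNoetherianRing I)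
    rw [this]
    exact map_le_of_isMaximal A I n
  have hsurj : Function.Surjective (AdicCompletion.evalOneₐ I).toRingHom :=
    AdicCompletion.evalOneₐ_surjective I
  have h1 : (n.map (AdicCompletion.evalOneₐ I).toRingHom).IsMaximal :=
    Ideal.IsMaximal.map_of_surjective_of_ker_le hsurj hker
  have h2 : n = (n.map (AdicCompletion.evalOneₐ I).toRingHom).comap
      (AdicCompletion.evalOneₐ I).toRingHom := by
    rw [Ideal.comap_map_of_surjective' _ hsurj, eq_comm, sup_eq_left]
    exact hker
  have h3 : n.comap (algebraMap A (AdicCompletion I A)) =
      (n.map (AdicCompletion.evalOneₐ I).toRingHom).comap (Ideal.Quotient.mk I) := by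
    conv_lhs => rw [h2]
    rw [Ideal.comap_comap, ← AdicCompletion.evalOneₐ_comp_algebraMap_eq_mk]
  rw [h3]
  exact Ideal.comap_isMaximal_of_surjective _ Ideal.Quotient.mk_surjective

theorem map_comap_eq (n : Ideal (AdicCompletion I A)) [hn : n.IsMaximal] :
    (n.comap (algebraMap A (AdicCompletion I A))).map (algebraMap A (AdicCompletion I A)) = n := by
  haveI := isMaximal_comap A I n
  have hmax := AdicCompletion.isMaximal_map_of_le I (n.comap (algebraMap A (AdicCompletion I A)))
    (le_comap_of_isMaximal A I n) (Ideal.fg_of_isNoetherianRing I)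
  exact hmax.eq_of_le hn.ne_top Ideal.map_comap_le

/-- every element of the completion is congruent to an element of `A` modulo a maximal ideal -/
theorem exists_sub_mem (n : Ideal (AdicCompletion I A)) [hn : n.IsMaximal]
    (b : AdicCompletion I A) : ∃ a : A, b - algebraMap A (AdicCompletion I A) a ∈ n := by
  obtain ⟨a, ha⟩ := Ideal.Quotient.mk_surjective (AdicCompletion.evalOneₐ I b)
  refine ⟨a, map_le_of_isMaximal A I n ?_⟩
  rw [← AdicCompletion.ker_evalOneₐ_eq_map I (Ideal.fg_of_isNoetherianRing I), RingHom.mem_ker]
  have h : (AdicCompletion.evalOneₐ I) (algebraMap A (AdicCompletion I A) a) =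
      Ideal.Quotient.mk I a := by
    have := AdicCompletion.evalOneₐ_comp_algebraMap_eq_mk I
    exact RingHom.congr_fun this a
  change (AdicCompletion.evalOneₐ I) (b - algebraMap A (AdicCompletion I A) a) = 0
  rw [map_sub, h, ha, sub_self]

section Local

variable (n : Ideal (AdicCompletion I A)) [hn : n.IsMaximal]

/-- the canonical algebra structure `A_m → Â_n`, `m = n ∩ A` -/
noncomputable abbrev locAlgebra :
    Algebra (Localization.AtPrime (n.comap (algebraMap A (AdicCompletion I A))))
      (Localization.AtPrime n) :=
  (Localization.localRingHom (n.comap (algebraMap A (AdicCompletion I A))) n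
    (algebraMap A (AdicCompletion I A)) rfl).toAlgebra

theorem isScalarTower_loc :
    letI := locAlgebra A I n
    IsScalarTower A (Localization.AtPrime (n.comap (algebraMap A (AdicCompletion I A))))
      (Localization.AtPrime n) := by
  letI := locAlgebra A I n
  refine IsScalarTower.of_algebraMap_eq fun a => ?_
  change _ = Localization.localRingHom _ n (algebraMap A (AdicCompletion I A)) rfl
    (algebraMap A _ a)
  rw [Localization.localRingHom_to_map]
  rfl

theorem map_maximalIdeal_loc :
    letI := locAlgebra A I n
    (maximalIdeal (Localization.AtPrime (n.comap (algebraMap A (AdicCompletion I A))))).map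
      (algebraMap (Localization.AtPrime (n.comap (algebraMap A (AdicCompletion I A))))
        (Localization.AtPrime n)) = maximalIdeal (Localization.AtPrime n) := by
  letI := locAlgebra A I n
  haveI := isScalarTower_loc A I n
  rw [← Localization.AtPrime.map_eq_maximalIdeal, ← Localization.AtPrime.map_eq_maximalIdeal,
    Ideal.map_map, ← IsScalarTower.algebraMap_eq,
    IsScalarTower.algebraMap_eq A (AdicCompletion I A) (Localization.AtPrime n), ← Ideal.map_map,
    map_comap_eq]

theorem residueField_map_bijective_loc :
    letI := locAlgebra A I n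
    haveI : IsLocalHom (algebraMap
      (Localization.AtPrime (n.comap (algebraMap A (AdicCompletion I A))))
      (Localization.AtPrime n)) := Localization.isLocalHom_localRingHom _ _ _ rfl
    Function.Bijective (ResidueField.map (algebraMap
      (Localization.AtPrime (n.comap (algebraMap A (AdicCompletion I A))))
      (Localization.AtPrime n))) := by
  letI := locAlgebra A I n
  haveI : IsLocalHom (algebraMap
      (Localization.AtPrime (n.comap (algebraMap A (AdicCompletion I A))))
      (Localization.AtPrime n)) := Localization.isLocalHom_localRingHom _ _ _ rfl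
  haveI := isScalarTower_loc A I n
  refine ⟨RingHom.injective _, fun x => ?_⟩
  obtain ⟨y, rfl⟩ := residue_surjective x
  obtain ⟨b, s, rfl⟩ := IsLocalization.exists_mk'_eq n.primeCompl y
  obtain ⟨a, ha⟩ := exists_sub_mem A I n b
  obtain ⟨a', ha'⟩ := exists_sub_mem A I n (s : AdicCompletion I A)
  have ha'm : a' ∈ (n.comap (algebraMap A (AdicCompletion I A))).primeCompl := by
    intro h
    have h1 : algebraMap A (AdicCompletion I A) a' ∈ n := h
    have h2 := n.add_mem ha' h1
    rw [sub_add_cancel] at h2
    exact s.2 h2
  refine ⟨residue _ (IsLocalization.mk' _ a ⟨a', ha'm⟩), ?_⟩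
  rw [ResidueField.map_residue]
  rw [← sub_eq_zero, ← map_sub, residue_eq_zero_iff]
  change Localization.localRingHom _ n (algebraMap A (AdicCompletion I A)) rfl
    (IsLocalization.mk' _ a ⟨a', ha'm⟩) - _ ∈ _
  rw [Localization.localRingHom_mk', ← IsLocalization.mk'_sub,
    IsLocalization.AtPrime.mk'_mem_maximal_iff (Localization.AtPrime n) n]
  have e : algebraMap A (AdicCompletion I A) a * (s : AdicCompletion I A) -
      b * algebraMap A (AdicCompletion I A) a' =
      algebraMap A (AdicCompletion I A) a * ((s : AdicCompletion I A) -
        algebraMap A (AdicCompletion I A) a') -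
      (b - algebraMap A (AdicCompletion I A) a) * algebraMap A (AdicCompletion I A) a' := by ring
  change algebraMap A (AdicCompletion I A) a * (s : AdicCompletion I A) -
      b * algebraMap A (AdicCompletion I A) a' ∈ n
  rw [e]
  exact n.sub_mem (n.mul_mem_left _ ha') (n.mul_mem_right _ ha)

theorem flat_loc :
    letI := locAlgebra A I n
    Module.Flat (Localization.AtPrime (n.comap (algebraMap A (AdicCompletion I A))))
      (Localization.AtPrime n) := by
  letI := locAlgebra A I n
  haveI : n.LiesOver (n.comap (algebraMap A (AdicCompletion I A))) := ⟨rfl⟩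
  haveI : Localization.AtPrime.IsLiesOverAlgebra (n.comap (algebraMap A (AdicCompletion I A))) n :=
    ⟨rfl⟩
  haveI : Module.Flat A (AdicCompletion I A) := inferInstance
  infer_instance

/-- the induced map of completions `(A_m)^ → (Â_n)^` -/
noncomputable def cplLocMap :
    AdicCompletion (maximalIdeal (Localization.AtPrime (n.comap (algebraMap A (AdicCompletion I A)))))
      (Localization.AtPrime (n.comap (algebraMap A (AdicCompletion I A)))) →+*
    AdicCompletion (maximalIdeal (Localization.AtPrime n)) (Localization.AtPrime n) :=
  letI := locAlgebra A I n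
  FSch.complMap _ _ (algebraMap (Localization.AtPrime (n.comap (algebraMap A (AdicCompletion I A))))
      (Localization.AtPrime n)) (map_maximalIdeal_loc A I n).le

theorem cplLocMap_algebraMap
    (x : Localization.AtPrime (n.comap (algebraMap A (AdicCompletion I A)))) :
    letI := locAlgebra A I n
    cplLocMap A I n (algebraMap _ _ x) =
      algebraMap (Localization.AtPrime n) _ (algebraMap _ (Localization.AtPrime n) x) := by
  letI := locAlgebra A I n
  exact Groth.Agent.Lib.Helper18.complMap_of _ _ _ _ x

theorem cplLocMap_bijective : Function.Bijective (cplLocMap A I n) := by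
  letI := locAlgebra A I n
  haveI : IsLocalHom (algebraMap
      (Localization.AtPrime (n.comap (algebraMap A (AdicCompletion I A))))
      (Localization.AtPrime n)) := Localization.isLocalHom_localRingHom _ _ _ rfl
  haveI := flat_loc A I n
  haveI : IsNoetherianRing (AdicCompletion I A) := Groth.Agent.S0543.result A I
  haveI : IsNoetherianRing (Localization.AtPrime n) :=
    IsLocalization.isNoetherianRing n.primeCompl _ inferInstance
  haveI : IsNoetherianRing (Localization.AtPrime (n.comap (algebraMap A (AdicCompletion I A)))) :=
    IsLocalization.isNoetherianRing (n.comap (algebraMap A (AdicCompletion I A))).primeCompl _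
      inferInstance
  refine Groth.Agent.Lib.Helper47.completion_map_bijective _ _ (map_maximalIdeal_loc A I n)
    (residueField_map_bijective_loc A I n) (cplLocMap A I n) ?_
  refine RingHom.ext fun x => ?_
  exact cplLocMap_algebraMap A I n x

end Local

end Groth.Agent.H8.AdicMax
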