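import Mathlib
import Groth.Agent.H8.AdicMaxLocal
import Groth.Agent.H8.ExcellentDVR
import Groth.Agent.Lib.Helper29.CplFlat
import Groth.Agent.Lib.Helper29.FibreDescent
import Groth.Agent.S9294
import Groth.Agent.S9295

/-!
# Regularity of `A_m → Â_n` for the `I`-adic completion of a G-ring (helper8)
-/

set_option autoImplicit false
set_option linter.style.haveILetI false
set_option linter.unusedSectionVars false
universe u

open IsLocalRing

namespace Groth.Agent.H8.AdicMax

variable (A : Type u) [CommRing A] [IsNoetherianRing A] (I : Ideal A)

/-- if `A_m → (A_m)^` is regular, so is `A_m → Â_n` for a maximal ideal `n` of the `I`-adic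
completion lying over `m`. -/
theorem isRegularHom_loc (n : Ideal (AdicCompletion I A)) [hn : n.IsMaximal]
    (h : CAlg.IsRegularHom (Localization.AtPrime (n.comap (algebraMap A (AdicCompletion I A))))
      (AdicCompletion (maximalIdeal (Localization.AtPrime
        (n.comap (algebraMap A (AdicCompletion I A)))))
        (Localization.AtPrime (n.comap (algebraMap A (AdicCompletion I A)))))) :
    letI := locAlgebra A I n
    CAlg.IsRegularHom (Localization.AtPrime (n.comap (algebraMap A (AdicCompletion I A))))
      (Localization.AtPrime n) := by
  letI := locAlgebra A I n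
  haveI : IsNoetherianRing (AdicCompletion I A) := Groth.Agent.S0543.result A I
  haveI : IsNoetherianRing (Localization.AtPrime n) :=
    IsLocalization.isNoetherianRing n.primeCompl _ inferInstance
  haveI : IsNoetherianRing (Localization.AtPrime (n.comap (algebraMap A (AdicCompletion I A)))) :=
    IsLocalization.isNoetherianRing (n.comap (algebraMap A (AdicCompletion I A))).primeCompl _
      inferInstance
  set Am := Localization.AtPrime (n.comap (algebraMap A (AdicCompletion I A))) with hAm
  set Bn := Localization.AtPrime n with hBn
  set E := AdicCompletion (maximalIdeal Am) Am with hE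
  set D := AdicCompletion (maximalIdeal Bn) Bn with hD
  haveI : IsNoetherianRing E := Groth.Agent.Lib.Helper29.isNoetherianRing_cpl Am
  haveI : IsNoetherianRing D := Groth.Agent.Lib.Helper29.isNoetherianRing_cpl Bn
  letI : Algebra E D := (cplLocMap A I n).toAlgebra
  haveI : IsScalarTower Am E D := IsScalarTower.of_algebraMap_eq fun x => by
    exact (cplLocMap_algebraMap A I n x).symm
  have hED : CAlg.IsRegularHom E D :=
    Groth.Agent.H8.GRing.isRegularHom_of_bijective E D (cplLocMap_bijective A I n)
  have hAD : CAlg.IsRegularHom Am D :=
    Groth.Agent.S9294.result Am E D h hED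
      (fun p _ => Groth.Agent.Lib.Helper29.isNoetherianRing_fiber Am D p)
  haveI : Module.FaithfullyFlat Bn D := Groth.Agent.Lib.Helper29.faithfullyFlat_cpl Bn
  haveI : IsScalarTower Am Bn D := IsScalarTower.of_algebraMap_eq fun x => rfl
  exact Groth.Agent.S9295.result Am Bn D hAD
    (PrimeSpectrum.comap_surjective_of_faithfullyFlat)

end Groth.Agent.H8.AdicMax
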