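import Mathlib
import Groth.Agent.H8.FinCompl
import Groth.Agent.Lib.Helper73.RegularLocalization
import Groth.Prelude.Def_EGA4b

/-!
# Formal fibres of finite algebras, pointwise (helper8)

`k' ⊗_B (B_n)^ ` is a localization of `k' ⊗_R (R_m)^` for `B` finite over `R`; consequences for
geometric regularity of formal fibres; transport along ring isomorphisms.
-/

set_option autoImplicit false
set_option linter.style.haveILetI false
set_option linter.unusedSectionVars false
universe u
open IsLocalRing TensorProduct

namespace Groth.Agent.H8.FFF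

open Groth.Agent.H8.FinCompl

/-- regularity of `S ⊗_R A` passes to `S ⊗_R A[M⁻¹]` -/
theorem isRegularRing_tensor_of_isLocalization {R S A : Type u} [CommRing R] [CommRing S]
    [CommRing A] [Algebra R S] [Algebra R A] (M : Submonoid A) (Aₘ : Type u) [CommRing Aₘ]
    [Algebra R Aₘ] [Algebra A Aₘ] [IsScalarTower R A Aₘ] [IsLocalization M Aₘ]
    (h : IsRegularRing (S ⊗[R] A)) : IsRegularRing (S ⊗[R] Aₘ) := by
  let e := IsLocalization.tensorProductEquivOfMapIncludeRight R S M Aₘ
    (Localization (M.map (Algebra.TensorProduct.includeRight (R := R) (A := S))))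
  haveI : IsRegularRing (Localization (M.map
      (Algebra.TensorProduct.includeRight (R := R) (A := S) (B := A)))) :=
    Groth.Agent.Lib.Helper73.RegularRing.isRegularRing_of_isLocalization
      (M.map (Algebra.TensorProduct.includeRight (R := R) (A := S))) _
  exact IsRegularRing.of_ringEquiv e.symm.toRingEquiv

section Lemma4

variable (A : Type u) [CommRing A] (n : Ideal A) [n.IsPrime]
  (P : Ideal (Localization.AtPrime n)) [P.IsPrime]
  (C : Type u) [CommRing C] [Algebra (Localization.AtPrime n) C] [Algebra A C]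
  [IsScalarTower A (Localization.AtPrime n) C]
  (k' : Type u) [Field k'] [Algebra P.ResidueField k'] [Algebra (Localization.AtPrime n) k']
  [IsScalarTower (Localization.AtPrime n) P.ResidueField k'] [Algebra A k']
  [IsScalarTower A (Localization.AtPrime n) k']

/-- `k' ⊗_{κ(P)} (κ(P) ⊗_{A_n} C) ≃ k' ⊗_A C`. -/
noncomputable def fibreEquiv : k' ⊗[P.ResidueField] (P.Fiber C) ≃+* k' ⊗[A] C :=
  ((Algebra.TensorProduct.cancelBaseChange (Localization.AtPrime n) P.ResidueField k' k'
      C).toRingEquiv).trans
    (IsLocalization.algebraTensorEquiv n.primeCompl (Localization.AtPrime n) k' C).toRingEquiv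

end Lemma4

section F1

variable (R B : Type u) [CommRing R] [CommRing B] [IsNoetherianRing R] [Algebra R B]
  [Module.Finite R B] (m : Ideal R) [m.IsPrime] (n : Ideal B) [hn : n.IsPrime]
  [hnm : n.LiesOver m]
  (k' : Type u) [Field k'] [Algebra B k'] [Algebra R k'] [IsScalarTower R B k']

local notation "Λ" => AdicCompletion (maximalIdeal (Localization.AtPrime m)) (Localization.AtPrime m)

noncomputable local instance instAlgBE : Algebra B (Λ ⊗[R] B) := Algebra.TensorProduct.rightAlgebra

local instance : IsScalarTower R B (Λ ⊗[R] B) := Algebra.TensorProduct.right_isScalarTower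

/-- `k' ⊗_B (Λ ⊗_R B) ≃ k' ⊗_R Λ`. -/
noncomputable def tensorEquiv : k' ⊗[B] (Λ ⊗[R] B) ≃+* k' ⊗[R] Λ :=
  let c : (Λ ⊗[R] B) ≃ₐ[B] B ⊗[R] Λ :=
    { __ := Algebra.TensorProduct.comm R Λ B, commutes' := fun _ => rfl }
  ((Algebra.TensorProduct.congr (AlgEquiv.refl (R := B) (A₁ := k')) c).toRingEquiv).trans
    ((Algebra.TensorProduct.cancelBaseChange R B k' k' Λ).toRingEquiv)

set_option synthInstance.maxHeartbeats 200000 in
set_option maxHeartbeats 1000000 in
theorem isRegularRing_tensor_localization (M : Ideal (Λ ⊗[R] B)) [M.IsPrime]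
    (h : IsRegularRing (k' ⊗[R] Λ)) :
    IsRegularRing (k' ⊗[B] (Localization.AtPrime M)) := by
  haveI : IsRegularRing (k' ⊗[B] (Λ ⊗[R] B)) :=
    IsRegularRing.of_ringEquiv (tensorEquiv R B m k').symm
  exact isRegularRing_tensor_of_isLocalization M.primeCompl (Localization.AtPrime M) inferInstance

set_option synthInstance.maxHeartbeats 200000 in
set_option maxHeartbeats 1000000 in
/-- **F1** -/
theorem isRegularRing_tensor_cpl (h : IsRegularRing (k' ⊗[R] Λ)) :
    IsRegularRing (k' ⊗[B]
      (AdicCompletion (maximalIdeal (Localization.AtPrime n)) (Localization.AtPrime n))) := by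
  obtain ⟨θ, hθ⟩ := exists_cplEquiv_tensor R B m n
  have h1 := isRegularRing_tensor_localization R B m k' (maxOver R B m n) h
  let θB : AdicCompletion (maximalIdeal (Localization.AtPrime n)) (Localization.AtPrime n) ≃ₐ[B]
      Localization.AtPrime (maxOver R B m n) :=
    AlgEquiv.ofRingEquiv (f := θ) (fun b => by
      rw [hθ b, IsScalarTower.algebraMap_apply B (Λ ⊗[R] B) (Localization.AtPrime (maxOver R B m n))]
      rfl)
  exact IsRegularRing.of_ringEquiv
    (Algebra.TensorProduct.congr (AlgEquiv.refl (R := B) (A₁ := k')) θB).symm.toRingEquiv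

end F1

section F2

variable (R B : Type u) [CommRing R] [CommRing B] [IsNoetherianRing R] [Algebra R B]
  [Module.Finite R B] (m : Ideal R) [m.IsPrime] (n : Ideal B) [hn : n.IsPrime]
  [hnm : n.LiesOver m]

set_option synthInstance.maxHeartbeats 200000 in
set_option maxHeartbeats 1000000 in
/-- **F2**: the pointwise finite case -/
theorem isGeometricallyRegular_formalFibre_of_finite
    (Q : Ideal (Localization.AtPrime m)) [Q.IsPrime] (P : Ideal (Localization.AtPrime n))
    [P.IsPrime]
    (hPQ : letI := Localization.AtPrime.algebraOfLiesOver m n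
      P.comap (algebraMap (Localization.AtPrime m) (Localization.AtPrime n)) = Q)
    (h : CAlg.IsGeometricallyRegular Q.ResidueField (EGA4.formalFibre (Localization.AtPrime m) Q)) :
    CAlg.IsGeometricallyRegular P.ResidueField (EGA4.formalFibre (Localization.AtPrime n) P) := by
  letI := Localization.AtPrime.algebraOfLiesOver m n
  haveI : P.LiesOver Q := ⟨hPQ.symm⟩
  letI := Localization.AtPrime.algebraOfLiesOver Q P
  haveI : Algebra.QuasiFinite R (Localization.AtPrime n) := inferInstance
  haveI : Algebra.QuasiFinite (Localization.AtPrime m) (Localization.AtPrime n) :=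
    Algebra.QuasiFinite.of_restrictScalars R _ _
  haveI : Module.Finite Q.ResidueField P.ResidueField := inferInstance
  intro k' _ _ hfin
  letI : Algebra (Localization.AtPrime n) k' :=
    ((algebraMap P.ResidueField k').comp (algebraMap (Localization.AtPrime n) P.ResidueField)).toAlgebra
  haveI : IsScalarTower (Localization.AtPrime n) P.ResidueField k' :=
    IsScalarTower.of_algebraMap_eq (fun _ => rfl)
  letI : Algebra B k' :=
    ((algebraMap (Localization.AtPrime n) k').comp (algebraMap B (Localization.AtPrime n))).toAlgebra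
  haveI : IsScalarTower B (Localization.AtPrime n) k' :=
    IsScalarTower.of_algebraMap_eq (fun _ => rfl)
  letI : Algebra R k' := ((algebraMap B k').comp (algebraMap R B)).toAlgebra
  haveI : IsScalarTower R B k' := IsScalarTower.of_algebraMap_eq (fun _ => rfl)
  letI : Algebra (Localization.AtPrime m) k' :=
    ((algebraMap (Localization.AtPrime n) k').comp
      (algebraMap (Localization.AtPrime m) (Localization.AtPrime n))).toAlgebra
  haveI : IsScalarTower (Localization.AtPrime m) (Localization.AtPrime n) k' :=
    IsScalarTower.of_algebraMap_eq (fun _ => rfl)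
  haveI : IsScalarTower R (Localization.AtPrime m) k' := by
    refine IsScalarTower.of_algebraMap_eq (fun x => ?_)
    change algebraMap (Localization.AtPrime n) k' (algebraMap B (Localization.AtPrime n) (algebraMap R B x)) =
      algebraMap (Localization.AtPrime n) k' (algebraMap (Localization.AtPrime m) (Localization.AtPrime n)
        (algebraMap R (Localization.AtPrime m) x))
    rw [← IsScalarTower.algebraMap_apply R B (Localization.AtPrime n),
      ← IsScalarTower.algebraMap_apply R (Localization.AtPrime m) (Localization.AtPrime n)]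
  letI : Algebra Q.ResidueField k' :=
    ((algebraMap P.ResidueField k').comp (algebraMap Q.ResidueField P.ResidueField)).toAlgebra
  haveI : IsScalarTower Q.ResidueField P.ResidueField k' :=
    IsScalarTower.of_algebraMap_eq (fun _ => rfl)
  haveI : IsScalarTower (Localization.AtPrime m) Q.ResidueField k' := by
    refine IsScalarTower.of_algebraMap_eq (fun x => ?_)
    change algebraMap P.ResidueField k' (algebraMap (Localization.AtPrime n) P.ResidueField
      (algebraMap (Localization.AtPrime m) (Localization.AtPrime n) x)) =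
      algebraMap P.ResidueField k' (algebraMap Q.ResidueField P.ResidueField
        (algebraMap (Localization.AtPrime m) Q.ResidueField x))
    rw [← IsScalarTower.algebraMap_apply (Localization.AtPrime m) (Localization.AtPrime n) P.ResidueField,
      ← IsScalarTower.algebraMap_apply (Localization.AtPrime m) Q.ResidueField P.ResidueField]
  haveI : Module.Finite Q.ResidueField k' := Module.Finite.trans P.ResidueField k'
  haveI h1 : IsRegularRing (k' ⊗[Q.ResidueField] (Q.Fiber
      (AdicCompletion (maximalIdeal (Localization.AtPrime m)) (Localization.AtPrime m)))) :=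
    h k' inferInstance
  have h2 : IsRegularRing (k' ⊗[R]
      (AdicCompletion (maximalIdeal (Localization.AtPrime m)) (Localization.AtPrime m))) :=
    IsRegularRing.of_ringEquiv (R := k' ⊗[Q.ResidueField] (Q.Fiber
      (AdicCompletion (maximalIdeal (Localization.AtPrime m)) (Localization.AtPrime m))))
      (fibreEquiv R m Q
      (AdicCompletion (maximalIdeal (Localization.AtPrime m)) (Localization.AtPrime m)) k')
  haveI h3 := isRegularRing_tensor_cpl R B m n k' h2
  exact IsRegularRing.of_ringEquiv (R := k' ⊗[B]
      (AdicCompletion (maximalIdeal (Localization.AtPrime n)) (Localization.AtPrime n)))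
    (fibreEquiv B n P
    (AdicCompletion (maximalIdeal (Localization.AtPrime n)) (Localization.AtPrime n)) k').symm

end F2

section T

variable {A₁ A₂ : Type u} [CommRing A₁] [CommRing A₂] [IsLocalRing A₁] [IsLocalRing A₂]
  [IsNoetherianRing A₁] [IsNoetherianRing A₂]

set_option synthInstance.maxHeartbeats 200000 in
set_option maxHeartbeats 1000000 in
/-- **T**: formal fibres transport along ring isomorphisms. -/
theorem isGeometricallyRegular_formalFibre_of_bijective (f : A₁ →+* A₂)
    (hf : Function.Bijective f) (Q₂ : Ideal A₂) [Q₂.IsPrime]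
    (h : CAlg.IsGeometricallyRegular (Q₂.comap f).ResidueField
      (EGA4.formalFibre A₁ (Q₂.comap f))) :
    CAlg.IsGeometricallyRegular Q₂.ResidueField (EGA4.formalFibre A₂ Q₂) := by
  letI : Algebra A₁ A₂ := f.toAlgebra
  have hbij : Function.Bijective (algebraMap A₁ A₂) := hf
  haveI : IsLocalHom (algebraMap A₁ A₂) := by
    constructor
    intro x hx
    have h2 := hx.map (RingEquiv.ofBijective f hf).symm
    have h3 : (RingEquiv.ofBijective f hf).symm (f x) = x :=
      (RingEquiv.ofBijective f hf).symm_apply_apply x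
    change IsUnit ((RingEquiv.ofBijective f hf).symm (f x)) at h2
    rwa [h3] at h2
  haveI : Module.Flat A₁ A₂ :=
    Module.Flat.of_linearEquiv (LinearEquiv.ofBijective (Algebra.linearMap A₁ A₂) hbij).symm
  haveI : Module.Finite A₁ A₂ :=
    Module.Finite.of_surjective (Algebra.linearMap A₁ A₂) hbij.2
  obtain ⟨ψ, hψ⟩ := exists_cplEquiv A₁ A₂ (fun x => by
    obtain ⟨c, rfl⟩ := hbij.2 x
    exact ⟨c, by rw [sub_self]; exact Ideal.zero_mem _⟩)
  haveI : Q₂.LiesOver (Q₂.comap f) := ⟨rfl⟩
  letI := Localization.AtPrime.algebraOfLiesOver (Q₂.comap f) Q₂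
  haveI : Module.Finite (Q₂.comap f).ResidueField Q₂.ResidueField := inferInstance
  intro k' _ _ hfin
  letI : Algebra A₂ k' :=
    ((algebraMap Q₂.ResidueField k').comp (algebraMap A₂ Q₂.ResidueField)).toAlgebra
  haveI : IsScalarTower A₂ Q₂.ResidueField k' := IsScalarTower.of_algebraMap_eq (fun _ => rfl)
  letI : Algebra A₁ k' := ((algebraMap A₂ k').comp (algebraMap A₁ A₂)).toAlgebra
  haveI : IsScalarTower A₁ A₂ k' := IsScalarTower.of_algebraMap_eq (fun _ => rfl)
  letI : Algebra (Q₂.comap f).ResidueField k' :=
    ((algebraMap Q₂.ResidueField k').comp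
      (algebraMap (Q₂.comap f).ResidueField Q₂.ResidueField)).toAlgebra
  haveI : IsScalarTower (Q₂.comap f).ResidueField Q₂.ResidueField k' :=
    IsScalarTower.of_algebraMap_eq (fun _ => rfl)
  haveI : IsScalarTower A₁ (Q₂.comap f).ResidueField k' := by
    refine IsScalarTower.of_algebraMap_eq (fun x => ?_)
    change algebraMap Q₂.ResidueField k' (algebraMap A₂ Q₂.ResidueField (algebraMap A₁ A₂ x)) =
      algebraMap Q₂.ResidueField k' (algebraMap (Q₂.comap f).ResidueField Q₂.ResidueField
        (algebraMap A₁ (Q₂.comap f).ResidueField x))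
    rw [← IsScalarTower.algebraMap_apply A₁ A₂ Q₂.ResidueField,
      ← IsScalarTower.algebraMap_apply A₁ (Q₂.comap f).ResidueField Q₂.ResidueField]
  haveI : Module.Finite (Q₂.comap f).ResidueField k' := Module.Finite.trans Q₂.ResidueField k'
  haveI h1 : IsRegularRing (k' ⊗[(Q₂.comap f).ResidueField] ((Q₂.comap f).Fiber
      (AdicCompletion (maximalIdeal A₁) A₁))) := h k' inferInstance
  -- step 1
  have h2 : IsRegularRing (k' ⊗[A₁] (AdicCompletion (maximalIdeal A₁) A₁)) :=
    IsRegularRing.of_ringEquiv (R := k' ⊗[(Q₂.comap f).ResidueField] ((Q₂.comap f).Fiber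
      (AdicCompletion (maximalIdeal A₁) A₁)))
      (Algebra.TensorProduct.cancelBaseChange A₁ (Q₂.comap f).ResidueField k' k'
        (AdicCompletion (maximalIdeal A₁) A₁)).toRingEquiv
  -- step 2
  let ψA : AdicCompletion (maximalIdeal A₁) A₁ ≃ₐ[A₁] AdicCompletion (maximalIdeal A₂) A₂ :=
    AlgEquiv.ofRingEquiv (f := ψ) (fun c => by
      rw [hψ c, ← IsScalarTower.algebraMap_apply A₁ A₂ (AdicCompletion (maximalIdeal A₂) A₂)])
  haveI h3 : IsRegularRing (k' ⊗[A₁] (AdicCompletion (maximalIdeal A₂) A₂)) :=
    IsRegularRing.of_ringEquiv (R := k' ⊗[A₁] (AdicCompletion (maximalIdeal A₁) A₁))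
      (Algebra.TensorProduct.congr (AlgEquiv.refl (R := A₁) (A₁ := k')) ψA).toRingEquiv
  -- step 3: change base ring from A₁ to A₂
  haveI : TensorProduct.CompatibleSMul A₁ A₂ k' (AdicCompletion (maximalIdeal A₂) A₂) := by
    refine ⟨fun r a b => ?_⟩
    obtain ⟨c, rfl⟩ := hbij.2 r
    rw [algebraMap_smul, algebraMap_smul, TensorProduct.smul_tmul]
  haveI : TensorProduct.CompatibleSMul A₂ A₁ k' (AdicCompletion (maximalIdeal A₂) A₂) := by
    refine ⟨fun r a b => ?_⟩
    rw [← algebraMap_smul A₂ r a, ← algebraMap_smul A₂ r b, TensorProduct.smul_tmul]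
  haveI h4 : IsRegularRing (k' ⊗[A₂] (AdicCompletion (maximalIdeal A₂) A₂)) :=
    IsRegularRing.of_ringEquiv (R := k' ⊗[A₁] (AdicCompletion (maximalIdeal A₂) A₂))
      (Algebra.TensorProduct.equivOfCompatibleSMul A₂ A₁ k' k'
        (AdicCompletion (maximalIdeal A₂) A₂)).toRingEquiv
  exact IsRegularRing.of_ringEquiv (R := k' ⊗[A₂] (AdicCompletion (maximalIdeal A₂) A₂))
    (Algebra.TensorProduct.cancelBaseChange A₂ Q₂.ResidueField k' k'
      (AdicCompletion (maximalIdeal A₂) A₂)).toRingEquiv.symm

end T

end Groth.Agent.H8.FFF
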