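import Mathlib
import Groth.Agent.H8.FormalFibreFin

/-!
# Formal fibres of finite algebras II: converse direction (helper8)
-/

set_option autoImplicit false
set_option linter.style.haveILetI false
set_option linter.unusedSectionVars false
universe u
open IsLocalRing TensorProduct

namespace Groth.Agent.H8.FFF

open Groth.Agent.H8.FinCompl

/-- if `S ⊗_R A[M⁻¹]` is regular and the prime `𝔓` of `S ⊗_R A` avoids the image of `M`, then
`(S ⊗_R A)_𝔓` is regular -/
theorem isRegularLocalRing_atPrime_tensor_of_isLocalization {R S A : Type u} [CommRing R]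
    [CommRing S] [CommRing A] [Algebra R S] [Algebra R A] (M : Submonoid A) (Aₘ : Type u)
    [CommRing Aₘ] [Algebra R Aₘ] [Algebra A Aₘ] [IsScalarTower R A Aₘ] [IsLocalization M Aₘ]
    (h : IsRegularRing (S ⊗[R] Aₘ)) (𝔓 : Ideal (S ⊗[R] A)) [𝔓.IsPrime]
    (hM : ∀ a ∈ M, (1 : S) ⊗ₜ[R] a ∉ 𝔓) : IsRegularLocalRing (Localization.AtPrime 𝔓) := by
  letI : Algebra (S ⊗[R] A) (S ⊗[R] Aₘ) :=
    (Algebra.TensorProduct.map (AlgHom.id R S) (IsScalarTower.toAlgHom R _ _)).toAlgebra
  haveI : IsScalarTower S (S ⊗[R] A) (S ⊗[R] Aₘ) :=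
    .of_algebraMap_eq <| by intro; simp [RingHom.algebraMap_toAlgebra]
  haveI hloc : IsLocalization (M.map (Algebra.TensorProduct.includeRight (R := R) (A := S)))
      (S ⊗[R] Aₘ) :=
    IsLocalization.tensorProduct_tensorProduct_right R S M Aₘ
      (by ext; simp [RingHom.algebraMap_toAlgebra])
  have hle : M.map (Algebra.TensorProduct.includeRight (R := R) (A := S)) ≤ 𝔓.primeCompl := by
    rintro _ ⟨a, ha, rfl⟩
    exact hM a ha
  letI : Algebra (S ⊗[R] Aₘ) (Localization.AtPrime 𝔓) :=
    IsLocalization.localizationAlgebraOfSubmonoidLe (S ⊗[R] Aₘ) (Localization.AtPrime 𝔓)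
      (M.map (Algebra.TensorProduct.includeRight (R := R) (A := S))) 𝔓.primeCompl hle
  haveI : IsScalarTower (S ⊗[R] A) (S ⊗[R] Aₘ) (Localization.AtPrime 𝔓) :=
    IsLocalization.localization_isScalarTower_of_submonoid_le (S ⊗[R] Aₘ)
      (Localization.AtPrime 𝔓) (M.map (Algebra.TensorProduct.includeRight (R := R) (A := S)))
      𝔓.primeCompl hle
  haveI : IsLocalization (𝔓.primeCompl.map (algebraMap (S ⊗[R] A) (S ⊗[R] Aₘ)))
      (Localization.AtPrime 𝔓) :=
    IsLocalization.isLocalization_of_submonoid_le (S ⊗[R] Aₘ) (Localization.AtPrime 𝔓)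
      (M.map (Algebra.TensorProduct.includeRight (R := R) (A := S))) 𝔓.primeCompl hle
  haveI : IsRegularRing (Localization.AtPrime 𝔓) :=
    Groth.Agent.Lib.Helper73.RegularRing.isRegularRing_of_isLocalization
      (𝔓.primeCompl.map (algebraMap (S ⊗[R] A) (S ⊗[R] Aₘ))) _
  exact IsRegularLocalRing.of_isRegularRing_of_isLocalRing _

section R1

variable (R S : Type u) [CommRing R] [CommRing S] [IsNoetherianRing R] [Algebra R S]
  [Module.Finite R S] (p : Ideal R) [p.IsPrime]
  (k' : Type u) [Field k'] [Algebra S k'] [Algebra R k'] [IsScalarTower R S k']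

local notation "Λ" => AdicCompletion (maximalIdeal (Localization.AtPrime p)) (Localization.AtPrime p)

attribute [local instance] instAlgBE

local instance : IsScalarTower R S (Λ ⊗[R] S) := Algebra.TensorProduct.right_isScalarTower

/-- the maximal ideal of `Λ` contracts to `p` -/
theorem comap_maximalIdeal_cpl :
    haveI := Groth.Agent.Lib.Helper29.isLocalRing_cpl (Localization.AtPrime p)
    (maximalIdeal Λ).comap (algebraMap R Λ) = p := by
  haveI : IsNoetherianRing (Localization.AtPrime p) :=
    IsLocalization.isNoetherianRing p.primeCompl _ inferInstance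
  haveI := Groth.Agent.Lib.Helper29.isLocalRing_cpl (Localization.AtPrime p)
  have hker : RingHom.ker (resΛ R p).toRingHom = maximalIdeal Λ := by
    haveI : (RingHom.ker (resΛ R p).toRingHom).IsMaximal :=
      RingHom.ker_isMaximal_of_surjective _ (resΛ_surjective R p)
    exact IsLocalRing.eq_maximalIdeal inferInstance
  rw [← hker]
  ext a
  rw [Ideal.mem_comap, RingHom.mem_ker]
  change resΛ R p (algebraMap R Λ a) = 0 ↔ _
  rw [AlgHom.commutes, Ideal.algebraMap_residueField_eq_zero]

set_option synthInstance.maxHeartbeats 200000 in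
set_option maxHeartbeats 1000000 in
/-- **R1**: regularity of `k' ⊗_R Λ` can be checked on the completions of the local rings of a
finite `R`-algebra `S` through which `R → k'` factors. -/
theorem isRegularRing_tensor_of_forall_cpl
    (hN : IsNoetherianRing (k' ⊗[R] Λ))
    (hreg : ∀ (n : Ideal S) [n.IsPrime] [n.LiesOver p],
      IsRegularRing (k' ⊗[S]
        (AdicCompletion (maximalIdeal (Localization.AtPrime n)) (Localization.AtPrime n)))) :
    IsRegularRing (k' ⊗[R] Λ) := by
  haveI : IsNoetherianRing (Localization.AtPrime p) :=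
    IsLocalization.isNoetherianRing p.primeCompl _ inferInstance
  haveI : Module.Flat R Λ := Module.Flat.trans R (Localization.AtPrime p) _
  haveI : Module.Flat S (Λ ⊗[R] S) := by
    let e : Λ ⊗[R] S ≃ₐ[S] S ⊗[R] Λ :=
      { __ := Algebra.TensorProduct.comm _ _ _, commutes' _ := rfl }
    exact Module.Flat.of_linearEquiv e.toLinearEquiv
  haveI : IsNoetherianRing S := IsNoetherianRing.of_finite R S
  haveI := Groth.Agent.Lib.Helper29.isNoetherianRing_cpl (Localization.AtPrime p)
  haveI := Groth.Agent.Lib.Helper29.isLocalRing_cpl (Localization.AtPrime p)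
  haveI := Groth.Agent.Lib.Helper29.isAdicComplete_cpl (Localization.AtPrime p)
  haveI : IsNoetherianRing (k' ⊗[S] (Λ ⊗[R] S)) :=
    isNoetherianRing_of_ringEquiv _ (tensorEquiv R S p k').symm
  suffices h : IsRegularRing (k' ⊗[S] (Λ ⊗[R] S)) from
    IsRegularRing.of_ringEquiv (R := k' ⊗[S] (Λ ⊗[R] S)) (tensorEquiv R S p k')
  rw [isRegularRing_iff]
  intro 𝔓 _
  let 𝔭 : Ideal (Λ ⊗[R] S) := 𝔓.comap
    (Algebra.TensorProduct.includeRight : (Λ ⊗[R] S) →ₐ[S] k' ⊗[S] (Λ ⊗[R] S))
  have h𝔭 : 𝔭 ≠ ⊤ := (Ideal.IsPrime.comap _).ne_top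
  obtain ⟨M, hM, h𝔭M⟩ := Ideal.exists_le_maximal 𝔭 h𝔭
  haveI := hM
  haveI : (M.under S).IsPrime := Ideal.IsPrime.under S M
  haveI : M.LiesOver (M.under S) := ⟨rfl⟩
  have hMΛ : M.comap (algebraMap Λ (Λ ⊗[R] S)) = maximalIdeal Λ := by
    haveI : (M.comap (algebraMap Λ (Λ ⊗[R] S))).IsMaximal :=
      Ideal.isMaximal_comap_of_isIntegral_of_isMaximal M
    exact IsLocalRing.eq_maximalIdeal inferInstance
  haveI : (M.under S).LiesOver p := by
    constructor
    rw [Ideal.under_def, Ideal.under_def, Ideal.comap_comap, ← IsScalarTower.algebraMap_eq,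
      IsScalarTower.algebraMap_eq R Λ (Λ ⊗[R] S), ← Ideal.comap_comap, hMΛ,
      comap_maximalIdeal_cpl]
  obtain ⟨θ, hθ⟩ := exists_cplEquiv_localization R S Λ (Λ ⊗[R] S) p (M.under S) M
    (fun e => hstar_tensor R S p e)
  let θS : AdicCompletion (maximalIdeal (Localization.AtPrime (M.under S)))
      (Localization.AtPrime (M.under S)) ≃ₐ[S] Localization.AtPrime M :=
    AlgEquiv.ofRingEquiv (f := θ) (fun b => by
      rw [hθ b, ← IsScalarTower.algebraMap_apply S (Λ ⊗[R] S) (Localization.AtPrime M)])
  haveI := hreg (M.under S)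
  have h1 : IsRegularRing (k' ⊗[S] (Localization.AtPrime M)) :=
    IsRegularRing.of_ringEquiv
      (Algebra.TensorProduct.congr (AlgEquiv.refl (R := S) (A₁ := k')) θS).toRingEquiv
  refine isRegularLocalRing_atPrime_tensor_of_isLocalization M.primeCompl
    (Localization.AtPrime M) h1 𝔓 (fun a ha h => ha (h𝔭M ?_))
  exact h

end R1

/-- the zero ring is regular -/
theorem isRegularRing_of_subsingleton (A : Type u) [CommRing A] [Subsingleton A] :
    IsRegularRing A := by
  haveI : IsNoetherianRing A := inferInstance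
  rw [isRegularRing_iff]
  intro p hp
  exact absurd (Subsingleton.elim p ⊤) hp.ne_top

/-- `k' ⊗_S C` is trivial if some `s ∈ S` dies in `k'` and becomes a unit in `C` -/
theorem subsingleton_tensor_of_isUnit {S k' C : Type u} [CommRing S] [CommRing k'] [CommRing C]
    [Algebra S k'] [Algebra S C] (s : S) (h0 : algebraMap S k' s = 0)
    (hu : IsUnit (algebraMap S C s)) : Subsingleton (k' ⊗[S] C) := by
  obtain ⟨u, hu⟩ := hu
  have h1 : (1 : k' ⊗[S] C) = 0 := by
    have : (1 : k' ⊗[S] C) = (1 : k') ⊗ₜ[S] (s • (↑u⁻¹ : C)) := by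
      rw [Algebra.smul_def, ← hu, Units.mul_inv]
      rfl
    rw [this, ← TensorProduct.smul_tmul, Algebra.smul_def, h0, zero_mul, TensorProduct.zero_tmul]
  exact subsingleton_of_zero_eq_one h1.symm

section Main

variable (S : Type u) [CommRing S] (n : Ideal S) [n.IsPrime] (k' : Type u) [Field k']
  [Algebra S k']

set_option synthInstance.maxHeartbeats 200000 in
set_option maxHeartbeats 1000000 in
/-- if `k'` is the residue field of a prime of `S_n`, then `k' ⊗_S (S_n)^` is a formal fibre -/
theorem isRegularRing_tensor_cpl_of_formalFibre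
    (hker : RingHom.ker (algebraMap S k') ≤ n)
    (hgen : ∀ x : k', ∃ a b : S, algebraMap S k' b ≠ 0 ∧ x * algebraMap S k' b = algebraMap S k' a)
    (H : ∀ (P : Ideal (Localization.AtPrime n)) [P.IsPrime],
      IsRegularRing (EGA4.formalFibre (Localization.AtPrime n) P)) :
    IsRegularRing (k' ⊗[S]
      (AdicCompletion (maximalIdeal (Localization.AtPrime n)) (Localization.AtPrime n))) := by
  have hg : ∀ y : n.primeCompl, IsUnit (algebraMap S k' y) := by
    intro y
    refine IsUnit.mk0 _ (fun h => y.2 (hker ?_))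
    exact h
  letI : Algebra (Localization.AtPrime n) k' :=
    (IsLocalization.lift (M := n.primeCompl) (g := algebraMap S k') hg).toAlgebra
  haveI : IsScalarTower S (Localization.AtPrime n) k' :=
    IsScalarTower.of_algebraMap_eq (fun x => (IsLocalization.lift_eq hg x).symm)
  let P : Ideal (Localization.AtPrime n) := RingHom.ker (algebraMap (Localization.AtPrime n) k')
  haveI : P.IsPrime := RingHom.ker_isPrime _
  have hf₂ : P.primeCompl ≤ (IsUnit.submonoid k').comap (algebraMap (Localization.AtPrime n) k') := by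
    intro x hx
    exact IsUnit.mk0 _ (fun h => hx h)
  letI : Algebra P.ResidueField k' :=
    (Ideal.ResidueField.lift P (algebraMap (Localization.AtPrime n) k') le_rfl hf₂).toAlgebra
  haveI : IsScalarTower (Localization.AtPrime n) P.ResidueField k' :=
    IsScalarTower.of_algebraMap_eq (fun x =>
      (Ideal.ResidueField.lift_algebraMap P (algebraMap (Localization.AtPrime n) k') le_rfl hf₂ x).symm)
  have hbij : Function.Bijective (algebraMap P.ResidueField k') := by
    refine ⟨(algebraMap P.ResidueField k').injective, fun x => ?_⟩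
    obtain ⟨a, b, hb, hab⟩ := hgen x
    have e1 : ∀ s : S, algebraMap P.ResidueField k' (algebraMap (Localization.AtPrime n) P.ResidueField
        (algebraMap S (Localization.AtPrime n) s)) = algebraMap S k' s := by
      intro s
      rw [← IsScalarTower.algebraMap_apply (Localization.AtPrime n) P.ResidueField k',
        ← IsScalarTower.algebraMap_apply S (Localization.AtPrime n) k']
    refine ⟨algebraMap (Localization.AtPrime n) P.ResidueField (algebraMap S (Localization.AtPrime n) a) /
      algebraMap (Localization.AtPrime n) P.ResidueField (algebraMap S (Localization.AtPrime n) b), ?_⟩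
    rw [map_div₀, e1, e1, ← hab, mul_div_cancel_right₀ _ hb]
  haveI hreg := H P
  let σ : P.ResidueField ≃ₐ[P.ResidueField] k' :=
    AlgEquiv.ofBijective (Algebra.ofId P.ResidueField k') hbij
  let e₂ : k' ⊗[P.ResidueField] (P.Fiber (AdicCompletion (maximalIdeal (Localization.AtPrime n))
      (Localization.AtPrime n))) ≃ₐ[P.ResidueField] (P.Fiber (AdicCompletion
      (maximalIdeal (Localization.AtPrime n)) (Localization.AtPrime n))) :=
    (Algebra.TensorProduct.congr σ.symm AlgEquiv.refl).trans (Algebra.TensorProduct.lid _ _)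
  haveI h2 : IsRegularRing (k' ⊗[P.ResidueField] (P.Fiber (AdicCompletion
      (maximalIdeal (Localization.AtPrime n)) (Localization.AtPrime n)))) :=
    IsRegularRing.of_ringEquiv (R := P.Fiber (AdicCompletion
      (maximalIdeal (Localization.AtPrime n)) (Localization.AtPrime n))) e₂.symm.toRingEquiv
  exact IsRegularRing.of_ringEquiv (R := k' ⊗[P.ResidueField] (P.Fiber (AdicCompletion
      (maximalIdeal (Localization.AtPrime n)) (Localization.AtPrime n))))
    (fibreEquiv S n P (AdicCompletion (maximalIdeal (Localization.AtPrime n))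
      (Localization.AtPrime n)) k')

end Main

end Groth.Agent.H8.FFF
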