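import Mathlib
import Groth.Agent.S9408
import Groth.Agent.Lib.Helper73.RegularLocalization

set_option autoImplicit false
set_option linter.style.haveILetI false
universe u
open TensorProduct

namespace Groth.Agent.H8.GenFibreEtale

/-- `K ⊗_A B` is étale over `K = Frac A` for `B` a domain finite over the char-0 domain `A ⊆ B`. -/
theorem etale_fraction_tensor (A B : Type u) [CommRing A] [IsDomain A] [CharZero A]
    [CommRing B] [IsDomain B] [Algebra A B] [Module.Finite A B]
    (hinj : Function.Injective (algebraMap A B)) :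
    Algebra.Etale (FractionRing A) (FractionRing A ⊗[A] B) := by
  have hloc : IsLocalization (Algebra.algebraMapSubmonoid B (nonZeroDivisors A))
      (B ⊗[A] FractionRing A) := inferInstance
  have hle : Algebra.algebraMapSubmonoid B (nonZeroDivisors A) ≤ nonZeroDivisors B := by
    rintro _ ⟨a, ha, rfl⟩
    apply mem_nonZeroDivisors_of_ne_zero
    intro h0
    have : a = 0 := hinj (by rw [h0, map_zero])
    exact nonZeroDivisors.ne_zero ha this
  haveI hdom1 : IsDomain (B ⊗[A] FractionRing A) :=
    IsLocalization.isDomain_of_le_nonZeroDivisors (M := Algebra.algebraMapSubmonoid B (nonZeroDivisors A)) _ hle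
  haveI hdom : IsDomain (FractionRing A ⊗[A] B) :=
    (Algebra.TensorProduct.comm A (FractionRing A) B).toMulEquiv.isDomain
  have hF : IsField (FractionRing A ⊗[A] B) :=
    isField_of_isIntegral_of_isField' (R := FractionRing A) (Field.toIsField _)
  letI : Field (FractionRing A ⊗[A] B) := hF.toField
  haveI : CharZero (FractionRing A) := inferInstance
  haveI : Algebra.IsSeparable (FractionRing A) (FractionRing A ⊗[A] B) := inferInstance
  haveI : Algebra.FormallyEtale (FractionRing A) (FractionRing A ⊗[A] B) :=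
    Algebra.FormallyEtale.of_isSeparable _ _
  haveI : Algebra.FinitePresentation (FractionRing A) (FractionRing A ⊗[A] B) :=
    Algebra.FinitePresentation.of_finiteType.mp inferInstance
  exact ⟨inferInstance, inferInstance⟩

/-- `(Λ ⊗_A B) ⊗_A K` is regular for `Λ` a regular `A`-algebra. -/
theorem isRegularRing_tensor_fraction (A B Λ : Type u) [CommRing A] [IsDomain A] [CharZero A]
    [CommRing B] [IsDomain B] [Algebra A B] [Module.Finite A B]
    (hinj : Function.Injective (algebraMap A B)) [CommRing Λ] [Algebra A Λ] [IsRegularRing Λ] :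
    IsRegularRing ((Λ ⊗[A] B) ⊗[A] FractionRing A) := by
  haveI h1 : IsRegularRing (Λ ⊗[A] FractionRing A) :=
    Groth.Agent.Lib.Helper73.RegularRing.isRegularRing_of_isLocalization
      (Algebra.algebraMapSubmonoid Λ (nonZeroDivisors A)) _
  haveI h2 : IsRegularRing (FractionRing A ⊗[A] Λ) :=
    IsRegularRing.of_ringEquiv (Algebra.TensorProduct.comm A Λ (FractionRing A)).toRingEquiv
  haveI := etale_fraction_tensor A B hinj
  haveI : Algebra.Etale (FractionRing A ⊗[A] Λ)
      ((FractionRing A ⊗[A] Λ) ⊗[FractionRing A] (FractionRing A ⊗[A] B)) := inferInstance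
  have h3 : IsRegularRing ((FractionRing A ⊗[A] Λ) ⊗[FractionRing A] (FractionRing A ⊗[A] B)) :=
    Groth.Agent.S9408.isRegularRing_of_smooth (FractionRing A ⊗[A] Λ) _
  let e1 : (FractionRing A ⊗[A] Λ) ⊗[FractionRing A] (FractionRing A ⊗[A] B) ≃ₐ[FractionRing A]
      (FractionRing A ⊗[A] Λ) ⊗[A] B :=
    Algebra.TensorProduct.cancelBaseChange A (FractionRing A) (FractionRing A) _ B
  let e2 : (FractionRing A ⊗[A] Λ) ⊗[A] B ≃ₐ[A] FractionRing A ⊗[A] (Λ ⊗[A] B) :=
    Algebra.TensorProduct.assoc A A A (FractionRing A) Λ B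
  let e3 : FractionRing A ⊗[A] (Λ ⊗[A] B) ≃ₐ[A] (Λ ⊗[A] B) ⊗[A] FractionRing A :=
    Algebra.TensorProduct.comm A _ _
  exact @IsRegularRing.of_ringEquiv _ _ _ _
    ((e1.toRingEquiv.trans e2.toRingEquiv).trans e3.toRingEquiv) h3

/-- Primes of `Λ ⊗_A B` lying over `0 ⊆ A` have regular local rings. -/
theorem isRegularLocalRing_atPrime_tensor (A B Λ : Type u) [CommRing A] [IsDomain A] [CharZero A]
    [CommRing B] [IsDomain B] [Algebra A B] [Module.Finite A B]
    (hinj : Function.Injective (algebraMap A B)) [CommRing Λ] [Algebra A Λ] [IsRegularRing Λ]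
    (P : Ideal (Λ ⊗[A] B)) [P.IsPrime]
    (hP : P.comap (algebraMap A (Λ ⊗[A] B)) = ⊥) :
    IsRegularLocalRing (Localization.AtPrime P) := by
  haveI hreg := isRegularRing_tensor_fraction A B Λ hinj
  have hle : Algebra.algebraMapSubmonoid (Λ ⊗[A] B) (nonZeroDivisors A) ≤ P.primeCompl := by
    rintro _ ⟨a, ha, rfl⟩ hmem
    have : a ∈ P.comap (algebraMap A (Λ ⊗[A] B)) := hmem
    rw [hP, Ideal.mem_bot] at this
    exact nonZeroDivisors.ne_zero ha this
  have hunits : ∀ y : Algebra.algebraMapSubmonoid (Λ ⊗[A] B) (nonZeroDivisors A),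
      IsUnit (algebraMap (Λ ⊗[A] B) (Localization.AtPrime P) y) := fun y =>
    IsLocalization.map_units (Localization.AtPrime P) (⟨y.1, hle y.2⟩ : P.primeCompl)
  letI : Algebra ((Λ ⊗[A] B) ⊗[A] FractionRing A) (Localization.AtPrime P) :=
    (IsLocalization.lift (M := Algebra.algebraMapSubmonoid (Λ ⊗[A] B) (nonZeroDivisors A))
      (S := (Λ ⊗[A] B) ⊗[A] FractionRing A) hunits).toAlgebra
  haveI : IsScalarTower (Λ ⊗[A] B) ((Λ ⊗[A] B) ⊗[A] FractionRing A) (Localization.AtPrime P) :=
    IsScalarTower.of_algebraMap_eq' (R := Λ ⊗[A] B) (S := (Λ ⊗[A] B) ⊗[A] FractionRing A)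
      (A := Localization.AtPrime P) (IsLocalization.lift_comp hunits).symm
  haveI := IsLocalization.isLocalization_of_submonoid_le ((Λ ⊗[A] B) ⊗[A] FractionRing A)
    (Localization.AtPrime P) (Algebra.algebraMapSubmonoid (Λ ⊗[A] B) (nonZeroDivisors A))
    P.primeCompl hle
  haveI : IsRegularRing (Localization.AtPrime P) :=
    Groth.Agent.Lib.Helper73.RegularRing.isRegularRing_of_isLocalization
      (P.primeCompl.map (algebraMap (Λ ⊗[A] B) ((Λ ⊗[A] B) ⊗[A] FractionRing A))) _
  exact IsRegularLocalRing.of_isRegularRing_of_isLocalRing _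

end Groth.Agent.H8.GenFibreEtale
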