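import Mathlib
import Groth.Agent.H8.FinCompl
import Groth.Agent.H8.GenFibreEtale
import Groth.Agent.S1597
import Groth.Agent.Lib.Helper73.RegularCompletion
import Groth.Agent.Lib.Helper85.RegularLocal

/-!
# Regularity of the generic formal fibre of a finite domain over a regular local ring, char. 0
(helper8)
-/

set_option autoImplicit false
set_option linter.style.haveILetI false
universe u
open IsLocalRing TensorProduct

namespace Groth.Agent.H8.FinComplReg

open Groth.Agent.H8.FinCompl Groth.Agent.H8.GenFibreEtale

set_option synthInstance.maxHeartbeats 200000 in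
set_option maxHeartbeats 1000000 in
/-- `A` regular local of characteristic zero, `B ⊇ A` a finite domain, `n` a prime of `B`,
`q` a prime of the completion of `B_n` over `0`: then `(B_n)^_q` is regular. -/
theorem isRegularLocalRing_localization_completion
    (A B : Type u) [CommRing A] [IsRegularLocalRing A] [CharZero A] [CommRing B] [IsDomain B]
    [Algebra A B] [Module.Finite A B] (hinj : Function.Injective (algebraMap A B))
    (n : Ideal B) [n.IsPrime]
    (q : Ideal (AdicCompletion (maximalIdeal (Localization.AtPrime n)) (Localization.AtPrime n)))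
    [q.IsPrime]
    (hq : q.comap (algebraMap (Localization.AtPrime n)
      (AdicCompletion (maximalIdeal (Localization.AtPrime n)) (Localization.AtPrime n))) = ⊥) :
    IsRegularLocalRing (Localization.AtPrime q) := by
  haveI : IsDomain A := Groth.Agent.Lib.Helper85.isDomain_of_isRegularLocalRing A
  haveI : IsRegularRing A := Groth.Agent.S1597.Aux.isRegularRing_of_isRegularLocalRing A
  haveI hlo : n.LiesOver (n.comap (algebraMap A B)) := ⟨rfl⟩
  obtain ⟨θ, hθ⟩ := exists_cplEquiv_tensor A B (n.comap (algebraMap A B)) n
  haveI : IsRegularRing (Localization.AtPrime (n.comap (algebraMap A B))) :=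
    Groth.Agent.Lib.Helper73.RegularRing.isRegularRing_of_isLocalization
      (n.comap (algebraMap A B)).primeCompl _
  haveI : IsRegularRing (AdicCompletion (maximalIdeal (Localization.AtPrime
      (n.comap (algebraMap A B)))) (Localization.AtPrime (n.comap (algebraMap A B)))) :=
    Groth.Agent.Lib.Helper73.RegularRing.isRegularRing_adicCompletion _ _
  apply isRegularLocalRing_of_ringEquiv_localization (maxOver A B (n.comap (algebraMap A B)) n) θ q
  intro P hP hPeq
  apply isRegularLocalRing_atPrime_tensor A B _ hinj P
  rw [eq_bot_iff]
  intro a ha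
  rw [Ideal.mem_bot]
  rw [hPeq, Ideal.mem_comap, Ideal.mem_comap, Ideal.mem_comap] at ha
  have h1 : algebraMap A ((AdicCompletion (maximalIdeal (Localization.AtPrime
      (n.comap (algebraMap A B)))) (Localization.AtPrime (n.comap (algebraMap A B)))) ⊗[A] B) a =
      (1 : AdicCompletion (maximalIdeal (Localization.AtPrime
      (n.comap (algebraMap A B)))) (Localization.AtPrime (n.comap (algebraMap A B)))) ⊗ₜ[A]
        algebraMap A B a := by
    rw [Algebra.TensorProduct.algebraMap_apply, Algebra.algebraMap_eq_smul_one,
      TensorProduct.smul_tmul, ← Algebra.algebraMap_eq_smul_one]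
  rw [h1, ← hθ, RingEquiv.symm_apply_apply,
    IsScalarTower.algebraMap_apply B (Localization.AtPrime n)
      (AdicCompletion (maximalIdeal (Localization.AtPrime n)) (Localization.AtPrime n)),
    ← Ideal.mem_comap, hq, Ideal.mem_bot] at ha
  have h2 : Function.Injective (algebraMap B (Localization.AtPrime n)) :=
    IsLocalization.injective _ n.primeCompl_le_nonZeroDivisors
  have h3 : algebraMap A B a = 0 := h2 (by rw [ha, map_zero])
  exact hinj (by rw [h3, map_zero])

end Groth.Agent.H8.FinComplReg
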