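import Mathlib
import Groth.Agent.S4583
import Groth.Agent.Lib.Helper47.RegularLocal3
import Groth.Agent.Lib.Helper90.GeomRegBridge
import Groth.Agent.Lib.Helper29.FibreDescent
import Groth.Prelude.Def_EGA4b
import Groth.Agent.H8.FormalFibreFin2
import Groth.Agent.Lib.Helper73.GeomFibreComp
import Groth.Agent.Lib.Helper44.AdicQuot
import Groth.Agent.Lib.Helper88.ComplQuot

/-!
# Complete Noetherian local rings are G-rings (helper8, from helper81's S4583)
-/

set_option autoImplicit false
set_option linter.style.haveILetI false
set_option linter.unusedSectionVars false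
universe u
open IsLocalRing TensorProduct

namespace Groth.Agent.H8.CompleteGRing

open Groth.Agent.Lib.Helper47.RegularLocal

variable (A : Type u) [CommRing A] [IsDomain A] [IsLocalRing A] [IsNoetherianRing A]
  [IsAdicComplete (maximalIdeal A) A] (n : Ideal A) [n.IsPrime]

set_option synthInstance.maxHeartbeats 200000 in
set_option maxHeartbeats 1000000 in
/-- formal smoothness of `Frac(A_n) → (Â_n)_q` for `q` over `0` -/
theorem fs_bot (q : Ideal (AdicCompletion (maximalIdeal (Localization.AtPrime n))
      (Localization.AtPrime n))) [q.IsPrime]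
    [hq : q.LiesOver (⊥ : Ideal (Localization.AtPrime n))] :
    FS (⊥ : Ideal (Localization.AtPrime n)) q := by
  unfold FS
  letI alg := Localization.AtPrime.algebraOfLiesOver (⊥ : Ideal (Localization.AtPrime n)) q
  -- `Loc ⊥` is a fraction field of `A_n`
  haveI : IsFractionRing (Localization.AtPrime n)
      (Localization.AtPrime (⊥ : Ideal (Localization.AtPrime n))) := by
    have e : nonZeroDivisors (Localization.AtPrime n) =
        (⊥ : Ideal (Localization.AtPrime n)).primeCompl := Ideal.primeCompl_bot.symm
    change IsLocalization (nonZeroDivisors (Localization.AtPrime n)) _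
    rw [e]
    infer_instance
  let σ : FractionRing A ≃ₐ[Localization.AtPrime n]
      Localization.AtPrime (⊥ : Ideal (Localization.AtPrime n)) :=
    IsLocalization.algEquiv (nonZeroDivisors (Localization.AtPrime n)) _ _
  letI : Algebra (FractionRing A) (Localization.AtPrime q) :=
    ((algebraMap (Localization.AtPrime (⊥ : Ideal (Localization.AtPrime n)))
      (Localization.AtPrime q)).comp σ.toRingEquiv.toRingHom).toAlgebra
  haveI : IsScalarTower A (FractionRing A) (Localization.AtPrime q) := by
    refine IsScalarTower.of_algebraMap_eq (fun a => ?_)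
    change _ = algebraMap (Localization.AtPrime (⊥ : Ideal (Localization.AtPrime n)))
      (Localization.AtPrime q) (σ (algebraMap A (FractionRing A) a))
    rw [IsScalarTower.algebraMap_apply A (Localization.AtPrime n) (FractionRing A), σ.commutes,
      ← IsScalarTower.algebraMap_apply (Localization.AtPrime n)
        (Localization.AtPrime (⊥ : Ideal (Localization.AtPrime n))) (Localization.AtPrime q),
      ← IsScalarTower.algebraMap_apply A (Localization.AtPrime n) (Localization.AtPrime q)]
  have h1 := Groth.Agent.S4583.result (A := A) n q hq.over.symm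
  exact (isAdicFormallySmooth_ringEquiv_iff σ.toRingEquiv (RingEquiv.refl _) (fun x => rfl)
    (maximalIdeal (Localization.AtPrime q)) (maximalIdeal (Localization.AtPrime q))
    (by simp)).mp h1

set_option synthInstance.maxHeartbeats 200000 in
set_option maxHeartbeats 1000000 in
/-- **Step A**: the generic formal fibre of a localization of a complete local domain is
geometrically regular (from helper81's S4583). -/
theorem isGeometricallyRegular_formalFibre_bot (P : Ideal (Localization.AtPrime n)) [P.IsPrime]
    (hP : P = ⊥) :
    CAlg.IsGeometricallyRegular P.ResidueField (EGA4.formalFibre (Localization.AtPrime n) P) := by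
  subst hP
  haveI : IsNoetherianRing (Localization.AtPrime n) :=
    IsLocalization.isNoetherianRing n.primeCompl _ inferInstance
  haveI := Groth.Agent.Lib.Helper29.isNoetherianRing_cpl (Localization.AtPrime n)
  haveI : IsNoetherianRing ((⊥ : Ideal (Localization.AtPrime n)).Fiber (AdicCompletion
      (maximalIdeal (Localization.AtPrime n)) (Localization.AtPrime n))) :=
    Groth.Agent.Lib.Helper29.isNoetherianRing_fiber (Localization.AtPrime n) _ ⊥
  rw [Groth.Agent.Lib.Helper90.GeomRegBridge.isGeometricallyRegular_iff]
  intro 𝔔 _
  have hfl : FL (⊥ : Ideal (Localization.AtPrime n))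
      (𝔔.comap (Algebra.TensorProduct.includeRight : _ →ₐ[Localization.AtPrime n]
        (⊥ : Ideal (Localization.AtPrime n)).Fiber (AdicCompletion
      (maximalIdeal (Localization.AtPrime n)) (Localization.AtPrime n)))) := fl_of_flat _ _
  exact (fs_iff_of_fl _ 𝔔 hfl).mp (fs_bot A n _)

end Groth.Agent.H8.CompleteGRing

namespace Groth.Agent.H8.CompleteGRing

open Groth.Agent.H8.FFF

set_option synthInstance.maxHeartbeats 200000 in
set_option maxHeartbeats 2000000 in
/-- **Step B**: the formal fibres of the localizations of a complete Noetherian local ring are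
geometrically regular. -/
theorem isGeometricallyRegular_formalFibre (R : Type u) [CommRing R] [IsLocalRing R]
    [IsNoetherianRing R] [IsAdicComplete (maximalIdeal R) R] (p : Ideal R) [p.IsPrime]
    (Q : Ideal (Localization.AtPrime p)) [Q.IsPrime] :
    CAlg.IsGeometricallyRegular Q.ResidueField (EGA4.formalFibre (Localization.AtPrime p) Q) := by
  haveI : IsNoetherianRing (Localization.AtPrime p) :=
    IsLocalization.isNoetherianRing p.primeCompl _ inferInstance
  haveI := Groth.Agent.Lib.Helper29.isNoetherianRing_cpl (Localization.AtPrime p)
  haveI hNfib : IsNoetherianRing (Q.Fiber (AdicCompletion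
      (maximalIdeal (Localization.AtPrime p)) (Localization.AtPrime p))) :=
    Groth.Agent.Lib.Helper29.isNoetherianRing_fiber (Localization.AtPrime p) _ Q
  intro k' _ _ hfin
  -- algebra structures on `k'`
  letI : Algebra (Localization.AtPrime p) k' :=
    ((algebraMap Q.ResidueField k').comp (algebraMap (Localization.AtPrime p) Q.ResidueField)).toAlgebra
  haveI : IsScalarTower (Localization.AtPrime p) Q.ResidueField k' :=
    IsScalarTower.of_algebraMap_eq (fun _ => rfl)
  letI : Algebra R k' :=
    ((algebraMap (Localization.AtPrime p) k').comp (algebraMap R (Localization.AtPrime p))).toAlgebra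
  haveI : IsScalarTower R (Localization.AtPrime p) k' :=
    IsScalarTower.of_algebraMap_eq (fun _ => rfl)
  -- reduce to `k' ⊗_R Λ`
  haveI hN1 : IsNoetherianRing (k' ⊗[Q.ResidueField] (Q.Fiber (AdicCompletion
      (maximalIdeal (Localization.AtPrime p)) (Localization.AtPrime p)))) :=
    Groth.Agent.Lib.Helper73.isNoetherianRing_tensor_of_finite _ k' _
  have hN2 : IsNoetherianRing (k' ⊗[R] (AdicCompletion
      (maximalIdeal (Localization.AtPrime p)) (Localization.AtPrime p))) :=
    isNoetherianRing_of_ringEquiv (k' ⊗[Q.ResidueField] (Q.Fiber (AdicCompletion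
      (maximalIdeal (Localization.AtPrime p)) (Localization.AtPrime p)))) (fibreEquiv R p Q
      (AdicCompletion (maximalIdeal (Localization.AtPrime p)) (Localization.AtPrime p)) k')
  suffices h : IsRegularRing (k' ⊗[R] (AdicCompletion
      (maximalIdeal (Localization.AtPrime p)) (Localization.AtPrime p))) from
    IsRegularRing.of_ringEquiv (R := k' ⊗[R] (AdicCompletion
      (maximalIdeal (Localization.AtPrime p)) (Localization.AtPrime p)))
      (fibreEquiv R p Q (AdicCompletion
      (maximalIdeal (Localization.AtPrime p)) (Localization.AtPrime p)) k').symm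
  -- kernel of `R → k'`
  have hkerR : ∀ a : R, algebraMap R k' a = 0 ↔ a ∈ Q.under R := by
    intro a
    change algebraMap Q.ResidueField k' (algebraMap (Localization.AtPrime p) Q.ResidueField
      (algebraMap R (Localization.AtPrime p) a)) = 0 ↔ _
    rw [map_eq_zero, Ideal.algebraMap_residueField_eq_zero]
    rfl
  -- the quotient domain
  haveI : IsLocalRing (R ⧸ Q.under R) :=
    IsLocalRing.of_surjective' (Ideal.Quotient.mk (Q.under R)) Ideal.Quotient.mk_surjective
  haveI : IsAdicComplete (maximalIdeal (R ⧸ Q.under R)) (R ⧸ Q.under R) := by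
    have hmax : (maximalIdeal R).map (algebraMap R (R ⧸ Q.under R)) =
        maximalIdeal (R ⧸ Q.under R) :=
      Groth.Agent.Lib.Helper88.ComplQuot.map_maximalIdeal_of_surjective
        (Ideal.Quotient.mk (Q.under R)) Ideal.Quotient.mk_surjective
    exact hmax ▸ Groth.Agent.Lib.Helper44.isAdicComplete_quotient_ring (maximalIdeal R) (Q.under R)
  letI : Algebra (R ⧸ Q.under R) k' :=
    (Ideal.Quotient.lift (Q.under R) (algebraMap R k') (fun a ha => (hkerR a).mpr ha)).toAlgebra
  haveI : IsScalarTower R (R ⧸ Q.under R) k' := IsScalarTower.of_algebraMap_eq (fun _ => rfl)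
  have hinjA : Function.Injective (algebraMap (R ⧸ Q.under R) k') := by
    rw [injective_iff_map_eq_zero]
    intro a ha
    obtain ⟨a, rfl⟩ := Ideal.Quotient.mk_surjective a
    exact Ideal.Quotient.eq_zero_iff_mem.mpr ((hkerR a).mp ha)
  refine isRegularRing_tensor_of_forall_cpl R (R ⧸ Q.under R) p k' hN2 (fun n _ _ => ?_)
  -- structures over `A_n`
  have hg : ∀ y : n.primeCompl, IsUnit (algebraMap (R ⧸ Q.under R) k' y) := by
    intro y
    refine IsUnit.mk0 _ (fun h => y.2 ?_)
    have := hinjA (h.trans (map_zero _).symm)
    rw [this]
    exact n.zero_mem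
  letI : Algebra (Localization.AtPrime n) k' :=
    (IsLocalization.lift (M := n.primeCompl) (g := algebraMap (R ⧸ Q.under R) k') hg).toAlgebra
  haveI : IsScalarTower (R ⧸ Q.under R) (Localization.AtPrime n) k' :=
    IsScalarTower.of_algebraMap_eq (fun x => (IsLocalization.lift_eq hg x).symm)
  have hinjAn : Function.Injective (algebraMap (Localization.AtPrime n) k') := by
    change Function.Injective (IsLocalization.lift (M := n.primeCompl)
      (g := algebraMap (R ⧸ Q.under R) k') hg)
    rw [IsLocalization.lift_injective_iff]
    intro x y
    rw [(IsLocalization.injective (Localization.AtPrime n)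
      n.primeCompl_le_nonZeroDivisors).eq_iff, hinjA.eq_iff]
  let P : Ideal (Localization.AtPrime n) := RingHom.ker (algebraMap (Localization.AtPrime n) k')
  haveI : P.IsPrime := RingHom.ker_isPrime _
  have hP : P = ⊥ := (RingHom.injective_iff_ker_eq_bot _).mp hinjAn
  have hf₂ : P.primeCompl ≤ (IsUnit.submonoid k').comap (algebraMap (Localization.AtPrime n) k') := by
    intro x hx
    exact IsUnit.mk0 _ (fun h => hx h)
  letI : Algebra P.ResidueField k' :=
    (Ideal.ResidueField.lift P (algebraMap (Localization.AtPrime n) k') le_rfl hf₂).toAlgebra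
  haveI : IsScalarTower (Localization.AtPrime n) P.ResidueField k' :=
    IsScalarTower.of_algebraMap_eq (fun x =>
      (Ideal.ResidueField.lift_algebraMap P (algebraMap (Localization.AtPrime n) k') le_rfl hf₂ x).symm)
  -- compatibility with `R_p`
  letI := Localization.AtPrime.algebraOfLiesOver p n
  haveI : IsScalarTower (Localization.AtPrime p) (Localization.AtPrime n) k' := by
    refine IsScalarTower.of_algebraMap_eq' ?_
    refine IsLocalization.ringHom_ext p.primeCompl ?_
    ext a
    change algebraMap (Localization.AtPrime p) k' (algebraMap R (Localization.AtPrime p) a) =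
      algebraMap (Localization.AtPrime n) k' (algebraMap (Localization.AtPrime p)
        (Localization.AtPrime n) (algebraMap R (Localization.AtPrime p) a))
    rw [← IsScalarTower.algebraMap_apply R (Localization.AtPrime p) k',
      ← IsScalarTower.algebraMap_apply R (Localization.AtPrime p) (Localization.AtPrime n),
      IsScalarTower.algebraMap_apply R (R ⧸ Q.under R) (Localization.AtPrime n),
      ← IsScalarTower.algebraMap_apply (R ⧸ Q.under R) (Localization.AtPrime n) k',
      ← IsScalarTower.algebraMap_apply R (R ⧸ Q.under R) k']
  haveI : P.LiesOver Q := by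
    constructor
    ext x
    rw [Ideal.under_def, Ideal.mem_comap, RingHom.mem_ker,
      ← IsScalarTower.algebraMap_apply (Localization.AtPrime p) (Localization.AtPrime n) k',
      IsScalarTower.algebraMap_apply (Localization.AtPrime p) Q.ResidueField k', map_eq_zero,
      Ideal.algebraMap_residueField_eq_zero]
  letI := Localization.AtPrime.algebraOfLiesOver Q P
  haveI : IsScalarTower Q.ResidueField P.ResidueField k' := by
    refine IsScalarTower.of_algebraMap_eq' ?_
    refine Ideal.ResidueField.ringHom_ext ?_
    ext x
    change algebraMap Q.ResidueField k' (algebraMap (Localization.AtPrime p) Q.ResidueField x) =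
      algebraMap P.ResidueField k' (algebraMap Q.ResidueField P.ResidueField
        (algebraMap (Localization.AtPrime p) Q.ResidueField x))
    rw [← IsScalarTower.algebraMap_apply (Localization.AtPrime p) Q.ResidueField k',
      ← IsScalarTower.algebraMap_apply (Localization.AtPrime p) Q.ResidueField P.ResidueField,
      IsScalarTower.algebraMap_apply (Localization.AtPrime p) (Localization.AtPrime n) P.ResidueField,
      ← IsScalarTower.algebraMap_apply (Localization.AtPrime n) P.ResidueField k',
      ← IsScalarTower.algebraMap_apply (Localization.AtPrime p) (Localization.AtPrime n) k']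
  haveI : Module.Finite P.ResidueField k' :=
    Module.Finite.of_restrictScalars_finite Q.ResidueField P.ResidueField k'
  have HG := isGeometricallyRegular_formalFibre_bot (R ⧸ Q.under R) n P hP
  haveI := HG k' inferInstance
  exact IsRegularRing.of_ringEquiv (R := k' ⊗[P.ResidueField] (P.Fiber (AdicCompletion
      (maximalIdeal (Localization.AtPrime n)) (Localization.AtPrime n))))
    (fibreEquiv (R ⧸ Q.under R) n P (AdicCompletion (maximalIdeal (Localization.AtPrime n))
      (Localization.AtPrime n)) k')

/-- **complete Noetherian local rings are G-rings** -/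
theorem isGRing (R : Type u) [CommRing R] [IsLocalRing R]
    [IsNoetherianRing R] [IsAdicComplete (maximalIdeal R) R] : CAlg.IsGRing R := by
  refine ⟨inferInstance, fun p _ => ?_⟩
  haveI : IsNoetherianRing (Localization.AtPrime p) :=
    IsLocalization.isNoetherianRing p.primeCompl _ inferInstance
  haveI := Groth.Agent.Lib.Helper29.isNoetherianRing_cpl (Localization.AtPrime p)
  refine ⟨inferInstance, fun Q _ => ⟨?_, isGeometricallyRegular_formalFibre R p Q⟩⟩
  exact Groth.Agent.Lib.Helper29.isNoetherianRing_fiber (Localization.AtPrime p) _ Q

end Groth.Agent.H8.CompleteGRing
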