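import Mathlib
import Groth.Agent.H8.CompleteGRing
import Groth.Agent.H8.FinReg
import Groth.Agent.H8.GRingLocal
import Groth.Agent.Lib.Helper29.CplFlat
import Groth.Agent.S4704

/-!
# G-rings can be tested at maximal ideals (helper8)

* `isGRing_of_isRegularHom_cpl`: a Noetherian local ring whose completion map is regular is a
  G-ring (uses that complete Noetherian local rings are G-rings).
* `isGRing_of_forall_isMaximal`: a Noetherian ring is a G-ring as soon as the completion maps of
  its localizations at maximal ideals are regular.
-/

set_option autoImplicit false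
set_option linter.style.haveILetI false
set_option linter.unusedSectionVars false
universe u
open IsLocalRing

namespace Groth.Agent.H8.GRingMax

set_option synthInstance.maxHeartbeats 200000 in
set_option maxHeartbeats 1000000 in
/-- a Noetherian local ring with regular completion map is a G-ring -/
theorem isGRing_of_isRegularHom_cpl (A : Type u) [CommRing A] [IsLocalRing A] [IsNoetherianRing A]
    (h : CAlg.IsRegularHom A (AdicCompletion (maximalIdeal A) A)) : CAlg.IsGRing A := by
  refine ⟨inferInstance, fun P hP => ?_⟩
  haveI := Groth.Agent.Lib.Helper29.isNoetherianRing_cpl A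
  haveI := Groth.Agent.Lib.Helper29.isLocalRing_cpl A
  haveI := Groth.Agent.Lib.Helper29.isAdicComplete_cpl A
  haveI hff : Module.FaithfullyFlat A (AdicCompletion (maximalIdeal A) A) :=
    Groth.Agent.Lib.Helper29.faithfullyFlat_cpl A
  obtain ⟨⟨q, hq⟩, hqP⟩ := PrimeSpectrum.comap_surjective_of_faithfullyFlat
    (A := A) (B := AdicCompletion (maximalIdeal A) A) ⟨P, hP⟩
  haveI : q.IsPrime := hq
  have hqP' : q.comap (algebraMap A (AdicCompletion (maximalIdeal A) A)) = P :=
    congrArg PrimeSpectrum.asIdeal hqP
  haveI : q.LiesOver P := ⟨hqP'.symm⟩
  letI := Localization.AtPrime.algebraOfLiesOver P q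
  haveI : IsLocalHom (algebraMap (Localization.AtPrime P) (Localization.AtPrime q)) :=
    Localization.isLocalHom_localRingHom _ _ _ Ideal.LiesOver.over
  haveI : IsNoetherianRing (Localization.AtPrime q) :=
    IsLocalization.isNoetherianRing q.primeCompl _ inferInstance
  haveI : IsNoetherianRing (Localization.AtPrime P) :=
    IsLocalization.isNoetherianRing P.primeCompl _ inferInstance
  have h1 := Groth.Agent.H8.FinReg.isRegularHom_localization h P q
  have h2 := (Groth.Agent.H8.CompleteGRing.isGRing (AdicCompletion (maximalIdeal A) A)).2 q
  exact Groth.Agent.S4704.result (Localization.AtPrime P) (Localization.AtPrime q) h1 h2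

set_option synthInstance.maxHeartbeats 200000 in
set_option maxHeartbeats 1000000 in
/-- a Noetherian ring is a G-ring if the completion maps at maximal ideals are regular -/
theorem isGRing_of_forall_isMaximal {R : Type u} [CommRing R] [IsNoetherianRing R]
    (h : ∀ (m : Ideal R) [m.IsMaximal],
      CAlg.IsRegularHom (Localization.AtPrime m)
        (AdicCompletion (maximalIdeal (Localization.AtPrime m)) (Localization.AtPrime m))) :
    CAlg.IsGRing R := by
  refine ⟨inferInstance, fun p hp => ?_⟩
  obtain ⟨m, hm, hpm⟩ := Ideal.exists_le_maximal p hp.ne_top
  haveI := hm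
  haveI : IsNoetherianRing (Localization.AtPrime m) :=
    IsLocalization.isNoetherianRing m.primeCompl _ inferInstance
  have hG := isGRing_of_isRegularHom_cpl (Localization.AtPrime m) (h m)
  have hdisj : Disjoint (m.primeCompl : Set R) (p : Set R) := by
    rw [Set.disjoint_left]
    intro x hx hxp
    exact hx (hpm hxp)
  haveI hq : (p.map (algebraMap R (Localization.AtPrime m))).IsPrime :=
    IsLocalization.isPrime_of_isPrime_disjoint m.primeCompl _ _ hp hdisj
  have hqc : (p.map (algebraMap R (Localization.AtPrime m))).comap
      (algebraMap R (Localization.AtPrime m)) = p :=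
    IsLocalization.under_map_of_isPrime_disjoint m.primeCompl _ hp hdisj
  have h1 := hG.2 (p.map (algebraMap R (Localization.AtPrime m)))
  have key : ∀ (J : Ideal R) [J.IsPrime], J = p →
      (Localization.AtPrime J ≃+* Localization.AtPrime
        (p.map (algebraMap R (Localization.AtPrime m)))) →
      CAlg.IsRegularHom (Localization.AtPrime p)
        (AdicCompletion (maximalIdeal (Localization.AtPrime p)) (Localization.AtPrime p)) := by
    intro J _ hJ e
    subst hJ
    haveI : IsNoetherianRing (Localization.AtPrime J) :=
      IsLocalization.isNoetherianRing J.primeCompl _ inferInstance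
    haveI : IsNoetherianRing (Localization.AtPrime
        (J.map (algebraMap R (Localization.AtPrime m)))) :=
      IsLocalization.isNoetherianRing (J.map (algebraMap R (Localization.AtPrime m))).primeCompl _
        inferInstance
    exact Groth.Agent.H8.GRing.isRegularHom_cpl_of_ringEquiv e h1
  exact key _ hqc (IsLocalization.localizationLocalizationAtPrimeIsoLocalization
    m.primeCompl (p.map (algebraMap R (Localization.AtPrime m)))).toRingEquiv

end Groth.Agent.H8.GRingMax
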