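import Mathlib
import Groth.Agent.Lib.Helper47.RegularQuotient

/-!
# The diagonal trick for polynomial rings (helper8)

Let `Λ` be a ring, `C` a `Λ[X]`-algebra, `k'` a field which is a `Λ[X]`-algebra, and `∂` a
derivation of `C` killing `Λ` with `∂ t = 1`, `t` the image of `X`. If `k' ⊗[Λ] C` is regular, so is
`k' ⊗[Λ[X]] C = (k' ⊗[Λ] C) / (τ ⊗ 1 - 1 ⊗ t)`.
-/

set_option autoImplicit false
set_option linter.style.haveILetI false
set_option linter.unusedSectionVars false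
universe u
open TensorProduct Polynomial

namespace Groth.Agent.H8.PolyDiag

section

variable (Λ C k' : Type u) [CommRing Λ] [CommRing C] [Field k']
  [Algebra Λ C] [Algebra Λ[X] C] [IsScalarTower Λ Λ[X] C]
  [Algebra Λ k'] [Algebra Λ[X] k'] [IsScalarTower Λ Λ[X] k']

variable {C} in
/-- a `ℤ`-derivation killing `Λ` as a `Λ`-linear map -/
def derivΛ (d : Derivation ℤ C C) (h0 : ∀ a : Λ, d (algebraMap Λ C a) = 0) : C →ₗ[Λ] C where
  toFun := d
  map_add' := map_add d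
  map_smul' a c := by
    rw [Algebra.smul_def, d.leibniz, h0, smul_zero, add_zero, RingHom.id_apply, smul_eq_mul,
      Algebra.smul_def]

variable {C} in
/-- the derivation `id ⊗ ∂` of `k' ⊗[Λ] C` -/
noncomputable def DF (d : Derivation ℤ C C) (h0 : ∀ a : Λ, d (algebraMap Λ C a) = 0) :
    k' ⊗[Λ] C →ₗ[Λ] k' ⊗[Λ] C :=
  (derivΛ Λ d h0).lTensor k'

variable {C} in
theorem DF_tmul (d : Derivation ℤ C C) (h0 : ∀ a : Λ, d (algebraMap Λ C a) = 0) (x : k') (c : C) :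
    DF Λ k' d h0 (x ⊗ₜ c) = x ⊗ₜ d c := rfl

variable {C} in
theorem DF_mul (d : Derivation ℤ C C) (h0 : ∀ a : Λ, d (algebraMap Λ C a) = 0)
    (a b : k' ⊗[Λ] C) :
    DF Λ k' d h0 (a * b) = a * DF Λ k' d h0 b + b * DF Λ k' d h0 a := by
  induction a using TensorProduct.induction_on with
  | zero => simp
  | tmul x c =>
    induction b using TensorProduct.induction_on with
    | zero => simp
    | tmul y e =>
      rw [Algebra.TensorProduct.tmul_mul_tmul, DF_tmul, DF_tmul, DF_tmul,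
        Algebra.TensorProduct.tmul_mul_tmul, Algebra.TensorProduct.tmul_mul_tmul, d.leibniz,
        smul_eq_mul, smul_eq_mul, TensorProduct.tmul_add, mul_comm y x]
    | add b₁ b₂ h₁ h₂ =>
      rw [mul_add, map_add, h₁, h₂, map_add, mul_add, add_mul]
      abel
  | add a₁ a₂ h₁ h₂ =>
    rw [add_mul, map_add, h₁, h₂, map_add, mul_add, add_mul]
    abel

/-- the diagonal element `τ ⊗ 1 - 1 ⊗ t` -/
noncomputable def zdiag : k' ⊗[Λ] C :=
  (algebraMap Λ[X] k' X) ⊗ₜ[Λ] (1 : C) - (1 : k') ⊗ₜ[Λ] (algebraMap Λ[X] C X)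

theorem map_zdiag :
    Algebra.TensorProduct.mapOfCompatibleSMul Λ[X] Λ Λ k' C (zdiag Λ C k') = 0 := by
  rw [zdiag, map_sub, Algebra.TensorProduct.mapOfCompatibleSMul_tmul,
    Algebra.TensorProduct.mapOfCompatibleSMul_tmul, sub_eq_zero]
  rw [Algebra.algebraMap_eq_smul_one, Algebra.algebraMap_eq_smul_one, TensorProduct.smul_tmul]

/-- `(k' ⊗[Λ] C) / (τ ⊗ 1 - 1 ⊗ t) ≃ k' ⊗[Λ[X]] C` -/
theorem nonempty_quotient_equiv :
    Nonempty ((k' ⊗[Λ] C) ⧸ Ideal.span {zdiag Λ C k'} ≃+* k' ⊗[Λ[X]] C) := by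
  -- forward map
  let fwd : (k' ⊗[Λ] C) ⧸ Ideal.span {zdiag Λ C k'} →+* k' ⊗[Λ[X]] C :=
    Ideal.Quotient.lift _ (Algebra.TensorProduct.mapOfCompatibleSMul Λ[X] Λ Λ k' C).toRingHom (by
      intro a ha
      obtain ⟨b, rfl⟩ := Ideal.mem_span_singleton'.mp ha
      change Algebra.TensorProduct.mapOfCompatibleSMul Λ[X] Λ Λ k' C (b * zdiag Λ C k') = 0
      rw [map_mul, map_zdiag, mul_zero])
  have hfwd : ∀ x c, fwd (Ideal.Quotient.mk _ (x ⊗ₜ c)) = x ⊗ₜ c := fun x c => rfl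
  -- the `Λ[X]`-algebra structure on the quotient
  let mkQ : k' ⊗[Λ] C →+* (k' ⊗[Λ] C) ⧸ Ideal.span {zdiag Λ C k'} := Ideal.Quotient.mk _
  let φ₁ : Λ[X] →+* (k' ⊗[Λ] C) ⧸ Ideal.span {zdiag Λ C k'} :=
    (mkQ.comp (Algebra.TensorProduct.includeLeftRingHom)).comp (algebraMap Λ[X] k')
  let φ₂ : Λ[X] →+* (k' ⊗[Λ] C) ⧸ Ideal.span {zdiag Λ C k'} :=
    (mkQ.comp (Algebra.TensorProduct.includeRight (R := Λ) (A := k') (B := C)).toRingHom).comp
      (algebraMap Λ[X] C)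
  have hφ : φ₁ = φ₂ := by
    refine Polynomial.ringHom_ext (fun a => ?_) ?_
    · change mkQ ((algebraMap Λ[X] k' (Polynomial.C a)) ⊗ₜ 1) =
        mkQ (1 ⊗ₜ (algebraMap Λ[X] C (Polynomial.C a)))
      congr 1
      rw [Polynomial.C_eq_algebraMap, ← IsScalarTower.algebraMap_apply,
        ← IsScalarTower.algebraMap_apply, Algebra.algebraMap_eq_smul_one,
        Algebra.algebraMap_eq_smul_one (A := C), TensorProduct.smul_tmul]
    · change mkQ ((algebraMap Λ[X] k' X) ⊗ₜ 1) = mkQ (1 ⊗ₜ (algebraMap Λ[X] C X))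
      rw [← sub_eq_zero, ← map_sub]
      exact Ideal.Quotient.eq_zero_iff_mem.mpr (Ideal.subset_span rfl)
  let f : k' →ₐ[Λ[X]] (k' ⊗[Λ] C) ⧸ Ideal.span {zdiag Λ C k'} :=
    (Ideal.Quotient.mkₐ Λ[X] (Ideal.span {zdiag Λ C k'})).comp
      (Algebra.TensorProduct.includeLeft : k' →ₐ[Λ[X]] k' ⊗[Λ] C)
  let g : C →ₐ[Λ[X]] (k' ⊗[Λ] C) ⧸ Ideal.span {zdiag Λ C k'} :=
    { mkQ.comp (Algebra.TensorProduct.includeRight (R := Λ) (A := k') (B := C)).toRingHom with
      commutes' := fun b => (congrArg (fun φ => φ b) hφ).symm }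
  let bwd : k' ⊗[Λ[X]] C →ₐ[Λ[X]] (k' ⊗[Λ] C) ⧸ Ideal.span {zdiag Λ C k'} :=
    Algebra.TensorProduct.lift f g (fun _ _ => Commute.all _ _)
  have hbwd : ∀ x c, bwd (x ⊗ₜ c) = mkQ (x ⊗ₜ c) := by
    intro x c
    rw [Algebra.TensorProduct.lift_tmul]
    change mkQ (x ⊗ₜ 1) * mkQ (1 ⊗ₜ c) = _
    rw [← map_mul, Algebra.TensorProduct.tmul_mul_tmul, mul_one, one_mul]
  refine ⟨RingEquiv.ofRingHom fwd bwd.toRingHom ?_ ?_⟩
  · apply RingHom.ext
    intro w
    induction w using TensorProduct.induction_on with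
    | zero => simp
    | tmul x c =>
      change fwd (bwd (x ⊗ₜ c)) = x ⊗ₜ c
      rw [hbwd]
      exact hfwd x c
    | add a b ha hb => rw [map_add, ha, hb, map_add]
  · apply Ideal.Quotient.ringHom_ext
    apply RingHom.ext
    intro w
    induction w using TensorProduct.induction_on with
    | zero => simp
    | tmul x c =>
      change bwd (fwd (mkQ (x ⊗ₜ c))) = mkQ (x ⊗ₜ c)
      rw [hfwd, hbwd]
    | add a b ha hb => rw [map_add, ha, hb, map_add]

/-- **The diagonal trick.** -/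
theorem isRegularRing_tensor_polynomial (d : Derivation ℤ C C)
    (h0 : ∀ a : Λ, d (algebraMap Λ C a) = 0) (h1 : d (algebraMap Λ[X] C X) = 1)
    [IsRegularRing (k' ⊗[Λ] C)] : IsRegularRing (k' ⊗[Λ[X]] C) := by
  obtain ⟨e⟩ := nonempty_quotient_equiv Λ C k'
  have hz : DF Λ k' d h0 (zdiag Λ C k') = -1 := by
    rw [zdiag, map_sub, DF_tmul, DF_tmul, h1, Derivation.map_one_eq_zero, TensorProduct.tmul_zero,
      zero_sub]
    rfl
  haveI : IsRegularRing ((k' ⊗[Λ] C) ⧸ Ideal.span {zdiag Λ C k'}) :=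
    Groth.Agent.Lib.Helper47.isRegularRing_quotient_span_singleton_of_leibniz (zdiag Λ C k')
      (DF Λ k' d h0) (fun a b => map_add _ a b)
      (fun a b => DF_mul Λ k' d h0 a b) (by
        rw [hz, map_neg, map_one]
        exact isUnit_one.neg)
  exact IsRegularRing.of_ringEquiv (R := (k' ⊗[Λ] C) ⧸ Ideal.span {zdiag Λ C k'}) e

end

end Groth.Agent.H8.PolyDiag
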