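import Mathlib
import Groth.Agent.H8.PolyDiag
import Groth.Agent.H8.FormalFibreFin
import Groth.Agent.Lib.Helper29.FibreDescent
import Groth.Agent.Lib.Helper29.CplFlat
import Groth.Agent.Lib.Helper47.DerivationExtend
import Groth.Agent.Lib.Helper47.AdicSmoothCompletion
import Groth.Agent.Lib.Helper47.AdicSmoothPowerSeries
import Groth.Agent.S9293

/-!
# Polynomial rings over complete local rings: regularity of the completion maps (helper8)

* `isRegularHom_polynomial_of_derivation`: `Λ → C` regular, `C` a flat Noetherian `Λ[X]`-algebra with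
  a derivation `∂` killing `Λ` with `∂ X = 1`; then `Λ[X] → C` is regular (diagonal trick).
* `isRegularHom_of_localization_source`: a regular map `A → C` which factors through `A_n` gives a
  regular map `A_n → C`.
-/

set_option autoImplicit false
set_option linter.style.haveILetI false
set_option linter.unusedSectionVars false
universe u
open TensorProduct Polynomial IsLocalRing

namespace Groth.Agent.H8.PolyGRing

section Generic

variable (B : Type u) [CommRing B] (r : Ideal B) [r.IsPrime] (W : Type u) [CommRing W]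
  [Algebra B W] (k' : Type u) [Field k'] [Algebra r.ResidueField k'] [Algebra B k']
  [IsScalarTower B r.ResidueField k']

theorem isRegularRing_tensor_of_fiber (h : IsRegularRing (k' ⊗[r.ResidueField] (r.Fiber W))) :
    IsRegularRing (k' ⊗[B] W) :=
  IsRegularRing.of_ringEquiv (R := k' ⊗[r.ResidueField] (r.Fiber W))
    (Algebra.TensorProduct.cancelBaseChange B r.ResidueField k' k' W).toRingEquiv

theorem isRegularRing_fiber_of_tensor (h : IsRegularRing (k' ⊗[B] W)) :
    IsRegularRing (k' ⊗[r.ResidueField] (r.Fiber W)) :=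
  IsRegularRing.of_ringEquiv (R := k' ⊗[B] W)
    (Algebra.TensorProduct.cancelBaseChange B r.ResidueField k' k' W).toRingEquiv.symm

end Generic

section PD

variable (Λ C : Type u) [CommRing Λ] [CommRing C]
  [Algebra Λ C] [Algebra Λ[X] C] [IsScalarTower Λ Λ[X] C]

set_option synthInstance.maxHeartbeats 200000 in
set_option maxHeartbeats 1000000 in
/-- the diagonal trick: regularity of `Λ → C` passes to `Λ[X] → C` in the presence of a
derivation `∂` of `C` over `Λ` with `∂ X = 1`. -/
theorem isRegularHom_polynomial_of_derivation [IsNoetherianRing C] [Module.Flat Λ[X] C]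
    (h : CAlg.IsRegularHom Λ C) (d : Derivation ℤ C C)
    (h0 : ∀ a : Λ, d (algebraMap Λ C a) = 0) (h1 : d (algebraMap Λ[X] C X) = 1) :
    CAlg.IsRegularHom Λ[X] C := by
  refine ⟨inferInstance, fun r _ => ⟨Groth.Agent.Lib.Helper29.isNoetherianRing_fiber Λ[X] C r, ?_⟩⟩
  intro k' _ _ hfin
  letI : Algebra Λ[X] k' :=
    ((algebraMap r.ResidueField k').comp (algebraMap Λ[X] r.ResidueField)).toAlgebra
  haveI : IsScalarTower Λ[X] r.ResidueField k' := IsScalarTower.of_algebraMap_eq (fun _ => rfl)
  letI : Algebra Λ k' := ((algebraMap Λ[X] k').comp (algebraMap Λ Λ[X])).toAlgebra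
  haveI : IsScalarTower Λ Λ[X] k' := IsScalarTower.of_algebraMap_eq (fun _ => rfl)
  have hW := Groth.Agent.S9293.result Λ C Λ[X] h
  haveI h3 : IsRegularRing (k' ⊗[Λ[X]] (Λ[X] ⊗[Λ] C)) :=
    isRegularRing_tensor_of_fiber Λ[X] r (Λ[X] ⊗[Λ] C) k' ((hW.2 r).2 k' hfin)
  haveI h4 : IsRegularRing (k' ⊗[Λ] C) :=
    IsRegularRing.of_ringEquiv (R := k' ⊗[Λ[X]] (Λ[X] ⊗[Λ] C))
      (Algebra.TensorProduct.cancelBaseChange Λ Λ[X] k' k' C).toRingEquiv
  haveI h5 : IsRegularRing (k' ⊗[Λ[X]] C) :=
    Groth.Agent.H8.PolyDiag.isRegularRing_tensor_polynomial Λ C k' d h0 h1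
  exact isRegularRing_fiber_of_tensor Λ[X] r C k' h5

end PD

section LS

open Groth.Agent.H8.FFF

variable (A : Type u) [CommRing A] (n : Ideal A) [n.IsPrime]
  (C : Type u) [CommRing C] [IsNoetherianRing C] [Algebra A C]
  [Algebra (Localization.AtPrime n) C] [IsScalarTower A (Localization.AtPrime n) C]

set_option synthInstance.maxHeartbeats 200000 in
set_option maxHeartbeats 1000000 in
/-- a regular map `A → C` factoring through a localization `A_n` gives a regular map `A_n → C` -/
theorem isRegularHom_of_localization_source (h : CAlg.IsRegularHom A C) :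
    CAlg.IsRegularHom (Localization.AtPrime n) C := by
  haveI := h.1
  refine ⟨(Module.flat_iff_of_isLocalization (Localization.AtPrime n) n.primeCompl C).mpr h.1,
    fun P _ => ⟨Groth.Agent.Lib.Helper29.isNoetherianRing_fiber (Localization.AtPrime n) C P, ?_⟩⟩
  intro k' _ _ hfin
  letI : Algebra (Localization.AtPrime n) k' :=
    ((algebraMap P.ResidueField k').comp (algebraMap (Localization.AtPrime n) P.ResidueField)).toAlgebra
  haveI : IsScalarTower (Localization.AtPrime n) P.ResidueField k' :=
    IsScalarTower.of_algebraMap_eq (fun _ => rfl)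
  letI : Algebra A k' :=
    ((algebraMap (Localization.AtPrime n) k').comp (algebraMap A (Localization.AtPrime n))).toAlgebra
  haveI : IsScalarTower A (Localization.AtPrime n) k' :=
    IsScalarTower.of_algebraMap_eq (fun _ => rfl)
  suffices hreg : IsRegularRing (k' ⊗[A] C) from
    IsRegularRing.of_ringEquiv (R := k' ⊗[A] C) (fibreEquiv A n P C k').symm
  -- the prime of `A` below `P`
  let P₀ : Ideal A := P.under A
  haveI : P₀.IsPrime := Ideal.comap_isPrime _ _
  have hker : ∀ a : A, algebraMap A k' a = 0 ↔ a ∈ P₀ := by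
    intro a
    change algebraMap P.ResidueField k' (algebraMap (Localization.AtPrime n) P.ResidueField
      (algebraMap A (Localization.AtPrime n) a)) = 0 ↔ _
    rw [map_eq_zero, Ideal.algebraMap_residueField_eq_zero]
    rfl
  have hf₂ : P₀.primeCompl ≤ (IsUnit.submonoid k').comap (algebraMap A k') := by
    intro x hx
    exact IsUnit.mk0 _ (fun h => hx ((hker x).mp h))
  have hle : P₀ ≤ RingHom.ker (algebraMap A k') := fun a ha => (hker a).mpr ha
  letI : Algebra P₀.ResidueField k' :=
    (Ideal.ResidueField.lift P₀ (algebraMap A k') hle hf₂).toAlgebra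
  haveI : IsScalarTower A P₀.ResidueField k' :=
    IsScalarTower.of_algebraMap_eq (fun x =>
      (Ideal.ResidueField.lift_algebraMap P₀ (algebraMap A k') hle hf₂ x).symm)
  -- `κ(P₀) → κ(P)` and finiteness
  haveI : P.LiesOver P₀ := ⟨rfl⟩
  letI := Localization.AtPrime.algebraOfLiesOver P₀ P
  haveI : IsScalarTower P₀.ResidueField P.ResidueField k' := by
    refine IsScalarTower.of_algebraMap_eq' ?_
    refine Ideal.ResidueField.ringHom_ext ?_
    ext x
    change algebraMap P₀.ResidueField k' (algebraMap A P₀.ResidueField x) =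
      algebraMap P.ResidueField k' (algebraMap P₀.ResidueField P.ResidueField
        (algebraMap A P₀.ResidueField x))
    rw [← IsScalarTower.algebraMap_apply A P₀.ResidueField k',
      ← IsScalarTower.algebraMap_apply A P₀.ResidueField P.ResidueField,
      IsScalarTower.algebraMap_apply A (Localization.AtPrime n) P.ResidueField,
      ← IsScalarTower.algebraMap_apply (Localization.AtPrime n) P.ResidueField k',
      ← IsScalarTower.algebraMap_apply A (Localization.AtPrime n) k']
  haveI : Module.Finite P₀.ResidueField k' := Module.Finite.trans P.ResidueField k'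
  haveI hreg₀ : IsRegularRing (k' ⊗[P₀.ResidueField] (P₀.Fiber C)) := (h.2 P₀).2 k' inferInstance
  exact IsRegularRing.of_ringEquiv (R := k' ⊗[P₀.ResidueField] (P₀.Fiber C))
    (Algebra.TensorProduct.cancelBaseChange A P₀.ResidueField k' k' C).toRingEquiv

end LS

end Groth.Agent.H8.PolyGRing
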