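import Mathlib
import Groth.Agent.H8.PolyGRing
import Groth.Agent.Lib.Helper29.CMLocusOpen

/-!
# Polynomial rings over complete local rings, II (helper8)

`Λ` a complete Noetherian local ring, `q` a prime of `Λ[X]` above the maximal ideal.  Assuming the
André-type statement `AndreComplete` (adic formal smoothness between complete local rings implies
regularity), the completion map of `Λ[X]_q` is regular.
-/

set_option autoImplicit false
set_option linter.style.haveILetI false
set_option linter.unusedSectionVars false
universe u
open TensorProduct Polynomial IsLocalRing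

namespace Groth.Agent.H8.PolyGRing

/-- the André-type input (EGA 0_IV 22.5.8 for complete local rings): a local homomorphism of
complete Noetherian local rings which is formally smooth for the adic topology is regular. -/
def AndreComplete : Prop :=
  ∀ (A B : Type u) [CommRing A] [CommRing B] [IsLocalRing A] [IsLocalRing B]
    [IsNoetherianRing A] [IsNoetherianRing B] [IsAdicComplete (maximalIdeal A) A]
    [IsAdicComplete (maximalIdeal B) B] [Algebra A B] [IsLocalHom (algebraMap A B)],
    CAlgX.IsAdicFormallySmooth A B (maximalIdeal B) → CAlg.IsRegularHom A B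

section Complete

variable (Λ : Type u) [CommRing Λ] [IsLocalRing Λ] [IsNoetherianRing Λ]
  [IsAdicComplete (maximalIdeal Λ) Λ] (q : Ideal Λ[X]) [q.IsPrime]

theorem formallySmooth_polynomial (R : Type u) [CommRing R] : Algebra.FormallySmooth R R[X] :=
  Algebra.FormallySmooth.of_equiv (MvPolynomial.uniqueAlgEquiv R PUnit.{1})

set_option synthInstance.maxHeartbeats 200000 in
set_option maxHeartbeats 2000000 in
theorem isRegularHom_cpl_polynomial_of_complete (H : AndreComplete.{u})
    (hq : q.comap (algebraMap Λ Λ[X]) = maximalIdeal Λ) :
    CAlg.IsRegularHom (Localization.AtPrime q)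
      (AdicCompletion (maximalIdeal (Localization.AtPrime q)) (Localization.AtPrime q)) := by
  haveI : IsNoetherianRing (Localization.AtPrime q) :=
    IsLocalization.isNoetherianRing q.primeCompl _ inferInstance
  haveI hNC := Groth.Agent.Lib.Helper29.isNoetherianRing_cpl (Localization.AtPrime q)
  haveI hLC := Groth.Agent.Lib.Helper29.isLocalRing_cpl (Localization.AtPrime q)
  haveI hCC := Groth.Agent.Lib.Helper29.isAdicComplete_cpl (Localization.AtPrime q)
  have hmax := Groth.Agent.Lib.Helper29.maximalIdeal_adicCompletion_eq_map (Localization.AtPrime q)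
    (maximalIdeal (Localization.AtPrime q)) (Ideal.IsPrime.ne_top inferInstance)
  haveI hLH := Groth.Agent.Lib.Helper29.isLocalHom_algebraMap_adicCompletion
    (Localization.AtPrime q) (maximalIdeal (Localization.AtPrime q))
    (Ideal.IsPrime.ne_top inferInstance)
  -- towers
  haveI hT1 : IsScalarTower Λ Λ[X] (AdicCompletion (maximalIdeal (Localization.AtPrime q))
      (Localization.AtPrime q)) := by
    refine IsScalarTower.of_algebraMap_eq (fun a => ?_)
    rw [AdicCompletion.algebraMap_apply, AdicCompletion.algebraMap_apply,
      ← IsScalarTower.algebraMap_apply Λ Λ[X] (Localization.AtPrime q)]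
  -- local homomorphism
  haveI hLoc : IsLocalHom (algebraMap Λ (AdicCompletion (maximalIdeal (Localization.AtPrime q))
      (Localization.AtPrime q))) := by
    constructor
    intro a ha
    have h1 : IsUnit (algebraMap (Localization.AtPrime q) (AdicCompletion
        (maximalIdeal (Localization.AtPrime q)) (Localization.AtPrime q))
        (algebraMap Λ (Localization.AtPrime q) a)) := by
      rw [← IsScalarTower.algebraMap_apply]
      exact ha
    have h2 : IsUnit (algebraMap Λ (Localization.AtPrime q) a) := hLH.map_nonunit _ h1
    rw [IsScalarTower.algebraMap_apply Λ Λ[X] (Localization.AtPrime q)] at h2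
    have h3 : algebraMap Λ Λ[X] a ∉ q := by
      intro h
      have : algebraMap Λ[X] (Localization.AtPrime q) (algebraMap Λ Λ[X] a) ∈
          maximalIdeal (Localization.AtPrime q) :=
        (IsLocalization.AtPrime.to_map_mem_maximal_iff (Localization.AtPrime q) q _).mpr h
      exact this h2
    have h4 : a ∉ maximalIdeal Λ := by
      rw [← hq]
      exact h3
    rwa [mem_maximalIdeal, mem_nonunits_iff, not_not] at h4
  -- adic formal smoothness
  haveI : Algebra.FormallySmooth Λ Λ[X] := formallySmooth_polynomial Λ
  haveI : Algebra.FormallySmooth Λ[X] (Localization.AtPrime q) :=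
    Algebra.FormallySmooth.of_isLocalization q.primeCompl
  haveI : Algebra.FormallySmooth Λ (Localization.AtPrime q) :=
    Algebra.FormallySmooth.comp Λ Λ[X] (Localization.AtPrime q)
  have hfs : CAlgX.IsAdicFormallySmooth Λ (AdicCompletion (maximalIdeal (Localization.AtPrime q))
      (Localization.AtPrime q)) (maximalIdeal (AdicCompletion (maximalIdeal (Localization.AtPrime q))
      (Localization.AtPrime q))) := by
    rw [hmax]
    exact Groth.Agent.Lib.Helper47.isAdicFormallySmooth_completion_of _
      (Ideal.fg_of_isNoetherianRing _)
      (Groth.Agent.Lib.Helper47.isAdicFormallySmooth_of_formallySmooth _)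
  have hfs' : CAlgX.IsAdicFormallySmooth Λ[X] (AdicCompletion (maximalIdeal (Localization.AtPrime q))
      (Localization.AtPrime q)) (maximalIdeal (AdicCompletion (maximalIdeal (Localization.AtPrime q))
      (Localization.AtPrime q))) := by
    rw [hmax]
    exact Groth.Agent.Lib.Helper47.isAdicFormallySmooth_completion_of _
      (Ideal.fg_of_isNoetherianRing _)
      (Groth.Agent.Lib.Helper47.isAdicFormallySmooth_of_formallySmooth _)
  -- André
  have hreg : CAlg.IsRegularHom Λ (AdicCompletion (maximalIdeal (Localization.AtPrime q))
      (Localization.AtPrime q)) := H Λ _ hfs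
  -- the derivation
  obtain ⟨d, hd⟩ := Groth.Agent.Lib.Helper47.exists_derivation_extension Λ[X]
    (AdicCompletion (maximalIdeal (Localization.AtPrime q)) (Localization.AtPrime q)) hfs'
    ((Polynomial.derivative' (R := Λ)).restrictScalars ℤ)
  have h0 : ∀ a : Λ, d (algebraMap Λ (AdicCompletion (maximalIdeal (Localization.AtPrime q))
      (Localization.AtPrime q)) a) = 0 := by
    intro a
    rw [IsScalarTower.algebraMap_apply Λ Λ[X], hd]
    change algebraMap Λ[X] _ (Polynomial.derivative (algebraMap Λ Λ[X] a)) = 0
    rw [Polynomial.algebraMap_apply, Algebra.algebraMap_self, RingHom.id_apply,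
      Polynomial.derivative_C, map_zero]
  have h1 : d (algebraMap Λ[X] (AdicCompletion (maximalIdeal (Localization.AtPrime q))
      (Localization.AtPrime q)) X) = 1 := by
    rw [hd]
    change algebraMap Λ[X] _ (Polynomial.derivative X) = 1
    rw [Polynomial.derivative_X, map_one]
  -- flatness
  haveI : Module.Flat Λ[X] (Localization.AtPrime q) := IsLocalization.flat _ q.primeCompl
  haveI : Module.Flat Λ[X] (AdicCompletion (maximalIdeal (Localization.AtPrime q))
      (Localization.AtPrime q)) :=
    Module.Flat.trans Λ[X] (Localization.AtPrime q) _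
  have h2 := isRegularHom_polynomial_of_derivation Λ _ hreg d h0 h1
  exact isRegularHom_of_localization_source Λ[X] q _ h2

end Complete

end Groth.Agent.H8.PolyGRing
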