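import Mathlib
import Groth.Agent.H8.PolyGRing2
import Groth.Agent.H8.FinReg
import Groth.Agent.H8.GRingLocal
import Groth.Agent.H8.GRingMax

/-!
# Polynomial rings and finite type algebras over G-rings (helper8), conditional on `AndreComplete`
-/

set_option autoImplicit false
set_option linter.style.haveILetI false
set_option linter.unusedSectionVars false
universe u
open TensorProduct Polynomial IsLocalRing

namespace Groth.Agent.H8.PolyGRing

attribute [local instance] Polynomial.algebra

section Local

variable (A : Type u) [CommRing A] [IsLocalRing A] [IsNoetherianRing A]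
  (q : Ideal A[X]) [q.IsPrime]

set_option synthInstance.maxHeartbeats 400000 in
set_option maxHeartbeats 2000000 in
/-- `A` a Noetherian local ring with regular completion map, `q` a prime of `A[X]` above the maximal
ideal: the completion map of `A[X]_q` is regular. -/
theorem isRegularHom_cpl_polynomial_of_local (H : AndreComplete.{u})
    (hA : CAlg.IsRegularHom A (AdicCompletion (maximalIdeal A) A))
    (hq : q.comap (algebraMap A A[X]) = maximalIdeal A) :
    CAlg.IsRegularHom (Localization.AtPrime q)
      (AdicCompletion (maximalIdeal (Localization.AtPrime q)) (Localization.AtPrime q)) := by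
  haveI hNΛ := Groth.Agent.Lib.Helper29.isNoetherianRing_cpl A
  haveI hLΛ := Groth.Agent.Lib.Helper29.isLocalRing_cpl A
  haveI hCΛ := Groth.Agent.Lib.Helper29.isAdicComplete_cpl A
  haveI hff : Module.FaithfullyFlat A (AdicCompletion (maximalIdeal A) A) :=
    Groth.Agent.Lib.Helper29.faithfullyFlat_cpl A
  have hmax := Groth.Agent.Lib.Helper29.maximalIdeal_adicCompletion_eq_map A
    (maximalIdeal A) (Ideal.IsPrime.ne_top inferInstance)
  -- `A[X] → Λ[X]` is regular and faithfully flat
  have hreg1 : CAlg.IsRegularHom A[X] (A[X] ⊗[A] (AdicCompletion (maximalIdeal A) A)) :=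
    Groth.Agent.S9293.result A _ A[X] hA
  let e : A[X] ⊗[A] (AdicCompletion (maximalIdeal A) A) ≃ₐ[A[X]]
      (AdicCompletion (maximalIdeal A) A)[X] :=
    Algebra.IsPushout.equiv A A[X] (AdicCompletion (maximalIdeal A) A)
      (AdicCompletion (maximalIdeal A) A)[X]
  have hreg2 : CAlg.IsRegularHom A[X] (AdicCompletion (maximalIdeal A) A)[X] :=
    Groth.Agent.H8.FinReg.isRegularHom_of_algEquiv e hreg1
  haveI hff2 : Module.FaithfullyFlat A[X] (AdicCompletion (maximalIdeal A) A)[X] :=
    Module.FaithfullyFlat.of_linearEquiv A[X] (A[X] ⊗[A] (AdicCompletion (maximalIdeal A) A))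
      e.symm.toLinearEquiv
  -- a prime above `q`
  obtain ⟨⟨q', hq'⟩, hq'q⟩ := PrimeSpectrum.comap_surjective_of_faithfullyFlat
    (A := A[X]) (B := (AdicCompletion (maximalIdeal A) A)[X]) ⟨q, inferInstance⟩
  haveI : q'.IsPrime := hq'
  have hq'q' : q'.comap (algebraMap A[X] (AdicCompletion (maximalIdeal A) A)[X]) = q :=
    congrArg PrimeSpectrum.asIdeal hq'q
  haveI : q'.LiesOver q := ⟨hq'q'.symm⟩
  -- `q'` lies over the maximal ideal of `Λ`
  have hq'm : q'.comap (algebraMap (AdicCompletion (maximalIdeal A) A)
      (AdicCompletion (maximalIdeal A) A)[X]) = maximalIdeal (AdicCompletion (maximalIdeal A) A) := by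
    haveI : (q'.comap (algebraMap (AdicCompletion (maximalIdeal A) A)
      (AdicCompletion (maximalIdeal A) A)[X])).IsPrime := Ideal.comap_isPrime _ _
    refine le_antisymm (le_maximalIdeal (Ideal.IsPrime.ne_top inferInstance)) ?_
    rw [hmax, Ideal.map_le_iff_le_comap]
    intro a ha
    rw [Ideal.mem_comap, Ideal.mem_comap]
    have h1 : algebraMap A A[X] a ∈ q := by
      rw [← hq] at ha
      exact ha
    rw [← hq'q', Ideal.mem_comap] at h1
    have h2 : algebraMap A[X] (AdicCompletion (maximalIdeal A) A)[X] (algebraMap A A[X] a) =
        algebraMap (AdicCompletion (maximalIdeal A) A) (AdicCompletion (maximalIdeal A) A)[X]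
          (algebraMap A (AdicCompletion (maximalIdeal A) A) a) := by
      rw [Polynomial.algebraMap_def, Polynomial.coe_mapRingHom, Polynomial.algebraMap_apply,
        Polynomial.algebraMap_apply, Algebra.algebraMap_self, Algebra.algebraMap_self,
        RingHom.id_apply, RingHom.id_apply, Polynomial.map_C]
    rw [← h2]
    exact h1
  -- the complete case
  haveI : IsNoetherianRing (AdicCompletion (maximalIdeal A) A)[X] := inferInstance
  have h3 := isRegularHom_cpl_polynomial_of_complete (AdicCompletion (maximalIdeal A) A) q' H hq'm
  letI := Localization.AtPrime.algebraOfLiesOver q q'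
  haveI : IsLocalHom (algebraMap (Localization.AtPrime q) (Localization.AtPrime q')) :=
    Localization.isLocalHom_localRingHom _ _ _ Ideal.LiesOver.over
  haveI : IsNoetherianRing (Localization.AtPrime q') :=
    IsLocalization.isNoetherianRing q'.primeCompl _ inferInstance
  haveI : IsNoetherianRing (Localization.AtPrime q) :=
    IsLocalization.isNoetherianRing q.primeCompl _ inferInstance
  have h4 := Groth.Agent.H8.FinReg.isRegularHom_localization hreg2 q q'
  exact Groth.Agent.S4704.result (Localization.AtPrime q) (Localization.AtPrime q') h4 h3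

end Local

end Groth.Agent.H8.PolyGRing

namespace Groth.Agent.H8.PolyGRing

attribute [local instance] Polynomial.algebra

section Global

set_option synthInstance.maxHeartbeats 400000 in
set_option maxHeartbeats 2000000 in
/-- the polynomial ring over a G-ring is a G-ring (given `AndreComplete`) -/
theorem isGRing_polynomial (H : AndreComplete.{u}) (R : Type u) [CommRing R]
    (hR : CAlg.IsGRing R) : CAlg.IsGRing R[X] := by
  haveI := hR.1
  refine ⟨inferInstance, fun q hq => ?_⟩
  let p : Ideal R := q.comap (algebraMap R R[X])
  haveI hp : p.IsPrime := Ideal.comap_isPrime _ _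
  haveI : IsNoetherianRing (Localization.AtPrime p) :=
    IsLocalization.isNoetherianRing p.primeCompl _ inferInstance
  haveI hloc : IsLocalization (p.primeCompl.map (C : R →+* R[X])) (Localization.AtPrime p)[X] :=
    Polynomial.isLocalization p.primeCompl (Localization.AtPrime p)
  have hdisj : Disjoint ((p.primeCompl.map (C : R →+* R[X]) : Submonoid R[X]) : Set R[X])
      (q : Set R[X]) := by
    rw [Set.disjoint_left]
    rintro x ⟨a, ha, rfl⟩ hx
    exact ha hx
  haveI hq₁ : (q.map (algebraMap R[X] (Localization.AtPrime p)[X])).IsPrime :=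
    IsLocalization.isPrime_of_isPrime_disjoint (p.primeCompl.map (C : R →+* R[X])) _ _ hq hdisj
  have hq₁c : (q.map (algebraMap R[X] (Localization.AtPrime p)[X])).comap
      (algebraMap R[X] (Localization.AtPrime p)[X]) = q :=
    IsLocalization.under_map_of_isPrime_disjoint (p.primeCompl.map (C : R →+* R[X])) _ hq hdisj
  -- `q₁` lies over the maximal ideal of `R_p`
  have hq₁m : (q.map (algebraMap R[X] (Localization.AtPrime p)[X])).comap
      (algebraMap (Localization.AtPrime p) (Localization.AtPrime p)[X]) =
      maximalIdeal (Localization.AtPrime p) := by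
    set P := (q.map (algebraMap R[X] (Localization.AtPrime p)[X])).comap
      (algebraMap (Localization.AtPrime p) (Localization.AtPrime p)[X]) with hP
    haveI : P.IsPrime := Ideal.comap_isPrime _ _
    have h1 : P.comap (algebraMap R (Localization.AtPrime p)) = p := by
      rw [hP, Ideal.comap_comap]
      have h2 : (algebraMap (Localization.AtPrime p) (Localization.AtPrime p)[X]).comp
          (algebraMap R (Localization.AtPrime p)) =
          (algebraMap R[X] (Localization.AtPrime p)[X]).comp (algebraMap R R[X]) := by
        ext a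
        simp
      rw [h2, ← Ideal.comap_comap, hq₁c]
    rw [← IsLocalization.map_under p.primeCompl (Localization.AtPrime p) P]
    have h3 : Ideal.under R P = p := h1
    rw [h3, Localization.AtPrime.map_eq_maximalIdeal]
  have h1 := isRegularHom_cpl_polynomial_of_local (Localization.AtPrime p)
    (q.map (algebraMap R[X] (Localization.AtPrime p)[X])) H (hR.2 p) hq₁m
  have key : ∀ (J : Ideal R[X]) [J.IsPrime], J = q →
      (Localization.AtPrime J ≃+* Localization.AtPrime
        (q.map (algebraMap R[X] (Localization.AtPrime p)[X]))) →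
      CAlg.IsRegularHom (Localization.AtPrime q)
        (AdicCompletion (maximalIdeal (Localization.AtPrime q)) (Localization.AtPrime q)) := by
    intro J _ hJ e
    subst hJ
    haveI : IsNoetherianRing (Localization.AtPrime J) :=
      IsLocalization.isNoetherianRing J.primeCompl _ inferInstance
    haveI : IsNoetherianRing (Localization.AtPrime
        (J.map (algebraMap R[X] (Localization.AtPrime p)[X]))) :=
      IsLocalization.isNoetherianRing
        (J.map (algebraMap R[X] (Localization.AtPrime p)[X])).primeCompl _ inferInstance
    exact Groth.Agent.H8.GRing.isRegularHom_cpl_of_ringEquiv e h1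
  haveI hloc2 : IsLocalization.AtPrime (Localization.AtPrime
      (q.map (algebraMap R[X] (Localization.AtPrime p)[X])))
      ((q.map (algebraMap R[X] (Localization.AtPrime p)[X])).comap
        (algebraMap R[X] (Localization.AtPrime p)[X])) :=
    IsLocalization.isLocalization_isLocalization_atPrime_isLocalization
      (p.primeCompl.map (C : R →+* R[X])) _ _
  exact key _ hq₁c (IsLocalization.algEquiv ((q.map (algebraMap R[X]
    (Localization.AtPrime p)[X])).comap (algebraMap R[X] (Localization.AtPrime p)[X])).primeCompl
    (Localization.AtPrime ((q.map (algebraMap R[X]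
      (Localization.AtPrime p)[X])).comap (algebraMap R[X] (Localization.AtPrime p)[X])))
    (Localization.AtPrime (q.map (algebraMap R[X] (Localization.AtPrime p)[X])))).toRingEquiv

end Global

end Groth.Agent.H8.PolyGRing

namespace Groth.Agent.H8.PolyGRing

section FiniteType

/-- quotients of G-rings are G-rings -/
theorem isGRing_quotient (R : Type u) [CommRing R] (hR : CAlg.IsGRing R) (I : Ideal R) :
    CAlg.IsGRing (R ⧸ I) := by
  haveI := hR.1
  refine ⟨inferInstance, fun P hP => ?_⟩
  haveI : (P.comap (algebraMap R (R ⧸ I))).IsPrime := Ideal.comap_isPrime _ _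
  haveI : P.LiesOver (P.comap (algebraMap R (R ⧸ I))) := ⟨rfl⟩
  haveI : Module.Finite R (R ⧸ I) := Module.Finite.of_surjective (Algebra.linearMap R (R ⧸ I))
    Ideal.Quotient.mk_surjective
  exact Groth.Agent.H8.FinReg.isRegularHom_cpl_of_finite R (R ⧸ I)
    (P.comap (algebraMap R (R ⧸ I))) P (hR.2 _)

/-- multivariate polynomial rings over G-rings are G-rings (given `AndreComplete`) -/
theorem isGRing_mvPolynomial (H : AndreComplete.{u}) (R : Type u) [CommRing R]
    (hR : CAlg.IsGRing R) (n : ℕ) : CAlg.IsGRing (MvPolynomial (Fin n) R) := by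
  induction n with
  | zero =>
    exact Groth.Agent.H8.GRing.isGRing_of_ringEquiv
      (MvPolynomial.isEmptyAlgEquiv R (Fin 0)).symm.toRingEquiv hR
  | succ n ih =>
    exact Groth.Agent.H8.GRing.isGRing_of_ringEquiv
      (MvPolynomial.finSuccEquiv R n).symm.toRingEquiv (isGRing_polynomial H _ ih)

/-- **finite type algebras over G-rings are G-rings** (given `AndreComplete`) -/
theorem isGRing_of_finiteType (H : AndreComplete.{u}) (R : Type u) [CommRing R]
    (hR : CAlg.IsGRing R) (S : Type u) [CommRing S] [Algebra R S] [Algebra.FiniteType R S] :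
    CAlg.IsGRing S := by
  obtain ⟨n, f, hf⟩ := Algebra.FiniteType.iff_quotient_mvPolynomial''.mp
    (inferInstance : Algebra.FiniteType R S)
  have h1 := isGRing_quotient _ (isGRing_mvPolynomial H R hR n) (RingHom.ker f.toRingHom)
  exact Groth.Agent.H8.GRing.isGRing_of_ringEquiv
    (RingHom.quotientKerEquivOfSurjective (f := f.toRingHom) hf) h1

end FiniteType

end Groth.Agent.H8.PolyGRing
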