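import Mathlib
import Groth.Agent.H8.PolyGRing2
import Groth.Agent.Lib.Helper73.CplMap
import Groth.Agent.Lib.Helper47.AdicSmoothCompletion2
import Groth.Agent.S9294
import Groth.Agent.S9295

/-!
# From complete to arbitrary local rings in André's theorem (helper8)

Assuming `AndreComplete`: if `A → B` is a local homomorphism of Noetherian local rings, the completion
map of `A` is regular and `B` is formally smooth over `A` for the adic topology, then `A → B` is
regular.
-/

set_option autoImplicit false
set_option linter.style.haveILetI false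
set_option linter.unusedSectionVars false
universe u
open IsLocalRing

namespace Groth.Agent.H8.PolyGRing

open Groth.Agent.Lib.Helper73.CplMap

attribute [local instance] cplAlgebra

set_option synthInstance.maxHeartbeats 200000 in
set_option maxHeartbeats 1000000 in
theorem isRegularHom_of_isAdicFormallySmooth (H : AndreComplete.{u}) (A B : Type u)
    [CommRing A] [CommRing B] [IsLocalRing A] [IsLocalRing B] [IsNoetherianRing A]
    [IsNoetherianRing B] [Algebra A B] [IsLocalHom (algebraMap A B)]
    (hA : CAlg.IsRegularHom A (AdicCompletion (maximalIdeal A) A))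
    (h : CAlgX.IsAdicFormallySmooth A B (maximalIdeal B)) : CAlg.IsRegularHom A B := by
  haveI := Groth.Agent.Lib.Helper29.isNoetherianRing_cpl A
  haveI := Groth.Agent.Lib.Helper29.isLocalRing_cpl A
  haveI := Groth.Agent.Lib.Helper29.isAdicComplete_cpl A
  haveI := Groth.Agent.Lib.Helper29.isNoetherianRing_cpl B
  haveI := Groth.Agent.Lib.Helper29.isLocalRing_cpl B
  haveI := Groth.Agent.Lib.Helper29.isAdicComplete_cpl B
  haveI : IsLocalHom (algebraMap (EGA4.Cpl A) (EGA4.Cpl B)) := isLocalHom_cplMap A B
  have hmaxB := Groth.Agent.Lib.Helper29.maximalIdeal_adicCompletion_eq_map B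
    (maximalIdeal B) (Ideal.IsPrime.ne_top inferInstance)
  have h1 : CAlgX.IsAdicFormallySmooth (EGA4.Cpl A) (EGA4.Cpl B) (maximalIdeal (EGA4.Cpl B)) := by
    rw [hmaxB]
    exact (Groth.Agent.Lib.Helper47.isAdicFormallySmooth_iff_completion_base (maximalIdeal A)
      (maximalIdeal B) (cplMap A B) (Ideal.fg_of_isNoetherianRing _) (Ideal.fg_of_isNoetherianRing _)
      ⟨1, by rw [pow_one]; exact map_maximalIdeal_le A B⟩ (cplMap_comp A B)).mp h
  have h2 : CAlg.IsRegularHom (EGA4.Cpl A) (EGA4.Cpl B) := H _ _ h1
  have h3 : CAlg.IsRegularHom A (EGA4.Cpl B) :=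
    Groth.Agent.S9294.result A (EGA4.Cpl A) (EGA4.Cpl B) hA h2
      (fun p _ => Groth.Agent.Lib.Helper29.isNoetherianRing_fiber A (EGA4.Cpl B) p)
  haveI : Module.FaithfullyFlat B (EGA4.Cpl B) := Groth.Agent.Lib.Helper29.faithfullyFlat_cpl B
  exact Groth.Agent.S9295.result A B (EGA4.Cpl B) h3
    PrimeSpectrum.comap_surjective_of_faithfullyFlat

end Groth.Agent.H8.PolyGRing
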