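import Mathlib
import Groth.Agent.H8.AndreLocal
import Groth.Agent.Lib.Helper47.AdicSmoothPowerSeries
import Groth.Agent.S9259

/-!
# `A → A[[T_1..T_r]]` is regular for a G-ring `A` (helper8), conditional on `AndreComplete`
-/

set_option autoImplicit false
set_option linter.style.haveILetI false
set_option linter.unusedSectionVars false
universe u
open IsLocalRing

namespace Groth.Agent.H8.PolyGRing

section AdicLemmas

/-- adic formal smoothness for a larger ideal of definition -/
theorem isAdicFormallySmooth_mono {R S : Type u} [CommRing R] [CommRing S] [Algebra R S]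
    {𝔫 𝔫' : Ideal S} (hle : 𝔫 ≤ 𝔫') (h : CAlgX.IsAdicFormallySmooth R S 𝔫) :
    CAlgX.IsAdicFormallySmooth R S 𝔫' := by
  intro E _ _ J hJ ψ ⟨k, hk⟩
  exact h E J hJ ψ ⟨k, fun x hx => hk x (Ideal.pow_right_mono hle k hx)⟩

/-- adic formal smoothness passes to formally smooth (e.g. localized) extensions -/
theorem isAdicFormallySmooth_comp_formallySmooth {R S S' : Type u} [CommRing R] [CommRing S]
    [CommRing S'] [Algebra R S] [Algebra S S'] [Algebra R S'] [IsScalarTower R S S']
    [Algebra.FormallySmooth S S'] (𝔫 : Ideal S) (𝔫' : Ideal S')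
    (hle : 𝔫.map (algebraMap S S') ≤ 𝔫') (h : CAlgX.IsAdicFormallySmooth R S 𝔫) :
    CAlgX.IsAdicFormallySmooth R S' 𝔫' := by
  intro E _ _ J hJ ψ ⟨k, hk⟩
  obtain ⟨χ, hχ⟩ := h E J hJ (ψ.comp (IsScalarTower.toAlgHom R S S')) ⟨k, fun x hx => by
    rw [AlgHom.comp_apply]
    refine hk _ (Ideal.pow_right_mono hle k ?_)
    rw [← Ideal.map_pow]
    exact Ideal.mem_map_of_mem _ hx⟩
  have hχ' : ∀ s, Ideal.Quotient.mk J (χ s) = ψ (algebraMap S S' s) := fun s => by
    have := DFunLike.congr_fun hχ s
    simpa using this
  letI algSE : Algebra S E := χ.toRingHom.toAlgebra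
  haveI : IsScalarTower R S E := IsScalarTower.of_algebraMap_eq (fun r => (χ.commutes r).symm)
  let ψS : S' →ₐ[S] E ⧸ J :=
    { ψ.toRingHom with
      commutes' := fun s => (hχ' s).symm }
  let χ' : S' →ₐ[S] E := Algebra.FormallySmooth.lift J ⟨2, hJ⟩ ψS
  refine ⟨χ'.restrictScalars R, ?_⟩
  ext s
  exact Algebra.FormallySmooth.mk_lift J ⟨2, hJ⟩ ψS s

/-- adic formal smoothness over `R` gives adic formal smoothness over a localization of `R` -/
theorem isAdicFormallySmooth_localization_base {R : Type u} [CommRing R] (M : Submonoid R)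
    (R' : Type u) [CommRing R'] [Algebra R R'] [IsLocalization M R']
    {S : Type u} [CommRing S] [Algebra R S] [Algebra R' S] [IsScalarTower R R' S] (𝔫 : Ideal S)
    (h : CAlgX.IsAdicFormallySmooth R S 𝔫) : CAlgX.IsAdicFormallySmooth R' S 𝔫 := by
  intro E _ _ J hJ ψ hk
  letI : Algebra R E := ((algebraMap R' E).comp (algebraMap R R')).toAlgebra
  haveI : IsScalarTower R R' E := IsScalarTower.of_algebraMap_eq (fun _ => rfl)
  obtain ⟨χ, hχ⟩ := h E J hJ (ψ.restrictScalars R) hk
  have hcomm : χ.toRingHom.comp (algebraMap R' S) = algebraMap R' E := by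
    refine IsLocalization.ringHom_ext M ?_
    ext r
    change χ (algebraMap R' S (algebraMap R R' r)) = algebraMap R' E (algebraMap R R' r)
    rw [← IsScalarTower.algebraMap_apply R R' S, χ.commutes,
      IsScalarTower.algebraMap_apply R R' E]
  refine ⟨{ χ.toRingHom with commutes' := fun x => congrArg (fun f => f x) hcomm }, ?_⟩
  ext s
  exact DFunLike.congr_fun hχ s

end AdicLemmas

section PowerSeries

variable (A : Type u) [CommRing A] (r : ℕ)

/-- `A[[T_1..T_r]]` is formally smooth over `A` for any adic topology whose ideal contains the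
variables. -/
theorem isAdicFormallySmooth_mvPowerSeries (𝔫 : Ideal (MvPowerSeries (Fin r) A))
    (hX : ∀ i, (MvPowerSeries.X i : MvPowerSeries (Fin r) A) ∈ 𝔫) :
    CAlgX.IsAdicFormallySmooth A (MvPowerSeries (Fin r) A) 𝔫 := by
  have h2 := Groth.Agent.Lib.Helper47.isAdicFormallySmooth_of_formallySmooth (R := A)
    (MvPolynomial.idealOfVars (Fin r) A)
  have h3 := Groth.Agent.Lib.Helper47.isAdicFormallySmooth_completion_of _
    (MvPolynomial.idealOfVars_fg (Fin r) A) h2
  let e₀ := MvPowerSeries.toAdicCompletionAlgEquiv (Fin r) A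
  let e : MvPowerSeries (Fin r) A ≃ₐ[A]
      AdicCompletion (MvPolynomial.idealOfVars (Fin r) A) (MvPolynomial (Fin r) A) :=
    { e₀.toRingEquiv with
      commutes' := fun c => by
        have h4 : algebraMap A (MvPowerSeries (Fin r) A) c =
            algebraMap (MvPolynomial (Fin r) A) (MvPowerSeries (Fin r) A)
              (algebraMap A (MvPolynomial (Fin r) A) c) := by
          simp [MvPowerSeries.algebraMap_apply, MvPowerSeries.algebraMap_apply',
            MvPolynomial.algebraMap_apply]
        change e₀ (algebraMap A (MvPowerSeries (Fin r) A) c) = _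
        rw [h4, e₀.commutes]
        rfl }
  refine Groth.Agent.Lib.Helper47.isAdicFormallySmooth_of_ringEquiv e _ _ ?_ h3
  rw [Ideal.map_map, Ideal.map_le_iff_le_comap]
  intro p hp
  rw [Ideal.mem_comap, RingHom.comp_apply]
  have h5 : (e.symm : AdicCompletion (MvPolynomial.idealOfVars (Fin r) A)
        (MvPolynomial (Fin r) A) →+* MvPowerSeries (Fin r) A)
      (algebraMap (MvPolynomial (Fin r) A) _ p) = (p : MvPowerSeries (Fin r) A) := by
    have := e₀.symm.commutes p
    rw [MvPowerSeries.algebraMap_apply', Algebra.algebraMap_self, MvPowerSeries.map_id] at this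
    exact this
  rw [h5]
  -- `p` lies in the ideal of variables
  have h6 : ∀ p ∈ MvPolynomial.idealOfVars (Fin r) A, (p : MvPowerSeries (Fin r) A) ∈ 𝔫 := by
    intro p hp
    rw [MvPolynomial.idealOfVars] at hp
    refine Submodule.span_induction ?_ ?_ ?_ ?_ hp
    · rintro _ ⟨i, rfl⟩
      rw [MvPolynomial.coe_X]
      exact hX i
    · rw [MvPolynomial.coe_zero]
      exact 𝔫.zero_mem
    · intro x y _ _ hx hy
      rw [MvPolynomial.coe_add]
      exact 𝔫.add_mem hx hy
    · intro a x _ hx
      rw [smul_eq_mul, MvPolynomial.coe_mul]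
      exact 𝔫.mul_mem_left _ hx
  exact h6 p hp

end PowerSeries

end Groth.Agent.H8.PolyGRing

namespace Groth.Agent.H8.PolyGRing

section Main

set_option synthInstance.maxHeartbeats 200000 in
set_option maxHeartbeats 1000000 in
/-- for a G-ring `A` the map `A → A[[T_1..T_r]]` is regular (given `AndreComplete`) -/
theorem isRegularHom_mvPowerSeries (H : AndreComplete.{u}) (A : Type u) [CommRing A]
    (hA : CAlg.IsGRing A) (r : ℕ) : CAlg.IsRegularHom A (MvPowerSeries (Fin r) A) := by
  haveI := hA.1
  haveI : IsNoetherianRing (MvPowerSeries (Fin r) A) := inferInstance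
  refine (Groth.Agent.S9259.result A (MvPowerSeries (Fin r) A)).2.mpr ?_
  intro n hn
  letI alg := (Localization.localRingHom (Ideal.comap (algebraMap A (MvPowerSeries (Fin r) A)) n) n
    (algebraMap A (MvPowerSeries (Fin r) A)) rfl).toAlgebra
  haveI : IsLocalHom (algebraMap (Localization.AtPrime (Ideal.comap (algebraMap A
      (MvPowerSeries (Fin r) A)) n)) (Localization.AtPrime n)) :=
    Localization.isLocalHom_localRingHom _ _ _ rfl
  haveI : IsScalarTower A (Localization.AtPrime (Ideal.comap (algebraMap A
      (MvPowerSeries (Fin r) A)) n)) (Localization.AtPrime n) := by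
    refine IsScalarTower.of_algebraMap_eq (fun a => ?_)
    change _ = Localization.localRingHom _ n (algebraMap A (MvPowerSeries (Fin r) A)) rfl
      (algebraMap A _ a)
    rw [Localization.localRingHom_to_map]
    rfl
  have hX : ∀ i, (MvPowerSeries.X i : MvPowerSeries (Fin r) A) ∈ n := by
    intro i
    by_contra hi
    obtain ⟨y, z, hz, hyz⟩ := hn.exists_inv hi
    have hz' : z = 1 - y * MvPowerSeries.X i := by rw [← hyz]; ring
    have hu : IsUnit z := by
      rw [MvPowerSeries.isUnit_iff_constantCoeff, hz', map_sub, map_mul,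
        MvPowerSeries.constantCoeff_X, mul_zero, sub_zero, map_one]
      exact isUnit_one
    exact hn.ne_top (Ideal.eq_top_of_isUnit_mem n hz hu)
  haveI : IsNoetherianRing (Localization.AtPrime n) :=
    IsLocalization.isNoetherianRing n.primeCompl _ inferInstance
  haveI : IsNoetherianRing (Localization.AtPrime (Ideal.comap (algebraMap A
      (MvPowerSeries (Fin r) A)) n)) :=
    IsLocalization.isNoetherianRing (Ideal.comap (algebraMap A
      (MvPowerSeries (Fin r) A)) n).primeCompl _ inferInstance
  have h1 := isAdicFormallySmooth_mvPowerSeries A r n hX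
  haveI : Algebra.FormallySmooth (MvPowerSeries (Fin r) A) (Localization.AtPrime n) :=
    Algebra.FormallySmooth.of_isLocalization n.primeCompl
  have h2 : CAlgX.IsAdicFormallySmooth A (Localization.AtPrime n)
      (maximalIdeal (Localization.AtPrime n)) :=
    isAdicFormallySmooth_comp_formallySmooth n _
      (by rw [Localization.AtPrime.map_eq_maximalIdeal]) h1
  have h3 : CAlgX.IsAdicFormallySmooth (Localization.AtPrime (Ideal.comap (algebraMap A
      (MvPowerSeries (Fin r) A)) n)) (Localization.AtPrime n)
      (maximalIdeal (Localization.AtPrime n)) :=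
    isAdicFormallySmooth_localization_base (Ideal.comap (algebraMap A
      (MvPowerSeries (Fin r) A)) n).primeCompl _ _ h2
  exact isRegularHom_of_isAdicFormallySmooth H _ _ (hA.2 _) h3

end Main

end Groth.Agent.H8.PolyGRing
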