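import Mathlib
import Groth.Agent.H8.PolyGRing3
import Groth.Agent.H8.PowerSeriesReg
import Groth.Agent.S2039

/-!
# Discharging `AndreComplete` via helper81's S2039 (helper8)
-/

set_option autoImplicit false
universe u
open IsLocalRing

namespace Groth.Agent.H8.PolyGRing

theorem andreComplete : AndreComplete.{u} := by
  intro A B _ _ _ _ _ _ _ _ _ _ h
  exact Groth.Agent.S2039.result.mpr h

/-- finite type algebras over G-rings are G-rings -/
theorem isGRing_of_finiteType' (R : Type u) [CommRing R]
    (hR : CAlg.IsGRing R) (S : Type u) [CommRing S] [Algebra R S] [Algebra.FiniteType R S] :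
    CAlg.IsGRing S := isGRing_of_finiteType andreComplete R hR S

/-- `A → A[[T_1..T_r]]` is regular for a G-ring `A` -/
theorem isRegularHom_mvPowerSeries' (A : Type u) [CommRing A]
    (hA : CAlg.IsGRing A) (r : ℕ) : CAlg.IsRegularHom A (MvPowerSeries (Fin r) A) :=
  isRegularHom_mvPowerSeries andreComplete A hA r

end Groth.Agent.H8.PolyGRing
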