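import Groth.Agent.H8.EffCartier

/-!
# Flat base change of a blowing up is a blowing up
-/

set_option autoImplicit false
universe u

open CategoryTheory CategoryTheory.Limits AlgebraicGeometry

namespace Groth.Agent.H8.EffCartier

theorem isBlowUp_flat_baseChange {X₁ X₂ X₂' : Scheme.{u}} (g : X₁ ⟶ X₂) [Flat g]
    (𝓘 : X₂.IdealSheafData) (b : X₂' ⟶ X₂) (hb : BlowUp.IsBlowUp b 𝓘) :
    BlowUp.IsBlowUp (pullback.fst g b) (𝓘.comap g) := by
  constructor
  · rw [← Scheme.IdealSheafData.comap_comp, pullback.condition,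
      Scheme.IdealSheafData.comap_comp]
    exact isEffCartierIdeal_comap_of_flat _ _ hb.1
  · intro Y h hh
    rw [← Scheme.IdealSheafData.comap_comp] at hh
    obtain ⟨k₀, hk₀, huniq⟩ := hb.2 Y (h ≫ g) hh
    refine ⟨pullback.lift h k₀ hk₀.symm, pullback.lift_fst _ _ _, ?_⟩
    intro k' hk'
    apply pullback.hom_ext
    · rw [pullback.lift_fst, hk']
    · rw [pullback.lift_snd]
      apply huniq
      rw [Category.assoc, ← pullback.condition, ← Category.assoc, hk']

end Groth.Agent.H8.EffCartier
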