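import Groth.Agent.H8.EffCartier5
import Mathlib.AlgebraicGeometry.ResidueField

/-!
# A blowing up of an integral scheme in a nonzero ideal is integral and birational
-/

set_option autoImplicit false
universe u

open CategoryTheory AlgebraicGeometry TopologicalSpace

namespace Groth.Agent.H8.EffCartier

variable {X Y : Scheme.{u}}

/-- The complement of the support of an effective Cartier ideal is dense. -/
theorem dense_compl_support (𝓔 : X.IdealSheafData) (h : BlowUp.IsEffCartierIdeal 𝓔) :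
    Dense ((𝓔.support : Set X)ᶜ) := by
  rw [dense_iff_inter_open]
  intro W hW ⟨x, hxW⟩
  obtain ⟨U, hxU, hUW, t, ht, hU⟩ := exists_generator_le 𝓔 h x ⟨W, hW⟩ hxW
  by_cases hne : (X.basicOpen t : Set X).Nonempty
  · obtain ⟨y, hy⟩ := hne
    exact ⟨y, hUW (X.basicOpen_le t hy), notMem_support_of_mem_basicOpen 𝓔 U t hU y hy⟩
  · exfalso
    have hbot : X.basicOpen t = ⊥ := by
      ext y
      simp only [Opens.coe_bot, Set.mem_empty_iff_false, iff_false]
      exact fun hy => hne ⟨y, hy⟩
    have hsub : Subsingleton Γ(X, X.basicOpen t) := hbot ▸ inferInstance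
    have h10 : (1 : Γ(X, U.1)) = 0 :=
      eq_zero_of_res_basicOpen_eq_zero U.2 t 1 ht (Subsingleton.elim _ _)
    have := congrArg (X.presheaf.germ U.1 x hxU).hom h10
    rw [map_one, map_zero] at this
    exact one_ne_zero this

theorem isReduced_of_isBlowUp [IsReduced Y] (𝓘 : Y.IdealSheafData) (b : X ⟶ Y)
    (hb : BlowUp.IsBlowUp b 𝓘) : IsReduced X := by
  have : ∀ x' : X, _root_.IsReduced (X.presheaf.stalk x') := by
    intro x'
    obtain ⟨U, hxU, -, t, ht, hU⟩ := exists_generator_le (𝓘.comap b) hb.1 x' ⊤ trivial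
    have hred := isReduced_sections_of_isBlowUp 𝓘 b hb U t ht hU
    letI : Algebra Γ(X, U.1) (X.presheaf.stalk x') :=
      TopCat.Presheaf.algebra_section_stalk X.presheaf ⟨x', hxU⟩
    have hloc : IsLocalization.AtPrime (X.presheaf.stalk x')
        (U.2.primeIdealOf ⟨x', hxU⟩).asIdeal := U.2.isLocalization_stalk ⟨x', hxU⟩
    exact isReduced_localizationPreserves (U.2.primeIdealOf ⟨x', hxU⟩).asIdeal.primeCompl _ hred
  exact isReduced_of_isReduced_stalk X

section

variable [IsIntegral Y] (𝓘 : Y.IdealSheafData) (h𝓘 : 𝓘 ≠ ⊥) (b : X ⟶ Y)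
  (hb : BlowUp.IsBlowUp b 𝓘)

include h𝓘 in
theorem compl_support_nonempty : ((𝓘.support : Set Y)ᶜ).Nonempty := by
  rw [Set.nonempty_compl]
  intro h
  apply h𝓘
  rw [← Scheme.IdealSheafData.support_eq_top_iff]
  exact SetLike.coe_injective h

include h𝓘 hb in
theorem isIntegral_of_isBlowUp : IsIntegral X := by
  have hred : IsReduced X := isReduced_of_isBlowUp 𝓘 b hb
  have hiso : IsIso (b ∣_ 𝓘.support.compl) := Groth.Agent.H8.blowUp_isIso_off_center 𝓘 b hb
  obtain ⟨O, hO⟩ : ∃ O : Y.Opens, O = 𝓘.support.compl := ⟨_, rfl⟩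
  rw [← hO] at hiso
  have hOne : (O : Set Y).Nonempty := by
    rw [hO]
    exact compl_support_nonempty 𝓘 h𝓘
  have hOirr : IsIrreducible (O : Set Y) :=
    ⟨hOne, (PreirreducibleSpace.isPreirreducible_univ (X := Y)).open_subset O.isOpen
      (Set.subset_univ _)⟩
  -- `b ⁻¹ᵁ O` is irreducible
  let h : ↥(b ⁻¹ᵁ O) ≃ₜ ↥O := (b ∣_ O).homeomorph
  have hOirr' : IrreducibleSpace ↥O := Subtype.irreducibleSpace hOirr
  have hWirr : IrreducibleSpace ↥(b ⁻¹ᵁ O) := h.irreducibleSpace_iff.mpr hOirr'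
  have hWirr' : IsIrreducible ((b ⁻¹ᵁ O : X.Opens) : Set X) := IsIrreducible.of_subtype
  have hdense : Dense ((b ⁻¹ᵁ O : X.Opens) : Set X) := by
    have := dense_compl_support (𝓘.comap b) hb.1
    rw [Scheme.IdealSheafData.support_comap] at this
    convert this using 1
    rw [hO]
    rfl
  have hirr : IrreducibleSpace X := by
    rw [irreducibleSpace_def]
    have h2 := hWirr'.closure
    rw [hdense.closure_eq] at h2
    exact h2
  exact isIntegral_of_irreducibleSpace_of_isReduced X

end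

end Groth.Agent.H8.EffCartier
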