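import Groth.Agent.H8.BlowUpIntegral
import Mathlib.AlgebraicGeometry.FunctionField

/-!
# A blowing up of an integral scheme in a nonzero ideal is birational
-/

set_option autoImplicit false
universe u

open CategoryTheory AlgebraicGeometry TopologicalSpace

namespace Groth.Agent.H8.EffCartier

variable {X Y : Scheme.{u}}

theorem generic_of_isBlowUp [IsIntegral Y] (𝓘 : Y.IdealSheafData) (h𝓘 : 𝓘 ≠ ⊥) (b : X ⟶ Y)
    (hb : BlowUp.IsBlowUp b 𝓘) [IsIntegral X] :
    b.base (genericPoint X) = genericPoint Y ∧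
      Function.Bijective (b.residueFieldMap (genericPoint X)).hom := by
  have hiso : IsIso (b ∣_ 𝓘.support.compl) := Groth.Agent.H8.blowUp_isIso_off_center 𝓘 b hb
  obtain ⟨O, hO⟩ : ∃ O : Y.Opens, O = 𝓘.support.compl := ⟨_, rfl⟩
  rw [← hO] at hiso
  have hOne : (O : Set Y).Nonempty := by
    rw [hO]
    exact compl_support_nonempty 𝓘 h𝓘
  let h : ↥(b ⁻¹ᵁ O) ≃ₜ ↥O := (b ∣_ O).homeomorph
  have hh : ∀ v : ↥(b ⁻¹ᵁ O), ((h v : ↥O) : Y) = b (v : X) :=
    fun v => morphismRestrict_base_coe b O v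
  have hOrange : (O : Set Y) ⊆ Set.range b := by
    intro y hy
    refine ⟨(h.symm ⟨y, hy⟩ : X), ?_⟩
    rw [← hh, h.apply_symm_apply]
  have hWne : ((b ⁻¹ᵁ O : X.Opens) : Set X).Nonempty := by
    obtain ⟨y, hy⟩ := hOne
    exact ⟨(h.symm ⟨y, hy⟩ : X), (h.symm ⟨y, hy⟩).2⟩
  have hηW : genericPoint X ∈ b ⁻¹ᵁ O := by
    change genericPoint X ∈ ((b ⁻¹ᵁ O : X.Opens) : Set X)
    rw [(genericPoint_spec X).mem_open_set_iff (b ⁻¹ᵁ O).isOpen]
    obtain ⟨x, hx⟩ := hWne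
    exact ⟨x, trivial, hx⟩
  constructor
  · have h1 : IsGenericPoint (b (genericPoint X)) (closure (b '' (⊤ : Set X))) :=
      (genericPoint_spec X).image b.continuous
    have h2 : closure (b '' (⊤ : Set X)) = (⊤ : Set Y) := by
      have hd : Dense (O : Set Y) := O.isOpen.dense hOne
      have hd2 : Dense (b '' (⊤ : Set X)) := by
        apply hd.mono
        intro y hy
        obtain ⟨x, rfl⟩ := hOrange hy
        exact ⟨x, trivial, rfl⟩
      exact hd2.closure_eq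
    rw [h2] at h1
    exact h1.eq (genericPoint_spec Y)
  · let w : ↥(b ⁻¹ᵁ O) := ⟨genericPoint X, hηW⟩
    have hj : IsOpenImmersion ((b ⁻¹ᵁ O).ι ≫ b) := by
      rw [← morphismRestrict_ι]
      infer_instance
    have hcomp := Scheme.residueFieldMap_comp (b ⁻¹ᵁ O).ι b w
    have h0 : IsIso (((b ⁻¹ᵁ O).ι ≫ b).residueFieldMap w) := inferInstance
    have h1 : IsIso (b.residueFieldMap ((b ⁻¹ᵁ O).ι w) ≫ (b ⁻¹ᵁ O).ι.residueFieldMap w) := by
      rw [← hcomp]
      exact h0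
    have h2 : IsIso (b.residueFieldMap ((b ⁻¹ᵁ O).ι w)) :=
      IsIso.of_isIso_comp_right _ ((b ⁻¹ᵁ O).ι.residueFieldMap w)
    exact (ConcreteCategory.isIso_iff_bijective (b.residueFieldMap ((b ⁻¹ᵁ O).ι w))).mp h2

end Groth.Agent.H8.EffCartier
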