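import Mathlib.Algebra.Algebra.Subalgebra.Centralizer
import Mathlib.RingTheory.Flat.Basic
import Mathlib.RingTheory.Flat.FaithfullyFlat.Basic
import Mathlib.LinearAlgebra.FreeModule.Basic
import Mathlib.LinearAlgebra.Basis.VectorSpace

/-!
# Centralizer of a tensor product of subalgebras over a field (helper8)
-/

set_option autoImplicit false
universe u

namespace Groth.Agent.H8

open TensorProduct

theorem centralizer_tensor_tensor (k : Type u) [Field k] (A A' : Type u) [Ring A] [Ring A']
    [Algebra k A] [Algebra k A'] (B : Subalgebra k A) (B' : Subalgebra k A') :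
    Subalgebra.centralizer k
        ((Algebra.TensorProduct.map B.val B'.val).range : Set (TensorProduct k A A')) =
      (Algebra.TensorProduct.map (Subalgebra.centralizer k (B : Set A)).val
        (Subalgebra.centralizer k (B' : Set A')).val).range := by
  set C := Subalgebra.centralizer k (B : Set A) with hC
  set C' := Subalgebra.centralizer k (B' : Set A') with hC'
  apply le_antisymm
  · intro w hw
    rw [Subalgebra.mem_centralizer_iff] at hw
    -- w centralizes B ⊗ 1
    have h1 : w ∈ Subalgebra.centralizer k
        ((B.map (Algebra.TensorProduct.includeLeft (R := k) (S := k) (A := A) (B := A')) :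
          Subalgebra k (A ⊗[k] A')) : Set (A ⊗[k] A')) := by
      rw [Subalgebra.mem_centralizer_iff]
      rintro _ ⟨b, hb, rfl⟩
      exact hw _ ⟨(⟨b, hb⟩ : B) ⊗ₜ (1 : B'), by simp⟩
    rw [Subalgebra.centralizer_coe_map_includeLeft_eq_center_tensorProduct k A A' B] at h1
    obtain ⟨w', rfl⟩ := h1
    set φ := Algebra.TensorProduct.map C.val (AlgHom.id k A') with hφ
    have hφinj : Function.Injective φ := by
      have : (φ : C ⊗[k] A' → A ⊗[k] A') = LinearMap.rTensor A' C.val.toLinearMap := by
        ext x
        induction x using TensorProduct.induction_on with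
        | zero => simp
        | tmul c a => simp [hφ]
        | add x y hx hy => simp [map_add, hx, hy]
      rw [this]
      exact Module.Flat.rTensor_preserves_injective_linearMap _ Subtype.val_injective
    -- w' centralizes 1 ⊗ B' in C ⊗ A'
    have h2 : w' ∈ Subalgebra.centralizer k
        ((B'.map (Algebra.TensorProduct.includeRight (R := k) (A := C) (B := A')) :
          Subalgebra k (C ⊗[k] A')) : Set (C ⊗[k] A')) := by
      rw [Subalgebra.mem_centralizer_iff]
      rintro _ ⟨b', hb', rfl⟩
      apply hφinj
      rw [map_mul, map_mul]
      have := hw ((1 : A) ⊗ₜ b') ⟨(1 : B) ⊗ₜ (⟨b', hb'⟩ : B'), by simp⟩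
      simpa [hφ] using this
    rw [Subalgebra.centralizer_coe_map_includeRight_eq_center_tensorProduct k C A' B'] at h2
    obtain ⟨w'', rfl⟩ := h2
    have hcomp : ∀ z : C ⊗[k] C', (Algebra.TensorProduct.map C.val C'.val) z =
        φ ((Algebra.TensorProduct.map (AlgHom.id k C) C'.val) z) := by
      intro z
      induction z using TensorProduct.induction_on with
      | zero => simp
      | tmul c c' => simp [hφ]
      | add x y hx hy => rw [map_add, map_add, map_add, hx, hy]
    exact ⟨w'', hcomp w''⟩
  · rintro _ ⟨w, rfl⟩
    rw [Subalgebra.mem_centralizer_iff]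
    rintro _ ⟨v, rfl⟩
    change (Algebra.TensorProduct.map B.val B'.val) v * (Algebra.TensorProduct.map C.val C'.val) w =
      (Algebra.TensorProduct.map C.val C'.val) w * (Algebra.TensorProduct.map B.val B'.val) v
    induction w using TensorProduct.induction_on with
    | zero => simp
    | tmul c c' =>
      induction v using TensorProduct.induction_on with
      | zero => simp
      | tmul b b' =>
        simp only [Algebra.TensorProduct.map_tmul, Subalgebra.coe_val,
          Algebra.TensorProduct.tmul_mul_tmul]
        rw [(Subalgebra.mem_centralizer_iff k).1 c.2 b b.2,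
          (Subalgebra.mem_centralizer_iff k).1 c'.2 b' b'.2]
      | add x y hx hy => rw [map_add, add_mul, mul_add, hx, hy]
    | add x y hx hy => rw [map_add, add_mul, mul_add, hx, hy]

end Groth.Agent.H8
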