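import Mathlib
import Groth.Prelude

/-!
# Closed points of locally Noetherian schemes (helper8)

* `mem_minimalPrimes_of_forall_mem`, `eq_of_le_of_forall_mem`: a Noetherian domain in which every
  nonzero prime contains a fixed nonzero element has dimension at most one.
* `eq_of_lt_of_le`: if a point of the spectrum of a Noetherian ring is open in its closure, there are
  no strict specializations among its proper specializations.
* `primeIdealOf_le_iff`: specialization in an affine open vs. inclusion of primes.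
* `exists_isClosed_specializes` (Stacks 02IL): every point of a locally Noetherian scheme
  specializes to a closed point.
-/

set_option autoImplicit false
set_option linter.style.haveILetI false
set_option linter.unusedSectionVars false
universe u
open AlgebraicGeometry CategoryTheory

namespace Groth.Agent.H8.ClosedPt

/-- In a Noetherian domain where every nonzero prime contains a fixed nonzero element `f`, every
nonzero prime is minimal over `(f)`. -/
theorem mem_minimalPrimes_of_forall_mem {D : Type u} [CommRing D] [IsDomain D] [IsNoetherianRing D]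
    (f : D) (hf : f ≠ 0) (h : ∀ q : Ideal D, q.IsPrime → q ≠ ⊥ → f ∈ q)
    (Q : Ideal D) [hQp : Q.IsPrime] (hQ : Q ≠ ⊥) : Q ∈ (Ideal.span {f}).minimalPrimes := by
  classical
  by_contra hcon
  have hfQ : Ideal.span {f} ≤ Q := by
    rw [Ideal.span_singleton_le_iff_mem]
    exact h Q hQp hQ
  obtain ⟨P₀, hP₀, hP₀Q⟩ := Ideal.exists_minimalPrimes_le hfQ
  have hfin : (Ideal.span {f}).minimalPrimes.Finite :=
    Ideal.finite_minimalPrimes_of_isNoetherianRing D _
  have hnot : ¬ ∃ P ∈ hfin.toFinset, Q ≤ id P := by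
    rintro ⟨P, hP, hQP⟩
    rw [Set.Finite.mem_toFinset] at hP
    have : P ≤ Q := hP.2 ⟨hQp, hfQ⟩ hQP
    exact hcon (le_antisymm this hQP ▸ hP)
  rw [← Ideal.subset_union_prime (R := D) (s := hfin.toFinset) (f := id) P₀ P₀
    (fun P hP _ _ => by
      rw [Set.Finite.mem_toFinset] at hP
      exact hP.1.1)] at hnot
  rw [Set.not_subset] at hnot
  obtain ⟨g, hgQ, hg⟩ := hnot
  have hgP : ∀ P ∈ (Ideal.span {f}).minimalPrimes, g ∉ P := by
    intro P hP hgP
    apply hg
    simp only [Set.mem_iUnion]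
    exact ⟨P, by simpa using hP, hgP⟩
  have hg0 : g ≠ 0 := by
    rintro rfl
    exact hgP P₀ hP₀ (zero_mem _)
  have hgQ' : Ideal.span {g} ≤ Q := by
    rw [Ideal.span_singleton_le_iff_mem]
    exact hgQ
  obtain ⟨q', hq', hq'Q⟩ := Ideal.exists_minimalPrimes_le hgQ'
  haveI hq'p : q'.IsPrime := hq'.1.1
  have hgq' : g ∈ q' := hq'.1.2 (Ideal.mem_span_singleton_self g)
  have hq'0 : q' ≠ ⊥ := by
    rintro rfl
    exact hg0 (by simpa using hgq')
  have hfq' : Ideal.span {f} ≤ q' := by
    rw [Ideal.span_singleton_le_iff_mem]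
    exact h q' hq'p hq'0
  obtain ⟨P₁, hP₁, hP₁q'⟩ := Ideal.exists_minimalPrimes_le hfq'
  haveI hP₁p : P₁.IsPrime := hP₁.1.1
  have hfP₁ : f ∈ P₁ := hP₁.1.2 (Ideal.mem_span_singleton_self f)
  have hP₁0 : P₁ ≠ ⊥ := by
    rintro rfl
    exact hf (by simpa using hfP₁)
  have hne : P₁ ≠ q' := by
    rintro rfl
    exact hgP _ hP₁ hgq'
  have hlt : P₁ < q' := lt_of_le_of_ne hP₁q' hne
  have hht : q'.height ≤ 1 :=
    Ideal.height_le_one_of_isPrincipal_of_mem_minimalPrimes (Ideal.span {g}) q' hq'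
  have h1 : P₁.height < q'.height := Ideal.height_strict_mono_of_isPrime_of_isPrime hlt
  have h0 : P₁.height = 0 := by
    have : P₁.height < 1 := lt_of_lt_of_le h1 hht
    exact Order.lt_one_iff.mp this
  rw [Ideal.height_eq_zero_iff_eq_bot] at h0
  exact hP₁0 h0

/-- In a Noetherian domain where every nonzero prime contains a fixed nonzero element `f`, there
are no strict inclusions between nonzero primes. -/
theorem eq_of_le_of_forall_mem {D : Type u} [CommRing D] [IsDomain D] [IsNoetherianRing D]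
    (f : D) (hf : f ≠ 0) (h : ∀ q : Ideal D, q.IsPrime → q ≠ ⊥ → f ∈ q)
    (Q Q' : Ideal D) [hQp : Q.IsPrime] [hQ'p : Q'.IsPrime] (hQ : Q ≠ ⊥) (hle : Q ≤ Q') :
    Q = Q' := by
  have hQ' : Q' ≠ ⊥ := by
    rintro rfl
    exact hQ (le_bot_iff.mp hle)
  have h1 := mem_minimalPrimes_of_forall_mem f hf h Q hQ
  have h2 := mem_minimalPrimes_of_forall_mem f hf h Q' hQ'
  exact le_antisymm hle (h2.2 h1.1 hle)

/-- If a point `q₁` of the spectrum of a Noetherian ring is open in its closure, then there are no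
strict specializations among the points strictly specializing `q₁`. -/
theorem eq_of_lt_of_le {S : Type u} [CommRing S] [IsNoetherianRing S] (q₁ : PrimeSpectrum S)
    (W : Set (PrimeSpectrum S)) (hW : IsOpen W) (h1 : q₁ ∈ W) (h : ∀ q ∈ W, q₁ ≤ q → q = q₁)
    (Q Q' : PrimeSpectrum S) (hQ : q₁ < Q) (hQQ' : Q ≤ Q') : Q = Q' := by
  obtain ⟨_, ⟨f, rfl⟩, hq₁f, hfW⟩ :=
    PrimeSpectrum.isTopologicalBasis_basic_opens.exists_subset_of_mem_open h1 hW
  have hfq₁ : f ∉ q₁.asIdeal := by simpa using hq₁f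
  let mk := Ideal.Quotient.mk q₁.asIdeal
  have hsurj : Function.Surjective mk := Ideal.Quotient.mk_surjective
  have hker : RingHom.ker mk = q₁.asIdeal := Ideal.mk_ker
  have hf0 : mk f ≠ 0 := by
    intro h0
    exact hfq₁ (Ideal.Quotient.eq_zero_iff_mem.mp h0)
  have key : ∀ q : Ideal (S ⧸ q₁.asIdeal), q.IsPrime → q ≠ ⊥ → mk f ∈ q := by
    intro q hq hq0
    by_contra hfq
    let q' : PrimeSpectrum S := ⟨q.comap mk, Ideal.comap_isPrime _ _⟩
    have hq'W : q' ∈ W := hfW (by
      show q' ∈ (PrimeSpectrum.basicOpen f : Set _)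
      rw [SetLike.mem_coe, PrimeSpectrum.mem_basicOpen]
      exact hfq)
    have hle : q₁ ≤ q' := by
      show q₁.asIdeal ≤ q.comap mk
      refine hker.ge.trans ?_
      exact Ideal.comap_mono bot_le
    have heq := h q' hq'W hle
    apply hq0
    have h2 : q.comap mk = q₁.asIdeal := congrArg PrimeSpectrum.asIdeal heq
    rw [← Ideal.map_comap_of_surjective mk hsurj q, h2]
    exact Ideal.map_quotient_self _
  have hq₁Q : q₁.asIdeal ≤ Q.asIdeal := hQ.le
  have hq₁Q' : q₁.asIdeal ≤ Q'.asIdeal := hq₁Q.trans hQQ'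
  haveI hp1 : (Q.asIdeal.map mk).IsPrime :=
    Ideal.map_isPrime_of_surjective hsurj (hker.le.trans hq₁Q)
  haveI hp2 : (Q'.asIdeal.map mk).IsPrime :=
    Ideal.map_isPrime_of_surjective hsurj (hker.le.trans hq₁Q')
  have hcm : ∀ J : Ideal S, q₁.asIdeal ≤ J → (J.map mk).comap mk = J := by
    intro J hJ
    rw [Ideal.comap_map_of_surjective mk hsurj, ← RingHom.ker_eq_comap_bot]
    exact sup_eq_left.mpr (hker.le.trans hJ)
  have hne : Q.asIdeal.map mk ≠ ⊥ := by
    intro h0
    have : Q.asIdeal ≤ q₁.asIdeal := by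
      rw [← hcm _ hq₁Q, h0, ← RingHom.ker_eq_comap_bot]
      exact hker.le
    exact (not_le_of_gt hQ) this
  have := eq_of_le_of_forall_mem (mk f) hf0 key (Q.asIdeal.map mk) (Q'.asIdeal.map mk) hne
    (Ideal.map_mono hQQ')
  apply PrimeSpectrum.ext
  rw [← hcm _ hq₁Q, ← hcm _ hq₁Q', this]

/-- specialization inside an affine open corresponds to inclusion of prime ideals -/
theorem primeIdealOf_le_iff {X : Scheme.{u}} {U : X.Opens} (hU : IsAffineOpen U) (a b : U) :
    hU.primeIdealOf a ≤ hU.primeIdealOf b ↔ (a : X) ⤳ (b : X) := by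
  haveI := hU.isOpenImmersion_fromSpec
  rw [PrimeSpectrum.le_iff_specializes]
  have := (hU.fromSpec.isOpenEmbedding.isInducing).specializes_iff
    (x := hU.primeIdealOf a) (y := hU.primeIdealOf b)
  rw [hU.fromSpec_primeIdealOf, hU.fromSpec_primeIdealOf] at this
  exact this.symm

/-- **Stacks 02IL**: every point of a locally Noetherian scheme specializes to a closed point. -/
theorem exists_isClosed_specializes (X : Scheme.{u}) [IsLocallyNoetherian X] (y : X) :
    ∃ z : X, IsClosed ({z} : Set X) ∧ y ⤳ z := by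
  obtain ⟨_, ⟨U, hU, rfl⟩, hyU, -⟩ :=
    X.isBasis_affineOpens.exists_subset_of_mem_open (Set.mem_univ y) isOpen_univ
  haveI := hU.isOpenImmersion_fromSpec
  obtain ⟨M, hM, hle⟩ := Ideal.exists_le_maximal (hU.primeIdealOf ⟨y, hyU⟩).asIdeal
    (hU.primeIdealOf ⟨y, hyU⟩).2.ne_top
  let qM : PrimeSpectrum Γ(X, U) := ⟨M, hM.isPrime⟩
  let y₁ : X := hU.fromSpec qM
  have hy₁U : y₁ ∈ U := by
    have : y₁ ∈ Set.range hU.fromSpec := ⟨qM, rfl⟩
    rw [hU.range_fromSpec] at this
    exact this
  have hqM : hU.primeIdealOf ⟨y₁, hy₁U⟩ = qM := by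
    apply hU.fromSpec.isOpenEmbedding.injective
    rw [hU.fromSpec_primeIdealOf]
  have hyy₁ : y ⤳ y₁ := by
    have := (primeIdealOf_le_iff hU ⟨y, hyU⟩ ⟨y₁, hy₁U⟩).mp (by rw [hqM]; exact hle)
    exact this
  have hmax : ∀ t : X, t ∈ U → y₁ ⤳ t → t = y₁ := by
    intro t htU ht
    have h1 := (primeIdealOf_le_iff hU ⟨y₁, hy₁U⟩ ⟨t, htU⟩).mpr ht
    rw [hqM] at h1
    have h2 : M = (hU.primeIdealOf ⟨t, htU⟩).asIdeal :=
      hM.eq_of_le (hU.primeIdealOf ⟨t, htU⟩).2.ne_top h1
    have h3 : hU.primeIdealOf ⟨t, htU⟩ = qM := PrimeSpectrum.ext h2.symm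
    have h4 := hU.fromSpec_primeIdealOf ⟨t, htU⟩
    rw [h3] at h4
    exact h4.symm
  by_cases hc : IsClosed ({y₁} : Set X)
  · exact ⟨y₁, hc, hyy₁⟩
  · have hex : ∃ z : X, y₁ ⤳ z ∧ z ≠ y₁ := by
      by_contra hcon
      push Not at hcon
      apply hc
      rw [← closure_eq_iff_isClosed]
      apply Set.Subset.antisymm _ subset_closure
      intro z hz
      exact hcon z (specializes_iff_mem_closure.mpr hz)
    obtain ⟨z, hy₁z, hz⟩ := hex
    refine ⟨z, ?_, hyy₁.trans hy₁z⟩
    rw [← closure_eq_iff_isClosed]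
    apply Set.Subset.antisymm _ subset_closure
    intro w hw
    have hzw : z ⤳ w := specializes_iff_mem_closure.mpr hw
    obtain ⟨_, ⟨V, hV, rfl⟩, hwV, -⟩ :=
      X.isBasis_affineOpens.exists_subset_of_mem_open (Set.mem_univ w) isOpen_univ
    have hzV : z ∈ V := hzw.mem_open V.isOpen hwV
    have hy₁V : y₁ ∈ V := hy₁z.mem_open V.isOpen hzV
    haveI := hV.isOpenImmersion_fromSpec
    haveI : IsNoetherianRing Γ(X, V) := IsLocallyNoetherian.component_noetherian ⟨V, hV⟩
    have key := eq_of_lt_of_le (hV.primeIdealOf ⟨y₁, hy₁V⟩) (hV.fromSpec ⁻¹' (U : Set X))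
      (U.isOpen.preimage hV.fromSpec.continuous)
      (by
        show hV.fromSpec (hV.primeIdealOf ⟨y₁, hy₁V⟩) ∈ U
        rw [hV.fromSpec_primeIdealOf]
        exact hy₁U)
      (by
        intro q hqU hq
        have hqV : hV.fromSpec q ∈ V := by
          have : hV.fromSpec q ∈ Set.range hV.fromSpec := ⟨q, rfl⟩
          rw [hV.range_fromSpec] at this
          exact this
        have hq' : hV.primeIdealOf ⟨hV.fromSpec q, hqV⟩ = q := by
          apply hV.fromSpec.isOpenEmbedding.injective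
          rw [hV.fromSpec_primeIdealOf]
        rw [← hq'] at hq
        have h1 := (primeIdealOf_le_iff hV _ _).mp hq
        have h2 := hmax _ hqU h1
        rw [← hq']
        congr 1
        exact Subtype.ext h2)
      (hV.primeIdealOf ⟨z, hzV⟩) (hV.primeIdealOf ⟨w, hwV⟩)
      (by
        refine lt_of_le_of_ne ((primeIdealOf_le_iff hV _ _).mpr hy₁z) ?_
        intro heq
        have := congrArg hV.fromSpec heq
        rw [hV.fromSpec_primeIdealOf, hV.fromSpec_primeIdealOf] at this
        exact hz this.symm)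
      ((primeIdealOf_le_iff hV _ _).mpr hzw)
    have := congrArg hV.fromSpec key
    rw [hV.fromSpec_primeIdealOf, hV.fromSpec_primeIdealOf] at this
    exact this.symm

end Groth.Agent.H8.ClosedPt
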