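import Groth.Agent.H8.CycDetRank
import Mathlib.LinearAlgebra.ExteriorPower.Basis
import Mathlib.LinearAlgebra.Alternating.Basic

/-!
# `det_κ(M)` of a vector space over the residue field is the top exterior power
-/

set_option autoImplicit false
set_option linter.unusedSectionVars false
universe u v

open IsLocalRing

namespace Groth.Agent.H8.CycDetExt

open Groth.Agent.H8.CycDetRank

variable {R : Type u} [CommRing R] [IsLocalRing R] {M : Type v} [AddCommGroup M] [Module R M]
  [Module (ResidueField R) M] [IsScalarTower R (ResidueField R) M]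
variable {l : ℕ}

local notation "κ" => ResidueField R
local notation "S" => CycDet.spanBefore R M

lemma smul_eq_residue_smul (r : R) (x : M) : r • x = IsLocalRing.residue R r • x :=
  (IsScalarTower.algebraMap_smul (ResidueField R) r x).symm

lemma S_le_span (e : Fin l → M) (i : ℕ) :
    S e i ≤ (Submodule.span κ (e '' {j : Fin l | (j : ℕ) < i})).restrictScalars R :=
  Submodule.span_le_restrictScalars R κ _

/-- An alternating map vanishes on a tuple one of whose entries is in the span of earlier ones. -/
lemma alt_eq_zero {N : Type*} [AddCommGroup N] [Module κ N] (A : M [⋀^Fin l]→ₗ[κ] N)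
    (e : Fin l → M) (a : Fin l) (h : e a ∈ Submodule.span κ (e '' {j : Fin l | (j : ℕ) < a})) :
    A e = 0 := by
  apply A.map_linearDependent
  intro hli
  exact hli.notMem_span_image (s := {j : Fin l | (j : ℕ) < a}) (x := a)
    (by simp) h


variable (R M) in
/-- The linear map from the free space on admissible tuples to the exterior power. -/
noncomputable def freeMap (l : ℕ) : CycDet.Free R M l →ₗ[κ] ⋀[κ]^l M :=
  Finsupp.linearCombination κ (fun e : CycDet.Adm R M l => exteriorPower.ιMulti κ l e.1)

lemma freeMap_sym (e : CycDet.Adm R M l) :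
    freeMap R M l (CycDet.sym R M e) = exteriorPower.ιMulti κ l e.1 := by
  rw [freeMap, CycDet.sym, Finsupp.linearCombination_single, one_smul]

lemma freeMap_rel (x : CycDet.Free R M l) (hx : x ∈ CycDet.relSet R M l) :
    freeMap R M l x = 0 := by
  rcases hx with (⟨e, a, h, rfl⟩ | ⟨e, e', a, c, hne, ha, rfl⟩) | ⟨e, e', a, b, hab, hc, he', rfl⟩
  · rw [freeMap_sym]
    exact alt_eq_zero _ e.1 a (S_le_span e.1 a h)
  · rw [map_sub, map_smul, freeMap_sym, freeMap_sym, sub_eq_zero]
    obtain ⟨w, hw⟩ : ∃ w, w = e.1 a - (c : R) • e'.1 a := ⟨_, rfl⟩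
    rw [← hw] at ha
    have hupd : e.1 = Function.update e'.1 a ((c : R) • e'.1 a + w) := by
      funext j
      by_cases hj : j = a
      · subst hj; simp [hw]
      · rw [Function.update_of_ne hj, hne j hj]
    have hw0 : exteriorPower.ιMulti κ l (Function.update e'.1 a w) = 0 := by
      apply alt_eq_zero _ _ a
      rw [Function.update_self]
      have h1 := S_le_span e.1 a ha
      have h2 : (Function.update e'.1 a w) '' {j : Fin l | (j : ℕ) < a} =
          e.1 '' {j : Fin l | (j : ℕ) < a} := by
        apply Set.image_congr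
        intro j hj
        have hja : j ≠ a := fun h => by subst h; exact lt_irrefl _ (show (j : ℕ) < j from hj)
        rw [Function.update_of_ne hja, hne j hja]
      rw [h2]
      exact h1
    rw [hupd, AlternatingMap.map_update_add, smul_eq_residue_smul, AlternatingMap.map_update_smul,
      Function.update_eq_self, hw0, add_zero]
  · rw [map_add, freeMap_sym, freeMap_sym, he']
    have hne : a ≠ b := fun h => by subst h; omega
    rw [AlternatingMap.map_swap _ _ hne, add_neg_cancel]

variable (R M) in
/-- The map `det_κ(M) → ⋀^l M`. -/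
noncomputable def detMap (l : ℕ) : CycDet.DetOfLen R M l →ₗ[κ] ⋀[κ]^l M :=
  Submodule.liftQ _ (freeMap R M l) (Submodule.span_le.mpr (fun x hx => freeMap_rel x hx))

lemma detMap_cls (e : CycDet.Adm R M l) :
    detMap R M l (cls R M e) = exteriorPower.ιMulti κ l e.1 := by
  rw [detMap, cls, Submodule.liftQ_apply, freeMap_sym]

lemma isAdmissible_of_vectorSpace (e : Fin l → M) : CycDet.IsAdmissible R M e := by
  intro i r hr
  rw [smul_eq_residue_smul, (IsLocalRing.residue_eq_zero_iff r).mpr hr, zero_smul]
  exact Submodule.zero_mem _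

lemma detMap_surjective : Function.Surjective (detMap R M l) := by
  rw [← LinearMap.range_eq_top, eq_top_iff, ← exteriorPower.ιMulti_span, Submodule.span_le]
  rintro _ ⟨e, rfl⟩
  exact ⟨cls R M ⟨e, isAdmissible_of_vectorSpace e⟩, detMap_cls _⟩


lemma length_toNat_eq_finrank [Module.Finite κ M] :
    (Module.length R M).toNat = Module.finrank κ M := by
  have h1 : Module.length R M = Module.length κ M :=
    Module.length_eq_of_surjective IsLocalRing.residue_surjective
  rw [h1, Module.length_eq_finrank, ENat.toNat_natCast]

theorem exists_det_equiv [Module.Finite κ M] :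
    ∃ Φ : CycDet.Det R M ≃ₗ[κ] (⋀[κ]^((Module.length R M).toNat) M),
      ∀ e : CycDet.Adm R M (Module.length R M).toNat,
        Φ (CycDet.symbol R M e) = exteriorPower.ιMulti κ ((Module.length R M).toNat) e.1 := by
  have hfin : IsFiniteLength R M := by
    have h1 : Module.length R M = Module.length κ M :=
      Module.length_eq_of_surjective IsLocalRing.residue_surjective
    rw [← Module.length_ne_top_iff, h1, Module.length_eq_finrank]
    exact ENat.natCast_ne_top _
  have hrank : Module.finrank κ (⋀[κ]^((Module.length R M).toNat) M) = 1 := by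
    rw [exteriorPower.finrank_eq, length_toNat_eq_finrank, Nat.choose_self]
  have hnt : Nontrivial (⋀[κ]^((Module.length R M).toNat) M) :=
    Module.nontrivial_of_finrank_pos (R := κ) (by rw [hrank]; exact Nat.one_pos)
  have hsurj := detMap_surjective (R := R) (M := M) (l := (Module.length R M).toNat)
  obtain ⟨v₀, hv₀⟩ := rank_le_one_iff.mp (rank_det_le_one (R := R) (M := M) hfin)
  have hinj : Function.Injective (detMap R M (Module.length R M).toNat) := by
    rw [← LinearMap.ker_eq_bot, LinearMap.ker_eq_bot']
    intro x hx
    obtain ⟨r, rfl⟩ := hv₀ x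
    by_cases hr : r = 0
    · rw [hr, zero_smul]
    · exfalso
      rw [map_smul, smul_eq_zero] at hx
      have h0 : detMap R M (Module.length R M).toNat v₀ = 0 := hx.resolve_left hr
      obtain ⟨y, hy⟩ := exists_ne (0 : ⋀[κ]^((Module.length R M).toNat) M)
      obtain ⟨z, rfl⟩ := hsurj y
      obtain ⟨t, rfl⟩ := hv₀ z
      rw [map_smul, h0, smul_zero] at hy
      exact hy rfl
  refine ⟨LinearEquiv.ofBijective (detMap R M (Module.length R M).toNat) ⟨hinj, hsurj⟩, ?_⟩
  intro e
  exact detMap_cls e

end Groth.Agent.H8.CycDetExt
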