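import Groth.Agent.H8.CycDetGood
import Mathlib.LinearAlgebra.TensorProduct.Basic

/-!
# The isomorphism `det_κ(K) ⊗ det_κ(M) ≃ det_κ(L)` for a short exact sequence
-/

set_option autoImplicit false
set_option linter.unusedSectionVars false
universe u v

open IsLocalRing TensorProduct

namespace Groth.Agent.H8.CycDetGamma

open Groth.Agent.H8.CycDetRank Groth.Agent.H8.CycDetNonzero Groth.Agent.H8.CycDetGood

variable {R : Type u} [CommRing R] [IsLocalRing R]
variable {K L M : Type v} [AddCommGroup K] [Module R K] [AddCommGroup L] [Module R L]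
  [AddCommGroup M] [Module R M]
variable {a b : ℕ}

local notation "S" => CycDet.spanBefore R _
local notation "κ" => ResidueField R

/-! ### Spans of concatenated tuples -/

lemma S_full {l : ℕ} (e : Fin l → L) : S e l = Submodule.span R (Set.range e) := by
  rw [CycDet.spanBefore]
  congr 1
  ext y
  constructor
  · rintro ⟨j, _, rfl⟩; exact ⟨j, rfl⟩
  · rintro ⟨j, rfl⟩; exact ⟨j, j.2, rfl⟩

lemma S_comp {l : ℕ} (f : K →ₗ[R] L) (e : Fin l → K) (i : ℕ) :
    S (f ∘ e) i = (S e i).map f := by
  rw [CycDet.spanBefore, CycDet.spanBefore, Submodule.map_span, Set.image_comp]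

lemma S_append_left (u : Fin a → L) (w : Fin b → L) (i : ℕ) (hi : i ≤ a) :
    S (Fin.append u w) i = S u i := by
  apply le_antisymm
  · rw [S_le_iff]
    intro k hk
    induction k using Fin.addCases with
    | left i' =>
      rw [Fin.append_left]
      exact mem_S_of_lt u i' i (by simpa using hk)
    | right j' =>
      exfalso
      simp only [Fin.val_natAdd] at hk
      omega
  · rw [S_le_iff]
    intro k hk
    rw [← Fin.append_left u w k]
    exact mem_S_of_lt _ _ i (by simpa using hk)

lemma S_append_right (u : Fin a → L) (w : Fin b → L) (j : ℕ) :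
    S (Fin.append u w) (a + j) = Submodule.span R (Set.range u) ⊔ S w j := by
  apply le_antisymm
  · rw [S_le_iff]
    intro k hk
    induction k using Fin.addCases with
    | left i' =>
      rw [Fin.append_left]
      exact Submodule.mem_sup_left (Submodule.subset_span ⟨i', rfl⟩)
    | right j' =>
      rw [Fin.append_right]
      simp only [Fin.val_natAdd] at hk
      exact Submodule.mem_sup_right (mem_S_of_lt w j' j (by omega))
  · apply sup_le
    · rw [Submodule.span_le]
      rintro _ ⟨i', rfl⟩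
      rw [← Fin.append_left u w i']
      exact mem_S_of_lt _ _ _ (by simp only [Fin.val_castAdd]; omega)
    · rw [S_le_iff]
      intro k hk
      rw [← Fin.append_right u w k]
      exact mem_S_of_lt _ _ _ (by simp only [Fin.val_natAdd]; omega)

/-! ### The concatenated tuple -/

section W

variable (f : K →ₗ[R] L) (g : L →ₗ[R] M) (σ : M → L)

/-- The tuple of `L` consisting of the images of the entries of `eK` followed by the chosen lifts of
the entries of `t`. -/
def W (eK : Fin a → K) (t : Fin b → M) : Fin (a + b) → L := Fin.append (f ∘ eK) (σ ∘ t)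

variable {f g σ}

lemma W_left (eK : Fin a → K) (t : Fin b → M) (i : Fin a) :
    W f σ eK t (Fin.castAdd b i) = f (eK i) := by
  simp [W, Fin.append_left]

lemma W_right (eK : Fin a → K) (t : Fin b → M) (j : Fin b) :
    W f σ eK t (Fin.natAdd a j) = σ (t j) := by
  simp [W, Fin.append_right]

lemma S_W_left (eK : Fin a → K) (t : Fin b → M) (i : ℕ) (hi : i ≤ a) :
    S (W f σ eK t) i = (S eK i).map f := by
  rw [W, S_append_left _ _ i hi, S_comp]

variable (hσ : ∀ m, g (σ m) = m) (hfg : LinearMap.range f = LinearMap.ker g)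
include hσ hfg

lemma S_W_right (eK : Fin a → K) (hspan : Submodule.span R (Set.range eK) = ⊤) (t : Fin b → M)
    (j : ℕ) : S (W f σ eK t) (a + j) = (S t j).comap g := by
  rw [W, S_append_right]
  have h1 : Submodule.span R (Set.range (f ∘ eK)) = LinearMap.ker g := by
    rw [Set.range_comp, ← Submodule.map_span, hspan, Submodule.map_top, hfg]
  have h2 : S t j = (S (σ ∘ t) j).map g := by
    rw [← S_comp]
    congr 1
    funext k
    simp [hσ]
  rw [h1, h2, Submodule.comap_map_eq, sup_comm]

lemma W_adm (eK : Fin a → K) (hK : CycDet.IsAdmissible R K eK)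
    (hspan : Submodule.span R (Set.range eK) = ⊤) (t : Fin b → M)
    (ht : CycDet.IsAdmissible R M t) : CycDet.IsAdmissible R L (W f σ eK t) := by
  intro k r hr
  induction k using Fin.addCases with
  | left i =>
    rw [W_left, Fin.val_castAdd, S_W_left eK t i i.2.le, ← map_smul]
    exact Submodule.mem_map_of_mem (hK i r hr)
  | right j =>
    rw [W_right, Fin.val_natAdd, S_W_right hσ hfg eK hspan t j, Submodule.mem_comap, map_smul, hσ]
    exact ht j r hr

lemma W_good (hf : Function.Injective f) (eK : Fin a → K) (hK : Good R eK)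
    (hspan : Submodule.span R (Set.range eK) = ⊤) (t : Fin b → M)
    (ht : Good R t) : Good R (W f σ eK t) := by
  refine ⟨W_adm hσ hfg eK hK.adm hspan t ht.adm, ?_⟩
  intro k
  induction k using Fin.addCases with
  | left i =>
    rw [W_left, Fin.val_castAdd, S_W_left eK t i i.2.le]
    rintro ⟨y, hy, hy'⟩
    rw [hf hy'] at hy
    exact hK.notMem i hy
  | right j =>
    rw [W_right, Fin.val_natAdd, S_W_right hσ hfg eK hspan t j, Submodule.mem_comap, hσ]
    exact ht.notMem j

/-! #### Relations in the second variable -/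

lemma TM_a (eK : Fin a → K) (hK : CycDet.IsAdmissible R K eK)
    (hspan : Submodule.span R (Set.range eK) = ⊤) (t : Fin b → M)
    (ht : CycDet.IsAdmissible R M t) (j : Fin b) (hj : t j ∈ S t j) :
    clsT R (W f σ eK t) = 0 := by
  apply clsT_a _ (W_adm hσ hfg eK hK hspan t ht) (Fin.natAdd a j)
  rw [W_right, Fin.val_natAdd, S_W_right hσ hfg eK hspan t j, Submodule.mem_comap, hσ]
  exact hj

lemma TM_b (eK : Fin a → K) (hK : CycDet.IsAdmissible R K eK)
    (hspan : Submodule.span R (Set.range eK) = ⊤) (t t' : Fin b → M)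
    (ht : CycDet.IsAdmissible R M t) (ht' : CycDet.IsAdmissible R M t') (j : Fin b) (c : Rˣ)
    (hne : ∀ j', j' ≠ j → t j' = t' j') (hj : t j - (c : R) • t' j ∈ S t j) :
    clsT R (W f σ eK t) = residue R (c : R) • clsT R (W f σ eK t') := by
  apply clsT_b _ _ (W_adm hσ hfg eK hK hspan t ht) (W_adm hσ hfg eK hK hspan t' ht')
    (Fin.natAdd a j) c
  · intro k hk
    induction k using Fin.addCases with
    | left i => rw [W_left, W_left]
    | right j' =>
      rw [W_right, W_right, hne j' (fun hh => hk (by rw [hh]))]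
  · rw [W_right, W_right, Fin.val_natAdd, S_W_right hσ hfg eK hspan t j, Submodule.mem_comap,
      map_sub, map_smul, hσ, hσ]
    exact hj

lemma W_swap_right (eK : Fin a → K) (t : Fin b → M) (j₁ j₂ : Fin b) :
    W f σ eK (t ∘ Equiv.swap j₁ j₂) =
      W f σ eK t ∘ Equiv.swap (Fin.natAdd a j₁) (Fin.natAdd a j₂) := by
  funext k
  induction k using Fin.addCases with
  | left i =>
    have h1 : Fin.castAdd b i ≠ Fin.natAdd a j₁ := by
      intro hh
      have := congrArg Fin.val hh
      simp only [Fin.val_castAdd, Fin.val_natAdd] at this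
      omega
    have h2 : Fin.castAdd b i ≠ Fin.natAdd a j₂ := by
      intro hh
      have := congrArg Fin.val hh
      simp only [Fin.val_castAdd, Fin.val_natAdd] at this
      omega
    rw [Function.comp_apply, Equiv.swap_apply_of_ne_of_ne h1 h2, W_left, W_left]
  | right j =>
    have hinj : Function.Injective (Fin.natAdd a : Fin b → Fin (a + b)) := by
      intro x y hxy
      have := congrArg Fin.val hxy
      simp only [Fin.val_natAdd] at this
      exact Fin.ext (by omega)
    rw [Function.comp_apply, hinj.swap_apply, W_right, W_right, Function.comp_apply]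

omit hσ hfg in
lemma W_swap_left (eK : Fin a → K) (t : Fin b → M) (i₁ i₂ : Fin a) :
    W f σ (eK ∘ Equiv.swap i₁ i₂) t =
      W f σ eK t ∘ Equiv.swap (Fin.castAdd b i₁) (Fin.castAdd b i₂) := by
  funext k
  induction k using Fin.addCases with
  | left i =>
    have hinj : Function.Injective (Fin.castAdd b : Fin a → Fin (a + b)) := by
      intro x y hxy
      have := congrArg Fin.val hxy
      simp only [Fin.val_castAdd] at this
      exact Fin.ext this
    rw [Function.comp_apply, hinj.swap_apply, W_left, W_left, Function.comp_apply]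
  | right j =>
    have h1 : Fin.natAdd a j ≠ Fin.castAdd b i₁ := by
      intro hh
      have := congrArg Fin.val hh
      simp only [Fin.val_castAdd, Fin.val_natAdd] at this
      omega
    have h2 : Fin.natAdd a j ≠ Fin.castAdd b i₂ := by
      intro hh
      have := congrArg Fin.val hh
      simp only [Fin.val_castAdd, Fin.val_natAdd] at this
      omega
    rw [Function.comp_apply, Equiv.swap_apply_of_ne_of_ne h1 h2, W_right, W_right]

lemma TM_c (eK : Fin a → K) (hK : CycDet.IsAdmissible R K eK)
    (hspan : Submodule.span R (Set.range eK) = ⊤) (t : Fin b → M) (j₁ j₂ : Fin b)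
    (ht : CycDet.IsAdmissible R M t) (ht' : CycDet.IsAdmissible R M (t ∘ Equiv.swap j₁ j₂))
    (hab : (j₂ : ℕ) + 1 = (j₁ : ℕ)) (hc : ∀ r ∈ maximalIdeal R, r • t j₁ ∈ S t j₂) :
    clsT R (W f σ eK t) = - clsT R (W f σ eK (t ∘ Equiv.swap j₁ j₂)) := by
  have hadm' := W_adm hσ hfg eK hK hspan _ ht'
  rw [W_swap_right hσ hfg] at hadm' ⊢
  apply clsT_c _ _ _ (W_adm hσ hfg eK hK hspan t ht) hadm'
  · simp only [Fin.val_natAdd]; omega
  · intro r hr
    rw [W_right, Fin.val_natAdd, S_W_right hσ hfg eK hspan t j₂, Submodule.mem_comap, map_smul, hσ]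
    exact hc r hr

/-! #### Relations in the first variable -/

lemma TK_b (eK eK' : Fin a → K) (hK : CycDet.IsAdmissible R K eK)
    (hK' : CycDet.IsAdmissible R K eK')
    (hspan : Submodule.span R (Set.range eK) = ⊤) (hspan' : Submodule.span R (Set.range eK') = ⊤)
    (t : Fin b → M) (ht : CycDet.IsAdmissible R M t) (i : Fin a) (c : Rˣ)
    (hne : ∀ i', i' ≠ i → eK i' = eK' i') (hi : eK i - (c : R) • eK' i ∈ S eK i) :
    clsT R (W f σ eK t) = residue R (c : R) • clsT R (W f σ eK' t) := by
  apply clsT_b _ _ (W_adm hσ hfg eK hK hspan t ht) (W_adm hσ hfg eK' hK' hspan' t ht)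
    (Fin.castAdd b i) c
  · intro k hk
    induction k using Fin.addCases with
    | left i' =>
      rw [W_left, W_left, hne i' (fun hh => hk (by rw [hh]))]
    | right j => rw [W_right, W_right]
  · rw [W_left, W_left, Fin.val_castAdd, S_W_left eK t i i.2.le, ← map_smul, ← map_sub]
    exact Submodule.mem_map_of_mem hi

lemma TK_c (eK : Fin a → K) (i₁ i₂ : Fin a) (hK : CycDet.IsAdmissible R K eK)
    (hK' : CycDet.IsAdmissible R K (eK ∘ Equiv.swap i₁ i₂))
    (hspan : Submodule.span R (Set.range eK) = ⊤)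
    (hspan' : Submodule.span R (Set.range (eK ∘ Equiv.swap i₁ i₂)) = ⊤)
    (t : Fin b → M) (ht : CycDet.IsAdmissible R M t)
    (hab : (i₂ : ℕ) + 1 = (i₁ : ℕ)) (hc : ∀ r ∈ maximalIdeal R, r • eK i₁ ∈ S eK i₂) :
    clsT R (W f σ eK t) = - clsT R (W f σ (eK ∘ Equiv.swap i₁ i₂) t) := by
  have hadm' := W_adm hσ hfg _ hK' hspan' t ht
  rw [W_swap_left] at hadm' ⊢
  apply clsT_c _ _ _ (W_adm hσ hfg eK hK hspan t ht) hadm'
  · simp only [Fin.val_castAdd]; omega
  · intro r hr
    rw [W_left, Fin.val_castAdd, S_W_left eK t i₂ i₂.2.le, ← map_smul]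
    exact Submodule.mem_map_of_mem (hc r hr)

end W


/-! ### The bilinear map -/

section Bilin

variable (f : K →ₗ[R] L) (g : L →ₗ[R] M) (σ : M → L)

/-- The value of the pairing on a pair of symbols. -/
noncomputable def T (eK : Fin a → K) (t : Fin b → M) : CycDet.DetOfLen R L (a + b) :=
  open Classical in if Good R eK then clsT R (W f σ eK t) else 0

/-- The pairing on the free vector spaces. -/
noncomputable def B : CycDet.Free R K a →ₗ[κ] CycDet.Free R M b →ₗ[κ] CycDet.DetOfLen R L (a + b) :=
  Finsupp.linearCombination κ (fun eK : CycDet.Adm R K a =>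
    Finsupp.linearCombination κ (fun eM : CycDet.Adm R M b => T f σ eK.1 eM.1))

lemma B_sym_left (eK : CycDet.Adm R K a) :
    B (a := a) (b := b) f σ (CycDet.sym R K eK) =
      Finsupp.linearCombination κ (fun eM : CycDet.Adm R M b => T f σ eK.1 eM.1) := by
  simp [B, CycDet.sym, Finsupp.linearCombination_single]

lemma B_sym (eK : CycDet.Adm R K a) (eM : CycDet.Adm R M b) :
    B f σ (CycDet.sym R K eK) (CycDet.sym R M eM) = T f σ eK.1 eM.1 := by
  rw [B_sym_left]
  simp [CycDet.sym, Finsupp.linearCombination_single]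

variable {f g σ}
variable (hσ : ∀ m, g (σ m) = m) (hfg : LinearMap.range f = LinearMap.ker g)
variable (hK : IsFiniteLength R K) (ha : a = (Module.length R K).toNat)
include hσ hfg hK ha

omit hσ hfg in
lemma span_eq_top_of_good (eK : Fin a → K) (h : Good R eK) :
    Submodule.span R (Set.range eK) = ⊤ := by
  rw [← S_full, S_top hK ha eK h]

lemma B_rel_left (y : CycDet.Free R K a) (hy : y ∈ CycDet.relSet R K a) :
    B (b := b) f σ y = 0 := by
  classical
  apply LinearMap.ext
  intro z
  induction z using Finsupp.induction_linear with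
  | zero => simp
  | add z₁ z₂ h₁ h₂ => rw [map_add, h₁, h₂]; simp
  | single eM c =>
    have hsingle : (Finsupp.single eM c : CycDet.Free R M b) = c • CycDet.sym R M eM := by
      rw [CycDet.sym, Finsupp.smul_single, smul_eq_mul, mul_one]
    rw [hsingle, map_smul, LinearMap.zero_apply]
    suffices h : B f σ y (CycDet.sym R M eM) = 0 by rw [h, smul_zero]
    rcases hy with (⟨e, i, hi, rfl⟩ | ⟨e, e', i, c', hne, hi, rfl⟩) |
      ⟨e, e', i₁, i₂, hab, hc, he', rfl⟩
    · rw [B_sym, T, if_neg]
      exact fun hg => hg.notMem i hi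
    · rw [map_sub, map_smul, LinearMap.sub_apply, LinearMap.smul_apply, B_sym, B_sym, T, T]
      by_cases hgood : Good R e.1
      · have hgood' : Good R e'.1 := good_of_modify e.1 e'.1 i c' hne hi hgood
        rw [if_pos hgood, if_pos hgood',
          TK_b hσ hfg e.1 e'.1 e.2 e'.2 (span_eq_top_of_good hK ha _ hgood)
            (span_eq_top_of_good hK ha _ hgood') eM.1 eM.2 i c' hne hi, sub_self]
      · have hgood' : ¬ Good R e'.1 := by
          intro hg'
          apply hgood
          have hi' : e'.1 i - ((c'⁻¹ : Rˣ) : R) • e.1 i ∈ S e'.1 i := by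
            rw [S_eq_of_modify e.1 e'.1 i c' hne hi]
            have : e'.1 i - ((c'⁻¹ : Rˣ) : R) • e.1 i
                = - (((c'⁻¹ : Rˣ) : R) • (e.1 i - (c' : R) • e'.1 i)) := by
              rw [smul_sub, smul_smul, Units.inv_mul, one_smul]; abel
            rw [this]
            exact Submodule.neg_mem _ (Submodule.smul_mem _ _ hi)
          exact good_of_modify e'.1 e.1 i c'⁻¹ (fun j hj => (hne j hj).symm) hi' hg'
        rw [if_neg hgood, if_neg hgood', smul_zero, sub_zero]
    · rw [map_add, LinearMap.add_apply, B_sym, B_sym, T, T, he']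
      have hK' : CycDet.IsAdmissible R K (e.1 ∘ Equiv.swap i₁ i₂) := he' ▸ e'.2
      by_cases hgood : Good R e.1
      · have hgood' : Good R (e.1 ∘ Equiv.swap i₁ i₂) := good_swap e.1 i₁ i₂ hab hgood hc
        rw [if_pos hgood, if_pos hgood',
          TK_c hσ hfg e.1 i₁ i₂ e.2 hK' (span_eq_top_of_good hK ha _ hgood)
            (span_eq_top_of_good hK ha _ hgood') eM.1 eM.2 hab hc, neg_add_cancel]
      · have hgood' : ¬ Good R (e.1 ∘ Equiv.swap i₁ i₂) := by
          intro hg'
          apply hgood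
          have hgg : (e.1 ∘ Equiv.swap i₁ i₂) ∘ Equiv.swap i₁ i₂ = e.1 := by
            funext j; simp
          have hc' : ∀ r ∈ maximalIdeal R,
              r • (e.1 ∘ Equiv.swap i₁ i₂) i₁ ∈ S (e.1 ∘ Equiv.swap i₁ i₂) i₂ := by
            intro r hr
            rw [S_swap e.1 i₁ i₂ hab i₂ (by omega)]
            simpa using e.2 i₂ r hr
          have := good_swap _ i₁ i₂ hab hg' hc'
          rwa [hgg] at this
        rw [if_neg hgood, if_neg hgood', add_zero]

lemma B_rel_right (x : CycDet.Free R K a) (y : CycDet.Free R M b)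
    (hy : y ∈ CycDet.relSet R M b) : B f σ x y = 0 := by
  classical
  induction x using Finsupp.induction_linear with
  | zero => simp
  | add x₁ x₂ h₁ h₂ => rw [map_add, LinearMap.add_apply, h₁, h₂, add_zero]
  | single eK c =>
    have hsingle : (Finsupp.single eK c : CycDet.Free R K a) = c • CycDet.sym R K eK := by
      rw [CycDet.sym, Finsupp.smul_single, smul_eq_mul, mul_one]
    rw [hsingle, map_smul, LinearMap.smul_apply]
    suffices h : B f σ (CycDet.sym R K eK) y = 0 by rw [h, smul_zero]
    by_cases hgood : Good R eK.1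
    · have hspan := span_eq_top_of_good hK ha _ hgood
      rcases hy with (⟨e, j, hj, rfl⟩ | ⟨e, e', j, c', hne, hj, rfl⟩) |
        ⟨e, e', j₁, j₂, hab, hc, he', rfl⟩
      · rw [B_sym, T, if_pos hgood]
        exact TM_a hσ hfg eK.1 eK.2 hspan e.1 e.2 j hj
      · rw [map_sub, map_smul, B_sym, B_sym, T, T, if_pos hgood, if_pos hgood,
          TM_b hσ hfg eK.1 eK.2 hspan e.1 e'.1 e.2 e'.2 j c' hne hj, sub_self]
      · rw [map_add, B_sym, B_sym, T, T, if_pos hgood, if_pos hgood, he',
          TM_c hσ hfg eK.1 eK.2 hspan e.1 j₁ j₂ e.2 (he' ▸ e'.2) hab hc, neg_add_cancel]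
    · rw [B_sym_left]
      have : (fun eM : CycDet.Adm R M b => T f σ eK.1 eM.1) = fun _ => 0 := by
        funext eM
        rw [T, if_neg hgood]
      rw [this]
      simp [Finsupp.linearCombination_apply]

/-- The pairing, descended in the first variable. -/
noncomputable def B₁ :
    CycDet.DetOfLen R K a →ₗ[κ] CycDet.Free R M b →ₗ[κ] CycDet.DetOfLen R L (a + b) :=
  Submodule.liftQ _ (B f σ)
    (Submodule.span_le.mpr fun y hy => B_rel_left hσ hfg hK ha y hy)

/-- The pairing on determinants. -/
noncomputable def B₂ :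
    CycDet.DetOfLen R M b →ₗ[κ] CycDet.DetOfLen R K a →ₗ[κ] CycDet.DetOfLen R L (a + b) :=
  Submodule.liftQ _ (B₁ (b := b) hσ hfg hK ha).flip
    (Submodule.span_le.mpr fun y hy => by
      apply LinearMap.ext
      intro v
      obtain ⟨x, rfl⟩ := Submodule.Quotient.mk_surjective _ v
      rw [LinearMap.flip_apply, B₁, Submodule.liftQ_apply, LinearMap.zero_apply]
      exact B_rel_right hσ hfg hK ha x y hy)

/-- The map `γ₀ : det K ⊗ det M → det L`. -/
noncomputable def gamma₀ :
    (CycDet.DetOfLen R K a ⊗[κ] CycDet.DetOfLen R M b) →ₗ[κ] CycDet.DetOfLen R L (a + b) :=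
  TensorProduct.lift (B₂ (b := b) hσ hfg hK ha).flip

lemma gamma₀_cls (eK : CycDet.Adm R K a) (eM : CycDet.Adm R M b) :
    gamma₀ hσ hfg hK ha (cls R K eK ⊗ₜ cls R M eM) = T f σ eK.1 eM.1 := by
  rw [gamma₀, TensorProduct.lift.tmul, LinearMap.flip_apply, B₂, cls, cls,
    Submodule.liftQ_apply, LinearMap.flip_apply, B₁, Submodule.liftQ_apply, B_sym]

end Bilin


/-! ### The isomorphism -/

section Main

variable {f : K →ₗ[R] L} {g : L →ₗ[R] M}

theorem exists_gamma_aux (hK : IsFiniteLength R K) (hM : IsFiniteLength R M)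
    (hf : Function.Injective f) (hg : Function.Surjective g)
    (hfg : LinearMap.range f = LinearMap.ker g)
    (a b n : ℕ) (ha : a = (Module.length R K).toNat) (hb : b = (Module.length R M).toNat)
    (hn : a + b = n) (hnL : n = (Module.length R L).toNat) :
    ∃ γ : (CycDet.DetOfLen R K a ⊗[κ] CycDet.DetOfLen R M b) ≃ₗ[κ] CycDet.DetOfLen R L n,
      ∀ (eK : CycDet.Adm R K a) (eM : CycDet.Adm R M b) (eL : CycDet.Adm R L n),
        cls R K eK ≠ 0 →
        (∀ i : Fin a, eL.1 (Fin.cast hn (Fin.castAdd b i)) = f (eK.1 i)) →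
        (∀ j : Fin b, g (eL.1 (Fin.cast hn (Fin.natAdd a j))) = eM.1 j) →
        γ (cls R K eK ⊗ₜ cls R M eM) = cls R L eL := by
  subst hn
  classical
  set σ : M → L := Function.surjInv hg with hσdef
  have hσ : ∀ m, g (σ m) = m := Function.surjInv_eq hg
  have hL : IsFiniteLength R L := by
    rw [← Module.length_ne_top_iff,
      Module.length_eq_add_of_exact f g hf hg (LinearMap.exact_iff.mpr hfg.symm)]
    exact WithTop.add_ne_top.mpr
      ⟨Module.length_ne_top_iff.mpr hK, Module.length_ne_top_iff.mpr hM⟩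
  subst ha hb
  obtain ⟨eK₀, hK₀⟩ := exists_good hK
  obtain ⟨eM₀, hM₀⟩ := exists_good hM
  have hspan₀ := span_eq_top_of_good hK rfl eK₀ hK₀
  have hW₀ : Good R (W f σ eK₀ eM₀) := W_good hσ hfg hf eK₀ hK₀ hspan₀ eM₀ hM₀
  set γ₀ := gamma₀ (b := (Module.length R M).toNat) hσ hfg hK rfl with hγ₀
  set vK : CycDet.DetOfLen R K _ := cls R K ⟨eK₀, hK₀.adm⟩ with hvK
  set vM : CycDet.DetOfLen R M _ := cls R M ⟨eM₀, hM₀.adm⟩ with hvM
  set vL : CycDet.DetOfLen R L _ := cls R L ⟨W f σ eK₀ eM₀, hW₀.adm⟩ with hvL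
  have hv₀ : γ₀ (vK ⊗ₜ vM) = vL := by
    rw [hγ₀, hvK, hvM, gamma₀_cls, T, if_pos hK₀, clsT_eq _ hW₀.adm]
  have hne₀ : vL ≠ 0 := cls_ne_zero_of_good _ L _ hW₀
  have hgenL : ∀ y, ∃ r : κ, y = r • vL := exists_smul_eq hL hnL ⟨_, hW₀.adm⟩ hW₀
  have hgenK : ∀ y, ∃ r : κ, y = r • vK := exists_smul_eq hK rfl ⟨_, hK₀.adm⟩ hK₀
  have hgenM : ∀ y, ∃ r : κ, y = r • vM := exists_smul_eq hM rfl ⟨_, hM₀.adm⟩ hM₀
  have hgenT : ∀ z, ∃ r : κ, z = r • (vK ⊗ₜ[κ] vM) := by
    intro z
    induction z using TensorProduct.induction_on with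
    | zero => exact ⟨0, by simp⟩
    | tmul x y =>
      obtain ⟨r₁, rfl⟩ := hgenK x
      obtain ⟨r₂, rfl⟩ := hgenM y
      exact ⟨r₁ * r₂, by rw [TensorProduct.smul_tmul_smul]⟩
    | add z₁ z₂ h₁ h₂ =>
      obtain ⟨r₁, rfl⟩ := h₁
      obtain ⟨r₂, rfl⟩ := h₂
      exact ⟨r₁ + r₂, by rw [add_smul]⟩
  have hinj : Function.Injective γ₀ := by
    rw [injective_iff_map_eq_zero]
    intro z hz
    obtain ⟨r, rfl⟩ := hgenT z
    rw [map_smul, hv₀] at hz
    rcases smul_eq_zero.mp hz with h | h
    · rw [h, zero_smul]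
    · exact absurd h hne₀
  have hsurj : Function.Surjective γ₀ := by
    intro y
    obtain ⟨r, rfl⟩ := hgenL y
    exact ⟨r • (vK ⊗ₜ vM), by rw [map_smul, hv₀]⟩
  refine ⟨LinearEquiv.ofBijective γ₀ ⟨hinj, hsurj⟩, ?_⟩
  intro eK eM eL hne h1 h2
  rw [LinearEquiv.ofBijective_apply, hγ₀, gamma₀_cls]
  have hgood := good_of_cls_ne_zero eK hne
  have hspan := span_eq_top_of_good hK rfl eK.1 hgood
  have hadm := W_adm hσ hfg eK.1 eK.2 hspan eM.1 eM.2
  rw [T, if_pos hgood, clsT_eq _ hadm]
  apply cls_eq_of_sub_mem ((Module.length R K).toNat + (Module.length R M).toNat) ⟨_, hadm⟩ eL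
  · intro k _
    induction k using Fin.addCases with
    | left i =>
      have := h1 i
      rw [Fin.cast_eq_self] at this
      simp only
      rw [W_left, this, sub_self]
      exact Submodule.zero_mem _
    | right j =>
      have := h2 j
      rw [Fin.cast_eq_self] at this
      simp only
      rw [W_right, Fin.val_natAdd, S_W_right hσ hfg eK.1 hspan eM.1 j, Submodule.mem_comap,
        map_sub, hσ, this, sub_self]
      exact Submodule.zero_mem _
  · intro k hk
    exact absurd k.2 (by omega)

theorem exists_gamma (hK : IsFiniteLength R K) (hM : IsFiniteLength R M)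
    (hf : Function.Injective f) (hg : Function.Surjective g)
    (hfg : LinearMap.range f = LinearMap.ker g)
    (hlen : (Module.length R K).toNat + (Module.length R M).toNat = (Module.length R L).toNat) :
    ∃ γ : (CycDet.Det R K ⊗[κ] CycDet.Det R M) ≃ₗ[κ] CycDet.Det R L,
      ∀ (eK : CycDet.Adm R K (Module.length R K).toNat)
        (eM : CycDet.Adm R M (Module.length R M).toNat)
        (eL : CycDet.Adm R L (Module.length R L).toNat),
        CycDet.symbol R K eK ≠ 0 →
        (∀ i : Fin (Module.length R K).toNat,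
          eL.1 (Fin.cast hlen (Fin.castAdd (Module.length R M).toNat i)) = f (eK.1 i)) →
        (∀ j : Fin (Module.length R M).toNat,
          g (eL.1 (Fin.cast hlen (Fin.natAdd (Module.length R K).toNat j))) = eM.1 j) →
        γ (CycDet.symbol R K eK ⊗ₜ CycDet.symbol R M eM) = CycDet.symbol R L eL :=
  exists_gamma_aux hK hM hf hg hfg _ _ _ rfl rfl hlen rfl

end Main

end Groth.Agent.H8.CycDetGamma
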