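import Groth.Agent.H8.CycDetNonzero
import Mathlib.RingTheory.FiniteLength

/-!
# More on good tuples: existence, one-dimensionality of `det_κ(M)`, invariance of the symbol
-/

set_option autoImplicit false
set_option linter.unusedSectionVars false
universe u v

open IsLocalRing

namespace Groth.Agent.H8.CycDetGood

open Groth.Agent.H8.CycDetRank Groth.Agent.H8.CycDetNonzero

variable {R : Type u} [CommRing R] [IsLocalRing R] {M : Type v} [AddCommGroup M] [Module R M]
variable {l : ℕ}

local notation "S" => CycDet.spanBefore R _
local notation "κ" => ResidueField R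

/-! ### Changing entries by earlier terms -/

lemma S_eq_of_sub_mem (e e' : Fin l → M) (h : ∀ j : Fin l, e j - e' j ∈ S e j) (i : ℕ) :
    S e' i = S e i := by
  induction i using Nat.strong_induction_on with
  | _ i ih =>
    apply le_antisymm
    · rw [S_le_iff]
      intro j hj
      have : e' j = e j - (e j - e' j) := by abel
      rw [this]
      exact Submodule.sub_mem _ (mem_S_of_lt e j i hj) (S_mono e hj.le (h j))
    · rw [S_le_iff]
      intro j hj
      have : e j = e' j + (e j - e' j) := by abel
      rw [this]
      refine Submodule.add_mem _ (mem_S_of_lt e' j i hj) ?_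
      have hj' := h j
      rw [← ih j hj] at hj'
      exact S_mono e' hj.le hj'

/-- Two admissible tuples whose entries differ by elements of the earlier spans have the same
symbol. -/
theorem cls_eq_of_sub_mem : ∀ (k : ℕ) (e e' : CycDet.Adm R M l),
    (∀ j : Fin l, (j : ℕ) < k → e.1 j - e'.1 j ∈ S e.1 j) →
    (∀ j : Fin l, k ≤ (j : ℕ) → e.1 j = e'.1 j) → cls R M e = cls R M e' := by
  intro k
  induction k with
  | zero =>
    intro e e' _ h2
    have : e = e' := Subtype.ext (funext fun j => h2 j (Nat.zero_le _))
    rw [this]
  | succ k ih =>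
    intro e e' h1 h2
    by_cases hk : k < l
    · -- the tuple `e''` equal to `e` except at `k`, where it is `e' k`
      have hall : ∀ j : Fin l, e.1 j - e'.1 j ∈ S e.1 j := by
        intro j
        by_cases hj : (j : ℕ) < k + 1
        · exact h1 j hj
        · rw [h2 j (not_lt.mp hj), sub_self]
          exact Submodule.zero_mem _
      set kk : Fin l := ⟨k, hk⟩ with hkk
      set e'' : Fin l → M := Function.update e.1 kk (e'.1 kk) with he''
      have hdiff : ∀ j : Fin l, e.1 j - e'' j ∈ S e.1 j := by
        intro j
        by_cases hj : j = kk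
        · subst hj
          rw [he'', Function.update_self]
          exact hall _
        · rw [he'', Function.update_of_ne hj, sub_self]
          exact Submodule.zero_mem _
      have hS'' : ∀ i, S e'' i = S e.1 i := S_eq_of_sub_mem e.1 e'' hdiff
      have hS' : ∀ i, S e'.1 i = S e.1 i := S_eq_of_sub_mem e.1 e'.1 hall
      have hadm : CycDet.IsAdmissible R M e'' := by
        intro j r hr
        rw [hS'']
        by_cases hj : j = kk
        · subst hj
          rw [he'', Function.update_self, ← hS']
          exact e'.2 _ r hr
        · rw [he'', Function.update_of_ne hj]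
          exact e.2 j r hr
      have hb := cls_b e ⟨e'', hadm⟩ kk 1
        (fun j hj => by simp only [he'', Function.update_of_ne hj]) (by
          simp only [Units.val_one, one_smul]
          exact hdiff kk)
      rw [hb, Units.val_one, map_one, one_smul]
      apply ih
      · intro j hj
        have hjk : j ≠ kk := fun hh => by subst hh; simp [hkk] at hj
        simp only [he'', Function.update_of_ne hjk]
        rw [hS'']
        exact h1 j (Nat.lt_succ_of_lt hj)
      · intro j hj
        by_cases hjk : j = kk
        · subst hjk
          simp [he'']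
        · simp only [he'', Function.update_of_ne hjk]
          apply h2
          have : (j : ℕ) ≠ k := fun hh => hjk (Fin.ext hh)
          omega
    · apply ih
      · intro j hj
        exact h1 j (Nat.lt_succ_of_lt hj)
      · intro j hj
        exact absurd j.2 (by omega)

/-! ### Non-good tuples have zero symbol -/

lemma cls_eq_zero_of_not_good (e : CycDet.Adm R M l) (he : ¬ Good R e.1) : cls R M e = 0 := by
  have : ∃ a : Fin l, e.1 a ∈ S e.1 a := by
    by_contra hcon
    push Not at hcon
    exact he ⟨e.2, hcon⟩
  obtain ⟨a, ha⟩ := this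
  exact cls_a e a ha

lemma good_of_cls_ne_zero (e : CycDet.Adm R M l) (he : cls R M e ≠ 0) : Good R e.1 := by
  by_contra h
  exact he (cls_eq_zero_of_not_good e h)

/-! ### One-dimensionality -/

theorem exists_smul_eq (hM : IsFiniteLength R M) (hl : l = (Module.length R M).toNat)
    (f : CycDet.Adm R M l) (hf : Good R f.1) (v : CycDet.DetOfLen R M l) :
    ∃ r : κ, v = r • cls R M f := by
  have hmem : ∀ e : CycDet.Adm R M l, cls R M e ∈ Submodule.span κ {cls R M f} := by
    intro e
    by_cases he : Good R e.1
    · refine main _ le_rfl e f he hf (fun i hi => absurd i.2 (not_lt.mpr hi)) ?_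
      rw [S_top hM hl e.1 he, S_top hM hl f.1 hf]
    · rw [cls_eq_zero_of_not_good e he]
      exact Submodule.zero_mem _
  have : v ∈ Submodule.span κ {cls R M f} := by
    obtain ⟨y, rfl⟩ := Submodule.Quotient.mk_surjective _ v
    induction y using Finsupp.induction_linear with
    | zero => exact Submodule.zero_mem _
    | add x y hx hy =>
      rw [Submodule.Quotient.mk_add]
      exact Submodule.add_mem _ hx hy
    | single e c =>
      have : (Finsupp.single e c : CycDet.Free R M _) = c • CycDet.sym R M e := by
        rw [CycDet.sym, Finsupp.smul_single, smul_eq_mul, mul_one]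
      rw [this, Submodule.Quotient.mk_smul]
      exact Submodule.smul_mem _ _ (hmem e)
  obtain ⟨r, hr⟩ := Submodule.mem_span_singleton.mp this
  exact ⟨r, hr.symm⟩


/-! ### Swapping preserves goodness -/

lemma good_swap (e : Fin l → M) (a b : Fin l) (hab : (b : ℕ) + 1 = a) (he : Good R e)
    (hc : ∀ r ∈ maximalIdeal R, r • e a ∈ S e b) : Good R (e ∘ Equiv.swap a b) := by
  refine good_of_swap e a b hab he hc ?_
  intro hmem
  obtain ⟨s, hs, r, hr⟩ := exists_of_mem_sup_span (S e b) (e a) (e b) hmem
  by_cases hru : IsUnit r
  · obtain ⟨c, rfl⟩ := hru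
    apply he.notMem a
    have : e a = ((c⁻¹ : Rˣ) : R) • (e b - s) := by
      rw [hr, add_sub_cancel_left, smul_smul, Units.inv_mul, one_smul]
    rw [this]
    refine Submodule.smul_mem _ _ (Submodule.sub_mem _ (mem_S_of_lt e b _ (by omega)) ?_)
    exact S_mono e (by omega) hs
  · apply he.notMem b
    rw [hr]
    exact Submodule.add_mem _ hs (hc r ((IsLocalRing.mem_maximalIdeal r).mpr hru))

/-! ### Existence of good tuples -/

theorem exists_good_of_compositionSeries (s : CompositionSeries (Submodule R M))
    (h₁ : s.head = ⊥) : ∃ e : Fin s.length → M, Good R e ∧ S e s.length = s.last := by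
  have hstep : ∀ i : Fin s.length, s (Fin.castSucc i) ⋖ s i.succ := fun i => s.step i
  choose e he1 he2 using fun i : Fin s.length => SetLike.exists_of_lt (hstep i).lt
  have hsup : ∀ i : Fin s.length, s (Fin.castSucc i) ⊔ Submodule.span R {e i} = s i.succ := by
    intro i
    have hlt : s (Fin.castSucc i) < s (Fin.castSucc i) ⊔ Submodule.span R {e i} := by
      refine lt_of_le_of_ne le_sup_left (fun h => he2 i ?_)
      rw [h]
      exact Submodule.mem_sup_right (Submodule.mem_span_singleton_self _)
    have hle : s (Fin.castSucc i) ⊔ Submodule.span R {e i} ≤ s i.succ :=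
      sup_le (hstep i).le ((Submodule.span_singleton_le_iff_mem _ _).mpr (he1 i))
    exact (hstep i).eq_or_eq hlt.le hle |>.resolve_left hlt.ne'
  have hS : ∀ i : ℕ, ∀ hi : i < s.length + 1, S e i = s ⟨i, hi⟩ := by
    intro i
    induction i with
    | zero =>
      intro hi
      have : S e 0 = ⊥ := by
        rw [CycDet.spanBefore]
        simp
      rw [this, ← h₁]
      rfl
    | succ i ih =>
      intro hi
      have hi' : i < s.length := Nat.lt_of_succ_lt_succ hi
      have := S_succ (R := R) e ⟨i, hi'⟩
      simp only at this
      rw [this, ih (Nat.lt_succ_of_lt hi')]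
      exact hsup ⟨i, hi'⟩
  refine ⟨e, ⟨?_, ?_⟩, hS s.length (Nat.lt_succ_self _)⟩
  · intro i r hr
    rw [hS i (Nat.lt_succ_of_lt i.2)]
    change r • e i ∈ s (Fin.castSucc i)
    by_contra hcon
    -- then `s_i ⊔ span {r e_i} = s_{i+1}`
    have hlt : s (Fin.castSucc i) < s (Fin.castSucc i) ⊔ Submodule.span R {r • e i} := by
      refine lt_of_le_of_ne le_sup_left (fun h => hcon ?_)
      rw [h]
      exact Submodule.mem_sup_right (Submodule.mem_span_singleton_self _)
    have hle : s (Fin.castSucc i) ⊔ Submodule.span R {r • e i} ≤ s i.succ :=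
      sup_le (hstep i).le ((Submodule.span_singleton_le_iff_mem _ _).mpr
        (Submodule.smul_mem _ _ (he1 i)))
    have heq := (hstep i).eq_or_eq hlt.le hle |>.resolve_left hlt.ne'
    have hmem : e i ∈ s (Fin.castSucc i) ⊔ Submodule.span R {r • e i} := by
      rw [heq]; exact he1 i
    obtain ⟨n, hn, t, ht⟩ := exists_of_mem_sup_span _ _ _ hmem
    have hunit : IsUnit (1 - t * r) := by
      have : t * r ∈ maximalIdeal R := Ideal.mul_mem_left _ _ hr
      have h1 : ¬ IsUnit (t * r) := (IsLocalRing.mem_maximalIdeal _).mp this
      have := IsLocalRing.isUnit_or_isUnit_of_add_one (a := t * r) (b := 1 - t * r) (by ring)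
      exact this.resolve_left h1
    obtain ⟨c, hc⟩ := hunit
    apply he2 i
    have : e i = ((c⁻¹ : Rˣ) : R) • n := by
      have h2 : (c : R) • e i = n := by
        rw [hc, sub_smul, one_smul, mul_smul]
        nth_rewrite 1 [ht]
        abel
      rw [← h2, smul_smul, Units.inv_mul, one_smul]
    rw [this]
    exact Submodule.smul_mem _ _ hn
  · intro i
    rw [hS i (Nat.lt_succ_of_lt i.2)]
    exact he2 i

theorem exists_good (hM : IsFiniteLength R M) :
    ∃ e : Fin (Module.length R M).toNat → M, Good R e := by
  obtain ⟨s, h₁, h₂⟩ := isFiniteLength_iff_exists_compositionSeries.mp hM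
  obtain ⟨e, he, -⟩ := exists_good_of_compositionSeries s h₁
  have hlen : (Module.length R M).toNat = s.length := by
    rw [← Module.length_compositionSeries s h₁ h₂]
    simp
  rw [hlen]
  exact ⟨e, he⟩

end Groth.Agent.H8.CycDetGood
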