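import Groth.Agent.H8.CycDetRank
import Mathlib.RingTheory.SimpleModule.Basic

/-!
# Symbols of good tuples in `det_κ(M)` are nonzero

For `x : M` we construct a linear map `Ψ_x : Det_{l+1}(M) → Det_l(M / R x)`:
if `x` enters the flag of the admissible tuple `g` at the index `i`, with `x ≡ u g_i` modulo the
earlier entries, then `Ψ_x [g] = (-1)^i ū⁻¹ [g with the i-th entry removed, mod x]`.
Nonvanishing of the symbols of good tuples follows by induction on the length.
-/

set_option autoImplicit false
set_option linter.unusedSectionVars false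
universe u v

open IsLocalRing

namespace Groth.Agent.H8.CycDetNonzero

open Groth.Agent.H8.CycDetRank

variable {R : Type u} [CommRing R] [IsLocalRing R] {M : Type v} [AddCommGroup M] [Module R M]
variable {l : ℕ}

local notation "S" => CycDet.spanBefore R _
local notation "κ" => ResidueField R

/-! ### Index bookkeeping -/

lemma succAbove_val (i : Fin (l + 1)) (j : Fin l) :
    (i.succAbove j : ℕ) = if (j : ℕ) < i then (j : ℕ) else j + 1 := by
  by_cases h : (j : ℕ) < i
  · rw [if_pos h, Fin.succAbove_of_castSucc_lt _ _ (by simpa [Fin.lt_def] using h)]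
    rfl
  · rw [if_neg h, Fin.succAbove_of_le_castSucc _ _ (by simpa [Fin.le_def] using not_lt.mp h)]
    rfl

/-! ### The reduced tuple -/

variable (x : M)

variable (R) in
/-- The tuple `g` with the `i`-th entry removed, modulo `x`. -/
def red (g : Fin (l + 1) → M) (i : Fin (l + 1)) : Fin l → M ⧸ Submodule.span R {x} :=
  fun j => Submodule.Quotient.mk (g (i.succAbove j))

/-- `x` enters the flag of `g` at the index `i`, with `x ≡ u g_i` modulo the earlier entries. -/
structure IsVal (g : Fin (l + 1) → M) (i : Fin (l + 1)) (u : Rˣ) : Prop where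
  notMem : x ∉ S g i
  mem : x - (u : R) • g i ∈ S g i

variable {x}

lemma IsVal.mem_succ {g : Fin (l + 1) → M} {i : Fin (l + 1)} {u : Rˣ} (h : IsVal x g i u) :
    x ∈ S g ((i : ℕ) + 1) := by
  have : x = (x - (u : R) • g i) + (u : R) • g i := by abel
  rw [this]
  exact Submodule.add_mem _ (S_mono g (Nat.le_succ _) h.mem)
    (Submodule.smul_mem _ _ (mem_S_of_lt g i _ (Nat.lt_succ_self _)))

lemma IsVal.notMem_entry {g : Fin (l + 1) → M} {i : Fin (l + 1)} {u : Rˣ} (h : IsVal x g i u) :
    g i ∉ S g i := by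
  intro hg
  apply h.notMem
  have : x = (x - (u : R) • g i) + (u : R) • g i := by abel
  rw [this]
  exact Submodule.add_mem _ h.mem (Submodule.smul_mem _ _ hg)

lemma IsVal.unique {g : Fin (l + 1) → M} {i i' : Fin (l + 1)} {u u' : Rˣ}
    (h : IsVal x g i u) (h' : IsVal x g i' u') :
    i = i' ∧ residue R (u : R) = residue R (u' : R) := by
  have hii : i = i' := by
    apply Fin.ext
    rcases lt_trichotomy (i : ℕ) i' with hlt | heq | hgt
    · exact absurd (S_mono g (Nat.succ_le_of_lt hlt) h.mem_succ) h'.notMem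
    · exact heq
    · exact absurd (S_mono g (Nat.succ_le_of_lt hgt) h'.mem_succ) h.notMem
  subst hii
  refine ⟨rfl, ?_⟩
  have hsub : ((u : R) - (u' : R)) • g i ∈ S g i := by
    have : ((u : R) - (u' : R)) • g i = (x - (u' : R) • g i) - (x - (u : R) • g i) := by
      rw [sub_smul]; abel
    rw [this]
    exact Submodule.sub_mem _ h'.mem h.mem
  have hnu : ¬ IsUnit ((u : R) - (u' : R)) := by
    intro hu
    obtain ⟨c, hc⟩ := hu
    apply h.notMem_entry
    have : g i = ((c⁻¹ : Rˣ) : R) • (((u : R) - (u' : R)) • g i) := by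
      rw [← hc, smul_smul, Units.inv_mul, one_smul]
    rw [this]
    exact Submodule.smul_mem _ _ hsub
  have : residue R ((u : R) - (u' : R)) = 0 :=
    (residue_eq_zero_iff _).mpr ((IsLocalRing.mem_maximalIdeal _).mpr hnu)
  rw [map_sub, sub_eq_zero] at this
  exact this

/-- The image of `g i` in the quotient lies in the image of the earlier span. -/
lemma IsVal.mk_entry_mem {g : Fin (l + 1) → M} {i : Fin (l + 1)} {u : Rˣ} (h : IsVal x g i u) :
    (Submodule.Quotient.mk (g i) : M ⧸ Submodule.span R {x}) ∈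
      (S g i).map (Submodule.span R {x}).mkQ := by
  have h1 : g i = ((u⁻¹ : Rˣ) : R) • (x - (x - (u : R) • g i)) := by
    rw [sub_sub_cancel, smul_smul, Units.inv_mul, one_smul]
  have hx0 : (Submodule.Quotient.mk x : M ⧸ Submodule.span R {x}) = 0 :=
    (Submodule.Quotient.mk_eq_zero _).mpr (Submodule.mem_span_singleton_self x)
  rw [h1, Submodule.Quotient.mk_smul, Submodule.Quotient.mk_sub, hx0, zero_sub]
  refine Submodule.smul_mem _ _ (Submodule.neg_mem _ ?_)
  exact Submodule.mem_map_of_mem (f := (Submodule.span R {x}).mkQ) h.mem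

/-- The spans of the reduced tuple are the images of the spans of the original tuple. -/
lemma S_red {g : Fin (l + 1) → M} {i : Fin (l + 1)} {u : Rˣ} (h : IsVal x g i u) (j : Fin l) :
    S (red R x g i) j = (S g (i.succAbove j)).map (Submodule.span R {x}).mkQ := by
  apply le_antisymm
  · rw [S_le_iff]
    intro k hk
    refine Submodule.mem_map_of_mem (f := (Submodule.span R {x}).mkQ) ?_
    apply mem_S_of_lt
    have : i.succAbove k < i.succAbove j :=
      (Fin.strictMono_succAbove i) (Fin.lt_def.mpr hk)
    exact Fin.lt_def.mp this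
  · rw [Submodule.map_le_iff_le_comap, S_le_iff]
    intro k' hk'
    rw [Submodule.mem_comap]
    by_cases hki : k' = i
    · subst hki
      -- `k' ≤ j`
      have hij : (k' : ℕ) ≤ j := by
        rw [succAbove_val] at hk'
        split_ifs at hk' with h1 <;> omega
      have hle : (S g k').map (Submodule.span R {x}).mkQ ≤ S (red R x g k') j := by
        rw [Submodule.map_le_iff_le_comap, S_le_iff]
        intro k'' hk''
        rw [Submodule.mem_comap]
        have hne : k'' ≠ k' := fun hh => by subst hh; omega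
        obtain ⟨k, hk⟩ := Fin.exists_succAbove_eq hne
        have hkval : (k : ℕ) = k'' := by
          have := succAbove_val k' k
          rw [hk] at this
          split_ifs at this with h1 <;> omega
        have : red R x g k' k = (Submodule.span R {x}).mkQ (g k'') := by
          simp only [red, hk, Submodule.mkQ_apply]
        rw [← this]
        exact mem_S_of_lt _ _ _ (by omega)
      exact hle h.mk_entry_mem
    · obtain ⟨k, hk⟩ := Fin.exists_succAbove_eq hki
      have hkj : k < j := by
        rw [← hk] at hk'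
        exact (Fin.strictMono_succAbove i).lt_iff_lt.mp (Fin.lt_def.mpr hk')
      have : red R x g i k = (Submodule.span R {x}).mkQ (g k') := by
        simp only [red, hk, Submodule.mkQ_apply]
      rw [← this]
      exact mem_S_of_lt _ _ _ (Fin.lt_def.mp hkj)

lemma red_adm {g : Fin (l + 1) → M} (hg : CycDet.IsAdmissible R M g) {i : Fin (l + 1)} {u : Rˣ}
    (h : IsVal x g i u) : CycDet.IsAdmissible R _ (red R x g i) := by
  intro j r hr
  rw [S_red h j]
  have : r • red R x g i j = (Submodule.span R {x}).mkQ (r • g (i.succAbove j)) := by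
    simp only [red, Submodule.mkQ_apply, Submodule.Quotient.mk_smul]
  rw [this]
  exact Submodule.mem_map_of_mem (hg (i.succAbove j) r hr)


/-! ### Total symbol function -/

variable (R) in
/-- The class of a tuple, zero if the tuple is not admissible. -/
noncomputable def clsT {N : Type v} [AddCommGroup N] [Module R N] (t : Fin l → N) :
    CycDet.DetOfLen R N l :=
  open Classical in if h : CycDet.IsAdmissible R N t then cls R N ⟨t, h⟩ else 0

section clsT

variable {N : Type v} [AddCommGroup N] [Module R N]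

lemma clsT_eq (t : Fin l → N) (h : CycDet.IsAdmissible R N t) : clsT R t = cls R N ⟨t, h⟩ :=
  dif_pos h

lemma clsT_a (t : Fin l → N) (h : CycDet.IsAdmissible R N t) (a : Fin l) (ha : t a ∈ S t a) :
    clsT R t = 0 := by
  rw [clsT_eq t h]
  exact cls_a ⟨t, h⟩ a ha

lemma clsT_b (t t' : Fin l → N) (h : CycDet.IsAdmissible R N t) (h' : CycDet.IsAdmissible R N t')
    (a : Fin l) (c : Rˣ) (hne : ∀ j, j ≠ a → t j = t' j) (ha : t a - (c : R) • t' a ∈ S t a) :
    clsT R t = residue R (c : R) • clsT R t' := by
  rw [clsT_eq t h, clsT_eq t' h']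
  exact cls_b ⟨t, h⟩ ⟨t', h'⟩ a c hne ha

lemma clsT_c (t : Fin l → N) (a b : Fin l) (h : CycDet.IsAdmissible R N t)
    (h' : CycDet.IsAdmissible R N (t ∘ Equiv.swap a b)) (hab : (b : ℕ) + 1 = (a : ℕ))
    (hc : ∀ r ∈ maximalIdeal R, r • t a ∈ S t b) :
    clsT R t = - clsT R (t ∘ Equiv.swap a b) := by
  rw [clsT_eq t h, clsT_eq _ h']
  exact cls_c ⟨t, h⟩ ⟨_, h'⟩ a b hab hc rfl

end clsT

/-! ### The map on generators -/

variable (R) in
/-- The value of `Ψ_x` on the symbol of the tuple `g`. -/
noncomputable def psi0 (x : M) (g : Fin (l + 1) → M) :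
    CycDet.DetOfLen R (M ⧸ Submodule.span R {x}) l :=
  open Classical in
  if h : ∃ p : Fin (l + 1) × Rˣ, IsVal x g p.1 p.2 then
    ((-1 : κ) ^ (h.choose.1 : ℕ) * (residue R (h.choose.2 : R))⁻¹) • clsT R (red R x g h.choose.1)
  else 0

lemma psi0_eq {g : Fin (l + 1) → M} {i : Fin (l + 1)} {u : Rˣ} (hv : IsVal x g i u) :
    psi0 R x g = ((-1 : κ) ^ (i : ℕ) * (residue R (u : R))⁻¹) • clsT R (red R x g i) := by
  have h : ∃ p : Fin (l + 1) × Rˣ, IsVal x g p.1 p.2 := ⟨(i, u), hv⟩
  rw [psi0, dif_pos h]
  obtain ⟨h1, h2⟩ := h.choose_spec.unique hv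
  rw [h1, h2]

lemma psi0_eq_zero {g : Fin (l + 1) → M} (h : ¬ ∃ p : Fin (l + 1) × Rˣ, IsVal x g p.1 p.2) :
    psi0 R x g = 0 := by
  rw [psi0, dif_neg h]

lemma mk_red (g : Fin (l + 1) → M) (i : Fin (l + 1)) (j : Fin l) (k : Fin (l + 1))
    (hk : i.succAbove j = k) : red R x g i j = (Submodule.span R {x}).mkQ (g k) := by
  simp only [red, hk, Submodule.mkQ_apply]

/-- Relation (a). -/
lemma psi0_a {g : Fin (l + 1) → M} (hg : CycDet.IsAdmissible R M g) (a : Fin (l + 1))
    (ha : g a ∈ S g a) : psi0 R x g = 0 := by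
  by_cases h : ∃ p : Fin (l + 1) × Rˣ, IsVal x g p.1 p.2
  · obtain ⟨⟨i, u⟩, hv⟩ := h
    change IsVal x g i u at hv
    rw [psi0_eq hv]
    have hai : a ≠ i := fun hh => by subst hh; exact hv.notMem_entry ha
    obtain ⟨a', ha'⟩ := Fin.exists_succAbove_eq hai
    rw [clsT_a (red R x g i) (red_adm hg hv) a' ?_, smul_zero]
    rw [S_red hv a', ha', mk_red g i a' a ha']
    exact Submodule.mem_map_of_mem ha
  · exact psi0_eq_zero h

/-- Transfer of `IsVal` along relation (b). -/
lemma val_b {g g' : Fin (l + 1) → M} (a : Fin (l + 1)) (c : Rˣ)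
    (hne : ∀ j, j ≠ a → g j = g' j) (ha : g a - (c : R) • g' a ∈ S g a)
    {i : Fin (l + 1)} {u : Rˣ} (hv : IsVal x g i u) :
    IsVal x g' i (if i = a then u * c else u) := by
  have hS := S_eq_of_modify g g' a c hne ha
  constructor
  · rw [hS]; exact hv.notMem
  · rw [hS]
    by_cases hia : i = a
    · subst hia
      rw [if_pos rfl]
      have : x - ((u * c : Rˣ) : R) • g' i = (x - (u : R) • g i) + (u : R) • (g i - (c : R) • g' i) := by
        rw [Units.val_mul, smul_sub, smul_smul]; abel
      rw [this]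
      exact Submodule.add_mem _ hv.mem (Submodule.smul_mem _ _ ha)
    · rw [if_neg hia, ← hne i hia]
      exact hv.mem

lemma psi0_b_aux {g g' : Fin (l + 1) → M} (hg : CycDet.IsAdmissible R M g)
    (hg' : CycDet.IsAdmissible R M g') (a : Fin (l + 1)) (c : Rˣ)
    (hne : ∀ j, j ≠ a → g j = g' j) (ha : g a - (c : R) • g' a ∈ S g a)
    {i : Fin (l + 1)} {u : Rˣ} (hv : IsVal x g i u) :
    psi0 R x g = residue R (c : R) • psi0 R x g' := by
  have hv' := val_b a c hne ha hv
  have hc0 : residue R (c : R) ≠ 0 := by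
    have : IsUnit (residue R (c : R)) := c.isUnit.map _
    exact this.ne_zero
  have hu0 : residue R (u : R) ≠ 0 := by
    have : IsUnit (residue R (u : R)) := u.isUnit.map _
    exact this.ne_zero
  by_cases hia : i = a
  · subst hia
    rw [if_pos rfl] at hv'
    have hred : red R x g' i = red R x g i := by
      funext j
      simp only [red]
      rw [hne _ (Fin.succAbove_ne i j)]
    rw [psi0_eq hv, psi0_eq hv', hred, smul_smul, Units.val_mul, map_mul]
    congr 1
    field_simp
  · rw [if_neg hia] at hv'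
    obtain ⟨a', ha'⟩ := Fin.exists_succAbove_eq (Ne.symm hia)
    have hb := clsT_b (red R x g i) (red R x g' i) (red_adm hg hv) (red_adm hg' hv') a' c ?_ ?_
    · rw [psi0_eq hv, psi0_eq hv', hb, smul_comm]
    · intro j hj
      simp only [red]
      rw [hne]
      intro hh
      exact hj (Fin.succAbove_right_injective (hh.trans ha'.symm))
    · rw [S_red hv a', ha', mk_red g i a' a ha', mk_red g' i a' a ha', ← map_smul, ← map_sub]
      exact Submodule.mem_map_of_mem ha

/-- Relation (b). -/
lemma psi0_b {g g' : Fin (l + 1) → M} (hg : CycDet.IsAdmissible R M g)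
    (hg' : CycDet.IsAdmissible R M g') (a : Fin (l + 1)) (c : Rˣ)
    (hne : ∀ j, j ≠ a → g j = g' j) (ha : g a - (c : R) • g' a ∈ S g a) :
    psi0 R x g = residue R (c : R) • psi0 R x g' := by
  by_cases h : ∃ p : Fin (l + 1) × Rˣ, IsVal x g p.1 p.2
  · obtain ⟨⟨i, u⟩, hv⟩ := h
    exact psi0_b_aux hg hg' a c hne ha hv
  · have h' : ¬ ∃ p : Fin (l + 1) × Rˣ, IsVal x g' p.1 p.2 := by
      rintro ⟨⟨i, u⟩, hv⟩
      apply h
      have ha' : g' a - ((c⁻¹ : Rˣ) : R) • g a ∈ S g' a := by
        rw [S_eq_of_modify g g' a c hne ha]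
        have : g' a - ((c⁻¹ : Rˣ) : R) • g a = - (((c⁻¹ : Rˣ) : R) • (g a - (c : R) • g' a)) := by
          rw [smul_sub, smul_smul, Units.inv_mul, one_smul]; abel
        rw [this]
        exact Submodule.neg_mem _ (Submodule.smul_mem _ _ ha)
      exact ⟨(i, if i = a then u * c⁻¹ else u), val_b a c⁻¹ (fun j hj => (hne j hj).symm) ha' hv⟩
    rw [psi0_eq_zero h, psi0_eq_zero h', smul_zero]


/-! ### Relation (c) -/

lemma swap_succAbove (a b : Fin (l + 1)) (hab : (b : ℕ) + 1 = (a : ℕ)) (j : Fin l) :
    Equiv.swap a b (a.succAbove j) = b.succAbove j := by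
  have h1 := succAbove_val a j
  have h2 := succAbove_val b j
  rw [Equiv.swap_apply_def]
  split_ifs with h3 h4
  · exact absurd h3 (Fin.succAbove_ne a j)
  · apply Fin.ext
    have := congrArg Fin.val h4
    rw [this] at h1
    split_ifs at h1 h2 with h5 h6 <;> omega
  · apply Fin.ext
    have h3' : (a.succAbove j : ℕ) ≠ a := fun hh => h3 (Fin.ext hh)
    have h4' : (a.succAbove j : ℕ) ≠ b := fun hh => h4 (Fin.ext hh)
    split_ifs at h1 h2 with h5 h6 <;> omega

lemma succ_of_succAbove (i a b : Fin (l + 1)) (hab : (b : ℕ) + 1 = (a : ℕ)) (hia : i ≠ a)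
    (hib : i ≠ b) (a' b' : Fin l) (ha' : i.succAbove a' = a) (hb' : i.succAbove b' = b) :
    (b' : ℕ) + 1 = (a' : ℕ) := by
  have h1 := succAbove_val i a'
  have h2 := succAbove_val i b'
  rw [ha'] at h1
  rw [hb'] at h2
  have h3 : (i : ℕ) ≠ a := fun hh => hia (Fin.ext hh)
  have h4 : (i : ℕ) ≠ b := fun hh => hib (Fin.ext hh)
  split_ifs at h1 h2 with h5 h6 <;> omega

lemma psi0_c_aux {g : Fin (l + 1) → M} (hg : CycDet.IsAdmissible R M g) (a b : Fin (l + 1))
    (hab : (b : ℕ) + 1 = (a : ℕ)) (hc : ∀ r ∈ maximalIdeal R, r • g a ∈ S g b)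
    (hg' : CycDet.IsAdmissible R M (g ∘ Equiv.swap a b))
    {i : Fin (l + 1)} {u : Rˣ} (hv : IsVal x g i u) :
    psi0 R x g + psi0 R x (g ∘ Equiv.swap a b) = 0 := by
  have hne : a ≠ b := fun h => by subst h; omega
  have hSb : S (g ∘ Equiv.swap a b) b = S g b := S_swap g a b hab b (by omega)
  have hSa : S (g ∘ Equiv.swap a b) a = S g b ⊔ Submodule.span R {g a} := S_swap_at g a b hab
  have hSa' : S g a = S g b ⊔ Submodule.span R {g b} := by rw [← hab, S_succ]
  have hga : (g ∘ Equiv.swap a b) a = g b := by simp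
  have hgb : (g ∘ Equiv.swap a b) b = g a := by simp
  have hu0 : residue R (u : R) ≠ 0 := by
    have : IsUnit (residue R (u : R)) := u.isUnit.map _
    exact this.ne_zero
  by_cases hia : i = a
  · subst hia
    by_cases hx : x ∈ S g b ⊔ Submodule.span R {g i}
    · -- `x` enters the swapped flag at `b`
      have hxb : x ∉ S g b := fun h => hv.notMem (S_mono g (by omega) h)
      obtain ⟨u', hu'⟩ := exists_unit_of_mem_sup_span (S g b) (g i) x hc hx hxb
      have hv2 : IsVal x g i u' := ⟨hv.notMem, S_mono g (by omega) hu'⟩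
      have huu : residue R (u : R) = residue R (u' : R) := (hv.unique hv2).2
      have hv' : IsVal x (g ∘ Equiv.swap i b) b u' := by
        constructor
        · rw [hSb]; exact hxb
        · rw [hSb, hgb]; exact hu'
      have hred : red R x (g ∘ Equiv.swap i b) b = red R x g i := by
        funext j
        simp only [red, Function.comp_apply]
        rw [← swap_succAbove i b hab j, Equiv.swap_apply_self]
      rw [psi0_eq hv, psi0_eq hv', hred, ← add_smul, huu, ← hab, pow_succ]
      rw [show ((-1 : κ) ^ (b : ℕ) * -1 * (residue R (u' : R))⁻¹ +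
        (-1 : κ) ^ (b : ℕ) * (residue R (u' : R))⁻¹) = 0 by ring, zero_smul]
    · -- `x` enters the swapped flag at `a`
      have hmem := hv.mem
      rw [hSa'] at hmem
      obtain ⟨t, ht, w, hw⟩ := exists_of_mem_sup_span (S g b) (g b) _ hmem
      have hwu : IsUnit w := by
        by_contra hw'
        apply hx
        have : x = (t + w • g b) + (u : R) • g i := by rw [← hw]; abel
        rw [this]
        refine Submodule.add_mem _ (Submodule.mem_sup_left (Submodule.add_mem _ ht ?_))
          (Submodule.mem_sup_right (Submodule.smul_mem _ _ (Submodule.mem_span_singleton_self _)))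
        exact hg b w ((IsLocalRing.mem_maximalIdeal w).mpr hw')
      obtain ⟨w', rfl⟩ := hwu
      have hv' : IsVal x (g ∘ Equiv.swap i b) i w' := by
        constructor
        · rw [hSa]; exact hx
        · rw [hSa, hga]
          have : x - (w' : R) • g b = t + (u : R) • g i := by
            have := hw
            rw [sub_eq_iff_eq_add] at this
            rw [this]; abel
          rw [this]
          exact Submodule.add_mem _ (Submodule.mem_sup_left ht)
            (Submodule.mem_sup_right (Submodule.smul_mem _ _ (Submodule.mem_span_singleton_self _)))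
      have hw0 : residue R (w' : R) ≠ 0 := by
        have : IsUnit (residue R (w' : R)) := w'.isUnit.map _
        exact this.ne_zero
      obtain ⟨b', hb'⟩ := Fin.exists_succAbove_eq (Ne.symm hne)
      have hcl := clsT_b (red R x (g ∘ Equiv.swap i b) i) (red R x g i) (red_adm hg' hv')
        (red_adm hg hv) b' (-(u⁻¹ * w')) ?_ ?_
      · rw [psi0_eq hv, psi0_eq hv', hcl, smul_smul, ← add_smul]
        rw [Units.val_neg, Units.val_mul, map_neg, map_mul]
        have hinv : residue R ((u⁻¹ : Rˣ) : R) = (residue R (u : R))⁻¹ := by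
          rw [← mul_eq_one_iff_eq_inv₀ hu0, ← map_mul, Units.inv_mul, map_one]
        rw [hinv]
        rw [show ((-1 : κ) ^ (i : ℕ) * (residue R (u : R))⁻¹ +
          (-1 : κ) ^ (i : ℕ) * (residue R (w' : R))⁻¹ *
            -((residue R (u : R))⁻¹ * residue R (w' : R))) = 0 by field_simp; ring, zero_smul]
      · intro j hj
        simp only [red, Function.comp_apply]
        rw [Equiv.swap_apply_of_ne_of_ne (Fin.succAbove_ne i j)]
        intro hh
        exact hj (Fin.succAbove_right_injective (hh.trans hb'.symm))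
      · rw [S_red hv' b', hb', hSb, mk_red _ i b' b hb', mk_red g i b' b hb', hgb,
          ← map_smul, ← map_sub]
        have hx0 : (Submodule.span R {x}).mkQ x = 0 := by
          rw [Submodule.mkQ_apply]
          exact (Submodule.Quotient.mk_eq_zero _).mpr (Submodule.mem_span_singleton_self x)
        have : g i - ((-(u⁻¹ * w') : Rˣ) : R) • g b
            = ((u⁻¹ : Rˣ) : R) • x - ((u⁻¹ : Rˣ) : R) • t := by
          have h1 : x = (u : R) • g i + (t + (w' : R) • g b) := by
            rw [← hw]; abel
          rw [h1, Units.val_neg, Units.val_mul, smul_add, smul_add, smul_smul, smul_smul,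
            Units.inv_mul, one_smul, neg_smul]
          abel
        rw [this, map_sub, map_smul, map_smul, hx0, smul_zero, zero_sub]
        exact Submodule.neg_mem _ (Submodule.smul_mem _ _ (Submodule.mem_map_of_mem ht))
  · by_cases hib : i = b
    · subst hib
      by_cases hx : x ∈ S g i ⊔ Submodule.span R {g a}
      · -- both reduced symbols vanish
        obtain ⟨u', hu'⟩ := exists_unit_of_mem_sup_span (S g i) (g a) x hc hx hv.notMem
        have hv' : IsVal x (g ∘ Equiv.swap a i) i u' := by
          constructor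
          · rw [hSb]; exact hv.notMem
          · rw [hSb, hgb]; exact hu'
        obtain ⟨b', hb'⟩ := Fin.exists_succAbove_eq hne
        have h1 : clsT R (red R x g i) = 0 := by
          apply clsT_a _ (red_adm hg hv) b'
          rw [S_red hv b', hb', mk_red g i b' a hb']
          have := hv'.mk_entry_mem
          rw [hSb, hgb] at this
          exact Submodule.map_mono (S_mono g (by omega)) this
        have h2 : clsT R (red R x (g ∘ Equiv.swap a i) i) = 0 := by
          apply clsT_a _ (red_adm hg' hv') b'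
          rw [S_red hv' b', hb', mk_red _ i b' a hb', hga, hSa]
          exact Submodule.map_mono le_sup_left hv.mk_entry_mem
        rw [psi0_eq hv, psi0_eq hv', h1, h2, smul_zero, smul_zero, add_zero]
      · have hv' : IsVal x (g ∘ Equiv.swap a i) a u := by
          constructor
          · rw [hSa]; exact hx
          · rw [hSa, hga]; exact Submodule.mem_sup_left hv.mem
        have hred : red R x (g ∘ Equiv.swap a i) a = red R x g i := by
          funext j
          simp only [red, Function.comp_apply]
          rw [swap_succAbove a i hab j]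
        rw [psi0_eq hv, psi0_eq hv', hred, ← add_smul, ← hab, pow_succ]
        rw [show ((-1 : κ) ^ (i : ℕ) * (residue R (u : R))⁻¹ +
          (-1 : κ) ^ (i : ℕ) * -1 * (residue R (u : R))⁻¹) = 0 by ring, zero_smul]
    · -- `i ∉ {a, b}`
      have hSi : S (g ∘ Equiv.swap a b) i = S g i :=
        S_swap g a b hab i (fun hh => hia (Fin.ext hh))
      have hgi : (g ∘ Equiv.swap a b) i = g i := by
        simp [Equiv.swap_apply_of_ne_of_ne hia hib]
      have hv' : IsVal x (g ∘ Equiv.swap a b) i u := by
        constructor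
        · rw [hSi]; exact hv.notMem
        · rw [hSi, hgi]; exact hv.mem
      obtain ⟨a', ha'⟩ := Fin.exists_succAbove_eq (Ne.symm hia)
      obtain ⟨b', hb'⟩ := Fin.exists_succAbove_eq (Ne.symm hib)
      have hab' := succ_of_succAbove i a b hab hia hib a' b' ha' hb'
      have hred : red R x (g ∘ Equiv.swap a b) i = red R x g i ∘ Equiv.swap a' b' := by
        funext j
        simp only [red, Function.comp_apply]
        have hsw := (Fin.succAbove_right_injective (p := i)).swap_apply a' b' j
        rw [ha', hb'] at hsw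
        rw [hsw]
      have hcl := clsT_c (red R x g i) a' b' (red_adm hg hv) (hred ▸ red_adm hg' hv') hab' ?_
      · rw [psi0_eq hv, psi0_eq hv', hred, hcl, smul_neg, neg_add_cancel]
      · intro r hr
        rw [S_red hv b', hb', mk_red g i a' a ha', ← map_smul]
        exact Submodule.mem_map_of_mem (hc r hr)

/-- Relation (c). -/
lemma psi0_c {g : Fin (l + 1) → M} (hg : CycDet.IsAdmissible R M g) (a b : Fin (l + 1))
    (hab : (b : ℕ) + 1 = (a : ℕ)) (hc : ∀ r ∈ maximalIdeal R, r • g a ∈ S g b)
    (hg' : CycDet.IsAdmissible R M (g ∘ Equiv.swap a b)) :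
    psi0 R x g + psi0 R x (g ∘ Equiv.swap a b) = 0 := by
  by_cases h : ∃ p : Fin (l + 1) × Rˣ, IsVal x g p.1 p.2
  · obtain ⟨⟨i, u⟩, hv⟩ := h
    exact psi0_c_aux hg a b hab hc hg' hv
  · by_cases h' : ∃ p : Fin (l + 1) × Rˣ, IsVal x (g ∘ Equiv.swap a b) p.1 p.2
    · obtain ⟨⟨i, u⟩, hv⟩ := h'
      have hgg : (g ∘ Equiv.swap a b) ∘ Equiv.swap a b = g := by
        funext j; simp
      have hc' : ∀ r ∈ maximalIdeal R,
          r • (g ∘ Equiv.swap a b) a ∈ S (g ∘ Equiv.swap a b) b := by
        intro r hr
        rw [S_swap g a b hab b (by omega)]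
        simpa using hg b r hr
      have := psi0_c_aux hg' a b hab hc' (hgg.symm ▸ hg) hv
      rw [hgg] at this
      rw [add_comm]; exact this
    · rw [psi0_eq_zero h, psi0_eq_zero h', add_zero]


/-! ### The linear map `Ψ_x` -/

variable (R) in
/-- `Ψ_x` on the free vector space on admissible tuples. -/
noncomputable def psiFree (x : M) :
    CycDet.Free R M (l + 1) →ₗ[κ] CycDet.DetOfLen R (M ⧸ Submodule.span R {x}) l :=
  Finsupp.linearCombination κ (fun g : CycDet.Adm R M (l + 1) => psi0 R x g.1)

lemma psiFree_sym (g : CycDet.Adm R M (l + 1)) :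
    psiFree R x (CycDet.sym R M g) = psi0 R x g.1 := by
  simp [psiFree, CycDet.sym, Finsupp.linearCombination_single]

lemma psiFree_rel (y : CycDet.Free R M (l + 1)) (hy : y ∈ CycDet.relSet R M (l + 1)) :
    psiFree R x y = 0 := by
  rcases hy with (⟨e, a, ha, rfl⟩ | ⟨e, e', a, c, hne, ha, rfl⟩) | ⟨e, e', a, b, hab, hc, he', rfl⟩
  · rw [psiFree_sym]
    exact psi0_a e.2 a ha
  · rw [map_sub, map_smul, psiFree_sym, psiFree_sym, psi0_b e.2 e'.2 a c hne ha, sub_self]
  · rw [map_add, psiFree_sym, psiFree_sym, he']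
    exact psi0_c e.2 a b hab hc (he' ▸ e'.2)

variable (R) in
/-- The map `Ψ_x : Det_{l+1}(M) → Det_l(M / R x)`. -/
noncomputable def psi (x : M) :
    CycDet.DetOfLen R M (l + 1) →ₗ[κ] CycDet.DetOfLen R (M ⧸ Submodule.span R {x}) l :=
  Submodule.liftQ _ (psiFree R x) (Submodule.span_le.mpr fun y hy => psiFree_rel y hy)

lemma psi_cls (g : CycDet.Adm R M (l + 1)) : psi R x (cls R M g) = psi0 R x g.1 := by
  rw [psi, cls, Submodule.liftQ_apply, psiFree_sym]

/-! ### Nonvanishing -/

theorem cls_ne_zero_of_good : ∀ (l : ℕ) (M : Type v) [AddCommGroup M] [Module R M]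
    (e : CycDet.Adm R M l), Good R e.1 → cls R M e ≠ 0 := by
  intro l
  induction l with
  | zero =>
    intro M _ _ e _ h
    have hrel : CycDet.relSet R M 0 = ∅ := by
      ext y
      simp only [Set.mem_empty_iff_false, iff_false]
      rintro ((⟨_, a, _⟩ | ⟨_, _, a, _⟩) | ⟨_, _, a, _⟩) <;> exact a.elim0
    rw [cls, Submodule.Quotient.mk_eq_zero, hrel, Submodule.span_empty, Submodule.mem_bot,
      CycDet.sym] at h
    have := Finsupp.single_eq_zero.mp h
    exact one_ne_zero this
  | succ l ih =>
    intro M _ _ e he h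
    have hv : IsVal (e.1 0) e.1 0 (1 : Rˣ) := by
      constructor
      · exact he.notMem 0
      · simp
    have h1 := congrArg (psi R (e.1 0)) h
    rw [psi_cls, map_zero, psi0_eq hv] at h1
    have hadm := red_adm e.2 hv
    rw [clsT_eq _ hadm] at h1
    simp only [Fin.val_zero, pow_zero, Units.val_one, map_one, inv_one, mul_one, one_smul] at h1
    refine ih _ ⟨_, hadm⟩ ⟨hadm, ?_⟩ h1
    intro j hj
    change red R (e.1 0) e.1 0 j ∈ S (red R (e.1 0) e.1 0) j at hj
    rw [S_red hv j, mk_red e.1 0 j _ rfl] at hj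
    obtain ⟨s, hs, hs'⟩ := hj
    have hker : s - e.1 (Fin.succAbove 0 j) ∈ Submodule.span R {e.1 0} := by
      rw [← Submodule.ker_mkQ (Submodule.span R {e.1 0}), LinearMap.mem_ker, map_sub, hs', sub_self]
    have hpos : ((0 : Fin (l + 1)) : ℕ) < (Fin.succAbove (0 : Fin (l + 1)) j : ℕ) := by
      rw [Fin.succAbove_zero]; simp
    have hle : Submodule.span R {e.1 0} ≤ S e.1 (Fin.succAbove (0 : Fin (l + 1)) j : ℕ) := by
      rw [Submodule.span_singleton_le_iff_mem]
      exact mem_S_of_lt e.1 0 _ hpos
    apply he.notMem (Fin.succAbove 0 j)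
    have : e.1 (Fin.succAbove 0 j) = s - (s - e.1 (Fin.succAbove 0 j)) := by abel
    rw [this]
    exact Submodule.sub_mem _ hs (hle hker)


/-! ### Generating admissible tuples of the right length are good -/

lemma length_sup_span_le (N : Submodule R M) (y : M)
    (hy : ∀ r ∈ maximalIdeal R, r • y ∈ N) :
    Module.length R ↥(N ⊔ Submodule.span R {y}) ≤ Module.length R ↥N + 1 := by
  by_cases hyN : y ∈ N
  · have : N ⊔ Submodule.span R {y} = N :=
      sup_eq_left.mpr ((Submodule.span_singleton_le_iff_mem _ _).mpr hyN)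
    rw [this]
    exact le_self_add
  · set N' := N ⊔ Submodule.span R {y} with hN'
    have hle : N ≤ N' := le_sup_left
    have hyN' : y ∈ N' := Submodule.mem_sup_right (Submodule.mem_span_singleton_self y)
    have hcov : N ⋖ N' := by
      refine ⟨lt_of_le_of_ne hle (fun h => hyN (h ▸ hyN')), ?_⟩
      intro P hNP hPN'
      obtain ⟨p, hpP, hpN⟩ := SetLike.exists_of_lt hNP
      obtain ⟨n, hn, r, rfl⟩ := exists_of_mem_sup_span N y p (hPN'.le hpP)
      have hr : IsUnit r := by
        by_contra hr
        exact hpN (N.add_mem hn (hy r ((IsLocalRing.mem_maximalIdeal r).mpr hr)))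
      obtain ⟨c, rfl⟩ := hr
      have hyP : y ∈ P := by
        have : y = ((c⁻¹ : Rˣ) : R) • ((n + (c : R) • y) - n) := by
          rw [add_sub_cancel_left, smul_smul, Units.inv_mul, one_smul]
        rw [this]
        exact P.smul_mem _ (P.sub_mem hpP (hNP.le hn))
      have : N' ≤ P := sup_le hNP.le ((Submodule.span_singleton_le_iff_mem _ _).mpr hyP)
      exact absurd hPN' (not_lt_of_ge this)
    have hsimple : IsSimpleModule R (↥N' ⧸ Submodule.comap N'.subtype N) :=
      (covBy_iff_quot_is_simple hle).mp hcov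
    have hexact : Function.Exact (Submodule.inclusion hle)
        (Submodule.comap N'.subtype N).mkQ := by
      rw [LinearMap.exact_iff, Submodule.ker_mkQ, Submodule.range_inclusion]
    rw [Module.length_eq_add_of_exact (Submodule.inclusion hle)
      (Submodule.comap N'.subtype N).mkQ (Submodule.inclusion_injective hle)
      (Submodule.mkQ_surjective _) hexact,
      Module.length_eq_one (R := R) (M := ↥N' ⧸ Submodule.comap N'.subtype N)]

theorem good_of_span_eq_top (hM : IsFiniteLength R M) (hl : l = (Module.length R M).toNat)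
    (e : Fin l → M) (hadm : CycDet.IsAdmissible R M e)
    (hgen : Submodule.span R (Set.range e) = ⊤) : Good R e := by
  refine ⟨hadm, ?_⟩
  by_contra hcon
  push Not at hcon
  obtain ⟨a, ha⟩ := hcon
  have hstep : ∀ i : Fin l, Module.length R ↥(S e ((i : ℕ) + 1)) ≤ Module.length R ↥(S e i) + 1 := by
    intro i
    rw [S_succ]
    exact length_sup_span_le _ _ (hadm i)
  have hstepa : S e ((a : ℕ) + 1) = S e a := by
    rw [S_succ]
    exact sup_eq_left.mpr ((Submodule.span_singleton_le_iff_mem _ _).mpr ha)
  have key : ∀ i : ℕ, i ≤ l → (Module.length R ↥(S e i) ≤ i ∧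
      ((a : ℕ) < i → Module.length R ↥(S e i) + 1 ≤ i)) := by
    intro i
    induction i with
    | zero =>
      intro _
      have : S e 0 = ⊥ := by
        rw [CycDet.spanBefore]
        simp
      rw [this]
      refine ⟨by simp, fun h => absurd h (Nat.not_lt_zero _)⟩
    | succ i ih =>
      intro hi
      obtain ⟨h1, h2⟩ := ih (Nat.le_of_succ_le hi)
      have hs := hstep ⟨i, hi⟩
      simp only at hs
      constructor
      · calc Module.length R ↥(S e (i + 1)) ≤ Module.length R ↥(S e i) + 1 := hs
          _ ≤ (i : ℕ∞) + 1 := by gcongr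
          _ = ((i + 1 : ℕ) : ℕ∞) := by push_cast; rfl
      · intro hai
        rcases Nat.lt_succ_iff_lt_or_eq.mp hai with h | h
        · calc Module.length R ↥(S e (i + 1)) + 1 ≤ (Module.length R ↥(S e i) + 1) + 1 := by gcongr
            _ ≤ (i : ℕ∞) + 1 := by gcongr; exact h2 h
            _ = ((i + 1 : ℕ) : ℕ∞) := by push_cast; rfl
        · rw [← h, hstepa]
          calc Module.length R ↥(S e a) + 1 ≤ ((a : ℕ) : ℕ∞) + 1 := by
                gcongr; rw [h]; exact h1
            _ = (((a : ℕ) + 1 : ℕ) : ℕ∞) := by push_cast; rfl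
  have htop : S e l = ⊤ := by
    rw [← hgen, CycDet.spanBefore]
    congr 1
    ext y
    constructor
    · rintro ⟨j, _, rfl⟩; exact ⟨j, rfl⟩
    · rintro ⟨j, rfl⟩; exact ⟨j, j.2, rfl⟩
  have h3 := (key l le_rfl).2 a.2
  rw [htop, Module.length_top] at h3
  have h4 : Module.length R M = (l : ℕ∞) := by
    rw [hl, ENat.natCast_toNat (Module.length_ne_top_iff.mpr hM)]
  rw [h4] at h3
  have : l + 1 ≤ l := by exact_mod_cast h3
  omega

/-- The symbol of a generating admissible tuple of length `length M` is nonzero. -/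
theorem symbol_ne_zero (hM : IsFiniteLength R M)
    (e : CycDet.Adm R M (Module.length R M).toNat)
    (he : Submodule.span R (Set.range e.1) = ⊤) : CycDet.symbol R M e ≠ 0 :=
  cls_ne_zero_of_good _ M e (good_of_span_eq_top hM rfl e.1 e.2 he)

end Groth.Agent.H8.CycDetNonzero
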