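import Groth.Prelude.Def_CycDet
import Mathlib.LinearAlgebra.Dimension.Finite
import Mathlib.RingTheory.FiniteLength
import Mathlib.LinearAlgebra.Dimension.FreeAndStrongRankCondition

/-!
# `det_κ(M)` has dimension at most one
-/

set_option autoImplicit false
set_option linter.unusedSectionVars false
universe u v

open IsLocalRing

namespace Groth.Agent.H8.CycDetRank

variable {R : Type u} [CommRing R] [IsLocalRing R] {M : Type v} [AddCommGroup M] [Module R M]
variable {l : ℕ}

local notation "S" => CycDet.spanBefore R M

lemma mem_S_of_lt (e : Fin l → M) (j : Fin l) (i : ℕ) (h : (j : ℕ) < i) : e j ∈ S e i :=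
  Submodule.subset_span ⟨j, h, rfl⟩

lemma S_mono (e : Fin l → M) {i i' : ℕ} (h : i ≤ i') : S e i ≤ S e i' :=
  Submodule.span_mono (Set.image_mono fun _ hj => lt_of_lt_of_le hj h)

lemma S_le_iff (e : Fin l → M) (i : ℕ) (P : Submodule R M) :
    S e i ≤ P ↔ ∀ j : Fin l, (j : ℕ) < i → e j ∈ P := by
  rw [CycDet.spanBefore, Submodule.span_le]
  constructor
  · intro h j hj
    exact h ⟨j, hj, rfl⟩
  · rintro h _ ⟨j, hj, rfl⟩
    exact h j hj

lemma S_congr (e e' : Fin l → M) (i : ℕ) (h : ∀ j : Fin l, (j : ℕ) < i → e j = e' j) :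
    S e i = S e' i := by
  rw [CycDet.spanBefore, CycDet.spanBefore]
  congr 1
  ext x
  constructor
  · rintro ⟨j, hj, rfl⟩
    exact ⟨j, hj, (h j hj).symm⟩
  · rintro ⟨j, hj, rfl⟩
    exact ⟨j, hj, h j hj⟩

lemma S_succ (e : Fin l → M) (a : Fin l) :
    S e ((a : ℕ) + 1) = S e a ⊔ Submodule.span R {e a} := by
  apply le_antisymm
  · rw [S_le_iff]
    intro j hj
    rcases Nat.lt_succ_iff_lt_or_eq.mp hj with h | h
    · exact Submodule.mem_sup_left (mem_S_of_lt e j _ h)
    · have : j = a := Fin.ext h
      subst this
      exact Submodule.mem_sup_right (Submodule.mem_span_singleton_self _)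
  · apply sup_le (S_mono e (Nat.le_succ _))
    rw [Submodule.span_singleton_le_iff_mem]
    exact mem_S_of_lt e a _ (Nat.lt_succ_self _)

variable (R) in
/-- Admissible and strictly increasing. -/
structure Good (e : Fin l → M) : Prop where
  adm : CycDet.IsAdmissible R M e
  notMem : ∀ a : Fin l, e a ∉ S e a

/-- Decomposition of an element of `P ⊔ span {y}`. -/
lemma exists_of_mem_sup_span (P : Submodule R M) (y z : M)
    (hz : z ∈ P ⊔ Submodule.span R {y}) : ∃ s ∈ P, ∃ r : R, z = s + r • y := by
  obtain ⟨s, hs, t, ht, rfl⟩ := Submodule.mem_sup.mp hz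
  obtain ⟨r, rfl⟩ := Submodule.mem_span_singleton.mp ht
  exact ⟨s, hs, r, rfl⟩

/-- If `m y ⊆ P`, `x ∈ P ⊔ span {y}` and `x ∉ P` then `x ≡ c y` mod `P` for a unit `c`. -/
lemma exists_unit_of_mem_sup_span (P : Submodule R M) (y x : M)
    (hy : ∀ r ∈ maximalIdeal R, r • y ∈ P)
    (hx : x ∈ P ⊔ Submodule.span R {y}) (hxP : x ∉ P) : ∃ c : Rˣ, x - (c : R) • y ∈ P := by
  obtain ⟨s, hs, r, rfl⟩ := exists_of_mem_sup_span P y x hx
  by_cases hr : IsUnit r
  · obtain ⟨c, rfl⟩ := hr
    refine ⟨c, ?_⟩
    simpa using hs
  · exfalso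
    apply hxP
    exact P.add_mem hs (hy r ((IsLocalRing.mem_maximalIdeal r).mpr hr))

/-- Changing one entry by a unit multiple plus earlier terms does not change the spans. -/
lemma S_eq_of_modify (e e' : Fin l → M) (a : Fin l) (c : Rˣ) (hne : ∀ j, j ≠ a → e j = e' j)
    (ha : e a - (c : R) • e' a ∈ S e a) (i : ℕ) : S e' i = S e i := by
  have hle : ∀ i, i ≤ (a : ℕ) → S e' i = S e i := by
    intro i hi
    apply S_congr
    intro j hj
    have : j ≠ a := fun h => by subst h; omega
    exact (hne j this).symm
  by_cases hi : i ≤ (a : ℕ)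
  · exact hle i hi
  · push Not at hi
    have he'a : e' a = ((c⁻¹ : Rˣ) : R) • (e a - (e a - (c : R) • e' a)) := by
      rw [sub_sub_cancel, smul_smul, Units.inv_mul, one_smul]
    apply le_antisymm
    · rw [S_le_iff]
      intro j hj
      by_cases hja : j = a
      · subst hja
        rw [he'a]
        exact Submodule.smul_mem _ _ (Submodule.sub_mem _ (mem_S_of_lt e j i hi)
          (S_mono e hi.le ha))
      · rw [← hne j hja]
        exact mem_S_of_lt e j i hj
    · rw [S_le_iff]
      intro j hj
      by_cases hja : j = a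
      · subst hja
        have : e j = (c : R) • e' j + (e j - (c : R) • e' j) := by abel
        rw [this]
        refine Submodule.add_mem _ (Submodule.smul_mem _ _ (mem_S_of_lt e' j i hi)) ?_
        rw [← hle j le_rfl] at ha
        exact S_mono e' hi.le ha
      · rw [hne j hja]
        exact mem_S_of_lt e' j i hj

lemma good_of_modify (e e' : Fin l → M) (a : Fin l) (c : Rˣ) (hne : ∀ j, j ≠ a → e j = e' j)
    (ha : e a - (c : R) • e' a ∈ S e a) (he : Good R e) : Good R e' := by
  have hS := S_eq_of_modify e e' a c hne ha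
  have he'a : e' a = ((c⁻¹ : Rˣ) : R) • (e a - (e a - (c : R) • e' a)) := by
    rw [sub_sub_cancel, smul_smul, Units.inv_mul, one_smul]
  constructor
  · intro a' r hr
    rw [hS]
    by_cases h : a' = a
    · subst h
      rw [he'a, smul_comm r (((c⁻¹ : Rˣ) : R)), smul_sub]
      exact Submodule.smul_mem _ _ (Submodule.sub_mem _ (he.adm a' r hr)
        (Submodule.smul_mem _ _ ha))
    · rw [← hne a' h]
      exact he.adm a' r hr
  · intro a' h'
    rw [hS] at h'
    by_cases h : a' = a
    · subst h
      apply he.notMem a'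
      have : e a' = (c : R) • e' a' + (e a' - (c : R) • e' a') := by abel
      rw [this]
      exact Submodule.add_mem _ (Submodule.smul_mem _ _ h') ha
    · rw [← hne a' h] at h'
      exact he.notMem a' h'


lemma swap_lt (a b j : Fin l) (i : ℕ) (ha : (a : ℕ) < i) (hb : (b : ℕ) < i) (hj : (j : ℕ) < i) :
    ((Equiv.swap a b j : Fin l) : ℕ) < i := by
  rw [Equiv.swap_apply_def]
  split_ifs <;> assumption

/-- Swapping two adjacent entries changes only one of the spans. -/
lemma S_swap (e : Fin l → M) (a b : Fin l) (hab : (b : ℕ) + 1 = a) (i : ℕ) (hi : i ≠ a) :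
    S (e ∘ Equiv.swap a b) i = S e i := by
  by_cases hib : i ≤ (b : ℕ)
  · apply S_congr
    intro j hj
    have h1 : j ≠ a := fun h => by subst h; omega
    have h2 : j ≠ b := fun h => by subst h; omega
    simp [Equiv.swap_apply_of_ne_of_ne h1 h2]
  · have ha : (a : ℕ) < i := by omega
    have hb : (b : ℕ) < i := by omega
    apply le_antisymm
    · rw [S_le_iff]
      intro j hj
      exact mem_S_of_lt e _ i (swap_lt a b j i ha hb hj)
    · rw [S_le_iff]
      intro j hj
      have : e j = (e ∘ Equiv.swap a b) (Equiv.swap a b j) := by simp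
      rw [this]
      exact mem_S_of_lt _ _ i (swap_lt a b j i ha hb hj)

lemma S_swap_at (e : Fin l → M) (a b : Fin l) (hab : (b : ℕ) + 1 = a) :
    S (e ∘ Equiv.swap a b) a = S e b ⊔ Submodule.span R {e a} := by
  rw [← hab, S_succ, S_swap e a b hab b (by omega)]
  simp

lemma good_of_swap (e : Fin l → M) (a b : Fin l) (hab : (b : ℕ) + 1 = a) (he : Good R e)
    (hc : ∀ r ∈ maximalIdeal R, r • e a ∈ S e b)
    (hb : e b ∉ S e b ⊔ Submodule.span R {e a}) : Good R (e ∘ Equiv.swap a b) := by
  have hne : a ≠ b := fun h => by subst h; omega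
  constructor
  · intro a' r hr
    by_cases h1 : a' = a
    · subst h1
      rw [S_swap_at e a' b hab]
      simp only [Function.comp_apply, Equiv.swap_apply_left]
      exact Submodule.mem_sup_left (he.adm b r hr)
    · by_cases h2 : a' = b
      · subst h2
        rw [S_swap e a a' hab a' (by omega)]
        simp only [Function.comp_apply, Equiv.swap_apply_right]
        exact hc r hr
      · rw [S_swap e a b hab a' (fun h => h1 (Fin.ext h))]
        simp only [Function.comp_apply, Equiv.swap_apply_of_ne_of_ne h1 h2]
        exact he.adm a' r hr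
  · intro a' h'
    by_cases h1 : a' = a
    · subst h1
      rw [S_swap_at e a' b hab] at h'
      simp only [Function.comp_apply, Equiv.swap_apply_left] at h'
      exact hb h'
    · by_cases h2 : a' = b
      · subst h2
        rw [S_swap e a a' hab a' (by omega)] at h'
        simp only [Function.comp_apply, Equiv.swap_apply_right] at h'
        exact he.notMem a (S_mono e (by omega) h')
      · rw [S_swap e a b hab a' (fun h => h1 (Fin.ext h))] at h'
        simp only [Function.comp_apply, Equiv.swap_apply_of_ne_of_ne h1 h2] at h'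
        exact he.notMem a' h'


/-! ### Symbols -/

variable (R M) in
/-- The class of the symbol of an admissible tuple. -/
noncomputable def cls (e : CycDet.Adm R M l) : CycDet.DetOfLen R M l :=
  Submodule.Quotient.mk (CycDet.sym R M e)

lemma mk_eq_zero_of_rel {x : CycDet.Free R M l} (hx : x ∈ CycDet.relSet R M l) :
    (Submodule.Quotient.mk x : CycDet.DetOfLen R M l) = 0 :=
  (Submodule.Quotient.mk_eq_zero _).mpr (Submodule.subset_span hx)

lemma cls_a (e : CycDet.Adm R M l) (a : Fin l) (h : e.1 a ∈ S e.1 a) : cls R M e = 0 :=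
  mk_eq_zero_of_rel (Or.inl (Or.inl ⟨e, a, h, rfl⟩))

lemma cls_b (e e' : CycDet.Adm R M l) (a : Fin l) (c : Rˣ) (hne : ∀ j, j ≠ a → e.1 j = e'.1 j)
    (ha : e.1 a - (c : R) • e'.1 a ∈ S e.1 a) :
    cls R M e = IsLocalRing.residue R (c : R) • cls R M e' := by
  have := mk_eq_zero_of_rel (R := R) (M := M) (l := l)
    (Or.inl (Or.inr ⟨e, e', a, c, hne, ha, rfl⟩))
  rw [Submodule.Quotient.mk_sub, Submodule.Quotient.mk_smul, sub_eq_zero] at this
  exact this

lemma cls_c (e e' : CycDet.Adm R M l) (a b : Fin l) (hab : (b : ℕ) + 1 = (a : ℕ))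
    (hc : ∀ r ∈ maximalIdeal R, r • e.1 a ∈ S e.1 b) (he' : e'.1 = e.1 ∘ Equiv.swap a b) :
    cls R M e = - cls R M e' := by
  have := mk_eq_zero_of_rel (R := R) (M := M) (l := l)
    (Or.inr ⟨e, e', a, b, hab, hc, he', rfl⟩)
  rw [Submodule.Quotient.mk_add] at this
  exact eq_neg_of_add_eq_zero_left this


/-! ### The main induction -/

theorem main (k : ℕ) : k ≤ l → ∀ (e f : CycDet.Adm R M l), Good R e.1 → Good R f.1 →
    (∀ i : Fin l, k ≤ (i : ℕ) → e.1 i = f.1 i) → S e.1 k = S f.1 k →
    cls R M e ∈ Submodule.span (ResidueField R) {cls R M f} := by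
  induction k with
  | zero =>
    intro _ e f _ _ htail _
    have : e = f := Subtype.ext (funext fun i => htail i (Nat.zero_le _))
    rw [this]
    exact Submodule.mem_span_singleton_self _
  | succ k ih =>
    intro hk e f he hf htail hS
    have hkl : k < l := hk
    obtain ⟨kk, hkk⟩ : ∃ kk : Fin l, (kk : ℕ) = k := ⟨⟨k, hkl⟩, rfl⟩
    subst hkk
    have hfk : ∀ r ∈ maximalIdeal R, r • f.1 kk ∈ S f.1 kk := hf.adm kk
    -- the inner induction
    have inner : ∀ d : ℕ, ∀ e : CycDet.Adm R M l, Good R e.1 →
        (∀ i : Fin l, (kk : ℕ) + 1 ≤ (i : ℕ) → e.1 i = f.1 i) →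
        S e.1 ((kk : ℕ) + 1) = S f.1 ((kk : ℕ) + 1) →
        ∀ j : Fin l, (j : ℕ) + d = kk → S e.1 j ≤ S f.1 kk → e.1 j ∉ S f.1 kk →
        cls R M e ∈ Submodule.span (ResidueField R) {cls R M f} := by
      intro d
      induction d with
      | zero =>
        intro e he htail hS j hj hjF hjn
        have hjk : j = kk := Fin.ext (by simpa using hj)
        subst hjk
        have hex : e.1 j ∈ S f.1 j ⊔ Submodule.span R {f.1 j} := by
          rw [← S_succ, ← hS]
          exact mem_S_of_lt e.1 j _ (Nat.lt_succ_self _)
        obtain ⟨c, hc⟩ := exists_unit_of_mem_sup_span _ (f.1 j) (e.1 j) hfk hex hjn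
        have hFle : S f.1 j ≤ S e.1 j := by
          intro z hz
          have hz' : z ∈ S e.1 j ⊔ Submodule.span R {e.1 j} := by
            rw [← S_succ, hS]
            exact S_mono f.1 (Nat.le_succ _) hz
          obtain ⟨s, hs, r, rfl⟩ := exists_of_mem_sup_span _ _ _ hz'
          by_cases hr : IsUnit r
          · exfalso
            apply hjn
            obtain ⟨u, rfl⟩ := hr
            have : e.1 j = ((u⁻¹ : Rˣ) : R) • ((s + (u : R) • e.1 j) - s) := by
              rw [add_sub_cancel_left, smul_smul, Units.inv_mul, one_smul]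
            rw [this]
            exact Submodule.smul_mem _ _ (Submodule.sub_mem _ hz (hjF hs))
          · exact Submodule.add_mem _ hs
              (he.adm j r ((IsLocalRing.mem_maximalIdeal r).mpr hr))
        have hSe : S e.1 j = S f.1 j := le_antisymm hjF hFle
        have hne : ∀ i, i ≠ j → e.1 i = Function.update e.1 j (f.1 j) i :=
          fun i hi => (Function.update_of_ne hi _ _).symm
        have hakk : Function.update e.1 j (f.1 j) j = f.1 j := Function.update_self ..
        have ha : e.1 j - (c : R) • Function.update e.1 j (f.1 j) j ∈ S e.1 j := by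
          rw [hakk, hSe]; exact hc
        have hg' : Good R (Function.update e.1 j (f.1 j)) :=
          good_of_modify e.1 _ j c hne ha he
        have h1 : cls R M e = IsLocalRing.residue R (c : R) • cls R M ⟨_, hg'.adm⟩ :=
          cls_b e ⟨_, hg'.adm⟩ j c hne ha
        have h2 : cls R M ⟨_, hg'.adm⟩ ∈ Submodule.span (ResidueField R) {cls R M f} := by
          refine ih (le_of_lt hkl) ⟨_, hg'.adm⟩ f hg' hf ?_ ?_
          · intro i hi
            by_cases hij : i = j
            · subst hij; exact hakk
            · change Function.update e.1 j (f.1 j) i = f.1 i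
              rw [← hne i hij]
              refine htail i ?_
              have : (i : ℕ) ≠ j := fun h => hij (Fin.ext h)
              omega
          · rw [S_eq_of_modify e.1 _ j c hne ha, hSe]
        rw [h1]
        exact Submodule.smul_mem _ _ h2
      | succ d ihd =>
        intro e he htail hS j hj hjF hjn
        have hja : (j : ℕ) + 1 < l := by have := kk.2; omega
        obtain ⟨a, haj⟩ : ∃ a : Fin l, (a : ℕ) = (j : ℕ) + 1 := ⟨⟨j + 1, hja⟩, rfl⟩
        have hak : (a : ℕ) ≤ kk := by omega
        have hja' : j ≠ a := fun h => by subst h; omega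
        have hejN : e.1 j ∈ S f.1 kk ⊔ Submodule.span R {f.1 kk} := by
          rw [← S_succ, ← hS]
          exact mem_S_of_lt e.1 j _ (by omega)
        obtain ⟨c0, hc0⟩ := exists_unit_of_mem_sup_span _ (f.1 kk) (e.1 j) hfk hejN hjn
        have hfkk : f.1 kk ∈ S f.1 kk ⊔ Submodule.span R {e.1 j} := by
          have : f.1 kk = ((c0⁻¹ : Rˣ) : R) • (e.1 j - (e.1 j - (c0 : R) • f.1 kk)) := by
            rw [sub_sub_cancel, smul_smul, Units.inv_mul, one_smul]
          rw [this]
          exact Submodule.smul_mem _ _ (Submodule.sub_mem _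
            (Submodule.mem_sup_right (Submodule.mem_span_singleton_self _))
            (Submodule.mem_sup_left hc0))
        have heaN : e.1 a ∈ S f.1 kk ⊔ Submodule.span R {e.1 j} := by
          have h1 : e.1 a ∈ S f.1 ((kk : ℕ) + 1) := by
            rw [← hS]; exact mem_S_of_lt e.1 a _ (by omega)
          rw [S_succ] at h1
          exact (sup_le le_sup_left ((Submodule.span_singleton_le_iff_mem _ _).mpr hfkk)) h1
        obtain ⟨n, hn, r, hnr⟩ := exists_of_mem_sup_span _ _ _ heaN
        have hne : ∀ i, i ≠ a → e.1 i = Function.update e.1 a n i :=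
          fun i hi => (Function.update_of_ne hi _ _).symm
        have he'a : Function.update e.1 a n a = n := Function.update_self ..
        have he'j : Function.update e.1 a n j = e.1 j := (hne j hja').symm
        have ha : e.1 a - ((1 : Rˣ) : R) • Function.update e.1 a n a ∈ S e.1 a := by
          rw [he'a, Units.val_one, one_smul, hnr, add_sub_cancel_left]
          exact Submodule.smul_mem _ _ (mem_S_of_lt e.1 j _ (by omega))
        have hS' := S_eq_of_modify e.1 _ a 1 hne ha
        have hg' : Good R (Function.update e.1 a n) := good_of_modify e.1 _ a 1 hne ha he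
        have h1 : cls R M e = cls R M ⟨_, hg'.adm⟩ := by
          have := cls_b e ⟨_, hg'.adm⟩ a 1 hne ha
          simpa using this
        have hSa : S e.1 a = S e.1 j ⊔ Submodule.span R {e.1 j} := by
          rw [haj, S_succ]
        have hc : ∀ t ∈ maximalIdeal R, t • Function.update e.1 a n a ∈
            S (Function.update e.1 a n) j := by
          intro t ht
          rw [he'a, hS' j]
          have h2 : t • n ∈ S e.1 a := by
            have := hg'.adm a t ht
            rwa [he'a, hS'] at this
          rw [hSa] at h2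
          obtain ⟨s, hs, r', hr'⟩ := exists_of_mem_sup_span _ _ _ h2
          by_cases hu : IsUnit r'
          · exfalso
            apply hjn
            obtain ⟨u, rfl⟩ := hu
            have : e.1 j = ((u⁻¹ : Rˣ) : R) • (t • n - s) := by
              rw [hr', add_sub_cancel_left, smul_smul, Units.inv_mul, one_smul]
            rw [this]
            exact Submodule.smul_mem _ _ (Submodule.sub_mem _ (Submodule.smul_mem _ _ hn)
              (hjF hs))
          · rw [hr']
            exact Submodule.add_mem _ hs
              (he.adm j r' ((IsLocalRing.mem_maximalIdeal r').mpr hu))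
        have hle : S (Function.update e.1 a n) j ⊔
            Submodule.span R {Function.update e.1 a n a} ≤ S f.1 kk := by
          rw [he'a, hS' j]
          exact sup_le hjF ((Submodule.span_singleton_le_iff_mem _ _).mpr hn)
        have hb : Function.update e.1 a n j ∉ S (Function.update e.1 a n) j ⊔
            Submodule.span R {Function.update e.1 a n a} := by
          rw [he'j]
          intro h
          exact hjn (hle h)
        have hg'' := good_of_swap (Function.update e.1 a n) a j haj.symm hg' hc hb
        have h2 : cls R M ⟨_, hg'.adm⟩ = - cls R M ⟨_, hg''.adm⟩ :=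
          cls_c ⟨_, hg'.adm⟩ ⟨_, hg''.adm⟩ a j haj.symm hc rfl
        have h3 : cls R M ⟨_, hg''.adm⟩ ∈ Submodule.span (ResidueField R) {cls R M f} := by
          refine ihd ⟨_, hg''.adm⟩ hg'' ?_ ?_ a (by omega) ?_ ?_
          · intro i hi
            have hia : i ≠ a := fun h => by subst h; omega
            have hij : i ≠ j := fun h => by subst h; omega
            simp only [Function.comp_apply, Equiv.swap_apply_of_ne_of_ne hia hij]
            rw [← hne i hia]
            exact htail i hi
          · rw [S_swap _ a j haj.symm _ (by omega), hS', hS]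
          · rw [S_swap_at _ a j haj.symm]
            exact hle
          · simp only [Function.comp_apply, Equiv.swap_apply_left]
            rw [he'j]
            exact hjn
        rw [h1, h2]
        exact Submodule.neg_mem _ h3
    -- find the first index not in `F`
    have hex : ∃ j : ℕ, ∃ h : j < l, j ≤ kk ∧ e.1 ⟨j, h⟩ ∉ S f.1 kk := by
      by_contra hcon
      push Not at hcon
      have hle : S e.1 ((kk : ℕ) + 1) ≤ S f.1 kk :=
        (S_le_iff _ _ _).mpr (fun j hj => hcon j j.2 (by omega))
      apply hf.notMem kk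
      apply hle
      rw [hS]
      exact mem_S_of_lt f.1 kk _ (Nat.lt_succ_self _)
    classical
    obtain ⟨hj0l, hj0k, hj0n⟩ := Nat.find_spec hex
    have hmin : ∀ i : Fin l, (i : ℕ) < Nat.find hex → e.1 i ∈ S f.1 kk := by
      intro i hi
      by_contra hni
      exact Nat.find_min hex hi ⟨i.2, by omega, hni⟩
    exact inner ((kk : ℕ) - Nat.find hex) e he htail hS ⟨Nat.find hex, hj0l⟩
      (by simp only; omega) ((S_le_iff _ _ _).mpr hmin) hj0n


/-! ### Conclusion -/

lemma S_lt_succ (e : Fin l → M) (he : Good R e) (a : Fin l) : S e a < S e ((a : ℕ) + 1) := by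
  refine lt_of_le_of_ne (S_mono e (Nat.le_succ _)) (fun h => he.notMem a ?_)
  rw [h]
  exact mem_S_of_lt e a _ (Nat.lt_succ_self _)

lemma S_top (hM : IsFiniteLength R M) (hl : l = (Module.length R M).toNat) (e : Fin l → M)
    (he : Good R e) : S e l = ⊤ := by
  obtain ⟨_, _⟩ := isFiniteLength_iff_isNoetherian_isArtinian.mp hM
  have hstep : ∀ i : ℕ, i ≤ l → (i : ℕ∞) ≤ Order.height (S e i) := by
    intro i
    induction i with
    | zero => intro _; simp
    | succ i ih =>
      intro hi
      have h1 := ih (Nat.le_of_succ_le hi)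
      have h2 : Order.height (S e i) < Order.height (S e (i + 1)) :=
        Submodule.height_strictMono (S_lt_succ e he ⟨i, hi⟩)
      have h3 : (i : ℕ∞) < Order.height (S e (i + 1)) := lt_of_le_of_lt h1 h2
      have := Order.add_one_le_of_lt h3
      simpa using this
  by_contra hne
  have h1 : Order.height (S e l) < Order.height (⊤ : Submodule R M) :=
    Submodule.height_strictMono (lt_top_iff_ne_top.mpr hne)
  have h2 : Order.height (⊤ : Submodule R M) = (l : ℕ∞) := by
    rw [← Module.length_eq_height, hl, ENat.natCast_toNat (Module.length_ne_top_iff.mpr hM)]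
  rw [h2] at h1
  exact absurd (hstep l le_rfl) (not_le.mpr h1)

theorem rank_det_le_one (hM : IsFiniteLength R M) :
    Module.rank (ResidueField R) (CycDet.Det R M) ≤ 1 := by
  rw [rank_le_one_iff]
  have hnotgood : ∀ e : CycDet.Adm R M (Module.length R M).toNat, ¬ Good R e.1 →
      cls R M e = 0 := by
    intro e he
    have : ∃ a : Fin (Module.length R M).toNat, e.1 a ∈ S e.1 a := by
      by_contra hcon
      push Not at hcon
      exact he ⟨e.2, hcon⟩
    obtain ⟨a, ha⟩ := this
    exact cls_a e a ha
  have key : ∀ (v₀ : CycDet.Det R M), (∀ e : CycDet.Adm R M (Module.length R M).toNat,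
      cls R M e ∈ Submodule.span (ResidueField R) {v₀}) →
      ∀ v : CycDet.Det R M, ∃ r : ResidueField R, r • v₀ = v := by
    intro v₀ h v
    rw [← Submodule.mem_span_singleton]
    obtain ⟨y, rfl⟩ := Submodule.Quotient.mk_surjective _ v
    induction y using Finsupp.induction_linear with
    | zero => exact Submodule.zero_mem _
    | add x y hx hy =>
      rw [Submodule.Quotient.mk_add]
      exact Submodule.add_mem _ hx hy
    | single e c =>
      have : (Finsupp.single e c : CycDet.Free R M _) = c • CycDet.sym R M e := by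
        rw [CycDet.sym, Finsupp.smul_single, smul_eq_mul, mul_one]
      rw [this, Submodule.Quotient.mk_smul]
      exact Submodule.smul_mem _ _ (h e)
  by_cases hg : ∃ f : CycDet.Adm R M (Module.length R M).toNat, Good R f.1
  · obtain ⟨f, hf⟩ := hg
    refine ⟨cls R M f, key _ ?_⟩
    intro e
    by_cases he : Good R e.1
    · refine main _ le_rfl e f he hf (fun i hi => absurd i.2 (not_lt.mpr hi)) ?_
      rw [S_top hM rfl e.1 he, S_top hM rfl f.1 hf]
    · rw [hnotgood e he]
      exact Submodule.zero_mem _
  · refine ⟨0, key _ ?_⟩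
    intro e
    rw [hnotgood e (fun he => hg ⟨e, he⟩)]
    exact Submodule.zero_mem _

end Groth.Agent.H8.CycDetRank
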