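import Groth.Agent.Lib.Helper29.DepthLoc4
import Groth.Agent.Lib.Helper29.DepthLoc3

/-!
helper8: spreading out regular sequences from a localization `M_p` to an open neighbourhood.
-/

set_option autoImplicit false
universe u v

namespace Groth.Agent.H8.DepthOpen

open IsLocalRing RingTheory.Sequence Groth.Agent.Lib.Helper29
open scoped Pointwise

variable (A : Type u) [CommRing A] [IsNoetherianRing A]

/-- The locus where `x/1` is `M_q`-regular is open. -/
theorem isOpen_setOf_isSMulRegular (M : Type v) [AddCommGroup M] [Module A M] [Module.Finite A M]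
    (x : A) :
    IsOpen {q : PrimeSpectrum A | IsSMulRegular (LocalizedModule q.asIdeal.primeCompl M)
      (algebraMap A (Localization.AtPrime q.asIdeal) x)} := by
  have : IsNoetherian A M := isNoetherian_of_isNoetherianRing_of_finite A M
  let K : Submodule A M := LinearMap.ker (LinearMap.lsmul A M x)
  have hK : Module.Finite A K := Module.Finite.of_fg (IsNoetherian.noetherian K)
  have hcl : IsClosed (Module.support A K) := Module.isClosed_support
  have : {q : PrimeSpectrum A | IsSMulRegular (LocalizedModule q.asIdeal.primeCompl M)
      (algebraMap A (Localization.AtPrime q.asIdeal) x)} = (Module.support A K)ᶜ := by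
    ext q
    simp only [Set.mem_setOf_eq, Set.mem_compl_iff]
    rw [Module.notMem_support_iff']
    erw [isSMulRegular_localizedModule_iff A q.asIdeal.primeCompl M x]
    constructor
    · intro h m
      obtain ⟨t, ht, htm⟩ := h m.1 (by simpa [K] using m.2)
      exact ⟨t, ht, Subtype.ext (by simpa using htm)⟩
    · intro h m hm
      obtain ⟨r, hr, hrm⟩ := h ⟨m, by simpa [K] using hm⟩
      exact ⟨r, hr, by simpa using congrArg Subtype.val hrm⟩
  rw [this]
  exact hcl.isOpen_compl

/-- The locus where the image of a list `as` is weakly `M_q`-regular is open. -/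
theorem isOpen_setOf_isWeaklyRegular (as : List A) :
    ∀ (M : Type v) [AddCommGroup M] [Module A M] [Module.Finite A M],
    IsOpen {q : PrimeSpectrum A | IsWeaklyRegular (LocalizedModule q.asIdeal.primeCompl M)
      (as.map (algebraMap A (Localization.AtPrime q.asIdeal)))} := by
  induction as with
  | nil =>
    intro M _ _ _
    simp only [List.map_nil]
    convert isOpen_univ
    ext q
    simp only [Set.mem_setOf_eq, Set.mem_univ, iff_true]
    exact IsWeaklyRegular.nil _ _
  | cons a as ih =>
    intro M _ _ _
    have h1 := isOpen_setOf_isSMulRegular A M a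
    have h2 := ih (QuotSMulTop a M)
    convert h1.inter h2 using 1
    ext q
    simp only [Set.mem_setOf_eq, Set.mem_inter_iff, List.map_cons]
    rw [isWeaklyRegular_cons_iff]
    refine and_congr Iff.rfl ?_
    exact ((localizedModuleQuotSMulTopEquiv A q.asIdeal M a).isWeaklyRegular_congr _).symm

/-- A regular sequence of length `n` in `I A_p` on `M_p` can be chosen to come from `I`. -/
theorem exists_list_of_le_idealDepth (p : Ideal A) [p.IsPrime] (I : Ideal A) (n : ℕ) :
    ∀ (M : Type u) [AddCommGroup M] [Module A M] [Module.Finite A M],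
      LocCoh.idealDepth (I.map (algebraMap A (Localization.AtPrime p)))
        (LocalizedModule p.primeCompl M) ≠ ⊤ →
      (n : ℕ∞) ≤ LocCoh.idealDepth (I.map (algebraMap A (Localization.AtPrime p)))
        (LocalizedModule p.primeCompl M) →
      ∃ as : List A, as.length = n ∧ (∀ a ∈ as, a ∈ I) ∧
        IsWeaklyRegular (LocalizedModule p.primeCompl M)
          (as.map (algebraMap A (Localization.AtPrime p))) := by
  induction n with
  | zero =>
    intro M _ _ _ _ _
    exact ⟨[], rfl, by simp, by simpa using IsWeaklyRegular.nil _ _⟩
  | succ n ih =>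
    intro M _ _ _ hne hle
    have hle' := hle
    rw [le_idealDepth_iff] at hle'
    rcases hle' with htop | ⟨rs, hlen, hmem, hreg⟩
    · exact absurd (idealDepth_of_smul_top_eq _ _ htop) hne
    · obtain ⟨r, rs', rfl⟩ : ∃ r rs', rs = r :: rs' := by
        cases rs with
        | nil => simp at hlen
        | cons r rs' => exact ⟨r, rs', rfl⟩
      have hr : r ∈ I.map (algebraMap A (Localization.AtPrime p)) := hmem r (by simp)
      have hrreg : IsSMulRegular (LocalizedModule p.primeCompl M) r :=
        ((isWeaklyRegular_cons_iff _ _ _).mp hreg).1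
      rw [IsLocalization.mem_map_algebraMap_iff p.primeCompl] at hr
      obtain ⟨⟨a, s⟩, has⟩ := hr
      have hunit : IsUnit (algebraMap A (Localization.AtPrime p) (s : A)) :=
        IsLocalization.map_units _ s
      have hareg : IsSMulRegular (LocalizedModule p.primeCompl M)
          (algebraMap A (Localization.AtPrime p) (a : A)) := by
        rw [← has]
        exact hrreg.mul (hunit.isSMulRegular _)
      have hamem : algebraMap A (Localization.AtPrime p) (a : A) ∈
          I.map (algebraMap A (Localization.AtPrime p)) := Ideal.mem_map_of_mem _ a.2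
      have hdrop := idealDepth_localizedModule_quotSMulTop_add_one A p
        (I.map (algebraMap A (Localization.AtPrime p))) M hamem hareg
      have hne' : LocCoh.idealDepth (I.map (algebraMap A (Localization.AtPrime p)))
          (LocalizedModule p.primeCompl (QuotSMulTop (a : A) M)) ≠ ⊤ := by
        intro h
        rw [h] at hdrop
        exact hne (by rw [← hdrop]; rfl)
      have hle'' : (n : ℕ∞) ≤ LocCoh.idealDepth (I.map (algebraMap A (Localization.AtPrime p)))
          (LocalizedModule p.primeCompl (QuotSMulTop (a : A) M)) := by
        rw [← hdrop] at hle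
        push_cast at hle
        exact (ENat.add_le_add_iff_right (by simp)).mp hle
      obtain ⟨as, hlen', hmem', hreg'⟩ := ih (QuotSMulTop (a : A) M) hne' hle''
      refine ⟨(a : A) :: as, by simp [hlen'], ?_, ?_⟩
      · intro b hb
        rcases List.mem_cons.mp hb with rfl | hb
        · exact a.2
        · exact hmem' b hb
      · rw [List.map_cons, isWeaklyRegular_cons_iff]
        refine ⟨hareg, ?_⟩
        exact ((localizedModuleQuotSMulTopEquiv A p M (a : A)).isWeaklyRegular_congr _).mp hreg'

/-- If `depth_{I A_p} M_p = e < ∞`, then `depth_{I A_q} M_q ≥ e` on an open neighbourhood of `p`. -/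
theorem exists_open_le_idealDepth (I : Ideal A) (M : Type u) [AddCommGroup M] [Module A M]
    [Module.Finite A M] (p : PrimeSpectrum A) (e : ℕ)
    (he : LocCoh.idealDepth (I.map (algebraMap A (Localization.AtPrime p.asIdeal)))
      (LocalizedModule p.asIdeal.primeCompl M) = e) :
    ∃ U : Set (PrimeSpectrum A), IsOpen U ∧ p ∈ U ∧ ∀ q ∈ U,
      (e : ℕ∞) ≤ LocCoh.idealDepth (I.map (algebraMap A (Localization.AtPrime q.asIdeal)))
        (LocalizedModule q.asIdeal.primeCompl M) := by
  obtain ⟨as, hlen, hmem, hreg⟩ := exists_list_of_le_idealDepth A p.asIdeal I e M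
    (by rw [he]; exact ENat.coe_ne_top e) he.ge
  refine ⟨_, isOpen_setOf_isWeaklyRegular A as M, hreg, ?_⟩
  intro q hq
  have := length_le_idealDepth (I.map (algebraMap A (Localization.AtPrime q.asIdeal)))
    (LocalizedModule q.asIdeal.primeCompl M) _ hq (by
      intro r hr
      obtain ⟨a, ha, rfl⟩ := List.mem_map.mp hr
      exact Ideal.mem_map_of_mem _ (hmem a ha))
  rwa [List.length_map, hlen] at this

end Groth.Agent.H8.DepthOpen
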