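import Groth.Prelude.Def_CAlg
import Mathlib.Topology.Inseparable
import Mathlib.RingTheory.Ideal.AssociatedPrime.Finiteness
import Mathlib.RingTheory.Localization.Module
import Mathlib.RingTheory.Spectrum.Prime.Topology
import Mathlib.RingTheory.Regular.RegularSequence
import Mathlib.RingTheory.Localization.Finiteness
import Mathlib.RingTheory.Localization.AtPrime.Basic
import Mathlib.RingTheory.Localization.Submodule

/-!
# Killing the sections supported on a specialization-closed set raises the depth along it
-/

set_option autoImplicit false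
universe u

namespace Groth.Agent.H8.DepthQuot

variable {A : Type u} [CommRing A] (T : Set (PrimeSpectrum A)) (M : Type u) [AddCommGroup M]
  [Module A M]

/-- The elements of `M` whose support is contained in `T`. -/
def torsT : Submodule A M where
  carrier := {m | ∀ q : PrimeSpectrum A, (∀ a : A, a • m = 0 → a ∈ q.asIdeal) → q ∈ T}
  zero_mem' := by
    intro q hq
    exact absurd ((Ideal.eq_top_iff_one _).mpr (hq 1 (smul_zero _))) q.2.ne_top
  add_mem' := by
    intro m m' hm hm' q hq
    by_contra hqT
    have h1 : ∃ a : A, a • m = 0 ∧ a ∉ q.asIdeal := by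
      by_contra h
      push Not at h
      exact hqT (hm q h)
    have h2 : ∃ a : A, a • m' = 0 ∧ a ∉ q.asIdeal := by
      by_contra h
      push Not at h
      exact hqT (hm' q h)
    obtain ⟨a, ha, haq⟩ := h1
    obtain ⟨a', ha', haq'⟩ := h2
    have : a * a' ∈ q.asIdeal := by
      apply hq
      rw [smul_add, mul_smul a a' m', ha', smul_zero, mul_comm, mul_smul a' a m, ha, smul_zero,
        add_zero]
    rcases q.2.mem_or_mem this with h | h
    · exact haq h
    · exact haq' h
  smul_mem' := by
    intro c m hm q hq
    apply hm q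
    intro a ha
    apply hq
    rw [smul_comm, ha, smul_zero]

variable {T M}

lemma mem_torsT {m : M} :
    m ∈ torsT T M ↔ ∀ q : PrimeSpectrum A, (∀ a : A, a • m = 0 → a ∈ q.asIdeal) → q ∈ T :=
  Iff.rfl

lemma mk_eq_zero_iff {S : Submonoid A} (m : M) (s : S) :
    LocalizedModule.mk m s = 0 ↔ ∃ u : S, u • m = 0 := by
  rw [← LocalizedModule.zero_mk (1 : S), LocalizedModule.mk_eq]
  simp


lemma map_mkQ_bijective (p : PrimeSpectrum A) (hp : p ∉ T) :
    Function.Bijective (LocalizedModule.map p.asIdeal.primeCompl (torsT T M).mkQ) := by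
  refine ⟨?_, LocalizedModule.map_surjective _ _ (Submodule.mkQ_surjective _)⟩
  rw [← LinearMap.ker_eq_bot, LinearMap.ker_eq_bot']
  intro x hx
  induction x using LocalizedModule.induction_on with
  | h m s =>
    rw [LocalizedModule.map_mk, mk_eq_zero_iff] at hx
    obtain ⟨t, ht⟩ := hx
    rw [mk_eq_zero_iff]
    have htm : (t : A) • m ∈ torsT T M := by
      rw [← Submodule.Quotient.mk_eq_zero, Submodule.Quotient.mk_smul]
      exact ht
    have : ∃ u : A, u • ((t : A) • m) = 0 ∧ u ∉ p.asIdeal := by
      by_contra h
      push Not at h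
      exact hp (htm p h)
    obtain ⟨u, hu, hup⟩ := this
    refine ⟨⟨u, hup⟩ * t, ?_⟩
    rw [Submonoid.smul_def, Submonoid.coe_mul, mul_smul]
    exact hu


/-- In `M / torsT`, an element killed by a prime of `T` is zero. -/
lemma eq_zero_of_prime_smul (hT : StableUnderSpecialization T) (p : PrimeSpectrum A) (hp : p ∈ T)
    (y' : M ⧸ torsT T M) (hy : ∀ a ∈ p.asIdeal, a • y' = 0) : y' = 0 := by
  obtain ⟨y, rfl⟩ := Submodule.Quotient.mk_surjective _ y'
  rw [Submodule.Quotient.mk_eq_zero, mem_torsT]
  intro q hq
  by_cases hpq : p.asIdeal ≤ q.asIdeal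
  · exact hT ((PrimeSpectrum.le_iff_specializes p q).mp hpq) hp
  · obtain ⟨a, hap, haq⟩ := Set.not_subset.mp hpq
    have hay : a • y ∈ torsT T M := by
      rw [← Submodule.Quotient.mk_eq_zero, Submodule.Quotient.mk_smul]
      exact hy a hap
    apply hay q
    intro b hb
    rw [← mul_smul] at hb
    rcases q.2.mem_or_mem (hq _ hb) with h | h
    · exact h
    · exact absurd h haq

/-- A finite module over a Noetherian local ring in which no nonzero element is killed by the
maximal ideal has depth at least one. -/
lemma one_le_depth (B : Type u) [CommRing B] [IsLocalRing B] [IsNoetherianRing B]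
    (P : Type u) [AddCommGroup P] [Module B P] [Module.Finite B P]
    (h : ∀ x : P, (∀ r ∈ IsLocalRing.maximalIdeal B, r • x = 0) → x = 0) :
    1 ≤ LocCoh.depth B P := by
  classical
  rw [LocCoh.depth, LocCoh.idealDepth]
  split_ifs with htop
  · exact le_top
  · have hreg : ∃ r ∈ IsLocalRing.maximalIdeal B, IsSMulRegular P r := by
      by_contra hcon
      push Not at hcon
      have hsub : (IsLocalRing.maximalIdeal B : Set B) ⊆
          ⋃ q ∈ (associatedPrimes.finite B P).toFinset, (q : Set B) := by
        intro r hr
        have hnr := hcon r hr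
        have : r ∈ { r : B | ∃ x : P, x ≠ 0 ∧ r • x = 0 } := by
          rw [IsSMulRegular, Function.Injective] at hnr
          push Not at hnr
          obtain ⟨x, y, hxy, hne⟩ := hnr
          exact ⟨x - y, sub_ne_zero.mpr hne, by rw [smul_sub]; exact sub_eq_zero.mpr hxy⟩
        rw [← biUnion_associatedPrimes_eq_zero_divisors] at this
        simpa using this
      obtain ⟨q, hq, hle⟩ := (Ideal.subset_union_prime (f := fun q : Ideal B => q)
        ⊥ ⊥ (fun q hq _ _ => ((Set.Finite.mem_toFinset _).mp hq).isPrime)).mp hsub
      have hqa : IsAssociatedPrime q P := (Set.Finite.mem_toFinset _).mp hq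
      have hqm : q = IsLocalRing.maximalIdeal B :=
        le_antisymm (IsLocalRing.le_maximalIdeal hqa.isPrime.ne_top) hle
      obtain ⟨-, x, hx⟩ := (isAssociatedPrime_iff.mp hqa)
      have hx0 : x = 0 := by
        apply h
        intro r hr
        rw [← hqm, hx, Submodule.mem_colon_singleton] at hr
        simpa using hr
      rw [hx0] at hx
      apply hqa.isPrime.ne_top
      rw [hx]
      ext r
      simp [Submodule.mem_colon_singleton]
    obtain ⟨r, hr, hreg⟩ := hreg
    refine le_iSup₂_of_le [r] ⟨(RingTheory.Sequence.isWeaklyRegular_singleton_iff P r).mpr hreg,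
      by simpa using hr⟩ (by simp)


lemma localized_eq_zero_of_maximalIdeal_smul [IsNoetherianRing A]
    (hT : StableUnderSpecialization T) (p : PrimeSpectrum A) (hp : p ∈ T)
    (x : LocalizedModule p.asIdeal.primeCompl (M ⧸ torsT T M))
    (hx : ∀ r ∈ IsLocalRing.maximalIdeal (Localization.AtPrime p.asIdeal), r • x = 0) :
    x = 0 := by
  classical
  induction x using LocalizedModule.induction_on with
  | h m' s =>
    have key : ∀ a ∈ p.asIdeal, ∃ t : p.asIdeal.primeCompl, t • a • m' = 0 := by
      intro a ha
      have h1 := hx (algebraMap A _ a)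
        ((IsLocalization.AtPrime.to_map_mem_maximal_iff _ p.asIdeal a).mpr ha)
      rw [algebraMap_smul, LocalizedModule.smul'_mk, mk_eq_zero_iff] at h1
      exact h1
    obtain ⟨G, hG⟩ := (isNoetherianRing_iff_ideal_fg A).mp inferInstance p.asIdeal
    have hGp : ∀ a ∈ G, a ∈ p.asIdeal := fun a ha => hG ▸ Ideal.subset_span ha
    choose! tt htt using key
    let t : p.asIdeal.primeCompl := ∏ a ∈ G, tt a
    have ht : ∀ a ∈ G, (t : A) • a • m' = 0 := by
      intro a ha
      have : t = (∏ b ∈ G.erase a, tt b) * tt a := (Finset.prod_erase_mul G tt ha).symm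
      rw [this, Submonoid.coe_mul, mul_smul]
      have := htt a (hGp a ha)
      rw [Submonoid.smul_def] at this
      rw [this, smul_zero]
    have hann : ∀ a ∈ p.asIdeal, a • ((t : A) • m') = 0 := by
      intro a ha
      have hle : p.asIdeal ≤ (Submodule.span A {(t : A) • m'}).annihilator := by
        refine hG.symm.le.trans ?_
        rw [Ideal.span_le]
        intro b hb
        rw [SetLike.mem_coe, Submodule.mem_annihilator_span_singleton, smul_comm]
        exact ht b hb
      exact (Submodule.mem_annihilator_span_singleton _ _).mp (hle ha)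
    have h0 := eq_zero_of_prime_smul hT p hp _ hann
    rw [mk_eq_zero_iff]
    exact ⟨t, h0⟩

theorem exists_quotient_depth_ge_one_along [IsNoetherianRing A]
    (hT : StableUnderSpecialization T) [Module.Finite A M] :
    ∃ (M' : Type u) (_ : AddCommGroup M') (_ : Module A M') (_ : Module.Finite A M')
      (f : M →ₗ[A] M'), Function.Surjective f ∧
      (∀ p : PrimeSpectrum A, p ∉ T →
        Function.Bijective (LocalizedModule.map p.asIdeal.primeCompl f)) ∧
      ∀ p : PrimeSpectrum A, p ∈ T →
        1 ≤ LocCoh.depth (Localization.AtPrime p.asIdeal)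
          (LocalizedModule p.asIdeal.primeCompl M') := by
  refine ⟨M ⧸ torsT T M, inferInstance, inferInstance, inferInstance, (torsT T M).mkQ,
    Submodule.mkQ_surjective _, fun p hp => map_mkQ_bijective p hp, fun p hp => ?_⟩
  have : IsNoetherianRing (Localization.AtPrime p.asIdeal) :=
    IsLocalization.isNoetherianRing p.asIdeal.primeCompl _ inferInstance
  exact one_le_depth _ _ (localized_eq_zero_of_maximalIdeal_smul hT p hp)

end Groth.Agent.H8.DepthQuot
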