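import Mathlib.Topology.KrullDimension
import Mathlib.Topology.Sober

/-!
# Dimension drops on a closed subset all of whose points have strict generizations
-/

set_option autoImplicit false

open TopologicalSpace Topology Order

namespace Groth.Agent.H8.DimCartier

theorem length_add_one_le_of_isClosedEmbedding {C T : Type*} [TopologicalSpace C]
    [TopologicalSpace T] [QuasiSober T] (g : C → T) (hg : IsClosedEmbedding g)
    (hgen : ∀ c : C, ∃ η : T, η ⤳ g c ∧ ¬ g c ⤳ η) (p : LTSeries (IrreducibleCloseds C)) :
    ((p.length + 1 : ℕ) : WithBot ℕ∞) ≤ topologicalKrullDim T := by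
  have hG : StrictMono (IrreducibleCloseds.map g hg.continuous) :=
    IrreducibleCloseds.map_strictMono_of_isInducing hg.isInducing
  let q := p.map (IrreducibleCloseds.map g hg.continuous) hG
  obtain ⟨ζ, hζ⟩ := QuasiSober.sober q.last.isIrreducible q.last.isClosed
  have hlast : (q.last : Set T) = g '' (p.last : Set C) := by
    rw [LTSeries.last_map]
    change closure (g '' p.last) = _
    exact (hg.isClosedMap _ p.last.isClosed).closure_eq
  have hζmem : ζ ∈ (q.last : Set T) := hζ.mem
  rw [hlast] at hζmem
  obtain ⟨c, -, rfl⟩ := hζmem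
  obtain ⟨η, hη1, hη2⟩ := hgen c
  let Z' : IrreducibleCloseds T :=
    ⟨closure {η}, isIrreducible_singleton.closure, isClosed_closure⟩
  have hdef : (q.last : Set T) = closure {g c} := hζ.def.symm
  have hlt : q.last < Z' := by
    rw [lt_iff_le_and_ne]
    constructor
    · intro z hz
      have hz' : z ∈ closure {g c} := hdef ▸ hz
      exact closure_minimal (Set.singleton_subset_iff.mpr (specializes_iff_mem_closure.mp hη1))
        isClosed_closure hz'
    · intro heq
      apply hη2
      rw [specializes_iff_mem_closure, ← hdef, heq]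
      exact subset_closure rfl
  have := LTSeries.length_le_krullDim (q.snoc Z' hlt)
  unfold topologicalKrullDim
  simpa [q] using this

theorem topologicalKrullDim_lt_of_isClosedEmbedding {C T : Type*} [TopologicalSpace C]
    [TopologicalSpace T] [QuasiSober T] [Nonempty T] (g : C → T) (hg : IsClosedEmbedding g)
    (hgen : ∀ c : C, ∃ η : T, η ⤳ g c ∧ ¬ g c ⤳ η) (hfin : topologicalKrullDim T ≠ ⊤) :
    topologicalKrullDim C < topologicalKrullDim T := by
  have key := length_add_one_le_of_isClosedEmbedding g hg hgen
  have hTne : Nonempty (IrreducibleCloseds T) := by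
    obtain ⟨x⟩ := ‹Nonempty T›
    exact ⟨⟨closure {x}, isIrreducible_singleton.closure, isClosed_closure⟩⟩
  have h0 : (0 : WithBot ℕ∞) ≤ topologicalKrullDim T := Order.krullDim_nonneg
  have hnb : topologicalKrullDim T ≠ ⊥ := by
    intro h
    rw [h] at h0
    simp at h0
  obtain ⟨a, ha⟩ := WithBot.ne_bot_iff_exists.mp hnb
  have ha' : a ≠ ⊤ := by
    rintro rfl
    exact hfin ha.symm
  obtain ⟨n, hn⟩ := ENat.ne_top_iff_exists.mp ha'
  rw [← ha, ← hn] at key ⊢
  by_cases hC : IsEmpty (IrreducibleCloseds C)
  · have : topologicalKrullDim C = ⊥ := Order.krullDim_eq_bot_iff.mpr hC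
    rw [this]
    exact WithBot.bot_lt_coe _
  · rw [not_isEmpty_iff] at hC
    obtain ⟨Z⟩ := hC
    have h1 := key (RelSeries.singleton _ Z)
    have h1' : (0 + 1 : ℕ) ≤ n := by exact_mod_cast h1
    obtain ⟨m, rfl⟩ : ∃ m, n = m + 1 := ⟨n - 1, by omega⟩
    have hle : topologicalKrullDim C ≤ ((m : ℕ) : WithBot ℕ∞) := by
      unfold topologicalKrullDim Order.krullDim
      apply iSup_le
      intro p
      have h2 := key p
      have h2' : (p.length + 1 : ℕ) ≤ m + 1 := by exact_mod_cast h2
      have h3 : p.length ≤ m := by omega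
      exact_mod_cast h3
    refine lt_of_le_of_lt hle ?_
    have : (m : ℕ) < m + 1 := by omega
    exact_mod_cast this

end Groth.Agent.H8.DimCartier
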