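import Mathlib

universe u
open Cardinal

namespace Groth.Agent.H8.DimFormula

theorem height_head_add_length_le {α : Type*} [Preorder α] (p : LTSeries α) :
    Order.height p.head + p.length ≤ Order.height p.last := by
  have key : ∀ i : Fin (p.length + 1), Order.height p.head + (i : ℕ) ≤ Order.height (p i) := by
    intro i
    induction i using Fin.induction with
    | zero => simp [RelSeries.head]
    | succ i ih =>
      have h1 : p i.castSucc < p i.succ := p.step i
      have h2 := Order.height_add_one_le h1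
      calc Order.height p.head + ((i.succ : Fin (p.length + 1)) : ℕ)
          = (Order.height p.head + ((i.castSucc : Fin (p.length + 1)) : ℕ)) + 1 := by
            simp [add_assoc]
        _ ≤ Order.height (p i.castSucc) + 1 := by gcongr
        _ ≤ _ := h2
  have := key (Fin.last _)
  simpa [RelSeries.last] using this

theorem enat_add_le_of_forall {x y z : ℕ∞}
    (h : ∀ n m : ℕ, (n : ℕ∞) ≤ x → (m : ℕ∞) ≤ y → ((n + m : ℕ) : ℕ∞) ≤ z) : x + y ≤ z := by
  induction x with
  | top =>
    have : z = ⊤ := by
      rw [ENat.eq_top_iff_forall_ge]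
      intro n
      have := h n 0 le_top (by simp)
      simpa using this
    rw [this]; exact le_top
  | coe n =>
    induction y with
    | top =>
      have : z = ⊤ := by
        rw [ENat.eq_top_iff_forall_ge]
        intro m
        have := h 0 m (by simp) le_top
        simpa using this
      rw [this]; exact le_top
    | coe m =>
      exact_mod_cast h n m le_rfl le_rfl

theorem height_map_mk_add_height_le (T : Type u) [CommRing T] (Q q' : Ideal T) [hQ : Q.IsPrime]
    [hq' : q'.IsPrime] (hQq : Q ≤ q') [hq : (q'.map (Ideal.Quotient.mk Q)).IsPrime] :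
    (q'.map (Ideal.Quotient.mk Q)).height + Q.height ≤ q'.height := by
  apply enat_add_le_of_forall
  intro n m hn hm
  have e1 : (q'.map (Ideal.Quotient.mk Q)).height =
      Order.height (⟨_, hq⟩ : PrimeSpectrum (T ⧸ Q)) := PrimeSpectrum.height_eq_orderHeight ⟨_, hq⟩
  have e2 : Q.height = Order.height (⟨Q, hQ⟩ : PrimeSpectrum T) :=
    PrimeSpectrum.height_eq_orderHeight ⟨Q, hQ⟩
  have e3 : q'.height = Order.height (⟨q', hq'⟩ : PrimeSpectrum T) :=
    PrimeSpectrum.height_eq_orderHeight ⟨q', hq'⟩
  rw [e1] at hn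
  rw [e2] at hm
  rw [e3]
  obtain ⟨p₂, hp₂last, hp₂len⟩ := Order.exists_series_of_le_height _ hn
  have hsurj : Function.Surjective (Ideal.Quotient.mk Q) := Ideal.Quotient.mk_surjective
  have hmono : StrictMono (PrimeSpectrum.comap (Ideal.Quotient.mk Q)) := by
    intro a b hab
    refine lt_of_le_of_ne ?_ ?_
    · change a.asIdeal.comap _ ≤ b.asIdeal.comap _
      exact Ideal.comap_mono hab.le
    · intro h
      exact hab.ne (PrimeSpectrum.comap_injective_of_surjective _ hsurj h)
  let p₂' := p₂.map _ hmono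
  have hlast : p₂'.last = ⟨q', hq'⟩ := by
    rw [LTSeries.last_map, hp₂last]
    apply PrimeSpectrum.ext
    change (q'.map (Ideal.Quotient.mk Q)).comap (Ideal.Quotient.mk Q) = q'
    rw [Ideal.comap_map_of_surjective _ hsurj, ← RingHom.ker_eq_comap_bot, Ideal.mk_ker]
    exact sup_eq_left.mpr hQq
  have hhead : (⟨Q, hQ⟩ : PrimeSpectrum T) ≤ p₂'.head := by
    rw [LTSeries.head_map]
    change Q ≤ (p₂.head).asIdeal.comap (Ideal.Quotient.mk Q)
    intro x hx
    rw [Ideal.mem_comap, Ideal.Quotient.eq_zero_iff_mem.mpr hx]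
    exact Ideal.zero_mem _
  have h1 := height_head_add_length_le p₂'
  have h2 : Order.height (⟨Q, hQ⟩ : PrimeSpectrum T) ≤ Order.height p₂'.head :=
    Order.height_mono hhead
  rw [hlast] at h1
  have hlen : p₂'.length = n := by rw [LTSeries.map_length, hp₂len]
  calc ((n + m : ℕ) : ℕ∞) = (m : ℕ∞) + (n : ℕ∞) := by push_cast; ring
    _ ≤ Order.height (⟨Q, hQ⟩ : PrimeSpectrum T) + (n : ℕ∞) := by gcongr
    _ ≤ Order.height p₂'.head + (p₂'.length : ℕ∞) := by rw [hlen]; gcongr
    _ ≤ _ := h1

end Groth.Agent.H8.DimFormula
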