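import Mathlib

universe u
open Cardinal

namespace Groth.Agent.H8.DimFormula

/-- tower of quotients -/
theorem isScalarTower_quotient (R R' S : Type u) [CommRing R] [CommRing R'] [CommRing S] [Algebra R R'] [Algebra R' S] [Algebra R S]
    [IsScalarTower R R' S] (p : Ideal R) (p' : Ideal R') (q : Ideal S) [q.LiesOver p'] [p'.LiesOver p] [q.LiesOver p] :
    IsScalarTower (R ⧸ p) (R' ⧸ p') (S ⧸ q) := by
  apply IsScalarTower.of_algebraMap_eq
  rintro ⟨x⟩
  change algebraMap (R ⧸ p) (S ⧸ q) (Ideal.Quotient.mk p x) =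
    algebraMap (R' ⧸ p') (S ⧸ q) (algebraMap (R ⧸ p) (R' ⧸ p') (Ideal.Quotient.mk p x))
  rw [Ideal.Quotient.algebraMap_mk_of_liesOver, Ideal.Quotient.algebraMap_mk_of_liesOver,
    Ideal.Quotient.algebraMap_mk_of_liesOver, IsScalarTower.algebraMap_apply R R' S]

/-- the (in)equality to be proven, as a predicate -/
def DimLE (R S : Type u) [CommRing R] [CommRing S] [Algebra R S] : Prop :=
  ∀ (p : Ideal R) [p.IsPrime] (q : Ideal S) [q.IsPrime] [q.LiesOver p],
    (q.height : Cardinal.{u}) + Algebra.trdeg (R ⧸ p) (S ⧸ q) ≤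
      (p.height : Cardinal.{u}) + Algebra.trdeg R S

def DimEQ (R S : Type u) [CommRing R] [CommRing S] [Algebra R S] : Prop :=
  ∀ (p : Ideal R) [p.IsPrime] (q : Ideal S) [q.IsPrime] [q.LiesOver p],
    (q.height : Cardinal.{u}) + Algebra.trdeg (R ⧸ p) (S ⧸ q) =
      (p.height : Cardinal.{u}) + Algebra.trdeg R S

theorem trdeg_quotient_tower (R R' S : Type u) [CommRing R] [CommRing R'] [CommRing S]
    [Algebra R R'] [Algebra R' S] [Algebra R S]
    [IsScalarTower R R' S] (p : Ideal R) (p' : Ideal R') (q : Ideal S) [p.IsPrime] [q.IsPrime]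
    [q.LiesOver p'] [p'.LiesOver p] [q.LiesOver p] :
    Algebra.trdeg (R ⧸ p) (R' ⧸ p') + Algebra.trdeg (R' ⧸ p') (S ⧸ q) =
      Algebra.trdeg (R ⧸ p) (S ⧸ q) := by
  have := isScalarTower_quotient R R' S p p' q
  exact trdeg_add_eq (R ⧸ p) (R' ⧸ p') (A := S ⧸ q)

theorem DimLE.trans (R R' S : Type u) [CommRing R] [CommRing R'] [CommRing S] [IsDomain S]
    [Algebra R R'] [Algebra R' S] [Algebra R S] [IsScalarTower R R' S] [Nontrivial R]
    [FaithfulSMul R R'] [FaithfulSMul R' S]
    (h1 : DimLE R R') (h2 : DimLE R' S) : DimLE R S := by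
  intro p _ q _ _
  have hp' : (q.under R').LiesOver p := inferInstance
  have h3 := h1 p (q.under R')
  have h4 := h2 (q.under R') q
  rw [← trdeg_quotient_tower R R' S p (q.under R') q, ← trdeg_add_eq R R' (A := S)]
  calc (q.height : Cardinal.{u}) + (Algebra.trdeg (R ⧸ p) (R' ⧸ q.under R') +
        Algebra.trdeg (R' ⧸ q.under R') (S ⧸ q))
      = ((q.height : Cardinal.{u}) + Algebra.trdeg (R' ⧸ q.under R') (S ⧸ q)) +
          Algebra.trdeg (R ⧸ p) (R' ⧸ q.under R') := by ring
    _ ≤ (((q.under R').height : Cardinal.{u}) + Algebra.trdeg R' S) +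
          Algebra.trdeg (R ⧸ p) (R' ⧸ q.under R') := by gcongr
    _ = (((q.under R').height : Cardinal.{u}) + Algebra.trdeg (R ⧸ p) (R' ⧸ q.under R')) +
          Algebra.trdeg R' S := by ring
    _ ≤ ((p.height : Cardinal.{u}) + Algebra.trdeg R R') + Algebra.trdeg R' S := by gcongr
    _ = _ := by ring

theorem DimEQ.trans (R R' S : Type u) [CommRing R] [CommRing R'] [CommRing S] [IsDomain S]
    [Algebra R R'] [Algebra R' S] [Algebra R S] [IsScalarTower R R' S] [Nontrivial R]
    [FaithfulSMul R R'] [FaithfulSMul R' S]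
    (h1 : DimEQ R R') (h2 : DimEQ R' S) : DimEQ R S := by
  intro p _ q _ _
  have hp' : (q.under R').LiesOver p := inferInstance
  have h3 := h1 p (q.under R')
  have h4 := h2 (q.under R') q
  rw [← trdeg_quotient_tower R R' S p (q.under R') q, ← trdeg_add_eq R R' (A := S)]
  calc (q.height : Cardinal.{u}) + (Algebra.trdeg (R ⧸ p) (R' ⧸ q.under R') +
        Algebra.trdeg (R' ⧸ q.under R') (S ⧸ q))
      = ((q.height : Cardinal.{u}) + Algebra.trdeg (R' ⧸ q.under R') (S ⧸ q)) +
          Algebra.trdeg (R ⧸ p) (R' ⧸ q.under R') := by ring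
    _ = (((q.under R').height : Cardinal.{u}) + Algebra.trdeg R' S) +
          Algebra.trdeg (R ⧸ p) (R' ⧸ q.under R') := by rw [h4]
    _ = (((q.under R').height : Cardinal.{u}) + Algebra.trdeg (R ⧸ p) (R' ⧸ q.under R')) +
          Algebra.trdeg R' S := by ring
    _ = ((p.height : Cardinal.{u}) + Algebra.trdeg R R') + Algebra.trdeg R' S := by rw [h3]
    _ = _ := by ring

end Groth.Agent.H8.DimFormula
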