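import Mathlib
import Groth.Agent.H8.DimFormulaTrans
import Groth.Agent.H8.DimFormulaHeight
import Groth.Agent.S4730
import Groth.Agent.H46.Catenary
import Groth.Agent.H46.CatenaryDim
import Groth.Agent.Lib.Helper22.DimFormula
import Groth.Agent.Lib.Helper29.DepthLoc4

universe u
open Cardinal Polynomial

namespace Groth.Agent.H8.DimFormula

/-- In a catenary Noetherian domain, `ht q' = ht(q'/Q) + ht Q`. -/
theorem height_eq_height_map_mk_add_height (T : Type u) [CommRing T] [IsDomain T]
    [IsNoetherianRing T] (hcat : CAlg.IsCatenary T) (Q q' : Ideal T) [hQ : Q.IsPrime]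
    [hq' : q'.IsPrime] (hQq : Q ≤ q') :
    q'.height = (q'.map (Ideal.Quotient.mk Q)).height + Q.height := by
  have hle : q'.primeCompl ≤ nonZeroDivisors T := by
    intro x hx
    apply mem_nonZeroDivisors_of_ne_zero
    rintro rfl
    exact hx q'.zero_mem
  have hd : IsDomain (Localization.AtPrime q') := IsLocalization.isDomain_localization hle
  have hN : IsNoetherianRing (Localization.AtPrime q') :=
    IsLocalization.isNoetherianRing q'.primeCompl _ inferInstance
  have hcatA : CAlg.IsCatenary (Localization.AtPrime q') :=
    Groth.Agent.H46.isCatenary_of_isLocalization _ q'.primeCompl hcat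
  have hEq : EGA4.IsEquidim (Localization.AtPrime q') := by
    intro p hp
    rw [IsDomain.minimalPrimes_eq_singleton_bot, Set.mem_singleton_iff] at hp
    subst hp
    exact ringKrullDim_eq_of_ringEquiv (RingEquiv.quotientBot _)
  have hdisj : Disjoint (q'.primeCompl : Set T) (Q : Set T) := by
    rw [Set.disjoint_left]
    intro x hx hxQ
    exact hx (hQq hxQ)
  have hP : (Q.map (algebraMap T (Localization.AtPrime q'))).IsPrime :=
    IsLocalization.isPrime_of_isPrime_disjoint q'.primeCompl _ Q hQ hdisj
  have hht : (Q.map (algebraMap T (Localization.AtPrime q'))).height = Q.height :=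
    IsLocalization.height_map_of_disjoint q'.primeCompl Q hdisj
  have h1 := Groth.Agent.Lib.Helper22.ringKrullDim_eq_coheight_add_height
    (Localization.AtPrime q') hEq hcatA ⟨_, hP⟩
  have h2 := Groth.Agent.H46.ringKrullDim_quotient_eq_coheight
    (⟨_, hP⟩ : PrimeSpectrum (Localization.AtPrime q'))
  have h3 := Groth.Agent.Lib.Helper29.ringKrullDim_localization_quotient_map_eq_height T hQq
  have h4 := IsLocalization.AtPrime.ringKrullDim_eq_height q' (Localization.AtPrime q')
  have h5 : Order.height (⟨_, hP⟩ : PrimeSpectrum (Localization.AtPrime q')) = Q.height := by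
    rw [← hht]
    exact (PrimeSpectrum.height_eq_orderHeight ⟨_, hP⟩).symm
  simp only at h2
  rw [h3] at h2
  have h6 : Order.coheight (⟨_, hP⟩ : PrimeSpectrum (Localization.AtPrime q')) =
      (q'.map (Ideal.Quotient.mk Q)).height := by exact_mod_cast h2.symm
  rw [h4, h5, h6] at h1
  exact_mod_cast h1

end Groth.Agent.H8.DimFormula
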