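import Mathlib
import Groth.Agent.H8.DimFormulaCat

universe u
open Cardinal Polynomial

namespace Groth.Agent.H8.DimFormula

/-- quotient by a comap under a surjective algebra map: trdeg over `R/p` is unchanged -/
theorem trdeg_quotient_comap_eq (R T S : Type u) [CommRing R] [CommRing T] [CommRing S]
    [Algebra R T] [Algebra R S] (φ : T →ₐ[R] S) (hφ : Function.Surjective φ)
    (p : Ideal R) (q : Ideal S) [q.LiesOver p] :
    Algebra.trdeg (R ⧸ p) (T ⧸ q.comap φ) = Algebra.trdeg (R ⧸ p) (S ⧸ q) := by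
  let π : T →+* S ⧸ q := (Ideal.Quotient.mk q).comp (φ : T →+* S)
  have hπ : Function.Surjective π := Ideal.Quotient.mk_surjective.comp hφ
  have hker : q.comap φ = RingHom.ker π := by
    ext x
    rw [Ideal.mem_comap, RingHom.mem_ker]
    change φ x ∈ q ↔ Ideal.Quotient.mk q (φ x) = 0
    rw [Ideal.Quotient.eq_zero_iff_mem]
  let ψ : (T ⧸ q.comap φ) ≃+* (S ⧸ q) :=
    (Ideal.quotEquivOfEq hker).trans (RingHom.quotientKerEquivOfSurjective hπ)
  have hcomm : ∀ x : R ⧸ p, ψ (algebraMap (R ⧸ p) (T ⧸ q.comap φ) x) =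
      algebraMap (R ⧸ p) (S ⧸ q) x := by
    rintro ⟨r⟩
    change ψ (algebraMap (R ⧸ p) (T ⧸ q.comap φ) (Ideal.Quotient.mk p r)) =
      algebraMap (R ⧸ p) (S ⧸ q) (Ideal.Quotient.mk p r)
    rw [Ideal.Quotient.algebraMap_mk_of_liesOver, Ideal.Quotient.algebraMap_mk_of_liesOver]
    change Ideal.Quotient.mk q (φ (algebraMap R T r)) = _
    rw [φ.commutes]
  exact (AlgEquiv.ofRingEquiv (f := ψ) hcomm).trdeg_eq

section OneGen

variable (R S : Type u) [CommRing R] [IsDomain R] [IsNoetherianRing R] [CommRing S] [IsDomain S]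
  [Algebra R S] [FaithfulSMul R S] (φ : R[X] →ₐ[R] S) (hφ : Function.Surjective φ)

include hφ in
/-- key computation for one generator -/
theorem oneGen_key (p : Ideal R) [p.IsPrime] (q : Ideal S) [q.IsPrime] [q.LiesOver p] :
    ∃ (Q q' : Ideal R[X]) (_ : Q.IsPrime) (_ : q'.IsPrime) (_ : Q ≤ q')
      (_ : (q'.map (Ideal.Quotient.mk Q)).IsPrime),
      q.height = (q'.map (Ideal.Quotient.mk Q)).height ∧
      (1 : Cardinal.{u}) = (Q.height : Cardinal.{u}) + Algebra.trdeg R S ∧
      (p.height : Cardinal.{u}) + 1 = (q'.height : Cardinal.{u}) + Algebra.trdeg (R ⧸ p) (S ⧸ q) := by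
  have hQprime : (RingHom.ker φ).IsPrime := RingHom.ker_isPrime _
  have hq'prime : (q.comap φ).IsPrime := inferInstance
  have hQq : RingHom.ker φ ≤ q.comap φ := by
    intro f hf
    rw [Ideal.mem_comap]
    have : φ f = 0 := hf
    rw [this]
    exact q.zero_mem
  have hmapprime : ((q.comap φ).map (Ideal.Quotient.mk (RingHom.ker φ))).IsPrime :=
    Ideal.map_isPrime_of_surjective Ideal.Quotient.mk_surjective (by rwa [Ideal.mk_ker])
  refine ⟨RingHom.ker φ, q.comap φ, hQprime, hq'prime, hQq, hmapprime, ?_, ?_, ?_⟩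
  · -- heights
    let e : (R[X] ⧸ RingHom.ker φ) ≃+* S :=
      (Ideal.quotientKerAlgEquivOfSurjective hφ).toRingEquiv
    have h1 : q.comap e = (q.comap φ).map (Ideal.Quotient.mk (RingHom.ker φ)) := by
      ext x
      obtain ⟨f, rfl⟩ := Ideal.Quotient.mk_surjective x
      rw [Ideal.mem_comap, Ideal.mem_quotient_iff_mem hQq, Ideal.mem_comap]
      rfl
    rw [← h1, RingEquiv.height_comap]
  · -- `Q` lies over `⊥`
    have hover : (RingHom.ker φ).LiesOver (⊥ : Ideal R) := by
      constructor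
      ext x
      rw [Ideal.mem_bot, Ideal.under_def, Ideal.mem_comap, RingHom.mem_ker,
        Polynomial.algebraMap_apply, Algebra.algebraMap_self_apply]
      constructor
      · rintro rfl; simp
      · intro h
        have h2 : φ (C x) = algebraMap R S x := φ.commutes x
        rw [h2] at h
        exact (FaithfulSMul.algebraMap_injective R S) (by rw [h, map_zero])
    have h1 := Groth.Agent.S4730.result R (⊥ : Ideal R) (RingHom.ker φ)
    rw [Ideal.height_bot] at h1
    have h2 : Algebra.trdeg R (R[X] ⧸ RingHom.ker φ) = Algebra.trdeg R S :=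
      (Ideal.quotientKerAlgEquivOfSurjective hφ).trdeg_eq
    have hf1 : FaithfulSMul R (R ⧸ (⊥ : Ideal R)) := by
      rw [faithfulSMul_iff_algebraMap_injective, Ideal.Quotient.algebraMap_eq]
      exact (RingHom.injective_iff_ker_eq_bot _).mpr Ideal.mk_ker
    have h3 := trdeg_add_eq R (R ⧸ (⊥ : Ideal R)) (A := R[X] ⧸ RingHom.ker φ)
    rw [trdeg_eq_zero, zero_add] at h3
    rw [← h2, ← h3]
    simpa using h1
  · have h1 := Groth.Agent.S4730.result R p (q.comap φ)
    rw [h1]
    congr 1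
    exact trdeg_quotient_comap_eq R R[X] S φ hφ p q

include hφ in
theorem dimLE_of_surjective_polynomial : DimLE R S := by
  intro p _ q _ _
  obtain ⟨Q, q', hQ, hq', hQq, hmap, h1, h2, h3⟩ := oneGen_key R S φ hφ p q
  have hH := height_map_mk_add_height_le R[X] Q q' hQq
  rw [← h1] at hH
  rw [← Cardinal.add_one_le_add_one_iff]
  calc (q.height : Cardinal.{u}) + Algebra.trdeg (R ⧸ p) (S ⧸ q) + 1
      = (q.height : Cardinal.{u}) + Algebra.trdeg (R ⧸ p) (S ⧸ q) +
          ((Q.height : Cardinal.{u}) + Algebra.trdeg R S) := by rw [← h2]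
    _ = ((q.height : Cardinal.{u}) + (Q.height : Cardinal.{u})) +
          Algebra.trdeg (R ⧸ p) (S ⧸ q) + Algebra.trdeg R S := by ring
    _ = (((q.height + Q.height : ℕ∞)) : Cardinal.{u}) +
          Algebra.trdeg (R ⧸ p) (S ⧸ q) + Algebra.trdeg R S := by rw [Cardinal.ofENat_add]
    _ ≤ (q'.height : Cardinal.{u}) + Algebra.trdeg (R ⧸ p) (S ⧸ q) + Algebra.trdeg R S := by
        gcongr
    _ = (p.height : Cardinal.{u}) + 1 + Algebra.trdeg R S := by rw [h3]
    _ = _ := by ring

include hφ in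
theorem dimEQ_of_surjective_polynomial (hcat : CAlg.IsCatenary R[X]) : DimEQ R S := by
  intro p _ q _ _
  obtain ⟨Q, q', hQ, hq', hQq, hmap, h1, h2, h3⟩ := oneGen_key R S φ hφ p q
  have hH := height_eq_height_map_mk_add_height R[X] hcat Q q' hQq
  rw [← h1] at hH
  rw [← Cardinal.add_one_inj]
  calc (q.height : Cardinal.{u}) + Algebra.trdeg (R ⧸ p) (S ⧸ q) + 1
      = (q.height : Cardinal.{u}) + Algebra.trdeg (R ⧸ p) (S ⧸ q) +
          ((Q.height : Cardinal.{u}) + Algebra.trdeg R S) := by rw [← h2]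
    _ = ((q.height : Cardinal.{u}) + (Q.height : Cardinal.{u})) +
          Algebra.trdeg (R ⧸ p) (S ⧸ q) + Algebra.trdeg R S := by ring
    _ = (((q.height + Q.height : ℕ∞)) : Cardinal.{u}) +
          Algebra.trdeg (R ⧸ p) (S ⧸ q) + Algebra.trdeg R S := by rw [Cardinal.ofENat_add]
    _ = (q'.height : Cardinal.{u}) + Algebra.trdeg (R ⧸ p) (S ⧸ q) + Algebra.trdeg R S := by
        rw [hH]
    _ = (p.height : Cardinal.{u}) + 1 + Algebra.trdeg R S := by rw [h3]
    _ = _ := by ring

end OneGen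

end Groth.Agent.H8.DimFormula
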