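import Mathlib
import Groth.Agent.H8.DimFormulaOneGen

universe u
open Cardinal Polynomial

namespace Groth.Agent.H8.DimFormula

section Induction

variable (R : Type u) [CommRing R] [IsDomain R] [IsNoetherianRing R]

/-- the common induction: a property of injective domain extensions that holds for one-generator
extensions and is transitive holds for finitely generated ones. -/
theorem induction_generators
    (P : ∀ (A B : Type u) [CommRing A] [CommRing B] [Algebra A B], Prop)
    (hone : ∀ (A : Type u) [CommRing A] [IsDomain A] [IsNoetherianRing A] [Algebra R A]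
      [Algebra.FiniteType R A] (B : Type u) [CommRing B] [IsDomain B] [Algebra A B]
      [FaithfulSMul A B] (φ : A[X] →ₐ[A] B), Function.Surjective φ → P A B)
    (htrans : ∀ (A B : Type u) [CommRing A] [CommRing B] [IsDomain B] [Algebra R A] [Algebra A B]
      [Algebra R B] [IsScalarTower R A B] [FaithfulSMul R A] [FaithfulSMul A B],
      P R A → P A B → P R B) :
    ∀ (n : ℕ) (S : Type u) [CommRing S] [IsDomain S] [Algebra R S] [FaithfulSMul R S],
      (∃ s : Finset S, s.card ≤ n ∧ Algebra.adjoin R (s : Set S) = ⊤) → P R S := by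
  intro n
  induction n with
  | zero =>
    intro S _ _ _ _ ⟨s, hs, hadj⟩
    have hs0 : s = ∅ := Finset.card_eq_zero.mp (Nat.le_zero.mp hs)
    subst hs0
    have hsurj : Function.Surjective (algebraMap R S) := by
      rw [Finset.coe_empty, Algebra.adjoin_empty] at hadj
      exact Algebra.surjective_algebraMap_iff.mpr hadj.symm
    refine hone R S (aeval (0 : S)) ?_
    intro y
    obtain ⟨r, rfl⟩ := hsurj y
    exact ⟨C r, by simp⟩
  | succ n ih =>
    intro S _ _ _ _ ⟨s, hs, hadj⟩
    classical
    -- choose an element
    obtain ⟨x, s', hs', hss'⟩ : ∃ (x : S) (s' : Finset S), s'.card ≤ n ∧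
        (s : Set S) ⊆ insert x (s' : Set S) := by
      rcases s.eq_empty_or_nonempty with rfl | ⟨x, hx⟩
      · exact ⟨0, ∅, by simp, by simp⟩
      · refine ⟨x, s.erase x, ?_, ?_⟩
        · rw [Finset.card_erase_of_mem hx]; omega
        · intro y hy
          by_cases hyx : y = x
          · exact Or.inl hyx
          · exact Or.inr (Finset.mem_erase.mpr ⟨hyx, hy⟩)
    let R' : Subalgebra R S := Algebra.adjoin R (s' : Set S)
    have hft : Algebra.FiniteType R R' :=
      (Subalgebra.fg_iff_finiteType R').mp ⟨s', rfl⟩
    have hN : IsNoetherianRing R' := Algebra.FiniteType.isNoetherianRing R R'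
    have hf1 : FaithfulSMul R R' := by
      rw [faithfulSMul_iff_algebraMap_injective]
      intro a b hab
      apply FaithfulSMul.algebraMap_injective R S
      have := congrArg (Subtype.val) hab
      simpa using this
    -- generators of R'
    let t : Finset R' := s'.attach.image (fun y => ⟨y.1, Algebra.subset_adjoin y.2⟩)
    have htcard : t.card ≤ n := by
      calc t.card ≤ s'.attach.card := Finset.card_image_le
        _ = s'.card := Finset.card_attach
        _ ≤ n := hs'
    have htset : (t : Set R') = ((↑) : R' → S) ⁻¹' (s' : Set S) := by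
      ext z
      simp only [t, Finset.coe_image, Set.mem_image, Finset.mem_coe, Finset.mem_attach, true_and,
        Set.mem_preimage, Subtype.exists]
      constructor
      · rintro ⟨y, hy, rfl⟩
        exact hy
      · intro hz
        exact ⟨z.1, hz, rfl⟩
    have htadj : Algebra.adjoin R (t : Set R') = ⊤ := by
      rw [htset]
      exact Algebra.adjoin_adjoin_coe_preimage
    have h1 : P R R' := ih R' ⟨t, htcard, htadj⟩
    -- one generator
    have hφ : Function.Surjective (aeval (R := R') x : R'[X] →ₐ[R'] S) := by
      intro y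
      have hy : y ∈ Algebra.adjoin R (s : Set S) := by rw [hadj]; trivial
      have hle : Algebra.adjoin R (s : Set S) ≤
          (aeval (R := R') x : R'[X] →ₐ[R'] S).range.restrictScalars R := by
        apply Algebra.adjoin_le
        intro z hz
        rcases hss' hz with rfl | hz'
        · exact ⟨X, by simp⟩
        · exact ⟨C ⟨z, Algebra.subset_adjoin hz'⟩, by simp⟩
      exact hle hy
    have h2 : P R' S := hone R' S _ hφ
    exact htrans R' S h1 h2

theorem dimLE_of_finiteType (S : Type u) [CommRing S] [IsDomain S] [Algebra R S]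
    [FaithfulSMul R S] [Algebra.FiniteType R S] : DimLE R S := by
  obtain ⟨s, hs⟩ := (Algebra.FiniteType.out : (⊤ : Subalgebra R S).FG)
  refine induction_generators R (fun A B _ _ _ => DimLE A B) ?_ ?_ s.card S ⟨s, le_rfl, hs⟩
  · intro A _ _ _ _ _ B _ _ _ _ φ hφ
    exact dimLE_of_surjective_polynomial A B φ hφ
  · intro A B _ _ _ _ _ _ _ _ _ h1 h2
    exact DimLE.trans R A B h1 h2

theorem dimEQ_of_finiteType
    (hcat : ∀ (T : Type u) [CommRing T] [Algebra R T], Algebra.FiniteType R T → CAlg.IsCatenary T)
    (S : Type u) [CommRing S] [IsDomain S] [Algebra R S]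
    [FaithfulSMul R S] [Algebra.FiniteType R S] : DimEQ R S := by
  obtain ⟨s, hs⟩ := (Algebra.FiniteType.out : (⊤ : Subalgebra R S).FG)
  refine induction_generators R (fun A B _ _ _ => DimEQ A B) ?_ ?_ s.card S ⟨s, le_rfl, hs⟩
  · intro A _ _ _ _ hA B _ _ _ _ φ hφ
    have hft : Algebra.FiniteType R A[X] := Algebra.FiniteType.trans hA inferInstance
    exact dimEQ_of_surjective_polynomial A B φ hφ (hcat A[X] hft)
  · intro A B _ _ _ _ _ _ _ _ _ h1 h2
    exact DimEQ.trans R A B h1 h2

end Induction

end Groth.Agent.H8.DimFormula
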