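import Groth.Agent.H8.EffCartier2
import Mathlib.AlgebraicGeometry.Morphisms.QuasiCompact

/-!
# Pullback of an effective Cartier ideal sheaf along a blowing up is effective Cartier
-/

set_option autoImplicit false
universe u

open CategoryTheory AlgebraicGeometry

namespace Groth.Agent.H8.EffCartier

open Groth.Agent.Lib.Helper18

variable {X X' : Scheme.{u}}

/-- On an affine open, a section vanishing on `D(t)` for a nonzerodivisor `t` vanishes. -/
lemma eq_zero_of_res_basicOpen_eq_zero {U : X.Opens} (hU : IsAffineOpen U) (t z : Γ(X, U))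
    (ht : t ∈ nonZeroDivisors Γ(X, U))
    (hz : (X.presheaf.map (homOfLE (X.basicOpen_le t)).op).hom z = 0) : z = 0 := by
  obtain ⟨n, hn⟩ := exists_pow_mul_eq_zero_of_res_basicOpen_eq_zero_of_isAffineOpen X hU z t hz
  have : t ^ n ∈ nonZeroDivisors Γ(X, U) := pow_mem ht n
  exact (mem_nonZeroDivisors_iff.mp this).1 z hn

/-- Points of `D(t)` are off the support when `t` generates the ideal. -/
lemma notMem_support_of_mem_basicOpen (𝓔 : X.IdealSheafData) (U : X.affineOpens) (t : Γ(X, U.1))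
    (hU : 𝓔.ideal U = Ideal.span {t}) (y : X) (hy : y ∈ X.basicOpen t) : y ∉ 𝓔.support := by
  have hyU : y ∈ U.1 := X.basicOpen_le t hy
  rw [Scheme.IdealSheafData.mem_support_iff_of_mem hyU, hU, Scheme.zeroLocus_span,
    Scheme.zeroLocus_singleton]
  exact fun h => h hy


/-- A local generator of an effective Cartier ideal pulls back along a blowing up to a local
generator (a nonzerodivisor), on any affine open where the exceptional divisor is principal. -/
theorem comap_generator_of_isBlowUp (𝓙 𝓓 : X.IdealSheafData) (b : X' ⟶ X)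
    (hb : BlowUp.IsBlowUp b 𝓙) (V : X.affineOpens) (f : Γ(X, V.1))
    (hf : f ∈ nonZeroDivisors Γ(X, V.1)) (hV : 𝓓.ideal V = Ideal.span {f})
    (U : X'.affineOpens) (e : U.1 ≤ b ⁻¹ᵁ V.1) (t : Γ(X', U.1))
    (ht : t ∈ nonZeroDivisors Γ(X', U.1)) (hU : (𝓙.comap b).ideal U = Ideal.span {t}) :
    (b.appLE V.1 U.1 e).hom f ∈ nonZeroDivisors Γ(X', U.1) ∧
      (𝓓.comap b).ideal U = Ideal.span {(b.appLE V.1 U.1 e).hom f} := by
  refine ⟨?_, by rw [ideal_comap_of_le b 𝓓 U V e, hV, Ideal.map_span, Set.image_singleton]⟩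
  have hiso : IsIso (b ∣_ 𝓙.support.compl) := Groth.Agent.H8.blowUp_isIso_off_center 𝓙 b hb
  obtain ⟨O, hO⟩ : ∃ O : X.Opens, O = 𝓙.support.compl := ⟨_, rfl⟩
  rw [← hO] at hiso
  set D : X'.Opens := X'.basicOpen t with hDdef
  have hDU : D ≤ U.1 := X'.basicOpen_le t
  have hD : D ≤ b ⁻¹ᵁ O := by
    intro y hy
    have h1 := notMem_support_of_mem_basicOpen (𝓙.comap b) U t hU y hy
    rw [Scheme.IdealSheafData.support_comap] at h1
    rw [hO]
    exact h1
  have hj : IsOpenImmersion (D.ι ≫ b) := by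
    have : D.ι ≫ b = X'.homOfLE hD ≫ (b ∣_ O) ≫ O.ι := by
      rw [morphismRestrict_ι, ← Category.assoc, Scheme.homOfLE_ι]
    rw [this]
    infer_instance
  have hDaff : IsAffineOpen D := U.2.basicOpen t
  have : IsAffine D.toScheme := hDaff
  have e' : (⊤ : D.toScheme.Opens) ≤ (D.ι ≫ b) ⁻¹ᵁ V.1 := by
    intro y _
    exact e (hDU y.2)
  have hflat : ((D.ι ≫ b).appLE V.1 ⊤ e').hom.Flat :=
    HasRingHomProperty.appLE (P := @Flat) (D.ι ≫ b) inferInstance V
      ⟨⊤, isAffineOpen_top D.toScheme⟩ e'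
  have hψf := map_mem_nonZeroDivisors_of_flat _ hflat hf
  -- decompose
  have hdec : (D.ι ≫ b).appLE V.1 ⊤ e' =
      b.appLE V.1 U.1 e ≫ X'.presheaf.map (homOfLE hDU).op ≫
        D.ι.appLE D ⊤ D.ι_preimage_self.ge := by
    rw [← Category.assoc, Scheme.Hom.appLE_map, Scheme.Hom.appLE_comp_appLE]
  rw [mem_nonZeroDivisors_iff_right]
  intro z hz
  apply eq_zero_of_res_basicOpen_eq_zero U.2 t z ht
  have hinj : Function.Injective (D.ι.appLE D ⊤ D.ι_preimage_self.ge).hom :=
    ((ConcreteCategory.isIso_iff_bijective _).mp inferInstance).1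
  apply hinj
  rw [map_zero]
  apply (mem_nonZeroDivisors_iff_right.mp hψf)
  rw [hdec]
  simp only [CommRingCat.hom_comp, RingHom.coe_comp, Function.comp_apply]
  rw [← map_mul, ← map_mul, hz, map_zero, map_zero]

/-- The inverse image of an effective Cartier ideal sheaf under a blowing up is effective
Cartier. -/
theorem isEffCartierIdeal_comap_of_isBlowUp (𝓙 𝓓 : X.IdealSheafData) (b : X' ⟶ X)
    (hb : BlowUp.IsBlowUp b 𝓙) (h𝓓 : BlowUp.IsEffCartierIdeal 𝓓) :
    BlowUp.IsEffCartierIdeal (𝓓.comap b) := by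
  intro x'
  obtain ⟨V, hxV, f, hf, hV⟩ := h𝓓 (b x')
  obtain ⟨U, hxU, hUV, t, ht, hU⟩ := exists_generator_le (𝓙.comap b) hb.1 x' (b ⁻¹ᵁ V.1) hxV
  obtain ⟨h1, h2⟩ := comap_generator_of_isBlowUp 𝓙 𝓓 b hb V f hf hV U hUV t ht hU
  exact ⟨U, hxU, _, h1, h2⟩

end Groth.Agent.H8.EffCartier
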