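import Groth.Agent.H8.EffCartier3
import Mathlib.AlgebraicGeometry.Properties
import Mathlib.RingTheory.LocalProperties.Reduced

/-!
# Blowing up: nonzerodivisors and reducedness are preserved
-/

set_option autoImplicit false
universe u

open CategoryTheory AlgebraicGeometry

namespace Groth.Agent.H8.EffCartier

open Groth.Agent.Lib.Helper18

variable {X X' : Scheme.{u}}

/-- Where the exceptional divisor of a blowing up `b` is cut out by `t`, the restriction of `b` to
`D(t)` is an open immersion. -/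
theorem isOpenImmersion_basicOpen_ι_comp (𝓙 : X.IdealSheafData) (b : X' ⟶ X)
    (hb : BlowUp.IsBlowUp b 𝓙) (U : X'.affineOpens) (t : Γ(X', U.1))
    (hU : (𝓙.comap b).ideal U = Ideal.span {t}) :
    IsOpenImmersion ((X'.basicOpen t).ι ≫ b) := by
  have hiso : IsIso (b ∣_ 𝓙.support.compl) := Groth.Agent.H8.blowUp_isIso_off_center 𝓙 b hb
  obtain ⟨O, hO⟩ : ∃ O : X.Opens, O = 𝓙.support.compl := ⟨_, rfl⟩
  rw [← hO] at hiso
  have hD : X'.basicOpen t ≤ b ⁻¹ᵁ O := by
    intro y hy
    have h1 := notMem_support_of_mem_basicOpen (𝓙.comap b) U t hU y hy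
    rw [Scheme.IdealSheafData.support_comap] at h1
    rw [hO]
    exact h1
  have : (X'.basicOpen t).ι ≫ b = X'.homOfLE hD ≫ (b ∣_ O) ≫ O.ι := by
    rw [morphismRestrict_ι, ← Category.assoc, Scheme.homOfLE_ι]
  rw [this]
  infer_instance

/-- A blowing up carries nonzerodivisors on affine opens to nonzerodivisors (on affine opens where
the exceptional divisor is principal). -/
theorem appLE_mem_nonZeroDivisors_of_isBlowUp (𝓙 : X.IdealSheafData) (b : X' ⟶ X)
    (hb : BlowUp.IsBlowUp b 𝓙) (V : X.affineOpens) (f : Γ(X, V.1))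
    (hf : f ∈ nonZeroDivisors Γ(X, V.1))
    (U : X'.affineOpens) (e : U.1 ≤ b ⁻¹ᵁ V.1) (t : Γ(X', U.1))
    (ht : t ∈ nonZeroDivisors Γ(X', U.1)) (hU : (𝓙.comap b).ideal U = Ideal.span {t}) :
    (b.appLE V.1 U.1 e).hom f ∈ nonZeroDivisors Γ(X', U.1) := by
  have hj := isOpenImmersion_basicOpen_ι_comp 𝓙 b hb U t hU
  obtain ⟨D, hDdef⟩ : ∃ D : X'.Opens, D = X'.basicOpen t := ⟨_, rfl⟩
  rw [← hDdef] at hj
  have hDU : D ≤ U.1 := hDdef ▸ X'.basicOpen_le t
  have hDaff : IsAffineOpen D := hDdef ▸ U.2.basicOpen t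
  have : IsAffine D.toScheme := hDaff
  have e' : (⊤ : D.toScheme.Opens) ≤ (D.ι ≫ b) ⁻¹ᵁ V.1 := by
    intro y _
    exact e (hDU y.2)
  have hflat : ((D.ι ≫ b).appLE V.1 ⊤ e').hom.Flat :=
    HasRingHomProperty.appLE (P := @Flat) (D.ι ≫ b) inferInstance V
      ⟨⊤, isAffineOpen_top D.toScheme⟩ e'
  have hψf := map_mem_nonZeroDivisors_of_flat _ hflat hf
  have hdec : (D.ι ≫ b).appLE V.1 ⊤ e' =
      b.appLE V.1 U.1 e ≫ X'.presheaf.map (homOfLE hDU).op ≫
        D.ι.appLE D ⊤ D.ι_preimage_self.ge := by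
    rw [← Category.assoc, Scheme.Hom.appLE_map, Scheme.Hom.appLE_comp_appLE]
  rw [mem_nonZeroDivisors_iff_right]
  intro z hz
  apply eq_zero_of_res_basicOpen_eq_zero U.2 t z ht
  have hinj : Function.Injective (D.ι.appLE D ⊤ D.ι_preimage_self.ge).hom :=
    ((ConcreteCategory.isIso_iff_bijective _).mp inferInstance).1
  subst hDdef
  apply hinj
  rw [map_zero]
  apply (mem_nonZeroDivisors_iff_right.mp hψf)
  rw [hdec]
  simp only [CommRingCat.hom_comp, RingHom.coe_comp, Function.comp_apply]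
  rw [← map_mul, ← map_mul, hz, map_zero, map_zero]

/-- On a blowing up of a reduced scheme, sections over affine opens where the exceptional divisor
is principal form a reduced ring. -/
theorem isReduced_sections_of_isBlowUp [IsReduced X] (𝓙 : X.IdealSheafData) (b : X' ⟶ X)
    (hb : BlowUp.IsBlowUp b 𝓙) (U : X'.affineOpens) (t : Γ(X', U.1))
    (ht : t ∈ nonZeroDivisors Γ(X', U.1)) (hU : (𝓙.comap b).ideal U = Ideal.span {t}) :
    _root_.IsReduced Γ(X', U.1) := by
  have hj := isOpenImmersion_basicOpen_ι_comp 𝓙 b hb U t hU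
  have hred : IsReduced (X'.basicOpen t).toScheme :=
    isReduced_of_isOpenImmersion ((X'.basicOpen t).ι ≫ b)
  constructor
  intro n hn
  apply eq_zero_of_res_basicOpen_eq_zero U.2 t n ht
  have hinj : Function.Injective ((X'.basicOpen t).ι.appLE (X'.basicOpen t) ⊤
      (X'.basicOpen t).ι_preimage_self.ge).hom :=
    ((ConcreteCategory.isIso_iff_bijective _).mp inferInstance).1
  apply hinj
  rw [map_zero]
  have h1 : IsNilpotent (((X'.basicOpen t).ι.appLE (X'.basicOpen t) ⊤
      (X'.basicOpen t).ι_preimage_self.ge).hom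
        ((X'.presheaf.map (homOfLE (X'.basicOpen_le t)).op).hom n)) :=
    (hn.map _).map _
  exact h1.eq_zero

end Groth.Agent.H8.EffCartier
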