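import Groth.Agent.H8.EffCartier4
import Groth.Prelude.Def_MeroSh

/-!
# A blowing up carries regular sections to regular sections
-/

set_option autoImplicit false
universe u

open CategoryTheory AlgebraicGeometry

namespace Groth.Agent.H8.EffCartier

variable {X X' : Scheme.{u}}

/-- A section all of whose germs are nonzerodivisors is a nonzerodivisor. -/
lemma mem_nonZeroDivisors_of_germ (V : X.Opens) (f : Γ(X, V))
    (h : ∀ (y : X) (hy : y ∈ V), X.presheaf.germ V y hy f ∈ nonZeroDivisors (X.presheaf.stalk y)) :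
    f ∈ nonZeroDivisors Γ(X, V) := by
  rw [mem_nonZeroDivisors_iff_right]
  intro z hz
  apply TopCat.Presheaf.section_ext X.sheaf V z 0
  intro y hy
  rw [map_zero]
  apply (mem_nonZeroDivisors_iff_right.mp (h y hy))
  have := congrArg (X.presheaf.germ V y hy).hom hz
  rw [map_mul, map_zero] at this
  exact this

/-- On an affine open, the germ of a nonzerodivisor is a nonzerodivisor. -/
lemma germ_mem_nonZeroDivisors {U : X.Opens} (hU : IsAffineOpen U) (f : Γ(X, U))
    (hf : f ∈ nonZeroDivisors Γ(X, U)) (x : X) (hx : x ∈ U) :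
    X.presheaf.germ U x hx f ∈ nonZeroDivisors (X.presheaf.stalk x) := by
  letI : Algebra Γ(X, U) (X.presheaf.stalk x) :=
    TopCat.Presheaf.algebra_section_stalk X.presheaf ⟨x, hx⟩
  have hloc : IsLocalization.AtPrime (X.presheaf.stalk x) (hU.primeIdealOf ⟨x, hx⟩).asIdeal :=
    hU.isLocalization_stalk ⟨x, hx⟩
  have := IsLocalization.map_nonZeroDivisors_le
    (hU.primeIdealOf ⟨x, hx⟩).asIdeal.primeCompl (X.presheaf.stalk x)
  exact this (Submonoid.mem_map_of_mem _ hf)

theorem app_mem_regSub_of_isBlowUp (𝓘 : X.IdealSheafData) (b : X' ⟶ X)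
    (hb : BlowUp.IsBlowUp b 𝓘) (U : X.Opens) (s : Γ(X, U)) (hs : s ∈ Mero.regSub X U) :
    b.app U s ∈ Mero.regSub X' (b ⁻¹ᵁ U) := by
  rintro ⟨x', hx'⟩
  obtain ⟨V, hV, hbxV, hVU⟩ := TopologicalSpace.Opens.isBasis_iff_nbhd.mp X.isBasis_affineOpens
    (show b x' ∈ U from hx')
  have hsV : (X.presheaf.map (homOfLE hVU).op).hom s ∈ nonZeroDivisors Γ(X, V) := by
    apply mem_nonZeroDivisors_of_germ
    intro y hy
    have := hs ⟨y, hVU hy⟩
    change X.presheaf.germ V y hy (X.presheaf.map (homOfLE hVU).op s) ∈ _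
    rw [TopCat.Presheaf.germ_res_apply]
    exact this
  obtain ⟨U', hxU', hU'V, t, ht, hU'⟩ :=
    exists_generator_le (𝓘.comap b) hb.1 x' (b ⁻¹ᵁ V) hbxV
  have hnz := appLE_mem_nonZeroDivisors_of_isBlowUp 𝓘 b hb ⟨V, hV⟩ _ hsV U' hU'V t ht hU'
  have hg := germ_mem_nonZeroDivisors U'.2 _ hnz x' hxU'
  have e'' : U'.1 ≤ b ⁻¹ᵁ U := hU'V.trans (b.preimage_mono hVU)
  have heq : (b.appLE V U'.1 hU'V).hom ((X.presheaf.map (homOfLE hVU).op).hom s) =
      (X'.presheaf.map (homOfLE e'').op).hom ((b.app U).hom s) := by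
    have h1 : X.presheaf.map (homOfLE hVU).op ≫ b.appLE V U'.1 hU'V = b.appLE U U'.1 e'' :=
      Scheme.Hom.map_appLE b hU'V (homOfLE hVU).op
    have h2 : b.appLE U U'.1 e'' = b.app U ≫ X'.presheaf.map (homOfLE e'').op := rfl
    rw [h2] at h1
    exact congr($(h1).hom s)
  rw [heq] at hg
  change X'.presheaf.germ U'.1 x' hxU' (X'.presheaf.map (homOfLE e'').op (b.app U s)) ∈ _ at hg
  rw [TopCat.Presheaf.germ_res_apply] at hg
  exact hg

end Groth.Agent.H8.EffCartier
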