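import Groth.Agent.H8.ExcellentDVR
import Groth.Agent.Lib.Helper48.NagataNormalization2
import Groth.Agent.Lib.Helper48.NagataLocal
set_option linter.style.haveILetI false

set_option autoImplicit false
universe u
open TensorProduct IsLocalRing

namespace Groth.Agent.H8.GRing

open Groth.Agent.H8.J2

/-- the integral closure of a DVR in a finite purely inseparable extension of its fraction field
is local -/
theorem isLocalRing_integralClosure_of_isPurelyInseparable (R K L : Type u) [CommRing R]
    [IsDomain R] [IsLocalRing R] [IsIntegrallyClosed R] [Field K] [Algebra R K]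
    [IsFractionRing R K] [Field L]
    [Algebra K L] [IsPurelyInseparable K L] [Algebra R L] [IsScalarTower R K L] :
    IsLocalRing ↥(integralClosure R L) := by
  haveI hint : Algebra.IsIntegral R ↥(integralClosure R L) := inferInstance
  have hkey : ∀ (M₁ M₂ : Ideal ↥(integralClosure R L)), M₁.IsMaximal → M₂.IsMaximal → M₁ ≤ M₂ := by
    intro M₁ M₂ h₁ h₂ x hx
    obtain ⟨n, y, hy⟩ := IsPurelyInseparable.pow_mem K (ringExpChar K) (x : L)
    -- `y` is integral over `R`, hence in `R`
    have hyint : IsIntegral R y := by
      have h1 : IsIntegral R ((x : L) ^ ringExpChar K ^ n) := (x.2 : IsIntegral R (x : L)).pow _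
      rw [← hy] at h1
      exact (isIntegral_algebraMap_iff (algebraMap K L).injective).mp h1
    obtain ⟨r, hr⟩ := IsIntegrallyClosed.isIntegral_iff.mp hyint
    have hpow : x ^ ringExpChar K ^ n = algebraMap R ↥(integralClosure R L) r := by
      apply Subtype.ext
      change (x : L) ^ ringExpChar K ^ n = algebraMap R L r
      rw [← hy, ← hr, ← IsScalarTower.algebraMap_apply R K L]
    have hc₁ : (M₁.comap (algebraMap R ↥(integralClosure R L))).IsMaximal :=
      Ideal.isMaximal_comap_of_isIntegral_of_isMaximal M₁
    have hc₂ : (M₂.comap (algebraMap R ↥(integralClosure R L))).IsMaximal :=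
      Ideal.isMaximal_comap_of_isIntegral_of_isMaximal M₂
    have hr₁ : r ∈ M₁.comap (algebraMap R ↥(integralClosure R L)) := by
      rw [Ideal.mem_comap, ← hpow]
      exact Ideal.pow_mem_of_mem _ hx _ (pow_pos (expChar_pos K (ringExpChar K)) n)
    rw [IsLocalRing.eq_maximalIdeal hc₁, ← IsLocalRing.eq_maximalIdeal hc₂, Ideal.mem_comap,
      ← hpow] at hr₁
    exact h₂.isPrime.mem_of_pow_mem _ hr₁
  obtain ⟨M, hM⟩ := Ideal.exists_maximal ↥(integralClosure R L)
  exact IsLocalRing.of_unique_max_ideal ⟨M, hM, fun M' hM' =>
    le_antisymm (hkey M' M hM' hM) (hkey M M' hM hM')⟩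


/-- the integral closure of an excellent DVR in a finite purely inseparable extension of its
fraction field is a finite DVR -/
theorem isDiscreteValuationRing_integralClosure_of_isExcellent
    (R K L : Type u) [CommRing R] [IsDomain R] [IsDiscreteValuationRing R] (hR : EGA4.IsExcellent R)
    [Field K] [Algebra R K] [IsFractionRing R K] [Field L] [Algebra K L] [FiniteDimensional K L]
    [IsPurelyInseparable K L] [Algebra R L] [IsScalarTower R K L] :
    IsDiscreteValuationRing ↥(integralClosure R L) ∧ Module.Finite R ↥(integralClosure R L) := by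
  -- finiteness
  have hNag : CAlg.IsNagata R :=
    Groth.Agent.H8.QE.isNagata_of_isQuasiExcellent R ⟨hR.1, hR.2.2.1, hR.2.2.2⟩
  haveI : (⊥ : Ideal R).IsPrime := Ideal.isPrime_bot
  have hN2 : CAlg.IsN2 R :=
    Groth.Agent.Lib.Helper48.isN2_of_ringEquiv (RingEquiv.quotientBot R) (hNag.2 ⊥)
  haveI : Algebra.EssFiniteType R K := Algebra.EssFiniteType.of_isLocalization K (nonZeroDivisors R)
  haveI : Algebra.EssFiniteType R L := Algebra.EssFiniteType.comp R K L
  have hinjRL : Function.Injective (algebraMap R L) := by
    rw [IsScalarTower.algebraMap_eq R K L]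
    exact (algebraMap K L).injective.comp (IsFractionRing.injective R K)
  haveI hfin : Module.Finite R ↥(integralClosure R L) :=
    Groth.Agent.Lib.Helper48.finite_integralClosure_of_isN2_of_essFiniteType_field hN2 hinjRL
  refine ⟨?_, hfin⟩
  -- Dedekind
  haveI hNN : IsNoetherianRing ↥(integralClosure R L) :=
    Algebra.FiniteType.isNoetherianRing R _
  haveI hIC : IsIntegrallyClosed ↥(integralClosure R L) :=
    integralClosure.isIntegrallyClosedOfFiniteExtension K
  have hdim : ringKrullDim R ≤ 1 := Ring.krullDimLE_iff.mp inferInstance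
  haveI hD1 : Ring.DimensionLEOne ↥(integralClosure R L) :=
    ⟨fun {q} hq0 hq => isMaximal_of_isIntegral_of_dim_le_one R _ hdim q hq0⟩
  haveI hDed : IsDedekindDomain ↥(integralClosure R L) :=
    { toIsDomain := inferInstance
      toIsDedekindRing := { } }
  haveI hloc : IsLocalRing ↥(integralClosure R L) :=
    isLocalRing_integralClosure_of_isPurelyInseparable R K L
  have hinjRS : Function.Injective (algebraMap R ↥(integralClosure R L)) := by
    intro x y hxy
    apply hinjRL
    exact congrArg Subtype.val hxy
  have hnf : ¬ IsField ↥(integralClosure R L) := fun hf =>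
    IsDiscreteValuationRing.not_isField R (isField_of_isIntegral_of_isField hinjRS hf)
  exact ((IsDiscreteValuationRing.TFAE ↥(integralClosure R L) hnf).out 0 2).mpr hDed

end Groth.Agent.H8.GRing
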