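import Groth.Agent.H8.GRingDimOne
import Groth.Agent.S0603
import Groth.Agent.Lib.Helper28.RegularCM
set_option linter.style.haveILetI false

set_option autoImplicit false
universe u
open TensorProduct IsLocalRing

namespace Groth.Agent.H8.GRing

open Groth.Agent.H8.J2

/-- a Noetherian ring with regular local rings is Cohen–Macaulay -/
theorem isCohenMacaulayRing_of_forall_isRegularLocalRing (A : Type u) [CommRing A]
    [IsNoetherianRing A]
    (h : ∀ (p : Ideal A) [p.IsPrime], IsRegularLocalRing (Localization.AtPrime p)) :
    LocCoh.IsCohenMacaulayRing A :=
  { isCohenMacaulayLocalRing_localization := fun p hp => by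
      haveI := h p
      haveI : IsNoetherianRing (Localization.AtPrime p) :=
        IsLocalization.isNoetherianRing p.primeCompl _ inferInstance
      exact
        { supportDim_eq_depth :=
            Groth.Agent.Lib.Helper28.isCohenMacaulayModule_self_of_isRegularLocalRing _ } }

/-- a Noetherian ring with regular local rings is universally catenary -/
theorem isUniversallyCatenary_of_forall_isRegularLocalRing (A : Type u) [CommRing A]
    [IsNoetherianRing A]
    (h : ∀ (p : Ideal A) [p.IsPrime], IsRegularLocalRing (Localization.AtPrime p)) :
    CAlg.IsUniversallyCatenary A := by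
  haveI := isCohenMacaulayRing_of_forall_isRegularLocalRing A h
  exact Groth.Agent.S0603.result A

/-- a Dedekind domain of characteristic zero is excellent -/
theorem isExcellent_of_isDedekindDomain_charZero (A : Type u) [CommRing A] [IsDedekindDomain A]
    [CharZero A] : EGA4.IsExcellent A :=
  ⟨inferInstance,
    isUniversallyCatenary_of_forall_isRegularLocalRing A
      (fun p hp => regLocus_eq_univ_of_isDedekindDomain A (Set.mem_univ ⟨p, hp⟩)),
    isGRing_of_isDedekindDomain_charZero A, isJ2_of_isDedekindDomain_charZero A⟩

end Groth.Agent.H8.GRing
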