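import Mathlib

/-!
# Finite free algebras realizing finite residue field extensions (helper8)
-/

set_option autoImplicit false
set_option linter.style.haveILetI false
universe u
open TensorProduct Polynomial

namespace Groth.Agent.H8.FinFree

variable (R : Type u) [CommRing R] (q : Ideal R) [q.IsPrime] (k' : Type u) [Field k']
  [Algebra q.ResidueField k'] [Algebra R k'] [IsScalarTower R q.ResidueField k']

/-- scaling an element of a finite extension of `κ(q)` to make it integral over `R` -/
theorem exists_isIntegral_smul [Module.Finite q.ResidueField k'] (α : k') :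
    ∃ r : R, r ∉ q ∧ IsIntegral R (algebraMap R k' r * α) := by
  have hα : IsIntegral q.ResidueField α := Algebra.IsIntegral.isIntegral α
  haveI : Algebra.IsIntegral (Localization.AtPrime q) q.ResidueField :=
    Algebra.isIntegral_of_surjective IsLocalRing.residue_surjective
  letI : Algebra (Localization.AtPrime q) k' :=
    ((algebraMap q.ResidueField k').comp (algebraMap (Localization.AtPrime q) q.ResidueField)).toAlgebra
  haveI : IsScalarTower (Localization.AtPrime q) q.ResidueField k' :=
    IsScalarTower.of_algebraMap_eq (fun _ => rfl)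
  haveI : IsScalarTower R (Localization.AtPrime q) k' := by
    refine IsScalarTower.of_algebraMap_eq (fun x => ?_)
    change _ = algebraMap q.ResidueField k' (algebraMap (Localization.AtPrime q) q.ResidueField
      (algebraMap R (Localization.AtPrime q) x))
    rw [← IsScalarTower.algebraMap_apply R (Localization.AtPrime q) q.ResidueField,
      ← IsScalarTower.algebraMap_apply R q.ResidueField k']
  have h1 : IsIntegral (Localization.AtPrime q) α := isIntegral_trans α hα
  obtain ⟨m, hm⟩ := IsIntegral.exists_multiple_integral_of_isLocalization q.primeCompl α h1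
  refine ⟨m.1, m.2, ?_⟩
  rw [← Algebra.smul_def]
  exact hm

theorem exists_finite_free_aux [Module.Finite q.ResidueField k'] (s : Finset k') :
    ∃ (S : Type u) (_ : CommRing S) (_ : Algebra R S) (_ : Module.Finite R S)
      (_ : Module.Free R S) (φ : S →ₐ[R] k'),
      (s : Set k') ⊆ Algebra.adjoin q.ResidueField (Set.range φ) := by
  classical
  induction s using Finset.induction_on with
  | empty => exact ⟨R, inferInstance, inferInstance, inferInstance, inferInstance,
      Algebra.ofId R k', by simp⟩
  | insert α s _ ih =>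
    obtain ⟨S, _, _, _, _, φ, hφ⟩ := ih
    obtain ⟨r, hr, g, hg, hgα⟩ := exists_isIntegral_smul R q k' α
    have hmon : (g.map (algebraMap R S)).Monic := hg.map _
    haveI : Module.Finite S (AdjoinRoot (g.map (algebraMap R S))) := hmon.finite_adjoinRoot
    haveI : Module.Free S (AdjoinRoot (g.map (algebraMap R S))) := hmon.free_adjoinRoot
    have h0 : (g.map (algebraMap R S)).eval₂ (φ : S →+* k') (algebraMap R k' r * α) = 0 := by
      rw [Polynomial.eval₂_map]
      have : (φ : S →+* k').comp (algebraMap R S) = algebraMap R k' := by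
        ext x; exact φ.commutes x
      rw [this]
      exact hgα
    let φ' : AdjoinRoot (g.map (algebraMap R S)) →ₐ[R] k' :=
      AdjoinRoot.liftAlgHom (g.map (algebraMap R S)) φ (algebraMap R k' r * α) h0
    refine ⟨AdjoinRoot (g.map (algebraMap R S)), inferInstance, inferInstance,
      Module.Finite.trans S _, Module.Free.trans (R := R) (S := S), φ', ?_⟩
    have hsub : Algebra.adjoin q.ResidueField (Set.range φ) ≤
        Algebra.adjoin q.ResidueField (Set.range φ') := by
      apply Algebra.adjoin_mono
      rintro _ ⟨x, rfl⟩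
      exact ⟨AdjoinRoot.of _ x, AdjoinRoot.liftAlgHom_of _ _ _ _ _⟩
    rw [Finset.coe_insert, Set.insert_subset_iff]
    refine ⟨?_, hφ.trans hsub⟩
    have h1 : algebraMap R k' r * α ∈ Algebra.adjoin q.ResidueField (Set.range φ') :=
      Algebra.subset_adjoin ⟨AdjoinRoot.root _, AdjoinRoot.liftAlgHom_root _ _ _ _⟩
    have hr0 : algebraMap R q.ResidueField r ≠ 0 := by
      intro h
      exact hr ((Ideal.algebraMap_residueField_eq_zero).mp h)
    have h2 : α = (algebraMap R q.ResidueField r)⁻¹ • (algebraMap R k' r * α) := by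
      rw [Algebra.smul_def, IsScalarTower.algebraMap_apply R q.ResidueField k', ← mul_assoc,
        ← map_mul, inv_mul_cancel₀ hr0, map_one, one_mul]
    rw [h2]
    exact Subalgebra.smul_mem _ h1 _

/-- **finite free algebras realizing finite residue field extensions** -/
theorem exists_finite_free [Module.Finite q.ResidueField k'] :
    ∃ (S : Type u) (_ : CommRing S) (_ : Algebra R S) (_ : Module.Finite R S)
      (_ : Module.Free R S) (φ : S →ₐ[R] k'),
      Algebra.adjoin q.ResidueField (Set.range φ) = ⊤ := by
  obtain ⟨s, hs⟩ := (Algebra.FiniteType.out : (⊤ : Subalgebra q.ResidueField k').FG)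
  obtain ⟨S, i1, i2, i3, i4, φ, hφ⟩ := exists_finite_free_aux R q k' s
  refine ⟨S, i1, i2, i3, i4, φ, ?_⟩
  rw [eq_top_iff, ← hs]
  exact Algebra.adjoin_le hφ

theorem exists_div_of_adjoin_eq_top (R : Type u) [CommRing R] (q : Ideal R) [q.IsPrime]
    (k' : Type u) [Field k'] [Algebra q.ResidueField k'] [Algebra R k']
    [IsScalarTower R q.ResidueField k'] (S : Type u) [CommRing S] [Algebra R S] (φ : S →ₐ[R] k')
    (h : Algebra.adjoin q.ResidueField (Set.range φ) = ⊤) (x : k') :
    ∃ a b : S, φ b ≠ 0 ∧ x * φ b = φ a := by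
  have hx : x ∈ Algebra.adjoin q.ResidueField (Set.range φ) := h ▸ Algebra.mem_top
  induction hx using Algebra.adjoin_induction with
  | mem y hy =>
    obtain ⟨s, rfl⟩ := hy
    exact ⟨s, 1, by rw [map_one]; exact one_ne_zero, by rw [map_one, mul_one]⟩
  | algebraMap c =>
    obtain ⟨a, b, hb, rfl⟩ := IsFractionRing.div_surjective (A := R ⧸ q) c
    obtain ⟨a, rfl⟩ := Ideal.Quotient.mk_surjective a
    obtain ⟨b, rfl⟩ := Ideal.Quotient.mk_surjective b
    have hb0 : algebraMap R q.ResidueField b ≠ 0 := by
      rw [IsScalarTower.algebraMap_apply R (R ⧸ q) q.ResidueField]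
      exact IsFractionRing.to_map_ne_zero_of_mem_nonZeroDivisors hb
    have e1 : ∀ r : R, φ (algebraMap R S r) = algebraMap q.ResidueField k'
        (algebraMap (R ⧸ q) q.ResidueField (Ideal.Quotient.mk q r)) := by
      intro r
      rw [φ.commutes, IsScalarTower.algebraMap_apply R q.ResidueField k',
        IsScalarTower.algebraMap_apply R (R ⧸ q) q.ResidueField]
      rfl
    refine ⟨algebraMap R S a, algebraMap R S b, ?_, ?_⟩
    · rw [e1]
      intro h0
      apply hb0
      rw [IsScalarTower.algebraMap_apply R (R ⧸ q) q.ResidueField]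
      exact (map_eq_zero _).mp h0
    · rw [e1, e1, ← map_mul]
      congr 1
      rw [div_mul_cancel₀]
      rw [IsScalarTower.algebraMap_apply R (R ⧸ q) q.ResidueField] at hb0
      exact hb0
  | add y z _ _ hy hz =>
    obtain ⟨a₁, b₁, hb₁, h₁⟩ := hy
    obtain ⟨a₂, b₂, hb₂, h₂⟩ := hz
    refine ⟨a₁ * b₂ + a₂ * b₁, b₁ * b₂, by rw [map_mul]; exact mul_ne_zero hb₁ hb₂, ?_⟩
    rw [map_mul, map_add, map_mul, map_mul, ← h₁, ← h₂]
    ring
  | mul y z _ _ hy hz =>
    obtain ⟨a₁, b₁, hb₁, h₁⟩ := hy
    obtain ⟨a₂, b₂, hb₂, h₂⟩ := hz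
    refine ⟨a₁ * a₂, b₁ * b₂, by rw [map_mul]; exact mul_ne_zero hb₁ hb₂, ?_⟩
    rw [map_mul, map_mul, ← h₁, ← h₂]
    ring

end Groth.Agent.H8.FinFree
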