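import Mathlib
import Groth.Agent.H8.FormalFibreFin2
import Groth.Agent.H8.FinFreeResidue
import Groth.Agent.Lib.Helper29.FibreDescent
import Groth.Agent.Lib.Helper73.GeomFibreComp

/-!
# G-rings via formal fibres of finite free algebras (helper8)
-/

set_option autoImplicit false
set_option linter.style.haveILetI false
set_option linter.unusedSectionVars false
universe u
open IsLocalRing TensorProduct

namespace Groth.Agent.H8.FFF

open Groth.Agent.H8.FinCompl

set_option synthInstance.maxHeartbeats 200000 in
set_option maxHeartbeats 1000000 in
theorem isRegularRing_tensor_fibre_of_finite_free (R : Type u) [CommRing R] [IsNoetherianRing R]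
    (H : ∀ (S : Type u) [CommRing S] [Algebra R S] [Module.Finite R S] [Module.Free R S]
      (q : Ideal S) [q.IsPrime] (p : Ideal (Localization.AtPrime q)) [p.IsPrime],
      IsRegularRing (EGA4.formalFibre (Localization.AtPrime q) p))
    (p : Ideal R) [p.IsPrime] (Q : Ideal (Localization.AtPrime p)) [Q.IsPrime] (k' : Type u)
    [Field k'] [Algebra Q.ResidueField k'] [Module.Finite Q.ResidueField k'] :
    IsRegularRing (k' ⊗[Q.ResidueField] (Q.Fiber (AdicCompletion
      (maximalIdeal (Localization.AtPrime p)) (Localization.AtPrime p)))) := by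
  haveI : IsNoetherianRing (Localization.AtPrime p) :=
    IsLocalization.isNoetherianRing p.primeCompl _ inferInstance
  haveI := Groth.Agent.Lib.Helper29.isNoetherianRing_cpl (Localization.AtPrime p)
  haveI hNfib : IsNoetherianRing (Q.Fiber (AdicCompletion
      (maximalIdeal (Localization.AtPrime p)) (Localization.AtPrime p))) :=
    Groth.Agent.Lib.Helper29.isNoetherianRing_fiber (Localization.AtPrime p) _ Q
  -- algebra structures on `k'`
  letI : Algebra (Localization.AtPrime p) k' :=
    ((algebraMap Q.ResidueField k').comp (algebraMap (Localization.AtPrime p) Q.ResidueField)).toAlgebra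
  haveI : IsScalarTower (Localization.AtPrime p) Q.ResidueField k' :=
    IsScalarTower.of_algebraMap_eq (fun _ => rfl)
  letI : Algebra R k' :=
    ((algebraMap (Localization.AtPrime p) k').comp (algebraMap R (Localization.AtPrime p))).toAlgebra
  haveI : IsScalarTower R (Localization.AtPrime p) k' :=
    IsScalarTower.of_algebraMap_eq (fun _ => rfl)
  -- the prime `q` of `R`
  haveI : Q.LiesOver (Q.under R) := ⟨rfl⟩
  letI := Localization.AtPrime.algebraOfLiesOver (Q.under R) Q
  haveI : Module.Finite (Q.under R).ResidueField Q.ResidueField := inferInstance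
  letI : Algebra (Q.under R).ResidueField k' :=
    ((algebraMap Q.ResidueField k').comp
      (algebraMap (Q.under R).ResidueField Q.ResidueField)).toAlgebra
  haveI : IsScalarTower (Q.under R).ResidueField Q.ResidueField k' :=
    IsScalarTower.of_algebraMap_eq (fun _ => rfl)
  haveI : IsScalarTower R (Q.under R).ResidueField k' := by
    refine IsScalarTower.of_algebraMap_eq (fun x => ?_)
    change algebraMap Q.ResidueField k' (algebraMap (Localization.AtPrime p) Q.ResidueField
      (algebraMap R (Localization.AtPrime p) x)) =
      algebraMap Q.ResidueField k' (algebraMap (Q.under R).ResidueField Q.ResidueField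
        (algebraMap R (Q.under R).ResidueField x))
    rw [← IsScalarTower.algebraMap_apply R (Localization.AtPrime p) Q.ResidueField,
      ← IsScalarTower.algebraMap_apply R (Q.under R).ResidueField Q.ResidueField]
  haveI : Module.Finite (Q.under R).ResidueField k' := Module.Finite.trans Q.ResidueField k'
  -- reduce to `k' ⊗_R Λ`
  haveI hN1 : IsNoetherianRing (k' ⊗[Q.ResidueField] (Q.Fiber (AdicCompletion
      (maximalIdeal (Localization.AtPrime p)) (Localization.AtPrime p)))) :=
    Groth.Agent.Lib.Helper73.isNoetherianRing_tensor_of_finite _ k' _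
  have hN2 : IsNoetherianRing (k' ⊗[R] (AdicCompletion
      (maximalIdeal (Localization.AtPrime p)) (Localization.AtPrime p))) :=
    isNoetherianRing_of_ringEquiv (k' ⊗[Q.ResidueField] (Q.Fiber (AdicCompletion
      (maximalIdeal (Localization.AtPrime p)) (Localization.AtPrime p)))) (fibreEquiv R p Q (AdicCompletion
      (maximalIdeal (Localization.AtPrime p)) (Localization.AtPrime p)) k')
  suffices h : IsRegularRing (k' ⊗[R] (AdicCompletion
      (maximalIdeal (Localization.AtPrime p)) (Localization.AtPrime p))) from
    IsRegularRing.of_ringEquiv (R := k' ⊗[R] (AdicCompletion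
      (maximalIdeal (Localization.AtPrime p)) (Localization.AtPrime p)))
      (fibreEquiv R p Q (AdicCompletion
      (maximalIdeal (Localization.AtPrime p)) (Localization.AtPrime p)) k').symm
  -- the finite free algebra
  obtain ⟨S, _, _, _, _, φ, hφ⟩ := Groth.Agent.H8.FinFree.exists_finite_free R (Q.under R) k'
  letI : Algebra S k' := φ.toRingHom.toAlgebra
  haveI : IsScalarTower R S k' := IsScalarTower.of_algebraMap_eq (fun x => (φ.commutes x).symm)
  refine isRegularRing_tensor_of_forall_cpl R S p k' hN2 (fun n _ _ => ?_)
  by_cases hker : RingHom.ker (algebraMap S k') ≤ n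
  · refine isRegularRing_tensor_cpl_of_formalFibre S n k' hker (fun x => ?_) (fun P _ => H S n P)
    exact Groth.Agent.H8.FinFree.exists_div_of_adjoin_eq_top R (Q.under R) k' S φ hφ x
  · obtain ⟨s, hs, hsn⟩ := SetLike.not_le_iff_exists.mp hker
    haveI := subsingleton_tensor_of_isUnit (S := S) (k' := k')
      (C := AdicCompletion (maximalIdeal (Localization.AtPrime n)) (Localization.AtPrime n)) s hs
      (by
        rw [IsScalarTower.algebraMap_apply S (Localization.AtPrime n)]
        exact (IsLocalization.map_units (Localization.AtPrime n) (⟨s, hsn⟩ : n.primeCompl)).map _)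
    exact isRegularRing_of_subsingleton _

end Groth.Agent.H8.FFF
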