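import Mathlib.LinearAlgebra.Dimension.Finite
import Mathlib.LinearAlgebra.FiniteDimensional.Basic
import Mathlib.LinearAlgebra.LinearIndependent.Lemmas
import Mathlib.Algebra.Polynomial.Roots
import Mathlib.FieldTheory.Finite.Basic

/-!
# Fixed vectors of a `p`-semilinear map form a set of size at most `p ^ dim V`
-/

set_option autoImplicit false
universe u

namespace Groth.Agent.H8.FrobFixed

open Polynomial

theorem roots_pow_eq_self (k : Type u) [Field k] (p : ℕ) (hp : 1 < p) :
    Set.Finite {c : k | c ^ p = c} ∧ Nat.card {c : k | c ^ p = c} ≤ p := by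
  classical
  set P : k[X] := X ^ p - X with hP
  have hdeg : P.natDegree = p := FiniteField.X_pow_card_sub_X_natDegree_eq k hp
  have hne : P ≠ 0 := FiniteField.X_pow_card_sub_X_ne_zero k hp
  have hsub : {c : k | c ^ p = c} ⊆ (P.roots.toFinset : Set k) := by
    intro c hc
    rw [Finset.mem_coe, Multiset.mem_toFinset, mem_roots hne, IsRoot.def, hP, eval_sub,
      eval_pow, eval_X]
    exact sub_eq_zero.mpr hc
  have hfin : Set.Finite {c : k | c ^ p = c} := (Finset.finite_toSet _).subset hsub
  refine ⟨hfin, ?_⟩
  calc Nat.card {c : k | c ^ p = c} = Set.ncard {c : k | c ^ p = c} := rfl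
    _ ≤ Set.ncard (P.roots.toFinset : Set k) := Set.ncard_le_ncard hsub (Finset.finite_toSet _)
    _ = P.roots.toFinset.card := Set.ncard_coe_finset _
    _ ≤ Multiset.card P.roots := Multiset.toFinset_card_le _
    _ ≤ P.natDegree := card_roots' P
    _ = p := hdeg

theorem fixed_card {k V : Type u} [Field k] (p : ℕ) (hp : 1 < p)
    [AddCommGroup V] [Module k V] [FiniteDimensional k V] (F : V →+ V)
    (hF : ∀ (c : k) (v : V), F (c • v) = c ^ p • F v) :
    Set.Finite {v : V | F v = v} ∧ Nat.card {v : V | F v = v} ≤ p ^ Module.finrank k V := by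
  classical
  set W : Set V := {v | F v = v} with hW
  obtain ⟨b, hbW, hspan, hli⟩ := exists_linearIndependent k W
  have hbfin : b.Finite := hli.setFinite
  have : Fintype b := hbfin.fintype
  have hcard : Fintype.card b ≤ Module.finrank k V := hli.fintype_card_le_finrank
  obtain ⟨hRfin, hRcard⟩ := roots_pow_eq_self k p hp
  set R : Set k := {c | c ^ p = c} with hR
  have hmem : ∀ v ∈ W, v ∈ Submodule.span k (Set.range ((↑) : b → V)) := by
    intro v hv
    rw [Subtype.range_coe, hspan]
    exact Submodule.subset_span hv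
  let c : W → (b → k) := fun v i => hli.repr ⟨v.1, hmem v.1 v.2⟩ i
  have hc1 : ∀ v : W, (v : V) = ∑ i, c v i • (i : V) := by
    intro v
    have := hli.linearCombination_repr ⟨v.1, hmem v.1 v.2⟩
    rw [Finsupp.linearCombination_apply, Finsupp.sum_fintype _ _ (by simp)] at this
    exact this.symm
  have hc2 : ∀ v : W, ∀ i, c v i ^ p = c v i := by
    intro v
    have h1 : F v = ∑ i, (c v i) ^ p • (i : V) := by
      conv_lhs => rw [hc1 v]
      rw [map_sum]
      refine Finset.sum_congr rfl fun i _ => ?_
      rw [hF, (hbW i.2 : F i = i)]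
    have h2 : ∑ i, ((c v i) ^ p - c v i) • (i : V) = 0 := by
      simp_rw [sub_smul]
      rw [Finset.sum_sub_distrib, ← h1, ← hc1 v, (v.2 : F v = v), sub_self]
    have := Fintype.linearIndependent_iff.mp hli _ h2
    intro i
    exact sub_eq_zero.mp (this i)
  let Φ : W → (b → R) := fun v i => ⟨c v i, hc2 v i⟩
  have hinj : Function.Injective Φ := by
    intro v w hvw
    apply Subtype.ext
    rw [hc1 v, hc1 w]
    refine Finset.sum_congr rfl fun i _ => ?_
    have := congrArg Subtype.val (congrFun hvw i)
    simp only [Φ] at this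
    rw [this]
  have : Finite R := hRfin
  have hWfin : Finite W := Finite.of_injective Φ hinj
  refine ⟨Set.toFinite W, ?_⟩
  calc Nat.card W ≤ Nat.card (b → R) := Nat.card_le_card_of_injective Φ hinj
    _ = Nat.card R ^ Nat.card b := Nat.card_fun
    _ ≤ p ^ Nat.card b := Nat.pow_le_pow_left hRcard _
    _ = p ^ Fintype.card b := by rw [Nat.card_eq_fintype_card]
    _ ≤ p ^ Module.finrank k V := Nat.pow_le_pow_right (by omega) hcard

end Groth.Agent.H8.FrobFixed
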