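import Groth.Agent.H8.J2Cor
import Groth.Agent.Lib.Helper47.DVRRegular

set_option autoImplicit false
universe u

namespace Groth.Agent.H8.J2

/-- a Dedekind domain is regular at every prime -/
theorem regLocus_eq_univ_of_isDedekindDomain (A : Type u) [CommRing A] [IsDedekindDomain A] :
    Set.univ ⊆ EGA4.regLocus A := by
  intro p _
  by_cases hp : p.asIdeal = ⊥
  · have : p = ⟨⊥, Ideal.isPrime_bot⟩ := PrimeSpectrum.ext hp
    rw [this]
    exact Groth.Agent.H8.Nagata.bot_mem_regLocus A
  · haveI := p.2
    have hdvr : IsDiscreteValuationRing (Localization.AtPrime p.asIdeal) :=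
      IsLocalization.AtPrime.isDiscreteValuationRing_of_dedekind_domain A hp
        (Localization.AtPrime p.asIdeal)
    exact ((Groth.Agent.Lib.Helper47.exists_isDiscreteValuationRing_iff _).mp
      ⟨inferInstance, hdvr⟩).1

/-- a finite domain over a field-quotient is a field -/
theorem isField_of_finite_of_ker_isMaximal (A A' : Type u) [CommRing A] [CommRing A'] [IsDomain A']
    [Algebra A A'] [Module.Finite A A'] (hmax : (RingHom.ker (algebraMap A A')).IsMaximal) :
    IsField A' := by
  letI : Algebra (A ⧸ RingHom.ker (algebraMap A A')) A' :=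
    (RingHom.kerLift (algebraMap A A')).toAlgebra
  haveI : IsScalarTower A (A ⧸ RingHom.ker (algebraMap A A')) A' :=
    IsScalarTower.of_algebraMap_eq (fun x => rfl)
  haveI : Module.Finite (A ⧸ RingHom.ker (algebraMap A A')) A' :=
    Module.Finite.of_restrictScalars_finite A _ _
  have hint : Algebra.IsIntegral (A ⧸ RingHom.ker (algebraMap A A')) A' :=
    Algebra.IsIntegral.of_finite _ A'
  have hq : IsField (A ⧸ RingHom.ker (algebraMap A A')) :=
    (Ideal.Quotient.maximal_ideal_iff_isField_quotient _).mp hmax
  exact isField_of_isIntegral_of_isField' hq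

/-- a Dedekind domain of characteristic zero is J-2 -/
theorem isJ2_of_isDedekindDomain_charZero (A : Type u) [CommRing A] [IsDedekindDomain A]
    [CharZero A] : EGA4.IsJ2 A := by
  apply isJ2_of_finite_domains
  intro A' _ _ _ hfin
  by_cases hker : RingHom.ker (algebraMap A A') = ⊥
  · -- injective case: separable ascent
    have hinj : Function.Injective (algebraMap A A') := (RingHom.injective_iff_ker_eq_bot _).mpr hker
    haveI : FaithfulSMul A A' := (faithfulSMul_iff_algebraMap_injective A A').mpr hinj
    haveI : FaithfulSMul A (FractionRing A') := by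
      rw [faithfulSMul_iff_algebraMap_injective, IsScalarTower.algebraMap_eq A A' (FractionRing A')]
      exact (IsFractionRing.injective A' (FractionRing A')).comp hinj
    letI : Algebra (FractionRing A) (FractionRing A') := FractionRing.liftAlgebra A (FractionRing A')
    haveI : IsScalarTower A (FractionRing A) (FractionRing A') :=
      FractionRing.isScalarTower_liftAlgebra A (FractionRing A')
    haveI : CharZero (FractionRing A) :=
      charZero_of_injective_algebraMap (IsFractionRing.injective A (FractionRing A))
    haveI : Algebra.IsGeometricallyReduced (FractionRing A) (FractionRing A') :=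
      isGeometricallyReduced_of_charZero _ _
    exact regLocus_ascent_separable A A' (FractionRing A) (FractionRing A')
      ⟨Set.univ, isOpen_univ, ⟨⟨⊥, Ideal.isPrime_bot⟩, trivial⟩,
        regLocus_eq_univ_of_isDedekindDomain A⟩
  · have hprime : (RingHom.ker (algebraMap A A')).IsPrime := RingHom.ker_isPrime _
    have hmax : (RingHom.ker (algebraMap A A')).IsMaximal := hprime.isMaximal hker
    have hA' : IsField A' := isField_of_finite_of_ker_isMaximal A A' hmax
    exact ⟨Set.univ, isOpen_univ, ⟨⟨⊥, Ideal.isPrime_bot⟩, trivial⟩,
      regLocus_eq_univ_of_isField A' hA'⟩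

end Groth.Agent.H8.J2
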