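import Groth.Agent.H8.QuasiExcellent
import Groth.Agent.H8.J2Dedekind
import Groth.Agent.Lib.Helper47.RegularHomField
import Groth.Agent.Lib.Helper29.AdicLocal
import Groth.Agent.Lib.Helper29.FibreDescent
import Groth.Agent.Lib.Helper62.PerfectReducedGen

/-! Formal fibres of Noetherian local rings of dimension `≤ 1`; Dedekind domains of characteristic
zero are G-rings (helper8) -/

set_option linter.style.haveILetI false

set_option autoImplicit false
universe u
open TensorProduct IsLocalRing

namespace Groth.Agent.H8.GRing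

open Groth.Agent.H8.J2


/-- a field is a regular ring -/
theorem isRegularRing_of_field (k : Type u) [Field k] : IsRegularRing k := by
  rw [Groth.Agent.Lib.Helper47.isRegularRing_iff_isReduced_of_isArtinianRing]
  infer_instance

/-- a `k`-algebra with bijective structure map is geometrically regular -/
theorem isGeometricallyRegular_of_bijective (k F : Type u) [Field k] [CommRing F] [Algebra k F]
    (h : Function.Bijective (algebraMap k F)) : CAlg.IsGeometricallyRegular k F := by
  intro k' _ _ _
  let e : k ≃ₐ[k] F := AlgEquiv.ofBijective (Algebra.ofId k F) h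
  let e' : k' ⊗[k] F ≃ₐ[k'] k' :=
    (Algebra.TensorProduct.congr (AlgEquiv.refl : k' ≃ₐ[k'] k') e.symm).trans
      (Algebra.TensorProduct.rid k k' k')
  haveI := isRegularRing_of_field k'
  exact IsRegularRing.of_ringEquiv e'.symm.toRingEquiv

/-- an Artinian geometrically reduced algebra over a field is geometrically regular -/
theorem isGeometricallyRegular_of_isArtinianRing (k F : Type u) [Field k] [CommRing F] [Algebra k F]
    [IsArtinianRing F] [Algebra.IsGeometricallyReduced k F] : CAlg.IsGeometricallyRegular k F := by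
  intro k' _ _ hfin
  haveI : IsArtinianRing (F ⊗[k] k') := IsArtinianRing.of_finite F (F ⊗[k] k')
  haveI : IsArtinianRing (k' ⊗[k] F) :=
    (Algebra.TensorProduct.comm k F k').toRingEquiv.isArtinianRing
  rw [Groth.Agent.Lib.Helper47.isRegularRing_iff_isReduced_of_isArtinianRing]
  infer_instance



/-- the closed fibre of the completion map is trivial -/
theorem bijective_algebraMap_closedFibre (R : Type u) [CommRing R] [IsNoetherianRing R]
    [IsLocalRing R] :
    Function.Bijective (algebraMap (maximalIdeal R).ResidueField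
      ((maximalIdeal R).Fiber (EGA4.Cpl R))) := by
  haveI : Module.FaithfullyFlat R (EGA4.Cpl R) := Module.FaithfullyFlat.of_flat_of_isLocalHom
  haveI : Nontrivial ((maximalIdeal R).Fiber (EGA4.Cpl R)) :=
    inferInstanceAs (Nontrivial ((maximalIdeal R).ResidueField ⊗[R] EGA4.Cpl R))
  refine ⟨RingHom.injective (algebraMap (maximalIdeal R).ResidueField
      ((maximalIdeal R).Fiber (EGA4.Cpl R))), ?_⟩
  -- vanishing on `m • R̂`
  have hvanish : ∀ (c : (maximalIdeal R).ResidueField) (y : EGA4.Cpl R),
      y ∈ (maximalIdeal R) • (⊤ : Submodule R (EGA4.Cpl R)) →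
      c ⊗ₜ[R] y = (0 : (maximalIdeal R).ResidueField ⊗[R] EGA4.Cpl R) := by
    intro c y hy
    refine Submodule.smul_induction_on hy ?_ ?_
    · intro a ha z _
      rw [← TensorProduct.smul_tmul, Algebra.smul_def,
        Ideal.algebraMap_residueField_eq_zero.mpr ha, zero_mul, TensorProduct.zero_tmul]
    · intro y₁ y₂ h₁ h₂
      rw [TensorProduct.tmul_add, h₁, h₂, add_zero]
  intro z
  induction z using TensorProduct.induction_on with
  | zero => exact ⟨0, map_zero _⟩
  | add a b ha hb =>
    obtain ⟨a', rfl⟩ := ha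
    obtain ⟨b', rfl⟩ := hb
    exact ⟨a' + b', map_add _ _ _⟩
  | tmul c x =>
    obtain ⟨r, hr⟩ := Ideal.Quotient.mk_surjective (AdicCompletion.evalOneₐ (maximalIdeal R) x)
    have hmem : x - algebraMap R (EGA4.Cpl R) r ∈
        (maximalIdeal R).map (algebraMap R (EGA4.Cpl R)) := by
      rw [← AdicCompletion.ker_evalOneₐ_eq_map (maximalIdeal R)
        (maximalIdeal R).fg_of_isNoetherianRing, RingHom.mem_ker]
      change AdicCompletion.evalOneₐ (maximalIdeal R) (x - algebraMap R (EGA4.Cpl R) r) = 0
      rw [map_sub, AlgHom.commutes, ← hr]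
      exact sub_self _
    have hmem' : x - algebraMap R (EGA4.Cpl R) r ∈
        (maximalIdeal R) • (⊤ : Submodule R (EGA4.Cpl R)) := by
      rw [Ideal.smul_top_eq_map]
      exact hmem
    refine ⟨r • c, ?_⟩
    have hx : x = algebraMap R (EGA4.Cpl R) r + (x - algebraMap R (EGA4.Cpl R) r) := by ring
    rw [Algebra.TensorProduct.algebraMap_apply]
    conv_rhs => rw [hx, TensorProduct.tmul_add, hvanish c _ hmem', add_zero,
      Algebra.algebraMap_eq_smul_one, TensorProduct.tmul_smul, TensorProduct.smul_tmul']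
    rfl



/-- non-closed formal fibres of a Noetherian local ring of dimension `≤ 1` are Artinian -/
theorem isArtinianRing_fiber_cpl_of_dim_le_one (R : Type u) [CommRing R] [IsNoetherianRing R]
    [IsLocalRing R] (hdim : ringKrullDim R ≤ 1) (P : Ideal R) [hPp : P.IsPrime]
    (hP : P ≠ maximalIdeal R) : IsArtinianRing (P.Fiber (EGA4.Cpl R)) := by
  haveI hNc : IsNoetherianRing (EGA4.Cpl R) := Groth.Agent.S0543.result R (maximalIdeal R)
  haveI hNF : IsNoetherianRing (P.Fiber (EGA4.Cpl R)) :=
    Groth.Agent.Lib.Helper29.isNoetherianRing_fiber R (EGA4.Cpl R) P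
  have hdimc : ringKrullDim (EGA4.Cpl R) ≤ 1 := by
    rw [(Groth.Agent.Lib.Helper29.ringKrullDim_adicCompletion_eq_and_isRegularLocalRing_iff R
      (maximalIdeal R) Ideal.IsPrime.ne_top').1]
    exact hdim
  haveI : Ring.KrullDimLE 1 (EGA4.Cpl R) := Ring.krullDimLE_iff.mpr hdimc
  rw [isArtinianRing_iff_isNoetherianRing_krullDimLE_zero]
  refine ⟨hNF, ?_⟩
  rw [Ring.krullDimLE_zero_iff]
  intro Q hQ
  by_contra hQmax
  obtain ⟨M, hM, hQM⟩ := Ideal.exists_le_maximal Q hQ.ne_top
  have hlt : Q < M := lt_of_le_of_ne hQM (fun h => hQmax (h ▸ hM))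
  let e := PrimeSpectrum.primesOverOrderIsoFiber R (EGA4.Cpl R) P
  have hlt' : e.symm ⟨Q, hQ⟩ < e.symm ⟨M, hM.isPrime⟩ := by
    apply e.symm.strictMono
    exact hlt
  have hq₂ := (e.symm ⟨M, hM.isPrime⟩).2
  have hq₁ := (e.symm ⟨Q, hQ⟩).2
  have hq₂p : (e.symm ⟨M, hM.isPrime⟩).1.IsPrime := hq₂.1
  have hq₁p : (e.symm ⟨Q, hQ⟩).1.IsPrime := hq₁.1
  have hover : (e.symm ⟨M, hM.isPrime⟩).1.LiesOver P := hq₂.2
  rcases Ring.krullDimLE_one_iff.mp inferInstance (e.symm ⟨M, hM.isPrime⟩).1 hq₂p with hmin | hmax
  · have hle : (e.symm ⟨M, hM.isPrime⟩).1 ≤ (e.symm ⟨Q, hQ⟩).1 :=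
      hmin.2 ⟨hq₁p, bot_le⟩ (le_of_lt hlt')
    exact absurd hlt' (not_lt_of_ge hle)
  · apply hP
    have h1 : (e.symm ⟨M, hM.isPrime⟩).1 = maximalIdeal (EGA4.Cpl R) :=
      IsLocalRing.eq_maximalIdeal hmax
    have h2 : P = (e.symm ⟨M, hM.isPrime⟩).1.under R := hover.over
    rw [h2, h1]
    have hle : maximalIdeal R ≤ (maximalIdeal (EGA4.Cpl R)).under R := by
      rw [Ideal.under_def, ← Ideal.map_le_iff_le_comap]
      exact le_of_eq (AdicCompletion.maximalIdeal_eq_map (R := R)).symm
    exact ((IsLocalRing.maximalIdeal.isMaximal R).eq_of_le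
      (Ideal.IsPrime.comap _).ne_top hle).symm




/-- the residue field at the zero ideal of a domain is its fraction field -/
theorem isFractionRing_residueField_bot (R : Type u) [CommRing R] [IsDomain R] :
    IsFractionRing R (⊥ : Ideal R).ResidueField := by
  haveI : FaithfulSMul R (⊥ : Ideal R).ResidueField := by
    rw [faithfulSMul_iff_algebraMap_injective, RingHom.injective_iff_ker_eq_bot,
      Ideal.ker_algebraMap_residueField]
  apply IsFractionRing.of_field
  intro z
  obtain ⟨x, y, hy, rfl⟩ := IsFractionRing.div_surjective (A := R ⧸ (⊥ : Ideal R)) z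
  obtain ⟨x', rfl⟩ := Ideal.Quotient.mk_surjective x
  obtain ⟨y', rfl⟩ := Ideal.Quotient.mk_surjective y
  exact ⟨x', y', rfl⟩

/-- the generic fibre of a reduced algebra over a domain is reduced -/
theorem isReduced_fiber_bot (R S : Type u) [CommRing R] [IsDomain R] [CommRing S] [Algebra R S]
    [IsReduced S] : IsReduced ((⊥ : Ideal R).Fiber S) := by
  haveI := isFractionRing_residueField_bot R
  letI : Algebra S ((⊥ : Ideal R).ResidueField ⊗[R] S) := Algebra.TensorProduct.rightAlgebra
  obtain ⟨-, hloc⟩ := isLocalization_tensor_right R (nonZeroDivisors R)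
    (⊥ : Ideal R).ResidueField S
  exact isReduced_localizationPreserves (Algebra.algebraMapSubmonoid S (nonZeroDivisors R))
    ((⊥ : Ideal R).ResidueField ⊗[R] S) inferInstance


/-- a Noetherian local ring of dimension `≤ 1` whose non-closed formal fibres are geometrically
reduced has a regular completion map -/
theorem isRegularHom_cpl_of_dim_le_one (R : Type u) [CommRing R] [IsNoetherianRing R]
    [IsLocalRing R] (hdim : ringKrullDim R ≤ 1)
    (h : ∀ (P : Ideal R) [P.IsPrime], P ≠ maximalIdeal R →
      Algebra.IsGeometricallyReduced P.ResidueField (P.Fiber (EGA4.Cpl R))) :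
    CAlg.IsRegularHom R (EGA4.Cpl R) := by
  haveI hNc : IsNoetherianRing (EGA4.Cpl R) := Groth.Agent.S0543.result R (maximalIdeal R)
  refine ⟨inferInstance, fun P hP =>
    ⟨Groth.Agent.Lib.Helper29.isNoetherianRing_fiber R (EGA4.Cpl R) P, ?_⟩⟩
  by_cases hPm : P = maximalIdeal R
  · subst hPm
    exact isGeometricallyRegular_of_bijective _ _ (bijective_algebraMap_closedFibre R)
  · haveI := isArtinianRing_fiber_cpl_of_dim_le_one R hdim P hPm
    haveI := h P hPm
    exact isGeometricallyRegular_of_isArtinianRing _ _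

/-- a regular local ring of dimension `≤ 1` and characteristic zero has a regular completion map -/
theorem isRegularHom_cpl_of_isRegularLocalRing_of_dim_le_one_of_charZero (R : Type u) [CommRing R]
    [IsRegularLocalRing R] [CharZero R] (hdim : ringKrullDim R ≤ 1) :
    CAlg.IsRegularHom R (EGA4.Cpl R) := by
  haveI hdom : IsDomain R := Groth.Agent.Lib.Helper85.isDomain_of_isRegularLocalRing R
  haveI hregc : IsRegularLocalRing (EGA4.Cpl R) :=
    (Groth.Agent.Lib.Helper29.ringKrullDim_adicCompletion_eq_and_isRegularLocalRing_iff R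
      (maximalIdeal R) Ideal.IsPrime.ne_top').2.mp inferInstance
  haveI hdomc : IsDomain (EGA4.Cpl R) :=
    Groth.Agent.Lib.Helper85.isDomain_of_isRegularLocalRing _
  apply isRegularHom_cpl_of_dim_le_one R hdim
  intro P hP hPm
  have hPbot : P = ⊥ := by
    by_contra hne
    haveI : Ring.KrullDimLE 1 R := Ring.krullDimLE_iff.mpr hdim
    exact hPm (IsLocalRing.eq_maximalIdeal
      (Ring.krullDimLE_one_iff_of_noZeroDivisors.mp inferInstance P hne hP))
  subst hPbot
  haveI := isFractionRing_residueField_bot R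
  haveI : CharZero (⊥ : Ideal R).ResidueField :=
    charZero_of_injective_algebraMap (IsFractionRing.injective R (⊥ : Ideal R).ResidueField)
  haveI := isReduced_fiber_bot R (EGA4.Cpl R)
  rw [Algebra.isGeometricallyReduced_field_iff]
  exact Groth.Agent.Lib.Helper62.isReduced_tensor_of_perfectField _ _ _

/-- a Dedekind domain of characteristic zero is a G-ring -/
theorem isGRing_of_isDedekindDomain_charZero (A : Type u) [CommRing A] [IsDedekindDomain A]
    [CharZero A] : CAlg.IsGRing A := by
  refine ⟨inferInstance, fun p hp => ?_⟩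
  haveI hreg : IsRegularLocalRing (Localization.AtPrime p) :=
    regLocus_eq_univ_of_isDedekindDomain A (Set.mem_univ ⟨p, hp⟩)
  haveI : CharZero (Localization.AtPrime p) :=
    charZero_of_injective_algebraMap
      (IsLocalization.injective (Localization.AtPrime p) p.primeCompl_le_nonZeroDivisors)
  apply isRegularHom_cpl_of_isRegularLocalRing_of_dim_le_one_of_charZero
  rw [IsLocalization.AtPrime.ringKrullDim_eq_height p]
  have h1 : (p.height : WithBot ℕ∞) ≤ ringKrullDim A := Ideal.height_le_ringKrullDim_of_ne_top hp.ne_top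
  have h2 : ringKrullDim A ≤ 1 := Ring.krullDimLE_iff.mp inferInstance
  exact h1.trans h2

end Groth.Agent.H8.GRing
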