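import Mathlib.AlgebraicGeometry.Geometrically.Irreducible
import Mathlib.AlgebraicGeometry.PullbackCarrier
import Mathlib.RingTheory.Flat.Basic
import Mathlib.RingTheory.Ideal.Quotient.Basic

/-!
# Geometric irreducibility: descent along field extensions and open covers
-/

set_option autoImplicit false
universe u
open CategoryTheory CategoryTheory.Limits AlgebraicGeometry TensorProduct

namespace Groth.Agent.H8

/-- A continuous surjection from an irreducible space has irreducible target. -/
theorem irreducibleSpace_of_surjective {X Y : Type*} [TopologicalSpace X] [TopologicalSpace Y]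
    [IrreducibleSpace X] (p : X → Y) (hp : Continuous p) (hs : Function.Surjective p) :
    IrreducibleSpace Y := by
  rw [irreducibleSpace_def]
  have := (IrreducibleSpace.isIrreducible_univ X).image p hp.continuousOn
  rwa [Set.image_univ, hs.range_eq] at this

/-- Geometric irreducibility over a field can be checked after a field extension. -/
theorem geometricallyIrreducible_of_baseChange {k : Type u} [Field k] {X : Scheme.{u}}
    (f : X ⟶ Spec (CommRingCat.of k)) (k' : Type u) [Field k'] [Algebra k k']
    [h : GeometricallyIrreducible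
      (pullback.snd f (Spec.map (CommRingCat.ofHom (algebraMap k k'))))] :
    GeometricallyIrreducible f := by
  rw [geometricallyIrreducible_iff, geometrically_iff_of_commRing_of_isClosedUnderIsomorphisms]
  intro K _ _
  have : Nontrivial (K ⊗[k] k') :=
    Algebra.TensorProduct.nontrivial_of_algebraMap_injective_of_flat_left (R := k) (A := K)
      (B := k') (h := (algebraMap k k').injective)
  obtain ⟨m, hm⟩ := Ideal.exists_maximal (K ⊗[k] k')
  let _ : Field ((K ⊗[k] k') ⧸ m) := Ideal.Quotient.field m
  let φK : K →+* (K ⊗[k] k') ⧸ m :=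
    (Ideal.Quotient.mk m).comp Algebra.TensorProduct.includeLeftRingHom
  let φk' : k' →+* (K ⊗[k] k') ⧸ m :=
    (Ideal.Quotient.mk m).comp (Algebra.TensorProduct.includeRight (R := k) (A := K)).toRingHom
  have hcomm : φK.comp (algebraMap k K) = φk'.comp (algebraMap k k') := by
    ext x
    simp only [φK, φk', RingHom.comp_apply, Algebra.TensorProduct.includeLeftRingHom_apply,
      AlgHom.toRingHom_eq_coe, RingHom.coe_coe, Algebra.TensorProduct.includeRight_apply]
    congr 1
    rw [Algebra.algebraMap_eq_smul_one, Algebra.algebraMap_eq_smul_one, smul_tmul]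
  set gK := Spec.map (CommRingCat.ofHom (algebraMap k K)) with hgK
  set gk' := Spec.map (CommRingCat.ofHom (algebraMap k k')) with hgk'
  let zK : Spec (CommRingCat.of ((K ⊗[k] k') ⧸ m)) ⟶ Spec (CommRingCat.of K) :=
    Spec.map (CommRingCat.ofHom φK)
  let zk' : Spec (CommRingCat.of ((K ⊗[k] k') ⧸ m)) ⟶ Spec (CommRingCat.of k') :=
    Spec.map (CommRingCat.ofHom φk')
  have hz : zk' ≫ gk' = zK ≫ gK := by
    simp only [zK, zk', hgK, hgk', ← Spec.map_comp, ← CommRingCat.ofHom_comp, hcomm]
  have hW : IrreducibleSpace ↥(pullback (pullback.snd f gk') zk') :=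
    pullback_of_geometrically h.1 _ zk'
  let e : pullback (pullback.snd f gk') zk' ≅ pullback (pullback.snd f gK) zK :=
    pullbackLeftPullbackSndIso f gk' zk' ≪≫ pullback.congrHom rfl hz ≪≫
      (pullbackLeftPullbackSndIso f gK zK).symm
  have : Surjective zK := inferInstance
  have hsurj : Surjective (e.hom ≫ pullback.fst (pullback.snd f gK) zK) := inferInstance
  exact irreducibleSpace_of_surjective _
    (e.hom ≫ pullback.fst (pullback.snd f gK) zK).continuous hsurj.surj


/-- A space covered by a nonempty family of irreducible open subsets, any two of which meet, is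
irreducible. -/
theorem irreducibleSpace_of_open_cover {X : Type*} [TopologicalSpace X] {ι : Type*}
    (hne : Nonempty ι) (U : ι → Set X) (hcov : ⋃ i, U i = Set.univ) (hopen : ∀ i, IsOpen (U i))
    (hirr : ∀ i, IsIrreducible (U i)) (hmeet : ∀ i j, (U i ∩ U j).Nonempty) :
    IrreducibleSpace X := by
  have hX : Nonempty X := by
    obtain ⟨i⟩ := hne
    obtain ⟨x, -⟩ := (hirr i).1
    exact ⟨x⟩
  have : PreirreducibleSpace X := by
    refine PreirreducibleSpace.of_forall_nonempty_inter ?_
    rintro V W hV hW ⟨x, hxV⟩ ⟨y, hyW⟩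
    obtain ⟨i, hxi⟩ : ∃ i, x ∈ U i := by
      have : x ∈ ⋃ i, U i := hcov ▸ Set.mem_univ x
      simpa using this
    obtain ⟨j, hyj⟩ : ∃ j, y ∈ U j := by
      have : y ∈ ⋃ i, U i := hcov ▸ Set.mem_univ y
      simpa using this
    obtain ⟨z, hzi, hzV, hzj⟩ := (hirr i).2 V (U j) hV (hopen j) ⟨x, hxi, hxV⟩ (hmeet i j)
    obtain ⟨w, -, hwV, hwW⟩ := (hirr j).2 V W hV hW ⟨z, hzj, hzV⟩ ⟨y, hyj, hyW⟩
    exact ⟨w, hwV, hwW⟩
  exact ⟨hX⟩

/-- Geometric irreducibility over a field can be checked on an open cover with pairwise meeting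
members. -/
theorem geometricallyIrreducible_of_cover {k : Type u} [Field k] {X : Scheme.{u}}
    (f : X ⟶ Spec (CommRingCat.of k))
    (ι : Type u) (U : ι → X.Opens) (hne : Nonempty ι) (hcov : (⨆ i, U i) = ⊤)
    (hmeet : ∀ i j, ((U i : Set X) ∩ (U j : Set X)).Nonempty)
    (hU : ∀ i, GeometricallyIrreducible ((U i).ι ≫ f)) : GeometricallyIrreducible f := by
  rw [geometricallyIrreducible_iff, geometrically_iff_of_commRing_of_isClosedUnderIsomorphisms]
  intro K _ _
  set y := Spec.map (CommRingCat.ofHom (algebraMap k K)) with hy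
  have : Surjective y := inferInstance
  have hp : Surjective (pullback.fst f y) := inferInstance
  refine irreducibleSpace_of_open_cover hne (fun i => (pullback.fst f y) ⁻¹' (U i : Set X)) ?_
    (fun i => (U i).isOpen.preimage (pullback.fst f y).continuous) ?_ ?_
  · rw [← Set.preimage_iUnion]
    have : (⋃ i, (U i : Set X)) = Set.univ := by
      rw [← TopologicalSpace.Opens.coe_iSup, hcov]; rfl
    rw [this, Set.preimage_univ]
  · intro i
    have hW : IrreducibleSpace ↥(pullback ((U i).ι ≫ f) y) :=
      pullback_of_geometrically (hU i).1 _ y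
    let e : pullback ((U i).ι ≫ f) y ≅ pullback (U i).ι (pullback.fst f y) :=
      (pullbackRightPullbackFstIso f y (U i).ι).symm
    let q : pullback ((U i).ι ≫ f) y ⟶ pullback f y :=
      e.hom ≫ pullback.snd (U i).ι (pullback.fst f y)
    have hq : Set.range q = (pullback.fst f y) ⁻¹' (U i : Set X) := by
      have he : Set.range e.hom = Set.univ := Set.range_eq_univ.mpr e.hom.homeomorph.surjective
      rw [Scheme.Hom.comp_base, TopCat.coe_comp, Set.range_comp, he, Set.image_univ,
        Scheme.Pullback.range_snd, Scheme.Opens.range_ι]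
    have := (IrreducibleSpace.isIrreducible_univ ↥(pullback ((U i).ι ≫ f) y)).image q
      q.continuous.continuousOn
    rwa [Set.image_univ, hq] at this
  · intro i j
    obtain ⟨x, hx⟩ := hmeet i j
    obtain ⟨z, rfl⟩ := hp.surj x
    exact ⟨z, hx⟩

end Groth.Agent.H8
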