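import Groth.Agent.Lib.Helper37.GroupoidDif
import Mathlib.AlgebraicGeometry.Morphisms.UniversallyOpen
import Mathlib.AlgebraicGeometry.PullbackCarrier
import Mathlib.AlgebraicGeometry.ResidueField

/-!
# Groupoid schemes over a field: images of translates of opens are open
-/

set_option autoImplicit false
universe u

open AlgebraicGeometry CategoryTheory Limits Topology Grpd Groth.Agent.Lib.Helper37

namespace Groth.Agent.H8.GroupoidField

variable {S : Scheme.{u}} (G : GroupoidScheme S)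

theorem universallyOpen_of_iso_spec_field (k : Type u) [Field k]
    (eU : G.U ≅ Spec (CommRingCat.of k)) {Z : Scheme.{u}} (f : Z ⟶ G.U) : UniversallyOpen f := by
  have hsub : Subsingleton G.U := eU.hom.homeomorph.subsingleton
  have hne : Nonempty G.U := ⟨eU.inv default⟩
  have hint : IsIntegral G.U := isIntegral_of_isOpenImmersion eU.hom
  infer_instance

/-- The image of `Z ×_{s a, U, t} W → R`, `(z, w) ↦ a(z) ∘ w` is open when `U` is the spectrum of
a field. -/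
theorem isOpen_range_translate (k : Type u) [Field k] (eU : G.U ≅ Spec (CommRingCat.of k))
    (W : G.R.Opens) (Z : Scheme.{u}) (a : Z ⟶ G.R)
    (h : (pullback.fst (a ≫ G.s) (W.ι ≫ G.t) ≫ a) ≫ G.s =
      (pullback.snd (a ≫ G.s) (W.ι ≫ G.t) ≫ W.ι) ≫ G.t) :
    IsOpen (Set.range ⇑(gcomp G (pullback.fst (a ≫ G.s) (W.ι ≫ G.t) ≫ a)
      (pullback.snd (a ≫ G.s) (W.ι ≫ G.t) ≫ W.ι) h)) := by
  set p₁ := pullback.fst (a ≫ G.s) (W.ι ≫ G.t) with hp₁
  set p₂ := pullback.snd (a ≫ G.s) (W.ι ≫ G.t) with hp₂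
  set m := gcomp G (p₁ ≫ a) (p₂ ≫ W.ι) h with hm
  let q₁ := pullback.fst (a ≫ G.t) G.t
  let q₂ := pullback.snd (a ≫ G.t) G.t
  have hq : (q₁ ≫ a) ≫ G.t = q₂ ≫ G.t := by
    rw [Category.assoc]; exact pullback.condition
  haveI : UniversallyOpen (a ≫ G.t) := universallyOpen_of_iso_spec_field G k eU _
  have hq₂open : IsOpenMap ⇑q₂ := q₂.isOpenMap
  let Θ : pullback (a ≫ G.t) G.t ⟶ G.R := dif G (q₁ ≫ a) q₂ hq
  have hΘt : Θ ≫ G.t = (q₁ ≫ a) ≫ G.s := dif_t G _ _ _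
  suffices hrange : Set.range ⇑m = ⇑q₂ '' (⇑Θ ⁻¹' (W : Set G.R)) by
    rw [hrange]
    exact hq₂open _ (W.2.preimage Θ.continuous)
  apply Set.Subset.antisymm
  · rintro _ ⟨x, rfl⟩
    have hmt : p₁ ≫ a ≫ G.t = m ≫ G.t := by
      rw [hm, gcomp_t, Category.assoc]
    let Ψ : pullback (a ≫ G.s) (W.ι ≫ G.t) ⟶ pullback (a ≫ G.t) G.t := pullback.lift p₁ m hmt
    have hΨ₁ : Ψ ≫ q₁ = p₁ := pullback.lift_fst _ _ _
    have hΨ₂ : Ψ ≫ q₂ = m := pullback.lift_snd _ _ _
    have hΨΘ : Ψ ≫ Θ = p₂ ≫ W.ι := by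
      rw [precomp_dif]
      have e1 : Ψ ≫ q₁ ≫ a = p₁ ≫ a := by rw [← Category.assoc, hΨ₁]
      rw [dif_congr G e1 hΨ₂ _ (by rw [hm, gcomp_t])]
      exact dif_gcomp G (p₁ ≫ a) (p₂ ≫ W.ι) h m hm _
    refine ⟨Ψ x, ?_, ?_⟩
    · show Θ (Ψ x) ∈ (W : Set G.R)
      rw [← Scheme.Hom.comp_apply, hΨΘ, Scheme.Hom.comp_apply]
      exact (p₂ x).2
    · rw [← Scheme.Hom.comp_apply, hΨ₂]
  · rintro _ ⟨q, hqW, rfl⟩
    let Q := pullback (a ≫ G.t) G.t
    let pt : Spec (Q.residueField q) ⟶ Q := Q.fromSpecResidueField q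
    have hrange : Set.range ⇑(pt ≫ Θ) ⊆ Set.range ⇑W.ι := by
      rintro _ ⟨y, rfl⟩
      rw [Scheme.Opens.range_ι]
      have hy : pt y = q := by
        have := Q.range_fromSpecResidueField q
        have hy' : pt y ∈ Set.range ⇑pt := Set.mem_range_self y
        rw [this] at hy'
        exact hy'
      rw [Scheme.Hom.comp_apply, hy]
      exact hqW
    let w' : Spec (Q.residueField q) ⟶ W := IsOpenImmersion.lift W.ι (pt ≫ Θ) hrange
    have hw' : w' ≫ W.ι = pt ≫ Θ := IsOpenImmersion.lift_fac _ _ _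
    have hcond : (pt ≫ q₁) ≫ a ≫ G.s = w' ≫ W.ι ≫ G.t := by
      rw [← Category.assoc w', hw']
      simp only [Category.assoc]
      rw [hΘt]
      simp only [Category.assoc]
    let π : Spec (Q.residueField q) ⟶ pullback (a ≫ G.s) (W.ι ≫ G.t) :=
      pullback.lift (pt ≫ q₁) w' hcond
    have hπ₁ : π ≫ p₁ = pt ≫ q₁ := pullback.lift_fst _ _ _
    have hπ₂ : π ≫ p₂ = w' := pullback.lift_snd _ _ _
    have hπm : π ≫ m = pt ≫ q₂ := by
      rw [hm, precomp_gcomp]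
      have e1 : π ≫ p₁ ≫ a = pt ≫ q₁ ≫ a := by rw [← Category.assoc, hπ₁, Category.assoc]
      have e2 : π ≫ p₂ ≫ W.ι = pt ≫ Θ := by rw [← Category.assoc, hπ₂, hw']
      rw [gcomp_congr G e1 e2 _ (by
        rw [Category.assoc, Category.assoc, Category.assoc, hΘt]
        simp only [Category.assoc])]
      have e3 : pt ≫ Θ = dif G (pt ≫ q₁ ≫ a) (pt ≫ q₂) (by
          rw [Category.assoc, Category.assoc, Category.assoc, ← hq]
          simp only [Category.assoc]) := precomp_dif G pt _ _ _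
      exact gcomp_dif G (pt ≫ q₁ ≫ a) (pt ≫ q₂) _ _ e3 _
    obtain ⟨y⟩ : Nonempty (Spec (Q.residueField q)) := inferInstance
    have hy : pt y = q := by
      have := Q.range_fromSpecResidueField q
      have hy' : pt y ∈ Set.range ⇑pt := Set.mem_range_self y
      rw [this] at hy'
      exact hy'
    refine ⟨π y, ?_⟩
    rw [← Scheme.Hom.comp_apply, hπm, Scheme.Hom.comp_apply, hy]

end Groth.Agent.H8.GroupoidField
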