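import Groth.Agent.Lib.Helper37.GroupoidDif
import Mathlib.AlgebraicGeometry.ResidueField
import Mathlib.RingTheory.LocalRing.ResidueField.Ideal

/-!
# Groupoid schemes over a field: translation by a rational arrow
-/

set_option autoImplicit false
universe u

open AlgebraicGeometry CategoryTheory Limits Topology Grpd Groth.Agent.Lib.Helper37

namespace Groth.Agent.H8.GroupoidField

/-- For the spectrum of a field, `Spec κ(x) ⟶ Spec k` is an isomorphism. -/
theorem isIso_fromSpecResidueField_spec_field (k : Type u) [Field k]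
    (x : Spec (CommRingCat.of k)) :
    IsIso ((Spec (CommRingCat.of k)).fromSpecResidueField x) := by
  rw [← Scheme.Spec.map_residueFieldIso_inv_eq_fromSpecResidueField]
  haveI : x.asIdeal.IsMaximal := by
    have : x.asIdeal = ⊥ := Ideal.eq_bot_of_prime x.asIdeal
    rw [this]
    exact Ideal.bot_isMaximal
  have hbij : Function.Bijective (algebraMap k x.asIdeal.ResidueField) :=
    ⟨(algebraMap k x.asIdeal.ResidueField).injective,
      Ideal.algebraMap_residueField_surjective x.asIdeal⟩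
  haveI : IsIso (CommRingCat.ofHom (algebraMap (CommRingCat.of k) x.asIdeal.ResidueField)) := by
    rw [ConcreteCategory.isIso_iff_bijective]
    exact hbij
  infer_instance

/-- For a scheme isomorphic to the spectrum of a field, `Spec κ(x) ⟶ X` is an isomorphism. -/
theorem isIso_fromSpecResidueField_of_iso_spec_field {X : Scheme.{u}} (k : Type u) [Field k]
    (eX : X ≅ Spec (CommRingCat.of k)) (x : X) : IsIso (X.fromSpecResidueField x) := by
  have h := Scheme.Hom.SpecMap_residueFieldMap_fromSpecResidueField eX.hom x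
  haveI := isIso_fromSpecResidueField_spec_field k (eX.hom x)
  haveI : IsIso (X.fromSpecResidueField x ≫ eX.hom) := by
    rw [← h]; infer_instance
  exact IsIso.of_isIso_comp_right (X.fromSpecResidueField x) eX.hom

variable {S : Scheme.{u}} (G : GroupoidScheme S)

/-- Left translation by a section `ρ` of `s`. -/
theorem exists_translation (ρ : G.U ⟶ G.R) (hρs : ρ ≫ G.s = 𝟙 G.U) [IsIso (ρ ≫ G.t)] :
    ∃ φ : G.R ≅ G.R, G.e ≫ φ.hom = ρ := by
  set θ := ρ ≫ G.t with hθ
  have hL : (G.t ≫ ρ) ≫ G.s = 𝟙 G.R ≫ G.t := by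
    rw [Category.assoc, hρs, Category.comp_id, Category.id_comp]
  let L : G.R ⟶ G.R := gcomp G (G.t ≫ ρ) (𝟙 G.R) hL
  let A : G.R ⟶ G.R := G.t ≫ inv θ ≫ ρ
  have hA : A ≫ G.t = 𝟙 G.R ≫ G.t := by
    simp only [A, Category.assoc]
    rw [← hθ, IsIso.inv_hom_id, Category.comp_id, Category.id_comp]
  let L' : G.R ⟶ G.R := dif G A (𝟙 G.R) hA
  have hLt : L ≫ G.t = G.t ≫ θ := by
    simp only [L, gcomp_t, Category.assoc, hθ]
  have hL't : L' ≫ G.t = G.t ≫ inv θ := by
    simp only [L', dif_t, A, Category.assoc, hρs, Category.comp_id]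
  have h1 : L ≫ L' = 𝟙 G.R := by
    simp only [L']
    rw [precomp_dif]
    have e1 : L ≫ A = G.t ≫ ρ := by
      simp only [A]
      rw [← Category.assoc, hLt, Category.assoc, IsIso.hom_inv_id_assoc]
    have e2 : L ≫ 𝟙 G.R = L := Category.comp_id _
    rw [dif_congr G e1 e2 _ (by rw [hLt, Category.assoc])]
    exact dif_gcomp G (G.t ≫ ρ) (𝟙 G.R) hL L rfl _
  have h2 : L' ≫ L = 𝟙 G.R := by
    simp only [L]
    rw [precomp_gcomp]
    have e1 : L' ≫ G.t ≫ ρ = A := by
      simp only [A]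
      rw [← Category.assoc, hL't, Category.assoc]
    have e2 : L' ≫ 𝟙 G.R = L' := Category.comp_id _
    rw [gcomp_congr G e1 e2 _ (by
      rw [hL't]
      simp only [A, Category.assoc, hρs, Category.comp_id])]
    exact gcomp_dif G A (𝟙 G.R) hA L' rfl _
  refine ⟨⟨L, L', h1, h2⟩, ?_⟩
  show G.e ≫ L = ρ
  simp only [L]
  rw [precomp_gcomp]
  have e1 : G.e ≫ G.t ≫ ρ = ρ := by rw [← Category.assoc, G.e_t, Category.id_comp]
  have e2 : G.e ≫ 𝟙 G.R = ρ ≫ G.s ≫ G.e := by
    rw [Category.comp_id, ← Category.assoc, hρs, Category.id_comp]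
  rw [gcomp_congr G e1 e2 _ (by
    rw [Category.assoc, Category.assoc, G.e_t, Category.comp_id])]
  exact gcomp_e G ρ _ rfl _

theorem exists_iso_map_e_eq (k : Type u) [Field k] (eU : G.U ≅ Spec (CommRingCat.of k))
    (r : G.R) (hs : IsIso (G.s.residueFieldMap r)) (ht : IsIso (G.t.residueFieldMap r))
    (u₀ : G.U) :
    ∃ φ : G.R ≅ G.R, φ.hom (G.e u₀) = r := by
  let ρT := G.R.fromSpecResidueField r
  have hσ : IsIso (ρT ≫ G.s) := by
    rw [← Scheme.Hom.SpecMap_residueFieldMap_fromSpecResidueField G.s r]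
    haveI := isIso_fromSpecResidueField_of_iso_spec_field k eU (G.s r)
    infer_instance
  have hτ : IsIso (ρT ≫ G.t) := by
    rw [← Scheme.Hom.SpecMap_residueFieldMap_fromSpecResidueField G.t r]
    haveI := isIso_fromSpecResidueField_of_iso_spec_field k eU (G.t r)
    infer_instance
  let ρ : G.U ⟶ G.R := inv (ρT ≫ G.s) ≫ ρT
  have hρs : ρ ≫ G.s = 𝟙 G.U := by
    simp only [ρ, Category.assoc, IsIso.inv_hom_id]
  haveI : IsIso (ρ ≫ G.t) := by
    have : ρ ≫ G.t = inv (ρT ≫ G.s) ≫ (ρT ≫ G.t) := by simp only [ρ, Category.assoc]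
    rw [this]; infer_instance
  obtain ⟨φ, hφ⟩ := exists_translation G ρ hρs
  refine ⟨φ, ?_⟩
  rw [← Scheme.Hom.comp_apply, hφ]
  simp only [ρ, Scheme.Hom.comp_apply]
  exact Scheme.fromSpecResidueField_apply _ _

end Groth.Agent.H8.GroupoidField
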