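import Groth.Agent.H8.GroupoidField
import Groth.Agent.Lib.Helper37.GroupoidDif

/-!
# Morphisms of groupoid schemes: compatibility with identity and inverse; open images are closed
-/

set_option autoImplicit false
universe u

open AlgebraicGeometry CategoryTheory Limits Topology Grpd Groth.Agent.Lib.Helper37

namespace Groth.Agent.H8.GroupoidHom

variable {S : Scheme.{u}} {G₁ G₂ : GroupoidScheme S} (a : GroupoidScheme.Hom G₁ G₂)

theorem hom_gcomp {T : Scheme.{u}} (α β : T ⟶ G₁.R) (h : α ≫ G₁.s = β ≫ G₁.t)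
    (h' : (α ≫ a.fR) ≫ G₂.s = (β ≫ a.fR) ≫ G₂.t) :
    gcomp G₁ α β h ≫ a.fR = gcomp G₂ (α ≫ a.fR) (β ≫ a.fR) h' :=
  a.comm_c α β h

theorem hom_comp_s {T : Scheme.{u}} (α : T ⟶ G₁.R) : (α ≫ a.fR) ≫ G₂.s = (α ≫ G₁.s) ≫ a.fU := by
  rw [Category.assoc, a.comm_s, Category.assoc]

theorem hom_comp_t {T : Scheme.{u}} (α : T ⟶ G₁.R) : (α ≫ a.fR) ≫ G₂.t = (α ≫ G₁.t) ≫ a.fU := by
  rw [Category.assoc, a.comm_t, Category.assoc]

/-- A morphism of groupoid schemes is compatible with the identity sections. -/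
theorem hom_e : G₁.e ≫ a.fR = a.fU ≫ G₂.e := by
  set ε := G₁.e ≫ a.fR with hε
  have hs : ε ≫ G₂.s = a.fU := by
    rw [hε, hom_comp_s, G₁.e_s, Category.id_comp]
  have ht : ε ≫ G₂.t = a.fU := by
    rw [hε, hom_comp_t, G₁.e_t, Category.id_comp]
  have hee : G₁.e ≫ G₁.s = G₁.e ≫ G₁.t := by rw [G₁.e_s, G₁.e_t]
  have h1 : gcomp G₁ G₁.e G₁.e hee = G₁.e :=
    gcomp_e G₁ G₁.e G₁.e (by rw [← Category.assoc, G₁.e_s, Category.id_comp]) hee
  have hεε : ε ≫ G₂.s = ε ≫ G₂.t := by rw [hs, ht]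
  have h2 : gcomp G₂ ε ε hεε = ε := by
    rw [← hom_gcomp a G₁.e G₁.e hee hεε, h1]
  have h3 : dif G₂ ε ε rfl = ε :=
    dif_gcomp G₂ ε ε hεε ε h2.symm rfl
  have h4 : dif G₂ ε ε rfl = ε ≫ G₂.s ≫ G₂.e := by
    unfold dif
    exact i_gcomp G₂ ε _ rfl _
  rw [← h3]
  conv_lhs => rw [h4]
  rw [← Category.assoc, hs]

/-- A morphism of groupoid schemes is compatible with the inverses. -/
theorem hom_i : a.fR ≫ G₂.i = G₁.i ≫ a.fR := by
  set β := G₁.i ≫ a.fR with hβ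
  set γ := a.fR with hγ
  have hβs : β ≫ G₂.s = γ ≫ G₂.t := by
    rw [hβ, hom_comp_s, G₁.i_s, a.comm_t]
  have hβγ : gcomp G₂ β γ hβs = γ ≫ G₂.s ≫ G₂.e := by
    have h0 : (𝟙 G₁.R ≫ G₁.i) ≫ G₁.s = 𝟙 G₁.R ≫ G₁.t := by
      rw [Category.id_comp, Category.id_comp, G₁.i_s]
    have h1 : gcomp G₁ (𝟙 G₁.R ≫ G₁.i) (𝟙 G₁.R) h0 = 𝟙 G₁.R ≫ G₁.s ≫ G₁.e :=
      i_gcomp G₁ (𝟙 G₁.R) _ rfl _
    have h2 := hom_gcomp a (𝟙 G₁.R ≫ G₁.i) (𝟙 G₁.R) h0
      (by rw [hom_comp_s, hom_comp_t, h0])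
    rw [h1] at h2
    have e1 : (𝟙 G₁.R ≫ G₁.i) ≫ a.fR = β := by rw [Category.id_comp]
    have e2 : 𝟙 G₁.R ≫ a.fR = γ := Category.id_comp _
    rw [gcomp_congr G₂ e1 e2 _ hβs] at h2
    rw [← h2]
    simp only [Category.id_comp, Category.assoc]
    rw [hom_e a, ← Category.assoc, ← a.comm_s, Category.assoc]
  have h3 : gcomp G₂ (gcomp G₂ β γ hβs) (γ ≫ G₂.i)
      (by rw [gcomp_s, Category.assoc, G₂.i_t]) = β := gcomp_gcomp_i G₂ β γ hβs _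
  rw [← h3]
  rw [gcomp_congr G₂ hβγ rfl _ (by
    simp only [Category.assoc, G₂.e_s, G₂.i_t, Category.comp_id])]
  exact (e_gcomp G₂ (γ ≫ G₂.i) _ (by
    rw [Category.assoc, ← Category.assoc G₂.i G₂.t G₂.e, G₂.i_t]) _).symm

/-- The composition maps pairs of points of the image to the image. -/
theorem c_mem_range [Mono a.fU] (π : ↑(pullback G₂.s G₂.t))
    (h₁ : pullback.fst G₂.s G₂.t π ∈ Set.range ⇑a.fR)
    (h₂ : pullback.snd G₂.s G₂.t π ∈ Set.range ⇑a.fR) : G₂.c π ∈ Set.range ⇑a.fR := by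
  obtain ⟨x₁, hx₁⟩ := h₁
  obtain ⟨x₂, hx₂⟩ := h₂
  obtain ⟨ξ, hξ₁, hξ₂⟩ := Scheme.Pullback.exists_preimage_pullback (f := a.fR)
    (g := pullback.fst G₂.s G₂.t) x₁ π hx₁
  obtain ⟨ζ, hζ₁, hζ₂⟩ := Scheme.Pullback.exists_preimage_pullback
    (f := pullback.snd a.fR (pullback.fst G₂.s G₂.t) ≫ pullback.snd G₂.s G₂.t) (g := a.fR) ξ x₂
    (by rw [Scheme.Hom.comp_apply, hξ₂, hx₂])
  let y₁ : pullback (pullback.snd a.fR (pullback.fst G₂.s G₂.t) ≫ pullback.snd G₂.s G₂.t) a.fR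
      ⟶ G₁.R := pullback.fst _ _ ≫ pullback.fst _ _
  let π' : pullback (pullback.snd a.fR (pullback.fst G₂.s G₂.t) ≫ pullback.snd G₂.s G₂.t) a.fR
      ⟶ pullback G₂.s G₂.t := pullback.fst _ _ ≫ pullback.snd _ _
  let y₂ : pullback (pullback.snd a.fR (pullback.fst G₂.s G₂.t) ≫ pullback.snd G₂.s G₂.t) a.fR
      ⟶ G₁.R := pullback.snd _ _
  have e1 : y₁ ≫ a.fR = π' ≫ pullback.fst _ _ := by
    simp only [y₁, π', Category.assoc, pullback.condition]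
  have e2 : y₂ ≫ a.fR = π' ≫ pullback.snd _ _ := by
    simp only [y₂, π', Category.assoc]
    exact pullback.condition.symm
  have hcomp : y₁ ≫ G₁.s = y₂ ≫ G₁.t := by
    rw [← cancel_mono a.fU, ← hom_comp_s, ← hom_comp_t, e1, e2, Category.assoc π',
      Category.assoc π', pullback.condition]
  have key : gcomp G₁ y₁ y₂ hcomp ≫ a.fR = π' ≫ G₂.c := by
    rw [hom_gcomp a y₁ y₂ hcomp (by rw [hom_comp_s, hom_comp_t, hcomp]), comp_c]
    exact gcomp_congr G₂ e1 e2 _ _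
  have hπ'ζ : π' ζ = π := by
    have h0 : π' ζ = pullback.snd a.fR (pullback.fst G₂.s G₂.t) (pullback.fst
        (pullback.snd a.fR (pullback.fst G₂.s G₂.t) ≫ pullback.snd G₂.s G₂.t) a.fR ζ) :=
      Scheme.Hom.comp_apply _ _ _
    rw [h0, hζ₁, hξ₂]
  refine ⟨(gcomp G₁ y₁ y₂ hcomp) ζ, ?_⟩
  rw [← Scheme.Hom.comp_apply, key, Scheme.Hom.comp_apply, hπ'ζ]

/-- If `U₂` is the spectrum of a field and the image of `R₁ → R₂` is open, then it is closed. -/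
theorem isClosed_range_of_isOpen (k : Type u) [Field k] (eU : G₂.U ≅ Spec (CommRingCat.of k))
    [IsIso a.fU] (hopen : IsOpen (Set.range ⇑a.fR)) : IsClosed (Set.range ⇑a.fR) := by
  rw [← closure_subset_iff_isClosed]
  intro r hr
  -- `W = i⁻¹(image)`
  let W : G₂.R.Opens := ⟨⇑G₂.i ⁻¹' (Set.range ⇑a.fR), hopen.preimage G₂.i.continuous⟩
  let Z := Spec (G₂.R.residueField r)
  let a' : Z ⟶ G₂.R := G₂.R.fromSpecResidueField r
  have ha' : ∀ z : Z, a' z = r := fun z => Scheme.fromSpecResidueField_apply _ _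
  let p₁ := pullback.fst (a' ≫ G₂.s) (W.ι ≫ G₂.t)
  let p₂ := pullback.snd (a' ≫ G₂.s) (W.ι ≫ G₂.t)
  have hcond : (p₁ ≫ a') ≫ G₂.s = (p₂ ≫ W.ι) ≫ G₂.t := by
    rw [Category.assoc, Category.assoc]; exact pullback.condition
  let m := gcomp G₂ (p₁ ≫ a') (p₂ ≫ W.ι) hcond
  have hO : IsOpen (Set.range ⇑m) :=
    Groth.Agent.H8.GroupoidField.isOpen_range_translate G₂ k eU W Z a' hcond
  -- the identity points lie in the image
  have he_mem : ∀ u : G₂.U, G₂.e u ∈ Set.range ⇑a.fR := by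
    intro u
    refine ⟨G₁.e (inv a.fU u), ?_⟩
    rw [← Scheme.Hom.comp_apply, hom_e a, ← Scheme.Hom.comp_apply, ← Category.assoc,
      IsIso.inv_hom_id, Category.id_comp]
  have he_memW : ∀ u : G₂.U, G₂.e u ∈ W := by
    intro u
    show G₂.i (G₂.e u) ∈ Set.range ⇑a.fR
    obtain ⟨x, hx⟩ := he_mem u
    refine ⟨G₁.i x, ?_⟩
    rw [← Scheme.Hom.comp_apply, ← hom_i a, Scheme.Hom.comp_apply, hx]
  -- `r ∈ O`
  have hrO : r ∈ Set.range ⇑m := by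
    have hrange : Set.range ⇑(a' ≫ G₂.s ≫ G₂.e) ⊆ Set.range ⇑W.ι := by
      rintro _ ⟨z, rfl⟩
      rw [Scheme.Opens.range_ι]
      simp only [Scheme.Hom.comp_apply]
      exact he_memW _
    let ε : Z ⟶ W := IsOpenImmersion.lift W.ι (a' ≫ G₂.s ≫ G₂.e) hrange
    have hε : ε ≫ W.ι = a' ≫ G₂.s ≫ G₂.e := IsOpenImmersion.lift_fac _ _ _
    let p₀ : Z ⟶ pullback (a' ≫ G₂.s) (W.ι ≫ G₂.t) := pullback.lift (𝟙 Z) ε (by
      rw [Category.id_comp, ← Category.assoc, hε, Category.assoc, Category.assoc, G₂.e_t,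
        Category.comp_id])
    have hp₀m : p₀ ≫ m = a' := by
      simp only [m]
      rw [precomp_gcomp]
      have e1 : p₀ ≫ p₁ ≫ a' = a' := by
        rw [← Category.assoc]
        simp only [p₀, p₁, pullback.lift_fst, Category.id_comp]
      have e2 : p₀ ≫ p₂ ≫ W.ι = a' ≫ G₂.s ≫ G₂.e := by
        rw [← Category.assoc]
        simp only [p₀, p₂, pullback.lift_snd, hε]
      rw [gcomp_congr G₂ e1 e2 _ (by
        rw [Category.assoc, Category.assoc, G₂.e_t, Category.comp_id])]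
      exact gcomp_e G₂ a' _ rfl _
    obtain ⟨z⟩ : Nonempty Z := inferInstance
    refine ⟨p₀ z, ?_⟩
    rw [← Scheme.Hom.comp_apply, hp₀m, ha']
  -- a point of `O ∩ image`
  obtain ⟨_, ⟨p, rfl⟩, hy⟩ := mem_closure_iff.mp hr _ hO hrO
  -- the pair `(m, (p₂ ≫ W.ι) ≫ i)`
  have hc2 : m ≫ G₂.s = ((p₂ ≫ W.ι) ≫ G₂.i) ≫ G₂.t := by
    simp only [m, gcomp_s, Category.assoc, G₂.i_t]
  let πP : pullback (a' ≫ G₂.s) (W.ι ≫ G₂.t) ⟶ pullback G₂.s G₂.t :=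
    pullback.lift m ((p₂ ≫ W.ι) ≫ G₂.i) hc2
  have hπc : πP ≫ G₂.c = p₁ ≫ a' := by
    rw [comp_c]
    have e1 : πP ≫ pullback.fst G₂.s G₂.t = m := pullback.lift_fst _ _ _
    have e2 : πP ≫ pullback.snd G₂.s G₂.t = (p₂ ≫ W.ι) ≫ G₂.i := pullback.lift_snd _ _ _
    rw [gcomp_congr G₂ e1 e2 _ hc2]
    exact gcomp_gcomp_i G₂ (p₁ ≫ a') (p₂ ≫ W.ι) hcond _
  have hmem := c_mem_range a (πP p)
    (by
      rw [← Scheme.Hom.comp_apply]
      simp only [πP, pullback.lift_fst]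
      exact hy)
    (by
      rw [← Scheme.Hom.comp_apply]
      simp only [πP, pullback.lift_snd, Scheme.Hom.comp_apply]
      exact (p₂ p).2)
  rw [← Scheme.Hom.comp_apply, hπc, Scheme.Hom.comp_apply, ha'] at hmem
  exact hmem

end Groth.Agent.H8.GroupoidHom
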