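import Groth.Agent.H8.GroupoidHom
import Mathlib.AlgebraicGeometry.IdealSheaf.Subscheme

/-!
# Morphisms of groupoid schemes over a field: the closure of the image is stable under composition;
locally closed images are closed
-/

set_option autoImplicit false
universe u

open AlgebraicGeometry CategoryTheory Limits Topology Grpd Groth.Agent.Lib.Helper37

namespace Groth.Agent.H8.GroupoidHom

/-- Topological core of the density argument. -/
theorem mem_closure_of_isOpenMap {Q P R : Type*} [TopologicalSpace Q] [TopologicalSpace P]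
    [TopologicalSpace R] (q₁ : Q → P) (hq₁ : Continuous q₁) (π : P → R) (o : Q → R)
    (ho : IsOpenMap o) (hoπ : ∀ q, o q = π (q₁ q)) (A : Set R) (C : Set P)
    (hC : ∀ q, q₁ q ∈ C) (p : P) (q : Q) (hq : q₁ q = p) (hp : π p ∈ closure A) :
    p ∈ closure {p' | π p' ∈ A ∧ p' ∈ C} := by
  rw [mem_closure_iff]
  intro V hV hpV
  have h1 : IsOpen (o '' (q₁ ⁻¹' V)) := ho _ (hV.preimage hq₁)
  have h2 : π p ∈ o '' (q₁ ⁻¹' V) := ⟨q, by simpa [hq] using hpV, by rw [hoπ, hq]⟩
  obtain ⟨_, ⟨q', hq'V, rfl⟩, hA⟩ := mem_closure_iff.mp hp _ h1 h2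
  exact ⟨q₁ q', hq'V, by rw [← hoπ]; exact hA, hC q'⟩

variable {S : Scheme.{u}} (G : GroupoidScheme S)

/-- Moving the first coordinate into `A`, the second constrained to the image of `ρ`. -/
theorem mem_closure_fst (k : Type u) [Field k] (eU : G.U ≅ Spec (CommRingCat.of k))
    {Y : Scheme.{u}} (ρ : Y ⟶ G.R) (A : Set G.R) (p : ↑(pullback G.s G.t))
    (h₁ : pullback.fst G.s G.t p ∈ closure A) (h₂ : pullback.snd G.s G.t p ∈ Set.range ⇑ρ) :
    p ∈ closure {p' : ↑(pullback G.s G.t) | pullback.fst G.s G.t p' ∈ A ∧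
      pullback.snd G.s G.t p' ∈ Set.range ⇑ρ} := by
  let q₁ := pullback.fst (pullback.snd G.s G.t) ρ
  let q₂ := pullback.snd (pullback.snd G.s G.t) ρ
  have hpb : IsPullback (q₁ ≫ pullback.fst G.s G.t) q₂ G.s (ρ ≫ G.t) :=
    (IsPullback.of_hasPullback (pullback.snd G.s G.t) ρ).paste_horiz
      (IsPullback.of_hasPullback G.s G.t)
  haveI : UniversallyOpen (ρ ≫ G.t) :=
    Groth.Agent.H8.GroupoidField.universallyOpen_of_iso_spec_field G k eU _
  have hopen : UniversallyOpen (q₁ ≫ pullback.fst G.s G.t) :=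
    MorphismProperty.of_isPullback hpb.flip inferInstance
  obtain ⟨y, hy⟩ := h₂
  obtain ⟨q, hq, -⟩ := Scheme.Pullback.exists_preimage_pullback
    (f := pullback.snd G.s G.t) (g := ρ) p y hy.symm
  refine mem_closure_of_isOpenMap ⇑q₁ q₁.continuous ⇑(pullback.fst G.s G.t)
    ⇑(q₁ ≫ pullback.fst G.s G.t) (q₁ ≫ pullback.fst G.s G.t).isOpenMap
    (fun q => Scheme.Hom.comp_apply _ _ _) A _ (fun q' => ?_) p q hq h₁
  refine ⟨q₂ q', ?_⟩
  have hcond : q₂ ≫ ρ = q₁ ≫ pullback.snd G.s G.t := pullback.condition.symm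
  rw [← Scheme.Hom.comp_apply, ← Scheme.Hom.comp_apply, hcond]

/-- Moving the second coordinate into `A`, the first constrained to the image of `ρ`. -/
theorem mem_closure_snd (k : Type u) [Field k] (eU : G.U ≅ Spec (CommRingCat.of k))
    {Y : Scheme.{u}} (ρ : Y ⟶ G.R) (A : Set G.R) (p : ↑(pullback G.s G.t))
    (h₁ : pullback.fst G.s G.t p ∈ Set.range ⇑ρ) (h₂ : pullback.snd G.s G.t p ∈ closure A) :
    p ∈ closure {p' : ↑(pullback G.s G.t) | pullback.snd G.s G.t p' ∈ A ∧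
      pullback.fst G.s G.t p' ∈ Set.range ⇑ρ} := by
  let q₁ := pullback.fst (pullback.fst G.s G.t) ρ
  let q₂ := pullback.snd (pullback.fst G.s G.t) ρ
  have hpb : IsPullback (q₁ ≫ pullback.snd G.s G.t) q₂ G.t (ρ ≫ G.s) :=
    (IsPullback.of_hasPullback (pullback.fst G.s G.t) ρ).paste_horiz
      (IsPullback.of_hasPullback G.s G.t).flip
  haveI : UniversallyOpen (ρ ≫ G.s) :=
    Groth.Agent.H8.GroupoidField.universallyOpen_of_iso_spec_field G k eU _
  have hopen : UniversallyOpen (q₁ ≫ pullback.snd G.s G.t) :=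
    MorphismProperty.of_isPullback hpb.flip inferInstance
  obtain ⟨y, hy⟩ := h₁
  obtain ⟨q, hq, -⟩ := Scheme.Pullback.exists_preimage_pullback
    (f := pullback.fst G.s G.t) (g := ρ) p y hy.symm
  refine mem_closure_of_isOpenMap ⇑q₁ q₁.continuous ⇑(pullback.snd G.s G.t)
    ⇑(q₁ ≫ pullback.snd G.s G.t) (q₁ ≫ pullback.snd G.s G.t).isOpenMap
    (fun q => Scheme.Hom.comp_apply _ _ _) A _ (fun q' => ?_) p q hq h₂
  refine ⟨q₂ q', ?_⟩
  have hcond : q₂ ≫ ρ = q₁ ≫ pullback.fst G.s G.t := pullback.condition.symm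
  rw [← Scheme.Hom.comp_apply, ← Scheme.Hom.comp_apply, hcond]

variable {G₁ G₂ : GroupoidScheme S} (a : GroupoidScheme.Hom G₁ G₂)

/-- The closure of the image of a morphism of groupoid schemes over a field is stable under
composition. -/
theorem c_mem_closure_range (k : Type u) [Field k] (eU : G₂.U ≅ Spec (CommRingCat.of k))
    [IsIso a.fU] (p : ↑(pullback G₂.s G₂.t))
    (h₁ : pullback.fst G₂.s G₂.t p ∈ closure (Set.range ⇑a.fR))
    (h₂ : pullback.snd G₂.s G₂.t p ∈ closure (Set.range ⇑a.fR)) :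
    G₂.c p ∈ closure (Set.range ⇑a.fR) := by
  set D : Set G₂.R := Set.range ⇑a.fR with hD
  -- the reduced closed subscheme on the closure
  let Zc : TopologicalSpace.Closeds G₂.R := ⟨closure D, isClosed_closure⟩
  let 𝓘 := Scheme.IdealSheafData.vanishingIdeal Zc
  have hrange : Set.range ⇑𝓘.subschemeι = closure D := by
    rw [𝓘.range_subschemeι, Scheme.IdealSheafData.coe_support_vanishingIdeal]
    rfl
  -- `M = {fst ∈ D, snd ∈ D}`
  let M : Set ↑(pullback G₂.s G₂.t) :=
    {p' | pullback.fst G₂.s G₂.t p' ∈ D ∧ pullback.snd G₂.s G₂.t p' ∈ D}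
  have hMc : M ⊆ ⇑G₂.c ⁻¹' closure D := fun p' hp' =>
    subset_closure (c_mem_range a p' hp'.1 hp'.2)
  have hclosed : IsClosed (⇑G₂.c ⁻¹' closure D) := isClosed_closure.preimage G₂.c.continuous
  have hM : closure M ⊆ ⇑G₂.c ⁻¹' closure D := hclosed.closure_subset_iff.mpr hMc
  apply hM
  -- first move `snd` into `D` keeping `fst ∈ closure D`
  have hstep1 := mem_closure_snd G₂ k eU 𝓘.subschemeι D p (by rw [hrange]; exact h₁) h₂
  refine closure_minimal ?_ isClosed_closure hstep1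
  rintro p' ⟨hp'₂, hp'₁⟩
  rw [hrange] at hp'₁
  have hstep2 := mem_closure_fst G₂ k eU a.fR D p' hp'₁ hp'₂
  exact hstep2

/-- The image is stable under the inverse. -/
theorem i_mem_range (x : G₂.R) (hx : x ∈ Set.range ⇑a.fR) : G₂.i x ∈ Set.range ⇑a.fR := by
  obtain ⟨y, rfl⟩ := hx
  refine ⟨G₁.i y, ?_⟩
  rw [← Scheme.Hom.comp_apply, ← hom_i a, Scheme.Hom.comp_apply]

theorem i_mem_closure_range (x : G₂.R) (hx : x ∈ closure (Set.range ⇑a.fR)) :
    G₂.i x ∈ closure (Set.range ⇑a.fR) := by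
  have h1 : closure (Set.range ⇑a.fR) ⊆ ⇑G₂.i ⁻¹' closure (Set.range ⇑a.fR) := by
    refine closure_minimal ?_ (isClosed_closure.preimage G₂.i.continuous)
    intro y hy
    exact subset_closure (i_mem_range a y hy)
  exact h1 hx

end Groth.Agent.H8.GroupoidHom
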