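import Groth.Agent.H8.GroupoidHom2
import Groth.Agent.Lib.Helper37.GroupoidRank
import Mathlib.Topology.LocallyClosed

/-!
# Morphisms of groupoid schemes over a field: locally closed images are closed
-/

set_option autoImplicit false
universe u

open AlgebraicGeometry CategoryTheory Limits Topology Grpd Groth.Agent.Lib.Helper37

namespace Groth.Agent.H8.GroupoidHom

variable {S : Scheme.{u}} {G₁ G₂ : GroupoidScheme S} (a : GroupoidScheme.Hom G₁ G₂)

theorem isClosed_range_of_isLocallyClosed (k : Type u) [Field k]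
    (eU : G₂.U ≅ Spec (CommRingCat.of k)) [IsIso a.fU]
    (hlc : IsLocallyClosed (Set.range ⇑a.fR)) : IsClosed (Set.range ⇑a.fR) := by
  rw [← closure_subset_iff_isClosed]
  intro r hr
  set D : Set G₂.R := Set.range ⇑a.fR with hD
  have hW₀ : IsOpen (coborder D) := hlc.isOpen_coborder
  have hDeq : coborder D ∩ closure D = D := coborder_inter_closure
  let W : G₂.R.Opens := ⟨⇑G₂.i ⁻¹' (coborder D), hW₀.preimage G₂.i.continuous⟩
  let Z := Spec (G₂.R.residueField r)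
  let a' : Z ⟶ G₂.R := G₂.R.fromSpecResidueField r
  have ha' : ∀ z : Z, a' z = r := fun z => Scheme.fromSpecResidueField_apply _ _
  let p₁ := pullback.fst (a' ≫ G₂.s) (W.ι ≫ G₂.t)
  let p₂ := pullback.snd (a' ≫ G₂.s) (W.ι ≫ G₂.t)
  have hcond : (p₁ ≫ a') ≫ G₂.s = (p₂ ≫ W.ι) ≫ G₂.t := by
    rw [Category.assoc, Category.assoc]; exact pullback.condition
  let m := gcomp G₂ (p₁ ≫ a') (p₂ ≫ W.ι) hcond
  have hO : IsOpen (Set.range ⇑m) :=
    Groth.Agent.H8.GroupoidField.isOpen_range_translate G₂ k eU W Z a' hcond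
  have he_mem : ∀ u : G₂.U, G₂.e u ∈ D := by
    intro u
    refine ⟨G₁.e (inv a.fU u), ?_⟩
    rw [← Scheme.Hom.comp_apply, hom_e a, ← Scheme.Hom.comp_apply, ← Category.assoc,
      IsIso.inv_hom_id, Category.id_comp]
  have he_memW : ∀ u : G₂.U, G₂.e u ∈ W := by
    intro u
    show G₂.i (G₂.e u) ∈ coborder D
    exact subset_coborder (i_mem_range a _ (he_mem u))
  have hrO : r ∈ Set.range ⇑m := by
    have hrange : Set.range ⇑(a' ≫ G₂.s ≫ G₂.e) ⊆ Set.range ⇑W.ι := by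
      rintro _ ⟨z, rfl⟩
      rw [Scheme.Opens.range_ι]
      simp only [Scheme.Hom.comp_apply]
      exact he_memW _
    let ε : Z ⟶ W := IsOpenImmersion.lift W.ι (a' ≫ G₂.s ≫ G₂.e) hrange
    have hε : ε ≫ W.ι = a' ≫ G₂.s ≫ G₂.e := IsOpenImmersion.lift_fac _ _ _
    let p₀ : Z ⟶ pullback (a' ≫ G₂.s) (W.ι ≫ G₂.t) := pullback.lift (𝟙 Z) ε (by
      rw [Category.id_comp, ← Category.assoc, hε, Category.assoc, Category.assoc, G₂.e_t,
        Category.comp_id])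
    have hp₀m : p₀ ≫ m = a' := by
      simp only [m]
      rw [precomp_gcomp]
      have e1 : p₀ ≫ p₁ ≫ a' = a' := by
        rw [← Category.assoc]
        simp only [p₀, p₁, pullback.lift_fst, Category.id_comp]
      have e2 : p₀ ≫ p₂ ≫ W.ι = a' ≫ G₂.s ≫ G₂.e := by
        rw [← Category.assoc]
        simp only [p₀, p₂, pullback.lift_snd, hε]
      rw [gcomp_congr G₂ e1 e2 _ (by
        rw [Category.assoc, Category.assoc, G₂.e_t, Category.comp_id])]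
      exact gcomp_e G₂ a' _ rfl _
    obtain ⟨z⟩ : Nonempty Z := inferInstance
    refine ⟨p₀ z, ?_⟩
    rw [← Scheme.Hom.comp_apply, hp₀m, ha']
  obtain ⟨_, ⟨p, rfl⟩, hy⟩ := mem_closure_iff.mp hr _ hO hrO
  -- `i(w) ∈ closure D`, via the pair `(m ≫ i, p₁ ≫ a')`
  have hiw : G₂.i ((p₂ ≫ W.ι) p) ∈ closure D := by
    have hc1 : (m ≫ G₂.i) ≫ G₂.s = (p₁ ≫ a') ≫ G₂.t := by
      simp only [m, Category.assoc, G₂.i_s]
      rw [← Category.assoc, gcomp_t]
    let π₂ : pullback (a' ≫ G₂.s) (W.ι ≫ G₂.t) ⟶ pullback G₂.s G₂.t :=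
      pullback.lift (m ≫ G₂.i) (p₁ ≫ a') hc1
    have hπ₂c : π₂ ≫ G₂.c = (p₂ ≫ W.ι) ≫ G₂.i := by
      rw [comp_c]
      have e1 : π₂ ≫ pullback.fst G₂.s G₂.t = m ≫ G₂.i := pullback.lift_fst _ _ _
      have e2 : π₂ ≫ pullback.snd G₂.s G₂.t = p₁ ≫ a' := pullback.lift_snd _ _ _
      rw [gcomp_congr G₂ e1 e2 _ hc1]
      have hab : (p₁ ≫ a') ≫ G₂.s = ((p₂ ≫ W.ι) ≫ G₂.i) ≫ G₂.s := by
        rw [hcond, Category.assoc (p₂ ≫ W.ι), G₂.i_s]
      have hbi : ((p₂ ≫ W.ι) ≫ G₂.i) ≫ G₂.i = p₂ ≫ W.ι := by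
        rw [Category.assoc, i_i, Category.comp_id]
      have h₁ : (p₁ ≫ a') ≫ G₂.s = (((p₂ ≫ W.ι) ≫ G₂.i) ≫ G₂.i) ≫ G₂.t := by
        rw [hbi, hcond]
      have hy' : m = gcomp G₂ (p₁ ≫ a') (((p₂ ≫ W.ι) ≫ G₂.i) ≫ G₂.i) h₁ :=
        gcomp_congr G₂ rfl hbi.symm _ _
      exact dif_gcomp_i G₂ (p₁ ≫ a') ((p₂ ≫ W.ι) ≫ G₂.i) hab m h₁ hy' (by
        simp only [m, gcomp_t])
    have hmem := c_mem_closure_range a k eU (π₂ p)
      (by
        rw [← Scheme.Hom.comp_apply]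
        simp only [π₂, pullback.lift_fst, Scheme.Hom.comp_apply]
        exact subset_closure (i_mem_range a _ hy))
      (by
        rw [← Scheme.Hom.comp_apply]
        simp only [π₂, pullback.lift_snd, Scheme.Hom.comp_apply]
        rw [ha']
        exact hr)
    rw [← Scheme.Hom.comp_apply, hπ₂c] at hmem
    simpa only [Scheme.Hom.comp_apply] using hmem
  have hiwD : G₂.i ((p₂ ≫ W.ι) p) ∈ D := by
    rw [← hDeq]
    refine ⟨?_, hiw⟩
    rw [Scheme.Hom.comp_apply]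
    exact (p₂ p).2
  -- conclude as in the open case
  have hc2 : m ≫ G₂.s = ((p₂ ≫ W.ι) ≫ G₂.i) ≫ G₂.t := by
    simp only [m, gcomp_s, Category.assoc, G₂.i_t]
  let πP : pullback (a' ≫ G₂.s) (W.ι ≫ G₂.t) ⟶ pullback G₂.s G₂.t :=
    pullback.lift m ((p₂ ≫ W.ι) ≫ G₂.i) hc2
  have hπc : πP ≫ G₂.c = p₁ ≫ a' := by
    rw [comp_c]
    have e1 : πP ≫ pullback.fst G₂.s G₂.t = m := pullback.lift_fst _ _ _
    have e2 : πP ≫ pullback.snd G₂.s G₂.t = (p₂ ≫ W.ι) ≫ G₂.i := pullback.lift_snd _ _ _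
    rw [gcomp_congr G₂ e1 e2 _ hc2]
    exact gcomp_gcomp_i G₂ (p₁ ≫ a') (p₂ ≫ W.ι) hcond _
  have hmem := c_mem_range a (πP p)
    (by
      rw [← Scheme.Hom.comp_apply]
      simp only [πP, pullback.lift_fst]
      exact hy)
    (by
      rw [← Scheme.Hom.comp_apply]
      simp only [πP, pullback.lift_snd]
      simpa only [Scheme.Hom.comp_apply] using hiwD)
  rw [← Scheme.Hom.comp_apply, hπc, Scheme.Hom.comp_apply, ha'] at hmem
  exact hmem

end Groth.Agent.H8.GroupoidHom
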