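import Groth.Agent.S7456
import Groth.Agent.Lib.Helper47.QcClosure
import Mathlib.AlgebraicGeometry.Morphisms.UniversallyOpen
import Mathlib.AlgebraicGeometry.IdealSheaf.Subscheme

/-!
# Saturations of quasi-compact opens in a groupoid scheme
-/

set_option autoImplicit false
universe u

open AlgebraicGeometry CategoryTheory Limits Topology

namespace Groth.Agent.H8.GroupoidInv

/-- A compact subset of a scheme with a common neighbourhood `N` of its points is contained in a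
quasi-compact open contained in `N`. -/
theorem exists_isCompact_opens_between {X : Scheme.{u}} {E : Set X} (hE : IsCompact E)
    (N : Set X) (hN : ∀ η ∈ E, N ∈ 𝓝 η) :
    ∃ V : X.Opens, IsCompact (V : Set X) ∧ E ⊆ V ∧ (V : Set X) ⊆ N := by
  classical
  have key : ∀ η ∈ E, ∃ A : X.Opens, IsAffineOpen A ∧ η ∈ A ∧ (A : Set X) ⊆ N := by
    intro η hη
    obtain ⟨O, hON, hO, hηO⟩ := mem_nhds_iff.mp (hN η hη)
    obtain ⟨A, hA, hηA, hAO⟩ := TopologicalSpace.Opens.isBasis_iff_nbhd.mp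
      X.isBasis_affineOpens (U := ⟨O, hO⟩) hηO
    exact ⟨A, hA, hηA, fun x hx => hON (hAO hx)⟩
  choose! A hA hηA hAN using key
  obtain ⟨T, hTE, hcover⟩ := hE.elim_nhds_subcover (fun η => (A η : Set X))
    (fun η hη => (A η).2.mem_nhds (hηA η hη))
  refine ⟨⨆ η ∈ T, A η, ?_, ?_, ?_⟩
  · simp only [TopologicalSpace.Opens.coe_iSup]
    exact T.isCompact_biUnion fun η hη => (hA η (hTE η hη)).isCompact
  · simp only [TopologicalSpace.Opens.coe_iSup]
    exact hcover
  · simp only [TopologicalSpace.Opens.coe_iSup]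
    exact Set.iUnion₂_subset fun η hη => hAN η (hTE η hη)

variable {S : Scheme.{u}} (G : Grpd.GroupoidScheme S)

theorem subset_sat (W : Set G.U) : W ⊆ ⇑G.t '' (⇑G.s ⁻¹' W) := by
  intro u hu
  refine ⟨G.e u, ?_, ?_⟩
  · show G.s (G.e u) ∈ W
    rw [← Scheme.Hom.comp_apply, G.e_s]
    exact hu
  · rw [← Scheme.Hom.comp_apply, G.e_t]
    rfl

theorem sat_invariant (W : Set G.U) :
    ⇑G.s ⁻¹' (⇑G.t '' (⇑G.s ⁻¹' W)) = ⇑G.t ⁻¹' (⇑G.t '' (⇑G.s ⁻¹' W)) :=
  (Groth.Agent.S7456.result S G).1 W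

theorem isCompact_sat [QuasiCompact G.s] (W : G.U.Opens) (hW : IsCompact (W : Set G.U)) :
    IsCompact (⇑G.t '' (⇑G.s ⁻¹' (W : Set G.U))) :=
  (QuasiCompact.isCompact_preimage _ W.2 hW).image G.t.continuous

theorem stableUnderGeneralization_sat [Flat G.t] (W : G.U.Opens) :
    StableUnderGeneralization (⇑G.t '' (⇑G.s ⁻¹' (W : Set G.U))) :=
  (Flat.generalizingMap (f := G.t)).stableUnderGeneralization_image
    (W.2.preimage G.s.continuous).stableUnderGeneralization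

/-- The saturation of a quasi-compact open is an intersection of quasi-compact opens. -/
theorem sat_eq_iInter [QuasiCompact G.s] [Flat G.t] (W : G.U.Opens)
    (hW : IsCompact (W : Set G.U)) :
    ∃ (ι : Type u) (_ : Nonempty ι) (V : ι → G.U.Opens), (∀ i, IsCompact (V i : Set G.U)) ∧
      ⇑G.t '' (⇑G.s ⁻¹' (W : Set G.U)) = ⋂ i, (V i : Set G.U) := by
  set E : Set G.U := ⇑G.t '' (⇑G.s ⁻¹' (W : Set G.U)) with hEdef
  have hEc : IsCompact E := isCompact_sat G W hW
  have hEg : StableUnderGeneralization E := stableUnderGeneralization_sat G W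
  obtain ⟨W', hW'c, hEW', -⟩ := exists_isCompact_opens_between hEc Set.univ
    (fun _ _ => Filter.univ_mem)
  refine ⟨{V : G.U.Opens // IsCompact (V : Set G.U) ∧ E ⊆ V}, ⟨⟨W', hW'c, hEW'⟩⟩,
    fun V => V.1, fun V => V.2.1, ?_⟩
  apply Set.Subset.antisymm
  · exact Set.subset_iInter fun V => V.2.2
  · intro ξ hξ
    by_contra hξE
    have hN : ∀ η ∈ E, (closure {ξ})ᶜ ∈ 𝓝 η := by
      intro η hη
      refine isClosed_closure.isOpen_compl.mem_nhds ?_
      intro hmem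
      exact hξE (hEg (specializes_iff_mem_closure.mpr hmem) hη)
    obtain ⟨V, hVc, hEV, hVN⟩ := exists_isCompact_opens_between hEc _ hN
    have h1 : ξ ∈ (V : Set G.U) := Set.mem_iInter.mp hξ ⟨V, hVc, hEV⟩
    exact hVN h1 (subset_closure rfl)

/-- An invariant open sandwiched between a quasi-compact open and a larger quasi-compact open. -/
theorem exists_invariant_between [QuasiCompact G.s] [Flat G.s] [QuasiCompact G.t] (W : G.U.Opens)
    (hW : IsCompact (W : Set G.U)) :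
    ∃ V W' : G.U.Opens, G.s ⁻¹ᵁ V = G.t ⁻¹ᵁ V ∧ IsCompact (W' : Set G.U) ∧ W ≤ V ∧ V ≤ W' := by
  set E : Set G.U := ⇑G.t '' (⇑G.s ⁻¹' (W : Set G.U)) with hEdef
  have hEc : IsCompact E := isCompact_sat G W hW
  have hWE : (W : Set G.U) ⊆ E := subset_sat G _
  have hEinv : ⇑G.s ⁻¹' E = ⇑G.t ⁻¹' E := sat_invariant G _
  obtain ⟨W', hW'c, hEW', -⟩ := exists_isCompact_opens_between hEc Set.univ
    (fun _ _ => Filter.univ_mem)
  set Z : Set G.U := (W' : Set G.U)ᶜ with hZdef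
  have hZc : IsClosed Z := W'.2.isClosed_compl
  set T : Set G.U := ⇑G.t '' (⇑G.s ⁻¹' Z) with hTdef
  have hTinv : ⇑G.s ⁻¹' T = ⇑G.t ⁻¹' T := sat_invariant G _
  have hZT : Z ⊆ T := subset_sat G _
  have hET : ∀ x, x ∈ E → x ∈ T → False := by
    rintro x hxE ⟨r, hrZ, rfl⟩
    have h1 : r ∈ ⇑G.s ⁻¹' E := by rw [hEinv]; exact hxE
    exact hrZ (hEW' h1)
  -- the closed subscheme of `R` on `s⁻¹(Z)`
  let Zc : TopologicalSpace.Closeds G.R := ⟨⇑G.s ⁻¹' Z, hZc.preimage G.s.continuous⟩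
  let 𝓘 := Scheme.IdealSheafData.vanishingIdeal Zc
  have hrange : Set.range (𝓘.subschemeι ≫ G.t) = T := by
    rw [Scheme.Hom.comp_base, TopCat.coe_comp, Set.range_comp, 𝓘.range_subschemeι,
      Scheme.IdealSheafData.coe_support_vanishingIdeal]
    rfl
  have hsp : ∀ ξ ∈ closure T, ∃ ξ' ∈ T, ξ' ⤳ ξ := by
    intro ξ hξ
    rw [← hrange] at hξ
    obtain ⟨x, hx⟩ := Groth.Agent.Lib.Helper47.exists_specializes_of_mem_closure_range
      (𝓘.subschemeι ≫ G.t) ξ hξ
    refine ⟨(𝓘.subschemeι ≫ G.t) x, ?_, hx⟩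
    rw [← hrange]
    exact Set.mem_range_self x
  have hclinv : ∀ r : G.R, G.s r ∈ closure T → G.t r ∈ closure T := by
    intro r hr
    obtain ⟨ξ', hξ'T, hξ'⟩ := hsp _ hr
    obtain ⟨r', hr'r, hr'⟩ := (Flat.generalizingMap (f := G.s)) hξ'
    have h1 : r' ∈ ⇑G.s ⁻¹' T := by
      show G.s r' ∈ T
      rw [hr']; exact hξ'T
    rw [hTinv] at h1
    exact (hr'r.map G.t.continuous).mem_closed isClosed_closure (subset_closure h1)
  have hclinv' : ∀ r : G.R, G.t r ∈ closure T → G.s r ∈ closure T := by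
    intro r hr
    have h1 : G.s (G.i r) = G.t r := by rw [← Scheme.Hom.comp_apply, G.i_s]
    have h2 : G.t (G.i r) = G.s r := by rw [← Scheme.Hom.comp_apply, G.i_t]
    rw [← h2]
    apply hclinv
    rw [h1]
    exact hr
  refine ⟨⟨(closure T)ᶜ, isClosed_closure.isOpen_compl⟩, W', ?_, hW'c, ?_, ?_⟩
  · ext r
    simp only [Scheme.Hom.coe_preimage, Set.mem_preimage, TopologicalSpace.Opens.coe_mk,
      Set.mem_compl_iff]
    exact ⟨fun h h' => h (hclinv' r h'), fun h h' => h (hclinv r h')⟩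
  · intro ξ hξW hξT
    obtain ⟨ξ', hξ'T, hξ'⟩ := hsp ξ hξT
    exact hET ξ' (hWE (hξ'.mem_open W.2 hξW)) hξ'T
  · intro ξ hξ
    by_contra hξW'
    exact hξ (subset_closure (hZT hξW'))

end Groth.Agent.H8.GroupoidInv
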