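import Groth.Agent.Lib.Helper37.GroupoidDif
import Groth.Agent.Lib.Helper37.GroupoidStab
import Mathlib.AlgebraicGeometry.Morphisms.Separated
import Mathlib.AlgebraicGeometry.Morphisms.QuasiSeparated

/-!
# Separation of `j = (t, s)` versus the stabilizer group scheme
-/

set_option autoImplicit false
universe u

open AlgebraicGeometry CategoryTheory Limits Topology Grpd Groth.Agent.Lib.Helper37

namespace Groth.Agent.H8.GroupoidStabSep

variable {S : Scheme.{u}} (G : GroupoidScheme S)

theorem diag_t : pullback.fst G.j G.j ≫ G.t = pullback.snd G.j G.j ≫ G.t :=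
  ((comp_j_eq_iff G _ _).mp pullback.condition).1

theorem diag_s : pullback.fst G.j G.j ≫ G.s = pullback.snd G.j G.j ≫ G.s :=
  ((comp_j_eq_iff G _ _).mp pullback.condition).2

section Abstract

variable {St : Scheme.{u}} {σ : St ⟶ G.R} {π : St ⟶ G.U} (hσ : IsPullback σ π G.j G.diag)
  (ε : G.U ⟶ St) (hε₁ : ε ≫ σ = G.e) (hε₂ : ε ≫ π = 𝟙 G.U)

/-- `(r, r') ↦ r⁻¹ ∘ r'` from `R ×_{U ×_S U} R` to the stabilizer. -/
noncomputable def shear : pullback G.j G.j ⟶ St :=
  hσ.lift (dif G (pullback.fst G.j G.j) (pullback.snd G.j G.j) (diag_t G))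
    (pullback.fst G.j G.j ≫ G.s)
    ((comp_j_eq_comp_diag_iff G _ _).mpr ⟨dif_t G _ _ _, (dif_s G _ _ _).trans (diag_s G).symm⟩)

theorem shear_fst : shear G hσ ≫ σ =
    dif G (pullback.fst G.j G.j) (pullback.snd G.j G.j) (diag_t G) := by
  unfold shear; rw [IsPullback.lift_fst]

theorem shear_snd : shear G hσ ≫ π = pullback.fst G.j G.j ≫ G.s := by
  unfold shear; rw [IsPullback.lift_snd]

include hε₁ hε₂ in
/-- The diagonal of `j` is the base change of the identity section of the stabilizer. -/
theorem isPullback_diagonal : IsPullback (pullback.diagonal G.j) G.s (shear G hσ) ε := by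
  have hcomm : pullback.diagonal G.j ≫ shear G hσ = G.s ≫ ε := by
    apply hσ.hom_ext
    · have hL : (pullback.diagonal G.j ≫ shear G hσ) ≫ σ = pullback.diagonal G.j ≫
          dif G (pullback.fst G.j G.j) (pullback.snd G.j G.j) (diag_t G) := by
        rw [Category.assoc, shear_fst]
      have hR : (G.s ≫ ε) ≫ σ = G.s ≫ G.e := by rw [Category.assoc, hε₁]
      rw [hL, hR, precomp_dif]
      have e1 : pullback.diagonal G.j ≫ pullback.fst G.j G.j = 𝟙 G.R := pullback.diagonal_fst _
      have e2 : pullback.diagonal G.j ≫ pullback.snd G.j G.j = 𝟙 G.R := pullback.diagonal_snd _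
      rw [dif_congr G e1 e2 _ rfl]
      unfold dif
      rw [i_gcomp G (𝟙 G.R) _ rfl, Category.id_comp]
    · rw [Category.assoc, shear_snd, ← Category.assoc, pullback.diagonal_fst, Category.id_comp,
        Category.assoc, hε₂, Category.comp_id]
  refine ⟨⟨hcomm⟩, ⟨PullbackCone.IsLimit.mk hcomm (fun c => c.fst ≫ pullback.fst G.j G.j)
    (fun c => ?_) (fun c => ?_) (fun c m h1 h2 => ?_)⟩⟩
  · have hc := c.condition
    have hδ : c.fst ≫ dif G (pullback.fst G.j G.j) (pullback.snd G.j G.j) (diag_t G)
        = c.snd ≫ G.e := by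
      have := congrArg (· ≫ σ) hc
      simp only [Category.assoc] at this
      rw [shear_fst, hε₁] at this
      exact this
    have hu : c.fst ≫ pullback.fst G.j G.j ≫ G.s = c.snd := by
      have := congrArg (· ≫ π) hc
      simp only [Category.assoc] at this
      rw [shear_snd, hε₂, Category.comp_id] at this
      exact this
    have hr : c.fst ≫ pullback.snd G.j G.j = c.fst ≫ pullback.fst G.j G.j := by
      rw [precomp_dif] at hδ
      have h' : (c.fst ≫ pullback.fst G.j G.j) ≫ G.s = (c.snd ≫ G.e) ≫ G.t := by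
        rw [Category.assoc, Category.assoc, G.e_t, Category.comp_id, hu]
      have h1 := gcomp_dif G (c.fst ≫ pullback.fst G.j G.j) (c.fst ≫ pullback.snd G.j G.j)
        (by rw [Category.assoc, Category.assoc, diag_t]) (c.snd ≫ G.e) hδ.symm h'
      rw [← h1]
      exact gcomp_e G _ _ (by rw [← hu]; simp only [Category.assoc]) _
    apply pullback.hom_ext
    · rw [Category.assoc, pullback.diagonal_fst, Category.comp_id]
    · rw [Category.assoc, pullback.diagonal_snd, Category.comp_id, hr]
  · have hc := c.condition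
    have := congrArg (· ≫ π) hc
    simp only [Category.assoc] at this
    rw [shear_snd, hε₂, Category.comp_id] at this
    rw [Category.assoc]
    exact this
  · rw [← h1, Category.assoc, pullback.diagonal_fst, Category.comp_id]

include hσ in
theorem isSeparated_π_of_j [IsSeparated G.j] : IsSeparated π :=
  MorphismProperty.of_isPullback hσ inferInstance

include hε₂ in
theorem isClosedImmersion_ε_of_isSeparated [IsSeparated π] : IsClosedImmersion ε := by
  haveI : IsClosedImmersion (ε ≫ π) := by
    rw [hε₂]; infer_instance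
  exact IsClosedImmersion.of_comp ε π

include hσ hε₁ hε₂ in
theorem isSeparated_j_of_ε [IsClosedImmersion ε] : IsSeparated G.j :=
  ⟨MorphismProperty.of_isPullback (isPullback_diagonal G hσ ε hε₁ hε₂).flip inferInstance⟩

include hσ in
theorem quasiSeparated_π_of_j [QuasiSeparated G.j] : QuasiSeparated π :=
  MorphismProperty.of_isPullback hσ inferInstance

include hε₂ in
theorem quasiCompact_ε_of_quasiSeparated [QuasiSeparated π] : QuasiCompact ε := by
  haveI : QuasiCompact (ε ≫ π) := by
    rw [hε₂]; infer_instance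
  exact QuasiCompact.of_comp ε π

include hσ hε₁ hε₂ in
theorem quasiSeparated_j_of_ε [QuasiCompact ε] : QuasiSeparated G.j :=
  ⟨MorphismProperty.of_isPullback (isPullback_diagonal G hσ ε hε₁ hε₂).flip inferInstance⟩

include hσ hε₁ hε₂ in
theorem main_abstract : ((IsSeparated G.j ↔ IsSeparated π) ∧
      (IsSeparated π ↔ IsClosedImmersion ε)) ∧
    ((QuasiSeparated G.j ↔ QuasiSeparated π) ∧
      (QuasiSeparated π ↔ QuasiCompact ε)) := by
  refine ⟨⟨⟨fun _ => isSeparated_π_of_j G hσ, fun _ => ?_⟩,
    ⟨fun _ => isClosedImmersion_ε_of_isSeparated G ε hε₂, fun _ => ?_⟩⟩,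
    ⟨⟨fun _ => quasiSeparated_π_of_j G hσ, fun _ => ?_⟩,
    ⟨fun _ => quasiCompact_ε_of_quasiSeparated G ε hε₂, fun _ => ?_⟩⟩⟩
  · haveI := isClosedImmersion_ε_of_isSeparated G ε hε₂
    exact isSeparated_j_of_ε G hσ ε hε₁ hε₂
  · haveI := isSeparated_j_of_ε G hσ ε hε₁ hε₂
    exact isSeparated_π_of_j G hσ
  · haveI := quasiCompact_ε_of_quasiSeparated G ε hε₂
    exact quasiSeparated_j_of_ε G hσ ε hε₁ hε₂
  · haveI := quasiSeparated_j_of_ε G hσ ε hε₁ hε₂
    exact quasiSeparated_π_of_j G hσ

end Abstract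

theorem main : ((IsSeparated G.j ↔ IsSeparated G.stabilizerToU) ∧
      (IsSeparated G.stabilizerToU ↔ IsClosedImmersion G.eStab)) ∧
    ((QuasiSeparated G.j ↔ QuasiSeparated G.stabilizerToU) ∧
      (QuasiSeparated G.stabilizerToU ↔ QuasiCompact G.eStab)) := by
  have hσ : IsPullback (pullback.fst G.j G.diag : G.stabilizer ⟶ G.R) G.stabilizerToU
      G.j G.diag := IsPullback.of_hasPullback G.j G.diag
  refine main_abstract G hσ G.eStab ?_ ?_
  · exact pullback.lift_fst _ _ _
  · exact pullback.lift_snd _ _ _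

end Groth.Agent.H8.GroupoidStabSep
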