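import Groth.Prelude.Def_CycAlg
import Mathlib.Algebra.Module.SnakeLemma
import Mathlib.RingTheory.Length

/-!
# The exact hexagon of a short exact sequence of 2-periodic complexes and the Herbrand quotient
-/

set_option autoImplicit false
set_option linter.unusedSectionVars false
universe u v

open Function

namespace Groth.Agent.H8.Herbrand

variable {R : Type u} [CommRing R]

section OneComplex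

variable {M N : Type v} [AddCommGroup M] [Module R M] [AddCommGroup N] [Module R N]
  (φ : M →ₗ[R] N) (ψ : N →ₗ[R] M)

/-- The map `coker ψ → ker ψ` induced by `φ`. -/
def phiBar (h : CycAlg.IsPeriodic φ ψ) : (M ⧸ LinearMap.range ψ) →ₗ[R] LinearMap.ker ψ :=
  Submodule.liftQ _ (φ.codRestrict (LinearMap.ker ψ) (fun m => LinearMap.congr_fun h.2 m))
    (by
      rintro _ ⟨n, rfl⟩
      rw [LinearMap.mem_ker]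
      exact Subtype.ext (LinearMap.congr_fun h.1 n))

@[simp] lemma phiBar_mk (h : CycAlg.IsPeriodic φ ψ) (m : M) :
    (phiBar φ ψ h (Submodule.Quotient.mk m) : N) = φ m := rfl

/-- The inclusion `H⁰ → coker ψ`. -/
def iotaH : CycAlg.perH φ ψ →ₗ[R] (M ⧸ LinearMap.range ψ) :=
  Submodule.mapQ _ _ (LinearMap.ker φ).subtype (fun _ hx => hx)

@[simp] lemma iotaH_mk (x : LinearMap.ker φ) :
    iotaH φ ψ (Submodule.Quotient.mk x) = Submodule.Quotient.mk (x : M) := rfl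

lemma iotaH_injective : Injective (iotaH φ ψ) := by
  rw [← LinearMap.ker_eq_bot, LinearMap.ker_eq_bot']
  intro z hz
  obtain ⟨x, rfl⟩ := Submodule.Quotient.mk_surjective _ z
  rw [iotaH_mk, Submodule.Quotient.mk_eq_zero] at hz
  rw [Submodule.Quotient.mk_eq_zero]
  exact hz

lemma exact_iotaH_phiBar (h : CycAlg.IsPeriodic φ ψ) : Exact (iotaH φ ψ) (phiBar φ ψ h) := by
  intro z
  obtain ⟨m, rfl⟩ := Submodule.Quotient.mk_surjective _ z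
  constructor
  · intro hz
    have hm : m ∈ LinearMap.ker φ := by
      rw [LinearMap.mem_ker]
      exact congrArg Subtype.val hz
    exact ⟨Submodule.Quotient.mk ⟨m, hm⟩, rfl⟩
  · rintro ⟨w, hw⟩
    obtain ⟨x, rfl⟩ := Submodule.Quotient.mk_surjective _ w
    rw [iotaH_mk, Submodule.Quotient.eq] at hw
    obtain ⟨n, hn⟩ := hw
    apply Subtype.ext
    rw [phiBar_mk]
    have : m = (x : M) - ψ n := by rw [hn]; abel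
    rw [this, map_sub, x.2, zero_sub, ZeroMemClass.coe_zero, neg_eq_zero]
    exact LinearMap.congr_fun h.1 n

/-- The projection `ker ψ → H¹`. -/
def piH : LinearMap.ker ψ →ₗ[R] CycAlg.perH ψ φ := Submodule.mkQ _

lemma piH_surjective : Surjective (piH φ ψ) := Submodule.mkQ_surjective _

lemma exact_phiBar_piH (h : CycAlg.IsPeriodic φ ψ) : Exact (phiBar φ ψ h) (piH φ ψ) := by
  intro y
  rw [piH, Submodule.mkQ_apply, Submodule.Quotient.mk_eq_zero]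
  constructor
  · rintro ⟨m, hm⟩
    refine ⟨Submodule.Quotient.mk m, Subtype.ext ?_⟩
    rw [phiBar_mk]
    exact hm
  · rintro ⟨z, rfl⟩
    obtain ⟨m, rfl⟩ := Submodule.Quotient.mk_surjective _ z
    exact ⟨m, rfl⟩

end OneComplex


section Morphism

variable {M N M' N' : Type v} [AddCommGroup M] [Module R M] [AddCommGroup N] [Module R N]
  [AddCommGroup M'] [Module R M'] [AddCommGroup N'] [Module R N']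
  {φ : M →ₗ[R] N} {ψ : N →ₗ[R] M} {φ' : M' →ₗ[R] N'} {ψ' : N' →ₗ[R] M'}
  (f : M →ₗ[R] M') (g : N →ₗ[R] N')

/-- The induced map on `coker ψ`. -/
def cokMap (cψ : ψ' ∘ₗ g = f ∘ₗ ψ) : (M ⧸ LinearMap.range ψ) →ₗ[R] (M' ⧸ LinearMap.range ψ') :=
  Submodule.mapQ _ _ f (by
    rintro _ ⟨n, rfl⟩
    exact ⟨g n, LinearMap.congr_fun cψ n⟩)

@[simp] lemma cokMap_mk (cψ : ψ' ∘ₗ g = f ∘ₗ ψ) (m : M) :
    cokMap f g cψ (Submodule.Quotient.mk m) = Submodule.Quotient.mk (f m) := rfl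

/-- The induced map on `ker ψ`. -/
def kerMap (cψ : ψ' ∘ₗ g = f ∘ₗ ψ) : LinearMap.ker ψ →ₗ[R] LinearMap.ker ψ' :=
  g.restrict (by
    intro n hn
    rw [LinearMap.mem_ker] at hn ⊢
    have := LinearMap.congr_fun cψ n
    simp only [LinearMap.comp_apply] at this
    rw [this, hn, map_zero])

@[simp] lemma kerMap_coe (cψ : ψ' ∘ₗ g = f ∘ₗ ψ) (n : LinearMap.ker ψ) :
    (kerMap f g cψ n : N') = g n := rfl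

/-- The induced map on `H⁰ = ker φ / im ψ`. -/
def H0map (cφ : φ' ∘ₗ f = g ∘ₗ φ) (cψ : ψ' ∘ₗ g = f ∘ₗ ψ) :
    CycAlg.perH φ ψ →ₗ[R] CycAlg.perH φ' ψ' :=
  Submodule.mapQ _ _ (kerMap g f cφ) (by
    rintro x ⟨n, hn⟩
    refine ⟨g n, ?_⟩
    have h1 : ψ' (g n) = f (ψ n) := LinearMap.congr_fun cψ n
    rw [h1, hn]
    rfl)

@[simp] lemma H0map_mk (cφ : φ' ∘ₗ f = g ∘ₗ φ) (cψ : ψ' ∘ₗ g = f ∘ₗ ψ) (x : LinearMap.ker φ) :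
    H0map f g cφ cψ (Submodule.Quotient.mk x) = Submodule.Quotient.mk (kerMap g f cφ x) := rfl

lemma kerMap_phiBar (h : CycAlg.IsPeriodic φ ψ) (h' : CycAlg.IsPeriodic φ' ψ')
    (cφ : φ' ∘ₗ f = g ∘ₗ φ) (cψ : ψ' ∘ₗ g = f ∘ₗ ψ) :
    (kerMap f g cψ).comp (phiBar φ ψ h) = (phiBar φ' ψ' h').comp (cokMap f g cψ) := by
  apply LinearMap.ext
  intro z
  obtain ⟨m, rfl⟩ := Submodule.Quotient.mk_surjective _ z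
  apply Subtype.ext
  simp only [LinearMap.comp_apply, kerMap_coe, phiBar_mk, cokMap_mk]
  exact (LinearMap.congr_fun cφ m).symm

lemma cokMap_iotaH (cφ : φ' ∘ₗ f = g ∘ₗ φ) (cψ : ψ' ∘ₗ g = f ∘ₗ ψ) :
    (cokMap f g cψ).comp (iotaH φ ψ) = (iotaH φ' ψ').comp (H0map f g cφ cψ) := by
  apply LinearMap.ext
  intro z
  obtain ⟨x, rfl⟩ := Submodule.Quotient.mk_surjective _ z
  rfl

lemma H0map_piH (cφ : φ' ∘ₗ f = g ∘ₗ φ) (cψ : ψ' ∘ₗ g = f ∘ₗ ψ) :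
    (H0map g f cψ cφ).comp (piH φ ψ) = (piH φ' ψ').comp (kerMap f g cψ) := by
  apply LinearMap.ext
  intro z
  rfl

end Morphism

section ShortExact

variable {M₁ N₁ M₂ N₂ M₃ N₃ : Type v} [AddCommGroup M₁] [Module R M₁] [AddCommGroup N₁]
  [Module R N₁] [AddCommGroup M₂] [Module R M₂] [AddCommGroup N₂] [Module R N₂]
  [AddCommGroup M₃] [Module R M₃] [AddCommGroup N₃] [Module R N₃]
  {φ₁ : M₁ →ₗ[R] N₁} {ψ₁ : N₁ →ₗ[R] M₁} {φ₂ : M₂ →ₗ[R] N₂} {ψ₂ : N₂ →ₗ[R] M₂}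
  {φ₃ : M₃ →ₗ[R] N₃} {ψ₃ : N₃ →ₗ[R] M₃}
  (f₁ : M₁ →ₗ[R] M₂) (g₁ : N₁ →ₗ[R] N₂) (f₂ : M₂ →ₗ[R] M₃) (g₂ : N₂ →ₗ[R] N₃)

lemma exact_cokMap (cψ₁ : ψ₂ ∘ₗ g₁ = f₁ ∘ₗ ψ₁) (cψ₂ : ψ₃ ∘ₗ g₂ = f₂ ∘ₗ ψ₂)
    (hg₂ : Surjective g₂) (hM : LinearMap.range f₁ = LinearMap.ker f₂) :
    Exact (cokMap f₁ g₁ cψ₁) (cokMap f₂ g₂ cψ₂) := by
  intro z
  obtain ⟨m₂, rfl⟩ := Submodule.Quotient.mk_surjective _ z
  rw [cokMap_mk, Submodule.Quotient.mk_eq_zero]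
  constructor
  · rintro ⟨n₃, hn₃⟩
    obtain ⟨n₂, rfl⟩ := hg₂ n₃
    have h1 : f₂ (m₂ - ψ₂ n₂) = 0 := by
      rw [map_sub, ← hn₃, sub_eq_zero]
      exact LinearMap.congr_fun cψ₂ n₂
    have h2 : m₂ - ψ₂ n₂ ∈ LinearMap.range f₁ := by rw [hM]; exact h1
    obtain ⟨m₁, hm₁⟩ := h2
    refine ⟨Submodule.Quotient.mk m₁, ?_⟩
    rw [cokMap_mk, hm₁, Submodule.Quotient.mk_sub, sub_eq_self, Submodule.Quotient.mk_eq_zero]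
    exact ⟨n₂, rfl⟩
  · rintro ⟨w, hw⟩
    obtain ⟨m₁, rfl⟩ := Submodule.Quotient.mk_surjective _ w
    rw [cokMap_mk, Submodule.Quotient.eq] at hw
    obtain ⟨n₂, hn₂⟩ := hw
    have h0 : f₂ (f₁ m₁) = 0 := by
      have : f₁ m₁ ∈ LinearMap.ker f₂ := hM ▸ ⟨m₁, rfl⟩
      exact this
    have : f₂ m₂ = - f₂ (ψ₂ n₂) := by
      have h3 : m₂ = f₁ m₁ - ψ₂ n₂ := by rw [hn₂]; abel
      rw [h3, map_sub, h0, zero_sub]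
    rw [this]
    refine ⟨g₂ (-n₂), ?_⟩
    rw [map_neg, map_neg]
    exact congrArg Neg.neg (LinearMap.congr_fun cψ₂ n₂)

lemma cokMap_surjective (cψ₂ : ψ₃ ∘ₗ g₂ = f₂ ∘ₗ ψ₂) (hf₂ : Surjective f₂) :
    Surjective (cokMap f₂ g₂ cψ₂) := by
  intro z
  obtain ⟨m₃, rfl⟩ := Submodule.Quotient.mk_surjective _ z
  obtain ⟨m₂, rfl⟩ := hf₂ m₃
  exact ⟨Submodule.Quotient.mk m₂, rfl⟩

lemma exact_kerMap (cψ₁ : ψ₂ ∘ₗ g₁ = f₁ ∘ₗ ψ₁) (cψ₂ : ψ₃ ∘ₗ g₂ = f₂ ∘ₗ ψ₂)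
    (hf₁ : Injective f₁) (hN : LinearMap.range g₁ = LinearMap.ker g₂) :
    Exact (kerMap f₁ g₁ cψ₁) (kerMap f₂ g₂ cψ₂) := by
  intro y
  constructor
  · intro hy
    have h1 : (y : N₂) ∈ LinearMap.range g₁ := by
      rw [hN]; exact congrArg Subtype.val hy
    obtain ⟨n₁, hn₁⟩ := h1
    have h2 : ψ₁ n₁ = 0 := by
      apply hf₁
      rw [map_zero]
      have := LinearMap.congr_fun cψ₁ n₁
      simp only [LinearMap.comp_apply] at this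
      rw [← this, hn₁]
      exact y.2
    exact ⟨⟨n₁, h2⟩, Subtype.ext hn₁⟩
  · rintro ⟨x, rfl⟩
    apply Subtype.ext
    have : g₁ (x : N₁) ∈ LinearMap.ker g₂ := hN ▸ ⟨_, rfl⟩
    exact this

lemma kerMap_injective (cψ₁ : ψ₂ ∘ₗ g₁ = f₁ ∘ₗ ψ₁) (hg₁ : Injective g₁) :
    Injective (kerMap f₁ g₁ cψ₁) := by
  intro x y hxy
  exact Subtype.ext (hg₁ (congrArg Subtype.val hxy))

end ShortExact


section KernelRow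

variable {K₁ K₂ K₃ A₁ A₂ A₃ B₁ B₂ : Type*} [AddCommGroup K₁] [Module R K₁] [AddCommGroup K₂]
  [Module R K₂] [AddCommGroup K₃] [Module R K₃] [AddCommGroup A₁] [Module R A₁]
  [AddCommGroup A₂] [Module R A₂] [AddCommGroup A₃] [Module R A₃] [AddCommGroup B₁] [Module R B₁]
  [AddCommGroup B₂] [Module R B₂]

/-- The kernel row of the snake diagram is exact. -/
lemma exact_kernel_row (ι₁ : K₁ →ₗ[R] A₁) (ι₂ : K₂ →ₗ[R] A₂) (ι₃ : K₃ →ₗ[R] A₃)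
    (i₁ : A₁ →ₗ[R] B₁) (i₂ : A₂ →ₗ[R] B₂) (a₁ : A₁ →ₗ[R] A₂) (a₂ : A₂ →ₗ[R] A₃)
    (b₁ : B₁ →ₗ[R] B₂) (F₁ : K₁ →ₗ[R] K₂) (F₂ : K₂ →ₗ[R] K₃)
    (hι₁ : Exact ι₁ i₁) (hι₂ : Exact ι₂ i₂) (ha : Exact a₁ a₂)
    (h1 : a₁.comp ι₁ = ι₂.comp F₁) (h2 : a₂.comp ι₂ = ι₃.comp F₂) (h3 : b₁.comp i₁ = i₂.comp a₁)
    (hι₂i : Injective ι₂) (hι₃i : Injective ι₃) (hb₁ : Injective b₁) : Exact F₁ F₂ := by
  intro x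
  constructor
  · intro hx
    have e1 : a₂ (ι₂ x) = 0 := by
      have := LinearMap.congr_fun h2 x
      simp only [LinearMap.comp_apply] at this
      rw [this, hx, map_zero]
    obtain ⟨m₁, hm₁⟩ := (ha _).mp e1
    have e2 : i₁ m₁ = 0 := by
      apply hb₁
      have := LinearMap.congr_fun h3 m₁
      simp only [LinearMap.comp_apply] at this
      rw [this, hm₁, map_zero]
      exact (hι₂ _).mpr ⟨x, rfl⟩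
    obtain ⟨k₁, hk₁⟩ := (hι₁ _).mp e2
    refine ⟨k₁, hι₂i ?_⟩
    have := LinearMap.congr_fun h1 k₁
    simp only [LinearMap.comp_apply] at this
    rw [← this, hk₁, hm₁]
  · rintro ⟨k₁, rfl⟩
    apply hι₃i
    have e1 := LinearMap.congr_fun h2 (F₁ k₁)
    have e2 := LinearMap.congr_fun h1 k₁
    simp only [LinearMap.comp_apply] at e1 e2
    rw [map_zero, ← e1, ← e2]
    exact (ha _).mpr ⟨_, rfl⟩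

end KernelRow

section Hexagon

variable {M₁ N₁ M₂ N₂ M₃ N₃ : Type v} [AddCommGroup M₁] [Module R M₁] [AddCommGroup N₁]
  [Module R N₁] [AddCommGroup M₂] [Module R M₂] [AddCommGroup N₂] [Module R N₂]
  [AddCommGroup M₃] [Module R M₃] [AddCommGroup N₃] [Module R N₃]
  {φ₁ : M₁ →ₗ[R] N₁} {ψ₁ : N₁ →ₗ[R] M₁} {φ₂ : M₂ →ₗ[R] N₂} {ψ₂ : N₂ →ₗ[R] M₂}
  {φ₃ : M₃ →ₗ[R] N₃} {ψ₃ : N₃ →ₗ[R] M₃}

/-- Half of the exact hexagon. -/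
lemma hexagon_half (h₁ : CycAlg.IsPeriodic φ₁ ψ₁) (h₂ : CycAlg.IsPeriodic φ₂ ψ₂)
    (h₃ : CycAlg.IsPeriodic φ₃ ψ₃)
    (f₁ : M₁ →ₗ[R] M₂) (g₁ : N₁ →ₗ[R] N₂) (f₂ : M₂ →ₗ[R] M₃) (g₂ : N₂ →ₗ[R] N₃)
    (cφ₁ : φ₂ ∘ₗ f₁ = g₁ ∘ₗ φ₁) (cψ₁ : ψ₂ ∘ₗ g₁ = f₁ ∘ₗ ψ₁) (cφ₂ : φ₃ ∘ₗ f₂ = g₂ ∘ₗ φ₂)
    (cψ₂ : ψ₃ ∘ₗ g₂ = f₂ ∘ₗ ψ₂) (hf₁ : Injective f₁) (hg₁ : Injective g₁)
    (hf₂ : Surjective f₂) (hg₂ : Surjective g₂)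
    (hM : LinearMap.range f₁ = LinearMap.ker f₂) (hN : LinearMap.range g₁ = LinearMap.ker g₂) :
    ∃ δ : CycAlg.perH φ₃ ψ₃ →ₗ[R] CycAlg.perH ψ₁ φ₁,
      Exact (H0map f₁ g₁ cφ₁ cψ₁) (H0map f₂ g₂ cφ₂ cψ₂) ∧
      Exact (H0map f₂ g₂ cφ₂ cψ₂) δ ∧ Exact δ (H0map g₁ f₁ cψ₁ cφ₁) := by
  have hf := exact_cokMap f₁ g₁ f₂ g₂ cψ₁ cψ₂ hg₂ hM
  have hg := exact_kerMap f₁ g₁ f₂ g₂ cψ₁ cψ₂ hf₁ hN
  have hs := cokMap_surjective (ψ₂ := ψ₂) f₂ g₂ cψ₂ hf₂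
  have hi := kerMap_injective (ψ₁ := ψ₁) f₁ g₁ cψ₁ hg₁
  have k₁ := kerMap_phiBar f₁ g₁ h₁ h₂ cφ₁ cψ₁
  have k₂ := kerMap_phiBar f₂ g₂ h₂ h₃ cφ₂ cψ₂
  refine ⟨SnakeLemma.δ' (phiBar φ₁ ψ₁ h₁) (phiBar φ₂ ψ₂ h₂) (phiBar φ₃ ψ₃ h₃)
    (cokMap f₁ g₁ cψ₁) (cokMap f₂ g₂ cψ₂) hf (kerMap f₁ g₁ cψ₁) (kerMap f₂ g₂ cψ₂) hg k₁ k₂
    (iotaH φ₃ ψ₃) (exact_iotaH_phiBar φ₃ ψ₃ h₃) (piH φ₁ ψ₁) (exact_phiBar_piH φ₁ ψ₁ h₁) hs hi,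
    ?_, ?_, ?_⟩
  · exact exact_kernel_row (iotaH φ₁ ψ₁) (iotaH φ₂ ψ₂) (iotaH φ₃ ψ₃) (phiBar φ₁ ψ₁ h₁)
      (phiBar φ₂ ψ₂ h₂) (cokMap f₁ g₁ cψ₁) (cokMap f₂ g₂ cψ₂) (kerMap f₁ g₁ cψ₁) _ _
      (exact_iotaH_phiBar φ₁ ψ₁ h₁) (exact_iotaH_phiBar φ₂ ψ₂ h₂) hf
      (cokMap_iotaH f₁ g₁ cφ₁ cψ₁) (cokMap_iotaH f₂ g₂ cφ₂ cψ₂) k₁
      (iotaH_injective φ₂ ψ₂) (iotaH_injective φ₃ ψ₃) hi
  · exact SnakeLemma.exact_δ'_right (phiBar φ₁ ψ₁ h₁) (phiBar φ₂ ψ₂ h₂) (phiBar φ₃ ψ₃ h₃)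
      (cokMap f₁ g₁ cψ₁) (cokMap f₂ g₂ cψ₂) hf (kerMap f₁ g₁ cψ₁) (kerMap f₂ g₂ cψ₂) hg k₁ k₂
      (iotaH φ₂ ψ₂) (exact_iotaH_phiBar φ₂ ψ₂ h₂)
      (iotaH φ₃ ψ₃) (exact_iotaH_phiBar φ₃ ψ₃ h₃) (piH φ₁ ψ₁) (exact_phiBar_piH φ₁ ψ₁ h₁) hs hi
      (H0map f₂ g₂ cφ₂ cψ₂) (cokMap_iotaH f₂ g₂ cφ₂ cψ₂) (iotaH_injective φ₃ ψ₃)
  · exact SnakeLemma.exact_δ'_left (phiBar φ₁ ψ₁ h₁) (phiBar φ₂ ψ₂ h₂) (phiBar φ₃ ψ₃ h₃)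
      (cokMap f₁ g₁ cψ₁) (cokMap f₂ g₂ cψ₂) hf (kerMap f₁ g₁ cψ₁) (kerMap f₂ g₂ cψ₂) hg k₁ k₂
      (iotaH φ₃ ψ₃) (exact_iotaH_phiBar φ₃ ψ₃ h₃) (piH φ₁ ψ₁) (exact_phiBar_piH φ₁ ψ₁ h₁)
      (piH φ₂ ψ₂) (exact_phiBar_piH φ₂ ψ₂ h₂) hs hi
      (H0map g₁ f₁ cψ₁ cφ₁) (H0map_piH f₁ g₁ cφ₁ cψ₁) (piH_surjective φ₁ ψ₁)

end Hexagon


section Length

variable {X Y Z : Type*} [AddCommGroup X] [Module R X] [AddCommGroup Y] [Module R Y]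
  [AddCommGroup Z] [Module R Z]

lemma length_eq_of_exact (u : X →ₗ[R] Y) (v : Y →ₗ[R] Z) (h : Exact u v) :
    Module.length R Y =
      Module.length R (LinearMap.range u) + Module.length R (LinearMap.range v) :=
  Module.length_eq_add_of_exact (LinearMap.range u).subtype v.rangeRestrict
    (Submodule.subtype_injective _) (LinearMap.surjective_rangeRestrict v) (by
      intro y
      constructor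
      · intro hy
        have : v y = 0 := congrArg Subtype.val hy
        exact ⟨⟨y, (h y).mp this⟩, rfl⟩
      · rintro ⟨⟨y', hy'⟩, rfl⟩
        apply Subtype.ext
        exact (h _).mpr hy')

lemma hexagon_arith (r1 r2 r3 r4 r5 r6 L1 L2 L3 L4 L5 L6 : ℕ∞)
    (h1 : L1 = r6 + r1) (h2 : L2 = r1 + r2) (h3 : L3 = r2 + r3) (h4 : L4 = r3 + r4)
    (h5 : L5 = r4 + r5) (h6 : L6 = r5 + r6)
    (htwo : ((L1 < ⊤ ∧ L4 < ⊤) ∧ (L2 < ⊤ ∧ L5 < ⊤)) ∨ ((L1 < ⊤ ∧ L4 < ⊤) ∧ (L3 < ⊤ ∧ L6 < ⊤)) ∨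
      ((L2 < ⊤ ∧ L5 < ⊤) ∧ (L3 < ⊤ ∧ L6 < ⊤))) :
    (L1 < ⊤ ∧ L4 < ⊤) ∧ (L2 < ⊤ ∧ L5 < ⊤) ∧ (L3 < ⊤ ∧ L6 < ⊤) ∧
      ((L2.toNat : ℤ) - (L5.toNat : ℤ) =
        ((L1.toNat : ℤ) - (L4.toNat : ℤ)) + ((L3.toNat : ℤ) - (L6.toNat : ℤ))) := by
  subst h1 h2 h3 h4 h5 h6
  have key : ∀ a b : ℕ∞, a + b < ⊤ ↔ a < ⊤ ∧ b < ⊤ := fun a b => WithTop.add_lt_top
  simp only [key] at htwo
  have hr : r1 < ⊤ ∧ r2 < ⊤ ∧ r3 < ⊤ ∧ r4 < ⊤ ∧ r5 < ⊤ ∧ r6 < ⊤ := by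
    rcases htwo with h | h | h <;> tauto
  obtain ⟨a1, a2, a3, a4, a5, a6⟩ := hr
  lift r1 to ℕ using a1.ne
  lift r2 to ℕ using a2.ne
  lift r3 to ℕ using a3.ne
  lift r4 to ℕ using a4.ne
  lift r5 to ℕ using a5.ne
  lift r6 to ℕ using a6.ne
  simp only [← Nat.cast_add, ENat.toNat_natCast]
  refine ⟨⟨ENat.natCast_lt_top _, ENat.natCast_lt_top _⟩, ⟨ENat.natCast_lt_top _, ENat.natCast_lt_top _⟩,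
    ⟨ENat.natCast_lt_top _, ENat.natCast_lt_top _⟩, ?_⟩
  push_cast
  ring

end Length


section Main

variable {M₁ N₁ M₂ N₂ M₃ N₃ : Type v} [AddCommGroup M₁] [Module R M₁] [AddCommGroup N₁]
  [Module R N₁] [AddCommGroup M₂] [Module R M₂] [AddCommGroup N₂] [Module R N₂]
  [AddCommGroup M₃] [Module R M₃] [AddCommGroup N₃] [Module R N₃]

theorem herbrand_shortExact (φ₁ : M₁ →ₗ[R] N₁) (ψ₁ : N₁ →ₗ[R] M₁) (φ₂ : M₂ →ₗ[R] N₂)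
    (ψ₂ : N₂ →ₗ[R] M₂) (φ₃ : M₃ →ₗ[R] N₃) (ψ₃ : N₃ →ₗ[R] M₃)
    (h₁ : CycAlg.IsPeriodic φ₁ ψ₁) (h₂ : CycAlg.IsPeriodic φ₂ ψ₂) (h₃ : CycAlg.IsPeriodic φ₃ ψ₃)
    (f₁ : M₁ →ₗ[R] M₂) (g₁ : N₁ →ₗ[R] N₂) (f₂ : M₂ →ₗ[R] M₃) (g₂ : N₂ →ₗ[R] N₃)
    (cφ₁ : φ₂ ∘ₗ f₁ = g₁ ∘ₗ φ₁) (cψ₁ : ψ₂ ∘ₗ g₁ = f₁ ∘ₗ ψ₁) (cφ₂ : φ₃ ∘ₗ f₂ = g₂ ∘ₗ φ₂)
    (cψ₂ : ψ₃ ∘ₗ g₂ = f₂ ∘ₗ ψ₂) (hf₁ : Injective f₁) (hg₁ : Injective g₁)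
    (hf₂ : Surjective f₂) (hg₂ : Surjective g₂)
    (hM : LinearMap.range f₁ = LinearMap.ker f₂) (hN : LinearMap.range g₁ = LinearMap.ker g₂)
    (htwo : (CycAlg.FinCoh R φ₁ ψ₁ ∧ CycAlg.FinCoh R φ₂ ψ₂) ∨
      (CycAlg.FinCoh R φ₁ ψ₁ ∧ CycAlg.FinCoh R φ₃ ψ₃) ∨
      (CycAlg.FinCoh R φ₂ ψ₂ ∧ CycAlg.FinCoh R φ₃ ψ₃)) :
    CycAlg.FinCoh R φ₁ ψ₁ ∧ CycAlg.FinCoh R φ₂ ψ₂ ∧ CycAlg.FinCoh R φ₃ ψ₃ ∧
      CycAlg.herbrand R φ₂ ψ₂ = CycAlg.herbrand R φ₁ ψ₁ + CycAlg.herbrand R φ₃ ψ₃ := by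
  obtain ⟨δ, e12, e23, e34⟩ := hexagon_half h₁ h₂ h₃ f₁ g₁ f₂ g₂ cφ₁ cψ₁ cφ₂ cψ₂ hf₁ hg₁ hf₂ hg₂
    hM hN
  obtain ⟨δ', e45, e56, e61⟩ := hexagon_half (φ₁ := ψ₁) (ψ₁ := φ₁) (φ₂ := ψ₂) (ψ₂ := φ₂)
    (φ₃ := ψ₃) (ψ₃ := φ₃) ⟨h₁.2, h₁.1⟩ ⟨h₂.2, h₂.1⟩ ⟨h₃.2, h₃.1⟩ g₁ f₁ g₂ f₂ cψ₁ cφ₁ cψ₂ cφ₂
    hg₁ hf₁ hg₂ hf₂ hN hM
  -- lengths
  have L1 := length_eq_of_exact _ _ e61
  have L2 := length_eq_of_exact _ _ e12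
  have L3 := length_eq_of_exact _ _ e23
  have L4 := length_eq_of_exact _ _ e34
  have L5 := length_eq_of_exact _ _ e45
  have L6 := length_eq_of_exact _ _ e56
  exact hexagon_arith _ _ _ _ _ _ _ _ _ _ _ _ L1 L2 L3 L4 L5 L6 htwo

end Main

end Groth.Agent.H8.Herbrand
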