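import Groth.Agent.H8.Herbrand

/-!
# The Herbrand quotient is unchanged by maps with finite length kernel and cokernel
-/

set_option autoImplicit false
set_option linter.unusedSectionVars false
universe u v

open Function

namespace Groth.Agent.H8.Herbrand

variable {R : Type u} [CommRing R]

section FiniteLength

variable {P Q : Type v} [AddCommGroup P] [Module R P] [AddCommGroup Q] [Module R Q]

lemma length_ker_eq (φ : P →ₗ[R] Q) (ψ : Q →ₗ[R] P) (h : φ ∘ₗ ψ = 0) :
    Module.length R (LinearMap.ker φ) =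
      Module.length R (LinearMap.range ψ) + Module.length R (CycAlg.perH φ ψ) := by
  have hle : LinearMap.range ψ ≤ LinearMap.ker φ := by
    rintro _ ⟨n, rfl⟩
    exact LinearMap.congr_fun h n
  rw [← (Submodule.submoduleOfEquivOfLe hle).length_eq]
  exact Module.length_eq_add_of_exact
    ((LinearMap.range ψ).submoduleOf (LinearMap.ker φ)).subtype
    ((LinearMap.range ψ).submoduleOf (LinearMap.ker φ)).mkQ
    (Submodule.subtype_injective _) (Submodule.mkQ_surjective _)
    (LinearMap.exact_subtype_mkQ _)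

lemma length_eq_ker_add_range (φ : P →ₗ[R] Q) :
    Module.length R P = Module.length R (LinearMap.ker φ) + Module.length R (LinearMap.range φ) :=
  Module.length_eq_add_of_exact (LinearMap.ker φ).subtype φ.rangeRestrict
    (Submodule.subtype_injective _) (LinearMap.surjective_rangeRestrict φ) (by
      intro y
      constructor
      · intro hy
        exact ⟨⟨y, congrArg Subtype.val hy⟩, rfl⟩
      · rintro ⟨⟨y', hy'⟩, rfl⟩
        exact Subtype.ext hy')

/-- A periodic complex on finite length modules of equal length has finite cohomology and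
vanishing Herbrand quotient. -/
lemma herbrand_eq_zero_of_finite (φ ψ : P →ₗ[R] P) (h : CycAlg.IsPeriodic φ ψ)
    (hP : Module.length R P < ⊤) :
    CycAlg.FinCoh R φ ψ ∧ CycAlg.herbrand R φ ψ = 0 := by
  have e1 := length_ker_eq φ ψ h.1
  have e2 := length_ker_eq ψ φ h.2
  have e3 := length_eq_ker_add_range φ
  have e4 := length_eq_ker_add_range ψ
  rw [CycAlg.FinCoh, CycAlg.herbrand]
  generalize Module.length R (CycAlg.perH φ ψ) = H0 at *
  generalize Module.length R (CycAlg.perH ψ φ) = H1 at *
  generalize Module.length R (LinearMap.ker φ) = a at *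
  generalize Module.length R (LinearMap.range φ) = b at *
  generalize Module.length R (LinearMap.ker ψ) = c at *
  generalize Module.length R (LinearMap.range ψ) = d at *
  generalize Module.length R P = n at *
  have key : ∀ x y : ℕ∞, x + y < ⊤ ↔ x < ⊤ ∧ y < ⊤ := fun x y => WithTop.add_lt_top
  subst e1 e2
  have hP' := hP
  rw [e3, key, key] at hP
  rw [e4, key, key] at hP'
  obtain ⟨⟨hd, hH0⟩, hb⟩ := hP
  obtain ⟨⟨-, hH1⟩, -⟩ := hP'
  refine ⟨⟨hH0, hH1⟩, ?_⟩
  lift H0 to ℕ using hH0.ne
  lift H1 to ℕ using hH1.ne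
  lift b to ℕ using hb.ne
  lift d to ℕ using hd.ne
  simp only [← Nat.cast_add] at e3 e4
  have e5 : ((d + H0 + b : ℕ) : ℕ∞) = ((b + H1 + d : ℕ) : ℕ∞) := e3.symm.trans e4
  have e6 : d + H0 + b = b + H1 + d := by exact_mod_cast e5
  simp only [ENat.toNat_natCast]
  omega

end FiniteLength


section Morph

variable {M M' : Type v} [AddCommGroup M] [Module R M] [AddCommGroup M'] [Module R M']

theorem herbrand_eq_of_finite_ker_coker (φ ψ : M →ₗ[R] M) (φ' ψ' : M' →ₗ[R] M')
    (h : CycAlg.IsPeriodic φ ψ) (h' : CycAlg.IsPeriodic φ' ψ') (f : M →ₗ[R] M')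
    (cφ : φ' ∘ₗ f = f ∘ₗ φ) (cψ : ψ' ∘ₗ f = f ∘ₗ ψ) (hfin : CycAlg.FinCoh R φ ψ)
    (hfin' : CycAlg.FinCoh R φ' ψ') (hker : Module.length R (LinearMap.ker f) < ⊤)
    (hcoker : Module.length R (M' ⧸ LinearMap.range f) < ⊤) :
    CycAlg.herbrand R φ ψ = CycAlg.herbrand R φ' ψ' := by
  -- stability of kernel and range
  have hKφ : ∀ x ∈ LinearMap.ker f, φ x ∈ LinearMap.ker f := by
    intro x hx
    rw [LinearMap.mem_ker] at hx ⊢
    have := LinearMap.congr_fun cφ x
    simp only [LinearMap.comp_apply] at this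
    rw [← this, hx, map_zero]
  have hKψ : ∀ x ∈ LinearMap.ker f, ψ x ∈ LinearMap.ker f := by
    intro x hx
    rw [LinearMap.mem_ker] at hx ⊢
    have := LinearMap.congr_fun cψ x
    simp only [LinearMap.comp_apply] at this
    rw [← this, hx, map_zero]
  have hIφ : ∀ y ∈ LinearMap.range f, φ' y ∈ LinearMap.range f := by
    rintro _ ⟨x, rfl⟩
    exact ⟨φ x, (LinearMap.congr_fun cφ x).symm⟩
  have hIψ : ∀ y ∈ LinearMap.range f, ψ' y ∈ LinearMap.range f := by
    rintro _ ⟨x, rfl⟩
    exact ⟨ψ x, (LinearMap.congr_fun cψ x).symm⟩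
  -- the three auxiliary complexes
  let φK := φ.restrict hKφ
  let ψK := ψ.restrict hKψ
  let φI := φ'.restrict hIφ
  let ψI := ψ'.restrict hIψ
  let φQ := Submodule.mapQ (LinearMap.range f) (LinearMap.range f) φ' hIφ
  let ψQ := Submodule.mapQ (LinearMap.range f) (LinearMap.range f) ψ' hIψ
  have pK : CycAlg.IsPeriodic φK ψK := by
    constructor
    · apply LinearMap.ext; intro x; apply Subtype.ext
      exact LinearMap.congr_fun h.1 x
    · apply LinearMap.ext; intro x; apply Subtype.ext
      exact LinearMap.congr_fun h.2 x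
  have pI : CycAlg.IsPeriodic φI ψI := by
    constructor
    · apply LinearMap.ext; intro x; apply Subtype.ext
      exact LinearMap.congr_fun h'.1 x
    · apply LinearMap.ext; intro x; apply Subtype.ext
      exact LinearMap.congr_fun h'.2 x
  have pQ : CycAlg.IsPeriodic φQ ψQ := by
    constructor
    · apply LinearMap.ext; intro z
      obtain ⟨y, rfl⟩ := Submodule.Quotient.mk_surjective _ z
      exact congrArg Submodule.Quotient.mk (LinearMap.congr_fun h'.1 y)
    · apply LinearMap.ext; intro z
      obtain ⟨y, rfl⟩ := Submodule.Quotient.mk_surjective _ z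
      exact congrArg Submodule.Quotient.mk (LinearMap.congr_fun h'.2 y)
  obtain ⟨fK, eK⟩ := herbrand_eq_zero_of_finite φK ψK pK hker
  obtain ⟨fQ, eQ⟩ := herbrand_eq_zero_of_finite φQ ψQ pQ hcoker
  -- first short exact sequence: 0 → ker f → M → range f → 0
  have s1 := herbrand_shortExact φK ψK φ ψ φI ψI pK h pI
    (LinearMap.ker f).subtype (LinearMap.ker f).subtype f.rangeRestrict f.rangeRestrict
    (LinearMap.ext fun _ => rfl) (LinearMap.ext fun _ => rfl)
    (LinearMap.ext fun x => Subtype.ext (LinearMap.congr_fun cφ x))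
    (LinearMap.ext fun x => Subtype.ext (LinearMap.congr_fun cψ x))
    (Submodule.subtype_injective _) (Submodule.subtype_injective _)
    (LinearMap.surjective_rangeRestrict f) (LinearMap.surjective_rangeRestrict f)
    (by rw [Submodule.range_subtype, LinearMap.ker_rangeRestrict])
    (by rw [Submodule.range_subtype, LinearMap.ker_rangeRestrict])
    (Or.inl ⟨fK, hfin⟩)
  obtain ⟨-, -, fI, e1⟩ := s1
  -- second short exact sequence: 0 → range f → M' → M' / range f → 0
  have s2 := herbrand_shortExact φI ψI φ' ψ' φQ ψQ pI h' pQ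
    (LinearMap.range f).subtype (LinearMap.range f).subtype (LinearMap.range f).mkQ
    (LinearMap.range f).mkQ
    (LinearMap.ext fun _ => rfl) (LinearMap.ext fun _ => rfl)
    (LinearMap.ext fun _ => rfl) (LinearMap.ext fun _ => rfl)
    (Submodule.subtype_injective _) (Submodule.subtype_injective _)
    (Submodule.mkQ_surjective _) (Submodule.mkQ_surjective _)
    (by rw [Submodule.range_subtype, Submodule.ker_mkQ])
    (by rw [Submodule.range_subtype, Submodule.ker_mkQ])
    (Or.inl ⟨fI, hfin'⟩)
  obtain ⟨-, -, -, e2⟩ := s2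
  rw [e1, e2, eK, eQ, zero_add, add_zero]

end Morph

end Groth.Agent.H8.Herbrand
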