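import Mathlib
import Groth.Prelude.Def_EGA4b
import Groth.Agent.Lib.Helper29.DepthQuot
import Groth.Agent.Lib.Helper29.DepthSelf
import Groth.Agent.Lib.Helper29.DepthRees
import Groth.Agent.Lib.Helper29.DepthLoc4
import Groth.Agent.Lib.Helper22.DimFormula
import Groth.Agent.Lib.Helper13.RkAt
import Groth.Agent.S0560
import Groth.Agent.S0564
import Groth.Agent.S0602

/-!
# Lifting reducedness, equidimensionality and `(R_k)` from `A/tA` to `A`

`A` a catenary Noetherian local ring, `t` a nonzerodivisor in the maximal ideal.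
-/

universe u
open IsLocalRing

namespace Groth.Agent.H8.QuotLift

/-- If `t` is a nonzerodivisor in the maximal ideal of a Noetherian local ring `A` and `A/tA` is reduced,
then `A` is reduced. -/
theorem isReduced_of_quotient (A : Type u) [CommRing A] [IsNoetherianRing A] [IsLocalRing A]
    (t : A) (ht : t ∈ maximalIdeal A) (hreg : t ∈ nonZeroDivisors A)
    [IsReduced (A ⧸ Ideal.span {t})] : IsReduced A := by
  have key : nilradical A ≤ Ideal.span {t} • nilradical A := by
    intro x hx
    have hx' : IsNilpotent x := hx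
    have h1 : IsNilpotent (Ideal.Quotient.mk (Ideal.span {t}) x) := hx'.map _
    have h2 : Ideal.Quotient.mk (Ideal.span {t}) x = 0 := h1.eq_zero
    rw [Ideal.Quotient.eq_zero_iff_mem, Ideal.mem_span_singleton'] at h2
    obtain ⟨y, rfl⟩ := h2
    obtain ⟨n, hn⟩ := hx'
    rw [mul_pow] at hn
    have h3 : y ^ n = 0 := by
      have := (pow_mem hreg n)
      exact (mem_nonZeroDivisors_iff_right.mp this) _ hn
    have hy : y ∈ nilradical A := ⟨n, h3⟩
    rw [mul_comm, smul_eq_mul]
    exact Ideal.mul_mem_mul (Ideal.mem_span_singleton_self t) hy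
  have hbot : nilradical A = ⊥ :=
    Submodule.eq_bot_of_le_smul_of_le_jacobson_bot (Ideal.span {t}) (nilradical A)
      (IsNoetherian.noetherian _) key
      (((Ideal.span_singleton_le_iff_mem _).mpr ht).trans (IsLocalRing.maximalIdeal_le_jacobson ⊥))
  exact nilradical_eq_bot_iff.mp hbot

/-- A minimal prime over `p + (t)` (with `t ∉ p`) covers `p` in the spectrum. -/
theorem covBy_of_mem_minimalPrimes_sup (A : Type u) [CommRing A] [IsNoetherianRing A]
    (p : Ideal A) [hp : p.IsPrime] (t : A) (htp : t ∉ p) (q : Ideal A)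
    (hq : q ∈ (p ⊔ Ideal.span {t}).minimalPrimes) :
    (q.map (Ideal.Quotient.mk p)).height ≤ 1 ∧ t ∈ q ∧
      (⟨p, hp⟩ : PrimeSpectrum A) ⋖ ⟨q, hq.1.1⟩ := by
  have hqprime : q.IsPrime := hq.1.1
  have hpq : p ≤ q := le_sup_left.trans hq.1.2
  have htq : t ∈ q := hq.1.2 (Ideal.mem_sup_right (Ideal.mem_span_singleton_self t))
  have hlt : p < q := lt_of_le_of_ne hpq (fun h => htp (h ▸ htq))
  have hq' : q.map (Ideal.Quotient.mk p) ∈
      ((Ideal.span {t}).map (Ideal.Quotient.mk p)).minimalPrimes := by
    rw [Ideal.minimalPrimes_map_of_surjective Ideal.Quotient.mk_surjective, Ideal.mk_ker,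
      sup_comm]
    exact ⟨q, hq, rfl⟩
  have hprinc : ((Ideal.span {t}).map (Ideal.Quotient.mk p)).IsPrincipal := by
    rw [Ideal.map_span, Set.image_singleton]
    exact ⟨⟨_, rfl⟩⟩
  have hht1 : (q.map (Ideal.Quotient.mk p)).height ≤ 1 :=
    Ideal.height_le_one_of_isPrincipal_of_mem_minimalPrimes _ _ hq'
  refine ⟨hht1, htq, ⟨hlt, ?_⟩⟩
  intro r hpr hrq
  have hpr' : p ≤ r.asIdeal := hpr.le
  have hrq' : r.asIdeal ≤ q := hrq.le
  have hsurj : Function.Surjective (Ideal.Quotient.mk p) := Ideal.Quotient.mk_surjective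
  have hrprime : (r.asIdeal.map (Ideal.Quotient.mk p)).IsPrime :=
    Ideal.map_isPrime_of_surjective hsurj (by rwa [Ideal.mk_ker])
  have hqprime' : (q.map (Ideal.Quotient.mk p)).IsPrime :=
    Ideal.map_isPrime_of_surjective hsurj (by rwa [Ideal.mk_ker])
  have hcm : ∀ I : Ideal A, p ≤ I → (I.map (Ideal.Quotient.mk p)).comap (Ideal.Quotient.mk p) = I := by
    intro I hI
    rw [Ideal.comap_map_of_surjective _ hsurj, ← RingHom.ker_eq_comap_bot, Ideal.mk_ker]
    exact sup_eq_left.mpr hI
  have h1 : (⊥ : Ideal (A ⧸ p)) < r.asIdeal.map (Ideal.Quotient.mk p) := by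
    refine lt_of_le_of_ne bot_le ?_
    intro h
    have := hcm r.asIdeal hpr'
    rw [← h, ← RingHom.ker_eq_comap_bot, Ideal.mk_ker] at this
    exact hpr.ne (PrimeSpectrum.ext this)
  have h2 : r.asIdeal.map (Ideal.Quotient.mk p) < q.map (Ideal.Quotient.mk p) := by
    refine lt_of_le_of_ne (Ideal.map_mono hrq') ?_
    intro h
    have h3 := hcm r.asIdeal hpr'
    rw [h, hcm q hpq] at h3
    exact hrq.ne (PrimeSpectrum.ext h3.symm)
  have h3 := Ideal.height_add_one_le_of_lt_of_isPrime h1
  have h4 := Ideal.height_add_one_le_of_lt_of_isPrime h2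
  have h5 : (1 : ℕ∞) + 1 ≤ 1 := by
    calc (1 : ℕ∞) + 1 ≤ (r.asIdeal.map (Ideal.Quotient.mk p)).height + 1 := by
          gcongr
          exact le_trans (by simp) h3
      _ ≤ _ := h4
      _ ≤ 1 := hht1
  exact absurd h5 (by norm_num)

theorem sup_span_ne_top (A : Type u) [CommRing A] [IsLocalRing A] (p : Ideal A) [p.IsPrime] (t : A)
    (ht : t ∈ maximalIdeal A) : p ⊔ Ideal.span {t} ≠ ⊤ := by
  intro h
  have h1 : p ⊔ Ideal.span {t} ≤ IsLocalRing.maximalIdeal A :=
    sup_le (IsLocalRing.le_maximalIdeal (Ideal.IsPrime.ne_top inferInstance))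
      ((Ideal.span_singleton_le_iff_mem _).mpr ht)
  exact (IsLocalRing.maximalIdeal.isMaximal A).ne_top (top_le_iff.mp (h ▸ h1))

/-- `t` regular on `A` is regular on any localization. -/
theorem isSMulRegular_localization (A : Type u) [CommRing A] (p : Ideal A) [p.IsPrime] (t : A)
    (hreg : t ∈ nonZeroDivisors A) :
    IsSMulRegular (Localization.AtPrime p) (algebraMap A (Localization.AtPrime p) t) := by
  have : Module.Flat A (Localization.AtPrime p) := IsLocalization.flat _ p.primeCompl
  have h1 : IsSMulRegular (Localization.AtPrime p) t :=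
    Module.Flat.isSMulRegular_of_nonZeroDivisors hreg
  intro a b hab
  apply h1
  simpa [Algebra.smul_def] using hab

/-- depth of `A_p` is at most the height of `p`. -/
theorem depth_localization_le_height (A : Type u) [CommRing A] [IsNoetherianRing A] (p : Ideal A)
    [p.IsPrime] :
    LocCoh.depth (Localization.AtPrime p) (Localization.AtPrime p) ≤ p.height := by
  have h1 := Groth.Agent.Lib.Helper29.depth_le_supportDim (Localization.AtPrime p)
    (Localization.AtPrime p)
  rw [Module.supportDim_self_eq_ringKrullDim,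
    IsLocalization.AtPrime.ringKrullDim_eq_height p (Localization.AtPrime p)] at h1
  exact_mod_cast h1

theorem ringKrullDim_quotient_map_eq (A : Type u) [CommRing A] (I q : Ideal A) (hIq : I ≤ q) :
    ringKrullDim ((A ⧸ I) ⧸ q.map (Ideal.Quotient.mk I)) = ringKrullDim (A ⧸ q) := by
  have heq : I ⊔ q = q := sup_eq_right.mpr hIq
  exact ringKrullDim_eq_of_ringEquiv
    ((DoubleQuot.quotQuotEquivQuotSup I q).trans (Ideal.quotEquivOfEq heq))

theorem isEquidim_of_quotient (A : Type u) [CommRing A] [IsNoetherianRing A] [IsLocalRing A]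
    (hcat : CAlg.IsCatenary A) (t : A) (ht : t ∈ maximalIdeal A) (hreg : t ∈ nonZeroDivisors A)
    [IsReduced (A ⧸ Ideal.span {t})] (heq : EGA4.IsEquidim (A ⧸ Ideal.span {t})) :
    EGA4.IsEquidim A := by
  intro p hp
  have hpprime : p.IsPrime := hp.1.1
  have htp : t ∉ p := fun h =>
    Set.disjoint_left.mp (Ideal.disjoint_nonZeroDivisors_of_mem_minimalPrimes hp) h hreg
  obtain ⟨q, hq⟩ := Ideal.nonempty_minimalPrimes (sup_span_ne_top A p t ht)
  have hqprime : q.IsPrime := hq.1.1
  obtain ⟨hht1, htq, hcov⟩ := covBy_of_mem_minimalPrimes_sup A p t htp q hq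
  have hpq : p ≤ q := le_sup_left.trans hq.1.2
  have hdimf := ((Groth.Agent.H46.isCatenary_iff_dimFun A).mp hcat _ _ hcov.lt).2 hcov
  simp only at hdimf
  have hdimA := ringKrullDim_quotient_span_singleton_succ_eq_ringKrullDim_of_mem_nonZeroDivisors
    hreg ht
  have hIq : Ideal.span {t} ≤ q := (Ideal.span_singleton_le_iff_mem q).mpr htq
  have hQ : (q.map (Ideal.Quotient.mk (Ideal.span {t}))).IsPrime :=
    Ideal.map_isPrime_of_surjective Ideal.Quotient.mk_surjective (by rwa [Ideal.mk_ker])
  have hdimQ := ringKrullDim_quotient_map_eq A (Ideal.span {t}) q hIq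
  by_cases hmin : q.map (Ideal.Quotient.mk (Ideal.span {t})) ∈ minimalPrimes (A ⧸ Ideal.span {t})
  · have h1 := heq _ hmin
    rw [hdimf, ← hdimQ, h1, hdimA]
  · exfalso
    have hS1 : LocCoh.HasSk 1 (A ⧸ Ideal.span {t}) (A ⧸ Ideal.span {t}) :=
      ((Groth.Agent.S0602.result (A ⧸ Ideal.span {t})).mp inferInstance).2
    rw [Groth.Agent.Lib.Helper29.hasSk_self_iff] at hS1
    have h1 := hS1 (q.map (Ideal.Quotient.mk (Ideal.span {t})))
    have h2 : (1 : ℕ∞) ≤ (q.map (Ideal.Quotient.mk (Ideal.span {t}))).height := by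
      rw [Order.one_le_iff_ne_zero]
      intro h
      exact hmin (Ideal.height_eq_zero_iff.mp h)
    have h3 : (1 : ℕ∞) ≤ LocCoh.depth
        (Localization.AtPrime (q.map (Ideal.Quotient.mk (Ideal.span {t}))))
        (Localization.AtPrime (q.map (Ideal.Quotient.mk (Ideal.span {t})))) := by
      refine le_trans ?_ h1
      simpa using h2
    obtain ⟨hd, -⟩ := Groth.Agent.Lib.Helper29.depth_and_height_quotient_span_singleton A q t htq
      (isSMulRegular_localization A q t hreg)
    have h4 := Groth.Agent.Lib.Helper29.depth_localization_le_depth_localization_add_height A hpq A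
    rw [Groth.Agent.Lib.Helper29.depth_localizedModule_self,
      Groth.Agent.Lib.Helper29.depth_localizedModule_self] at h4
    have h5 := depth_localization_le_height A p
    rw [Ideal.height_eq_zero_iff.mpr hp] at h5
    have h6 : (1 : ℕ∞) + 1 ≤ 0 + 1 := by
      calc (1 : ℕ∞) + 1 ≤ _ + 1 := by gcongr
        _ = _ := hd
        _ ≤ _ := h4
        _ ≤ 0 + 1 := by gcongr
    exact absurd h6 (by norm_num)

/-- If `(A/t)_{p/t}` is regular, `t ∈ p` a nonzerodivisor, then `A_p` is regular. -/
theorem isRegularLocalRing_localization_of_quotient (A : Type u) [CommRing A] [IsNoetherianRing A]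
    (p : Ideal A) [p.IsPrime] (t : A) (htp : t ∈ p) (hreg : t ∈ nonZeroDivisors A)
    [hP : (p.map (Ideal.Quotient.mk (Ideal.span {t}))).IsPrime]
    (h : IsRegularLocalRing (Localization.AtPrime (p.map (Ideal.Quotient.mk (Ideal.span {t}))))) :
    IsRegularLocalRing (Localization.AtPrime p) := by
  have hIp : Ideal.span {t} ≤ p := (Ideal.span_singleton_le_iff_mem p).mpr htp
  set P := p.map (Ideal.Quotient.mk (Ideal.span {t})) with hPdef
  set x := algebraMap A (Localization.AtPrime p) t with hx
  have hxm : x ∈ maximalIdeal (Localization.AtPrime p) := by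
    rw [IsLocalization.AtPrime.to_map_mem_maximal_iff (Localization.AtPrime p) p]
    exact htp
  set I' := (Ideal.span {t}).map (algebraMap A (Localization.AtPrime p)) with hI'
  have hI'eq : I' = Ideal.span {x} := by
    rw [hI', Ideal.map_span, Set.image_singleton]
  have h1 : IsLocalization (Algebra.algebraMapSubmonoid (A ⧸ Ideal.span {t}) p.primeCompl)
      (Localization.AtPrime p ⧸ I') := inferInstance
  rw [Groth.Agent.Lib.Helper29.algebraMapSubmonoid_quotient_primeCompl' A hIp] at h1
  have hAt : IsLocalization.AtPrime (Localization.AtPrime p ⧸ I') P := h1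
  let e : Localization.AtPrime P ≃+* (Localization.AtPrime p ⧸ I') :=
    (IsLocalization.algEquiv P.primeCompl (Localization.AtPrime P)
      (Localization.AtPrime p ⧸ I')).toRingEquiv
  have hreg' : IsRegularLocalRing (Localization.AtPrime p ⧸ Ideal.span {x}) :=
    IsRegularLocalRing.of_ringEquiv (e.trans (Ideal.quotEquivOfEq hI'eq))
  have hxreg : x ∈ nonZeroDivisors (Localization.AtPrime p) := by
    have h2 := isSMulRegular_localization A p t hreg
    rw [mem_nonZeroDivisors_iff_right]
    intro y hy
    apply h2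
    simpa [mul_comm] using hy
  exact Groth.Agent.S0560.result (Localization.AtPrime p) x hxm hxreg

/-- Generization of regularity. -/
theorem isRegularLocalRing_localization_of_le (A : Type u) [CommRing A] (P q : Ideal A)
    [hP : P.IsPrime] [q.IsPrime] (hPq : P ≤ q) (h : IsRegularLocalRing (Localization.AtPrime q)) :
    IsRegularLocalRing (Localization.AtPrime P) := by
  have hdisj : Disjoint (q.primeCompl : Set A) (P : Set A) := by
    rw [Set.disjoint_left]
    intro x hx hxP
    exact hx (hPq hxP)
  have hP' : (P.map (algebraMap A (Localization.AtPrime q))).IsPrime :=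
    IsLocalization.isPrime_of_isPrime_disjoint q.primeCompl _ P hP hdisj
  have hcomap : (P.map (algebraMap A (Localization.AtPrime q))).comap
      (algebraMap A (Localization.AtPrime q)) = P :=
    IsLocalization.under_map_of_isPrime_disjoint q.primeCompl _ hP hdisj
  have h1 := Groth.Agent.S0564.result (Localization.AtPrime q)
    (P.map (algebraMap A (Localization.AtPrime q)))
  rw [Groth.Agent.Lib.Helper13.isRegularLocalRing_localization_localization_iff] at h1
  have key : ∀ (q' : Ideal A) (hq' : q'.IsPrime), q' = P →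
      IsRegularLocalRing (Localization.AtPrime q') → IsRegularLocalRing (Localization.AtPrime P) := by
    rintro q' hq' rfl h
    exact h
  exact key _ _ hcomap h1

theorem hasRk_of_quotient (k : ℕ) (A : Type u) [CommRing A] [IsNoetherianRing A]
    [IsLocalRing A] (hcat : CAlg.IsCatenary A) (t : A) (ht : t ∈ maximalIdeal A)
    (hreg : t ∈ nonZeroDivisors A)
    [IsReduced (A ⧸ Ideal.span {t})] (heq : EGA4.IsEquidim (A ⧸ Ideal.span {t}))
    (hR : LocCoh.HasRk k (A ⧸ Ideal.span {t})) : LocCoh.HasRk k A := by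
  have hEq : EGA4.IsEquidim A := isEquidim_of_quotient A hcat t ht hreg heq
  have key1 : ∀ (P : Ideal A) [P.IsPrime], t ∈ P → P.height ≤ (k : ℕ∞) + 1 →
      IsRegularLocalRing (Localization.AtPrime P) := by
    intro P _ htP hPk
    have hIP : Ideal.span {t} ≤ P := (Ideal.span_singleton_le_iff_mem P).mpr htP
    have hP' : (P.map (Ideal.Quotient.mk (Ideal.span {t}))).IsPrime :=
      Ideal.map_isPrime_of_surjective Ideal.Quotient.mk_surjective (by rwa [Ideal.mk_ker])
    obtain ⟨-, hh⟩ := Groth.Agent.Lib.Helper29.depth_and_height_quotient_span_singleton A P t htP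
      (isSMulRegular_localization A P t hreg)
    rw [← hh] at hPk
    have h1 : (P.map (Ideal.Quotient.mk (Ideal.span {t}))).height ≤ k :=
      (ENat.add_le_add_iff_right ENat.one_ne_top).mp hPk
    exact isRegularLocalRing_localization_of_quotient A P t htP hreg (hR _ h1)
  intro P _ hPk
  by_cases htP : t ∈ P
  · exact key1 P htP (hPk.trans le_self_add)
  · obtain ⟨q, hq⟩ := Ideal.nonempty_minimalPrimes (sup_span_ne_top A P t ht)
    have hqprime : q.IsPrime := hq.1.1
    obtain ⟨-, htq, hcov⟩ := covBy_of_mem_minimalPrimes_sup A P t htP q hq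
    have hPq : P ≤ q := le_sup_left.trans hq.1.2
    have hfin : FiniteDimensionalOrder (PrimeSpectrum A) := (inferInstance : FiniteRingKrullDim A)
    have hc := Groth.Agent.Lib.Helper22.coheight_eq_add_one_of_covBy A hcat _ _ hcov
    have hd1 := Groth.Agent.Lib.Helper22.ringKrullDim_eq_coheight_add_height A hEq hcat
      (⟨P, inferInstance⟩ : PrimeSpectrum A)
    have hd2 := Groth.Agent.Lib.Helper22.ringKrullDim_eq_coheight_add_height A hEq hcat
      (⟨q, hqprime⟩ : PrimeSpectrum A)
    rw [hd1, hc] at hd2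
    have hd3 : Order.coheight (⟨q, hqprime⟩ : PrimeSpectrum A) + 1 +
        Order.height (⟨P, inferInstance⟩ : PrimeSpectrum A) =
        Order.coheight (⟨q, hqprime⟩ : PrimeSpectrum A) +
        Order.height (⟨q, hqprime⟩ : PrimeSpectrum A) := by exact_mod_cast hd2
    have hne : Order.coheight (⟨q, hqprime⟩ : PrimeSpectrum A) ≠ ⊤ :=
      (Order.coheight_lt_top _).ne
    rw [add_assoc] at hd3
    have hd4 := ENat.add_right_injective_of_ne_top hne hd3
    rw [← PrimeSpectrum.height_eq_orderHeight, ← PrimeSpectrum.height_eq_orderHeight] at hd4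
    simp only at hd4
    have hqk : q.height ≤ (k : ℕ∞) + 1 := by
      rw [← hd4, add_comm]
      gcongr
    exact isRegularLocalRing_localization_of_le A P q hPq (key1 q htq hqk)

end Groth.Agent.H8.QuotLift
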