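import Mathlib
import Groth.Prelude.Def_EGA4b
import Groth.Agent.Lib.Helper29.DepthSelf
import Groth.Agent.Lib.Helper29.Depth
import Groth.Agent.Lib.Helper29.DepthLoc2

universe u
open IsLocalRing

namespace Groth.Agent.H8.HullNormal

open Groth.Agent.Lib.Helper29 in
/-- In a Noetherian domain satisfying `(S₂)`, an element of the fraction field lying in `C_q` for
every height-one prime `q` lies in `C`. -/
theorem mem_of_forall_height_one (C : Type u) [CommRing C] [IsDomain C] [IsNoetherianRing C]
    (hS2 : LocCoh.HasSk 2 C C) (K : Type*) [Field K] [Algebra C K] [IsFractionRing C K]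
    (x : K) (hx : ∀ (q : Ideal C) [q.IsPrime], q.height = 1 →
      ∃ s : C, s ∉ q ∧ ∃ c : C, algebraMap C K c = algebraMap C K s * x) :
    ∃ c : C, algebraMap C K c = x := by
  obtain ⟨⟨a, ⟨b, hb⟩⟩, hab⟩ := IsLocalization.surj (nonZeroDivisors C) x
  simp only at hab
  have hb0 : b ≠ 0 := nonZeroDivisors.ne_zero hb
  have hinj : Function.Injective (algebraMap C K) := IsFractionRing.injective C K
  have hιb : algebraMap C K b ≠ 0 := fun h => hb0 (hinj (by rw [h, map_zero]))
  -- it suffices to show `a ∈ bC`
  suffices h : (Submodule.Quotient.mk a : QuotSMulTop b C) = 0 by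
    rw [Submodule.Quotient.mk_eq_zero, Submodule.mem_smul_pointwise_iff_exists] at h
    obtain ⟨c, -, hc⟩ := h
    refine ⟨c, ?_⟩
    have : algebraMap C K b * algebraMap C K c = algebraMap C K a := by
      rw [← map_mul]; congr 1
    have h2 : x * algebraMap C K b = algebraMap C K a := hab
    apply mul_left_cancel₀ hιb
    rw [this, ← h2, mul_comm]
  by_contra hne
  obtain ⟨P, hP, hle⟩ := exists_le_isAssociatedPrime_of_isNoetherianRing C
    (Submodule.Quotient.mk a : QuotSMulTop b C) hne
  have hPprime : P.IsPrime := hP.isPrime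
  -- `b ∈ P`
  have hbP : b ∈ P := by
    apply hle
    rw [Submodule.mem_colon_singleton, Submodule.mem_bot, ← Submodule.Quotient.mk_smul,
      Submodule.Quotient.mk_eq_zero]
    exact Submodule.smul_mem_pointwise_smul _ _ _ Submodule.mem_top
  have hreg : IsSMulRegular C b := (IsRegular.of_ne_zero hb0).left.isSMulRegular
  -- depth of `C_P` is one
  have hd0 := depth_localizedModule_eq_zero_of_mem_associatedPrimes C (QuotSMulTop b C) P hP
  have hd1 := depth_localizedModule_quotSMulTop_add_one C P C hbP hreg
  rw [depth_localizedModule_self, hd0, zero_add] at hd1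
  rw [hasSk_self_iff] at hS2
  have h2 := hS2 P
  rw [← hd1] at h2
  have hP1 : P.height ≤ 1 := by
    by_contra hcon
    push Not at hcon
    have h3 : ((2 : ℕ) : ℕ∞) ≤ P.height := by
      have := Order.add_one_le_of_lt hcon
      simpa [one_add_one_eq_two] using this
    rw [min_eq_left h3] at h2
    exact absurd h2 (by norm_num)
  have hP0 : P.height ≠ 0 := by
    intro h
    rw [Ideal.height_eq_zero_iff_eq_bot] at h
    rw [h] at hbP
    exact hb0 hbP
  have hP1' : P.height = 1 := le_antisymm hP1 (Order.one_le_iff_ne_zero.mpr hP0)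
  obtain ⟨s, hs, c, hc⟩ := hx P hP1'
  apply hs
  apply hle
  rw [Submodule.mem_colon_singleton, Submodule.mem_bot, ← Submodule.Quotient.mk_smul,
    Submodule.Quotient.mk_eq_zero, Submodule.mem_smul_pointwise_iff_exists]
  refine ⟨c, Submodule.mem_top, ?_⟩
  apply hinj
  simp only [smul_eq_mul, map_mul]
  rw [hc, ← hab]
  ring

end Groth.Agent.H8.HullNormal
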