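import Groth.Prelude.Def_DualLC
import Mathlib.RingTheory.Flat.EquationalCriterion
import Mathlib.RingTheory.Length

/-!
# Lech-independent families of ring elements (helper8)
-/

set_option autoImplicit false
universe u

namespace Groth.Agent.H8

variable {A : Type u} [CommRing A] {r : ℕ}

theorem span_update_mul_le (f : Fin r → A) (j : Fin r) (g : A) :
    Ideal.span (Set.range (Function.update f j (f j * g))) ≤ Ideal.span (Set.range f) := by
  rw [Ideal.span_le]
  rintro _ ⟨i, rfl⟩
  by_cases hij : i = j
  · subst hij
    rw [Function.update_self]
    exact Ideal.mul_mem_right _ _ (Ideal.subset_span ⟨i, rfl⟩)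
  · rw [Function.update_of_ne hij]
    exact Ideal.subset_span ⟨i, rfl⟩

/-- If `f` with `f j` replaced by `f j * g` is independent, then `f` is independent. -/
theorem independent_of_update_mul (f : Fin r → A) (j : Fin r) (g : A)
    (h : Dual2.Independent (Function.update f j (f j * g))) : Dual2.Independent f := by
  classical
  set f' := Function.update f j (f j * g) with hf'
  have hJ : Ideal.span (Set.range f') ≤ Ideal.span (Set.range f) := span_update_mul_le f j g
  intro a ha
  -- first relation
  have h1 : ∑ i, (if i = j then a j else g * a i) * f' i = 0 := by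
    have : ∀ i, (if i = j then a j else g * a i) * f' i = g * (a i * f i) := by
      intro i
      by_cases hij : i = j
      · subst hij
        simp only [hf', Function.update_self, if_true]
        ring
      · simp only [hf', Function.update_of_ne hij, if_neg hij]
        ring
    simp only [this, ← Finset.mul_sum, ha, mul_zero]
  have haj : a j ∈ Ideal.span (Set.range f') := by
    have := h _ h1 j
    simpa using this
  obtain ⟨b, hb⟩ := (Ideal.mem_span_range_iff_exists_fun).mp haj
  -- second relation
  have h2 : ∑ i, (if i = j then b j * f j else a i + b i * f j) * f' i = 0 := by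
    have : ∀ i, (if i = j then b j * f j else a i + b i * f j) * f' i =
        a i * f i + f j * (b i * f' i) - (if i = j then a j * f j else 0) := by
      intro i
      by_cases hij : i = j
      · subst hij
        simp only [hf', Function.update_self, if_true]
        ring
      · simp only [hf', Function.update_of_ne hij, if_neg hij]
        ring
    simp only [this, Finset.sum_sub_distrib, Finset.sum_add_distrib, ← Finset.mul_sum, ha, hb,
      Finset.sum_ite_eq', Finset.mem_univ, if_true]
    ring
  intro i
  by_cases hij : i = j
  · subst hij
    exact hJ haj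
  · have := h _ h2 i
    simp only [if_neg hij] at this
    have h3 : b i * f j ∈ Ideal.span (Set.range f) :=
      Ideal.mul_mem_left _ _ (Ideal.subset_span ⟨j, rfl⟩)
    have h4 := hJ this
    have : a i = (a i + b i * f j) - b i * f j := by ring
    rw [this]
    exact Ideal.sub_mem _ h4 h3

/-- Flat base change preserves independence. -/
theorem independent_map_of_flat {B : Type u} [CommRing B] [Algebra A B] [Module.Flat A B]
    (f : Fin r → A) (hf : Dual2.Independent f) :
    Dual2.Independent (fun i => algebraMap A B (f i)) := by
  intro b hb
  have hb' : ∑ i, f i • b i = 0 := by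
    simpa [Algebra.smul_def, mul_comm] using hb
  obtain ⟨k, a, y, hxy, hrel⟩ := Module.Flat.isTrivialRelation_of_sum_smul_eq_zero hb'
  intro i
  rw [hxy i]
  refine Ideal.sum_mem _ fun j _ => ?_
  have haij : a i j ∈ Ideal.span (Set.range f) := by
    refine hf (fun i => a i j) ?_ i
    simpa [mul_comm] using hrel j
  have hmap : algebraMap A B (a i j) ∈ Ideal.span (Set.range fun i => algebraMap A B (f i)) := by
    have := Ideal.mem_map_of_mem (algebraMap A B) haij
    rwa [Ideal.map_span, ← Set.range_comp] at this
  rw [Algebra.smul_def]
  exact Ideal.mul_mem_right _ _ hmap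

theorem span_update_mul_le_update (f : Fin r → A) (j : Fin r) (g : A) :
    Ideal.span (Set.range (Function.update f j (f j * g))) ≤
      Ideal.span (Set.range (Function.update f j g)) := by
  rw [Ideal.span_le]
  rintro _ ⟨i, rfl⟩
  by_cases hij : i = j
  · subst hij
    rw [Function.update_self]
    refine Ideal.mul_mem_left _ _ (Ideal.subset_span ⟨i, ?_⟩)
    rw [Function.update_self]
  · rw [Function.update_of_ne hij]
    refine Ideal.subset_span ⟨i, ?_⟩
    rw [Function.update_of_ne hij]

/-- Key injectivity statement: if `f j * a` lies in the ideal of the family with `f j` replaced by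
`f j * g` (which is independent), then `a` lies in the ideal of the family with `f j` replaced
by `g`. -/
theorem mem_span_update_of_mul_mem (f : Fin r → A) (j : Fin r) (g : A)
    (h : Dual2.Independent (Function.update f j (f j * g))) (a : A)
    (ha : f j * a ∈ Ideal.span (Set.range (Function.update f j (f j * g)))) :
    a ∈ Ideal.span (Set.range (Function.update f j g)) := by
  classical
  set f' := Function.update f j (f j * g) with hf'
  obtain ⟨b, hb⟩ := (Ideal.mem_span_range_iff_exists_fun).mp ha
  have h1 : ∑ i, (g * b i - if i = j then a else 0) * f' i = 0 := by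
    have : ∀ i, (g * b i - if i = j then a else 0) * f' i =
        g * (b i * f' i) - (if i = j then a * (f j * g) else 0) := by
      intro i
      by_cases hij : i = j
      · subst hij
        simp only [hf', Function.update_self, if_true]
        ring
      · simp only [if_neg hij]
        ring
    simp only [this, Finset.sum_sub_distrib, ← Finset.mul_sum, hb,
      Finset.sum_ite_eq', Finset.mem_univ, if_true]
    ring
  have h2 := h _ h1 j
  simp only [if_true] at h2
  have h3 := span_update_mul_le_update f j g h2
  have h4 : g * b j ∈ Ideal.span (Set.range (Function.update f j g)) := by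
    refine Ideal.mul_mem_right _ _ (Ideal.subset_span ⟨j, ?_⟩)
    rw [Function.update_self]
  have : a = g * b j - (g * b j - a) := by ring
  rw [this]
  exact Ideal.sub_mem _ h4 h3

/-- Additivity of colength for independent families, general index. -/
theorem length_quotient_update_mul (f : Fin r → A) (j : Fin r) (g : A)
    (h : Dual2.Independent (Function.update f j (f j * g))) :
    Module.length A (A ⧸ Ideal.span (Set.range (Function.update f j (f j * g)))) =
      Module.length A (A ⧸ Ideal.span (Set.range f)) +
        Module.length A (A ⧸ Ideal.span (Set.range (Function.update f j g))) := by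
  classical
  set J' := Ideal.span (Set.range (Function.update f j (f j * g))) with hJ'
  set J := Ideal.span (Set.range f) with hJ
  set J'' := Ideal.span (Set.range (Function.update f j g)) with hJ''
  have hJ'J : J' ≤ J := span_update_mul_le f j g
  -- the map `A/J'' → A/J'` given by multiplication by `f j`
  have hmul : J'' ≤ Submodule.comap (LinearMap.mulLeft A (f j)) J' := by
    rw [hJ'', Ideal.span_le]
    rintro _ ⟨i, rfl⟩
    simp only [Submodule.comap_coe, Set.mem_preimage, LinearMap.mulLeft_apply, SetLike.mem_coe]
    by_cases hij : i = j
    · subst hij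
      rw [Function.update_self]
      refine Ideal.subset_span ⟨i, ?_⟩
      rw [Function.update_self]
    · rw [Function.update_of_ne hij]
      refine Ideal.mul_mem_left _ _ (Ideal.subset_span ⟨i, ?_⟩)
      rw [Function.update_of_ne hij]
  let φ : (A ⧸ J'') →ₗ[A] (A ⧸ J') := Submodule.mapQ J'' J' (LinearMap.mulLeft A (f j)) hmul
  let ψ : (A ⧸ J') →ₗ[A] (A ⧸ J) := Submodule.mapQ J' J LinearMap.id hJ'J
  have hφ : Function.Injective φ := by
    rw [← LinearMap.ker_eq_bot, LinearMap.ker_eq_bot']
    intro x hx
    obtain ⟨a, rfl⟩ := Submodule.Quotient.mk_surjective _ x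
    simp only [φ, Submodule.mapQ_apply, LinearMap.mulLeft_apply,
      Submodule.Quotient.mk_eq_zero] at hx
    rw [Submodule.Quotient.mk_eq_zero]
    exact mem_span_update_of_mul_mem f j g h a hx
  have hψ : Function.Surjective ψ := by
    intro x
    obtain ⟨a, rfl⟩ := Submodule.Quotient.mk_surjective _ x
    exact ⟨Submodule.Quotient.mk a, rfl⟩
  have hex : Function.Exact φ ψ := by
    intro y
    obtain ⟨a, rfl⟩ := Submodule.Quotient.mk_surjective _ y
    simp only [ψ, Submodule.mapQ_apply, LinearMap.id_apply, Submodule.Quotient.mk_eq_zero,
      Set.mem_range]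
    constructor
    · intro ha
      -- a ∈ J = J' + (f j)
      obtain ⟨b, hb⟩ := (Ideal.mem_span_range_iff_exists_fun).mp ha
      refine ⟨Submodule.Quotient.mk (b j), ?_⟩
      simp only [φ, Submodule.mapQ_apply, LinearMap.mulLeft_apply]
      rw [Submodule.Quotient.eq]
      have : f j * b j - a = - ∑ i, (if i = j then 0 else b i) * Function.update f j (f j * g) i := by
        have : ∀ i, (if i = j then 0 else b i) * Function.update f j (f j * g) i =
            b i * f i - (if i = j then b j * f j else 0) := by
          intro i
          by_cases hij : i = j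
          · subst hij; simp
          · simp [hij]
        simp only [this, Finset.sum_sub_distrib, hb, Finset.sum_ite_eq', Finset.mem_univ, if_true]
        ring
      rw [this]
      refine Ideal.neg_mem_iff _ |>.mpr (Ideal.sum_mem _ fun i _ => ?_)
      exact Ideal.mul_mem_left _ _ (Ideal.subset_span ⟨i, rfl⟩)
    · rintro ⟨x, hx⟩
      obtain ⟨c, rfl⟩ := Submodule.Quotient.mk_surjective _ x
      simp only [φ, Submodule.mapQ_apply, LinearMap.mulLeft_apply] at hx
      rw [Submodule.Quotient.eq] at hx
      have h1 : f j * c ∈ J := Ideal.mul_mem_right _ _ (Ideal.subset_span ⟨j, rfl⟩)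
      have h2 := hJ'J hx
      have : a = f j * c - (f j * c - a) := by ring
      rw [this]
      exact Ideal.sub_mem _ h1 h2
  rw [Module.length_eq_add_of_exact φ ψ hφ hψ hex, add_comm]

end Groth.Agent.H8
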