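import Groth.Agent.H8.Independent
import Mathlib.RingTheory.SimpleModule.Basic
import Mathlib.RingTheory.LocalRing.MaximalIdeal.Basic

/-!
# Colength of independent powers of generators of the maximal ideal (helper8)
-/

set_option autoImplicit false
universe u

namespace Groth.Agent.H8

variable {A : Type u} [CommRing A] {r : ℕ}

theorem length_quotient_pow_aux [IsLocalRing A] (x : Fin r → A)
    (hx : Ideal.span (Set.range x) = IsLocalRing.maximalIdeal A) :
    ∀ (N : ℕ) (e : Fin r → ℕ), (∀ i, 0 < e i) → ∑ i, e i = N →
      Dual2.Independent (fun i => x i ^ e i) →
      Module.length A (A ⧸ Ideal.span (Set.range (fun i => x i ^ e i))) = ((∏ i, e i : ℕ) : ℕ∞) := by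
  classical
  intro N
  induction N using Nat.strong_induction_on with
  | _ N ih =>
    intro e he hN hind
    by_cases hall : ∀ i, e i = 1
    · have h1 : (fun i => x i ^ e i) = x := by
        funext i; rw [hall i, pow_one]
      have h2 : (∏ i, e i) = 1 := Finset.prod_eq_one fun i _ => hall i
      rw [h1, hx, h2, Nat.cast_one, Module.length_eq_one_iff, isSimpleModule_iff_isCoatom,
        ← Ideal.isMaximal_def]
      infer_instance
    · push Not at hall
      obtain ⟨j, hj⟩ := hall
      have hj2 : 2 ≤ e j := by have := he j; omega
      set e' := Function.update e j (e j - 1) with he'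
      set e'' := Function.update e j 1 with he''
      set f : Fin r → A := fun i => x i ^ e' i with hf
      have hfj : f j = x j ^ (e j - 1) := by simp [hf, he']
      have hupd : Function.update f j (f j * x j) = fun i => x i ^ e i := by
        funext i
        by_cases hij : i = j
        · subst hij
          rw [Function.update_self, hfj, ← pow_succ]
          congr 1; omega
        · rw [Function.update_of_ne hij]
          simp [hf, he', Function.update_of_ne hij]
      have hupd'' : Function.update f j (x j) = fun i => x i ^ e'' i := by
        funext i
        by_cases hij : i = j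
        · subst hij
          simp [he'']
        · rw [Function.update_of_ne hij]
          simp [hf, he', he'', Function.update_of_ne hij]
      have hind' : Dual2.Independent (Function.update f j (f j * x j)) := hupd ▸ hind
      have hindf : Dual2.Independent f := independent_of_update_mul f j (x j) hind'
      have hindf'' : Dual2.Independent (Function.update f j (x j)) := by
        refine independent_of_update_mul (Function.update f j (x j)) j (f j) ?_
        rw [Function.update_self, Function.update_idem, mul_comm]
        exact hind'
      have hlen := length_quotient_update_mul f j (x j) hind'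
      rw [hupd, hupd''] at hlen
      -- positivity and sums
      have he'pos : ∀ i, 0 < e' i := by
        intro i
        by_cases hij : i = j
        · subst hij; simp only [he', Function.update_self]; omega
        · simp only [he', Function.update_of_ne hij]; exact he i
      have he''pos : ∀ i, 0 < e'' i := by
        intro i
        by_cases hij : i = j
        · subst hij; simp [he'']
        · simp only [he'', Function.update_of_ne hij]; exact he i
      have hsum : ∑ i, e i = e j + ∑ i ∈ Finset.univ \ {j}, e i := by
        rw [← Finset.add_sum_erase _ _ (Finset.mem_univ j), Finset.sdiff_singleton_eq_erase]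
      have hsum' : ∑ i, e' i = (e j - 1) + ∑ i ∈ Finset.univ \ {j}, e i :=
        Finset.sum_update_of_mem (Finset.mem_univ j) e (e j - 1)
      have hsum'' : ∑ i, e'' i = 1 + ∑ i ∈ Finset.univ \ {j}, e i :=
        Finset.sum_update_of_mem (Finset.mem_univ j) e 1
      have hprod : ∏ i, e i = e j * ∏ i ∈ Finset.univ \ {j}, e i := by
        rw [← Finset.mul_prod_erase _ _ (Finset.mem_univ j), Finset.sdiff_singleton_eq_erase]
      have hprod' : ∏ i, e' i = (e j - 1) * ∏ i ∈ Finset.univ \ {j}, e i :=
        Finset.prod_update_of_mem (Finset.mem_univ j) e (e j - 1)
      have hprod'' : ∏ i, e'' i = 1 * ∏ i ∈ Finset.univ \ {j}, e i :=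
        Finset.prod_update_of_mem (Finset.mem_univ j) e 1
      have ih' := ih (∑ i, e' i) (by omega) e' he'pos rfl hindf
      have ih'' := ih (∑ i, e'' i) (by omega) e'' he''pos rfl (hupd'' ▸ hindf'')
      rw [hlen, ih', ih'', hprod, hprod', hprod'', ← Nat.cast_add]
      congr 1
      have : e j = (e j - 1) + 1 := by omega
      conv_rhs => rw [this]
      ring

theorem length_quotient_pow [IsLocalRing A] (x : Fin r → A)
    (hx : Ideal.span (Set.range x) = IsLocalRing.maximalIdeal A) (e : Fin r → ℕ)
    (he : ∀ i, 0 < e i) (hind : Dual2.Independent (fun i => x i ^ e i)) :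
    Module.length A (A ⧸ Ideal.span (Set.range (fun i => x i ^ e i))) = ∏ i, (e i : ℕ∞) := by
  rw [length_quotient_pow_aux x hx _ e he rfl hind, Nat.cast_prod]

end Groth.Agent.H8
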