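import Mathlib.Algebra.Module.Injective
import Mathlib.Order.Zorn
import Mathlib.LinearAlgebra.Quotient.Basic
import Mathlib.LinearAlgebra.Span.Basic

/-!
# Injective submodules of injective modules and essential extensions (helper8)
-/

set_option autoImplicit false
universe u

namespace Groth.Agent.H8

variable {R : Type u} [CommRing R] {I : Type u} [AddCommGroup I] [Module R I]

/-- A retract of an injective module is injective. -/
theorem injective_of_retract [Module.Injective R I] (E : Submodule R I) (ρ : I →ₗ[R] E)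
    (hρ : ∀ e : E, ρ (e : I) = e) : Module.Injective R E where
  out X Y _ _ _ _ f hf g := by
    obtain ⟨h, hh⟩ := Module.Injective.extension_property R I X Y f hf (E.subtype ∘ₗ g)
    refine ⟨ρ ∘ₗ h, fun x => ?_⟩
    have : h (f x) = (g x : I) := LinearMap.congr_fun hh x
    rw [LinearMap.comp_apply, this, hρ]

theorem injective_submodule_imp [Module.Injective R I] (E : Submodule R I)
    (hE : Module.Injective R E) (E' : Submodule R I) (hEE' : E ≤ E')
    (hess : ∀ N : Submodule R I, N ≤ E' → N ≠ ⊥ → N ⊓ E ≠ ⊥) : E' = E := by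
  obtain ⟨r, hr⟩ := Module.Injective.extension_property R E E I E.subtype
    Subtype.val_injective LinearMap.id
  have hr' : ∀ e : E, r (e : I) = e := fun e => LinearMap.congr_fun hr e
  refine le_antisymm ?_ hEE'
  -- K = ker r ⊓ E' meets E trivially
  have hK : (LinearMap.ker r ⊓ E') ⊓ E = ⊥ := by
    rw [eq_bot_iff]
    intro z hz
    rw [Submodule.mem_inf, Submodule.mem_inf] at hz
    obtain ⟨⟨hz1, -⟩, hz2⟩ := hz
    have h1 := hr' ⟨z, hz2⟩
    rw [LinearMap.mem_ker] at hz1
    simp only at h1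
    rw [hz1] at h1
    have : z = ((⟨z, hz2⟩ : E) : I) := rfl
    rw [this, ← h1]
    simp
  have hK' : LinearMap.ker r ⊓ E' = ⊥ := by
    by_contra hne
    exact hess _ inf_le_right hne hK
  intro x hx
  have hy : x - (r x : I) ∈ LinearMap.ker r ⊓ E' := by
    refine Submodule.mem_inf.mpr ⟨?_, E'.sub_mem hx (hEE' (r x).2)⟩
    rw [LinearMap.mem_ker, map_sub, hr', sub_self]
  rw [hK', Submodule.mem_bot, sub_eq_zero] at hy
  rw [hy]
  exact (r x).2

theorem injective_submodule_of_no_essential_ext [Module.Injective R I] (E : Submodule R I)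
    (H : ∀ E' : Submodule R I, E ≤ E' → (∀ N : Submodule R I, N ≤ E' → N ≠ ⊥ → N ⊓ E ≠ ⊥) →
      E' = E) : Module.Injective R E := by
  classical
  -- a maximal submodule C with C ⊓ E = ⊥
  obtain ⟨C, -, hC⟩ := zorn_le_nonempty₀ {C : Submodule R I | C ⊓ E = ⊥} (by
    intro c hcs hc y hy
    refine ⟨sSup c, ?_, fun z hz => le_sSup hz⟩
    change sSup c ⊓ E = ⊥
    rw [eq_bot_iff]
    intro z hz
    rw [Submodule.mem_inf, Submodule.mem_sSup_of_directed ⟨y, hy⟩ hc.directedOn] at hz
    obtain ⟨⟨D, hD, hzD⟩, hz2⟩ := hz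
    have : D ⊓ E = ⊥ := hcs hD
    rw [← this]
    exact Submodule.mem_inf.mpr ⟨hzD, hz2⟩) ⊥ (by simp)
  have hCE : C ⊓ E = ⊥ := hC.prop
  have hCmax : ∀ D : Submodule R I, C ≤ D → D ⊓ E = ⊥ → D ≤ C := fun D hCD hD => hC.le_of_ge hD hCD
  let π : I →ₗ[R] I ⧸ C := C.mkQ
  let j : E →ₗ[R] I ⧸ C := π ∘ₗ E.subtype
  have hj : Function.Injective j := by
    rw [← LinearMap.ker_eq_bot, LinearMap.ker_eq_bot']
    intro e he
    have h1 : (e : I) ∈ C := by
      simpa [j, π, Submodule.Quotient.mk_eq_zero] using he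
    have h2 : (e : I) ∈ C ⊓ E := ⟨h1, e.2⟩
    rw [hCE, Submodule.mem_bot] at h2
    exact Subtype.ext h2
  -- essentiality of j
  have hjess : ∀ N : Submodule R (I ⧸ C), N ≠ ⊥ → ∃ e : E, (e : I) ≠ 0 ∧ j e ∈ N := by
    intro N hN
    have h1 : C ≤ N.comap π := by
      intro c hc
      rw [Submodule.mem_comap]
      have : π c = 0 := by simpa [π, Submodule.Quotient.mk_eq_zero] using hc
      rw [this]; exact N.zero_mem
    have h2 : ¬ (N.comap π ≤ C) := by
      intro hle
      apply hN
      rw [eq_bot_iff]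
      intro y hy
      obtain ⟨x, rfl⟩ := C.mkQ_surjective y
      have : x ∈ C := hle hy
      rw [Submodule.mem_bot]
      simpa [Submodule.Quotient.mk_eq_zero] using this
    have h3 : N.comap π ⊓ E ≠ ⊥ := fun h => h2 (hCmax _ h1 h)
    obtain ⟨e, he, hene⟩ := (Submodule.ne_bot_iff _).mp h3
    exact ⟨⟨e, he.2⟩, hene, he.1⟩
  -- extend the inclusion of E along j
  obtain ⟨h, hh⟩ := Module.Injective.extension_property R I E (I ⧸ C) j hj E.subtype
  have hh' : ∀ e : E, h (j e) = (e : I) := fun e => LinearMap.congr_fun hh e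
  have hinj : Function.Injective h := by
    rw [← LinearMap.ker_eq_bot]
    by_contra hne
    obtain ⟨e, he, hje⟩ := hjess _ hne
    rw [LinearMap.mem_ker, hh'] at hje
    exact he hje
  have hrange : LinearMap.range h = E := by
    apply H
    · intro e he
      exact ⟨j ⟨e, he⟩, hh' ⟨e, he⟩⟩
    · intro N hN hNne
      have hcomap : N.comap h ≠ ⊥ := by
        intro hbot
        apply hNne
        rw [eq_bot_iff]
        intro n hn
        obtain ⟨y, rfl⟩ := hN hn
        have : y ∈ N.comap h := hn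
        rw [hbot, Submodule.mem_bot] at this
        rw [this, map_zero]; exact Submodule.zero_mem _
      obtain ⟨e, he, hje⟩ := hjess _ hcomap
      rw [Submodule.mem_comap, hh'] at hje
      intro hbot
      have : (e : I) ∈ N ⊓ E := ⟨hje, e.2⟩
      rw [hbot, Submodule.mem_bot] at this
      exact he this
  -- the retraction
  let ρ : I →ₗ[R] E := (h ∘ₗ π).codRestrict E (fun x => by
    rw [← hrange]; exact ⟨π x, rfl⟩)
  refine injective_of_retract E ρ fun e => ?_
  apply Subtype.ext
  exact hh' e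

theorem injective_submodule_iff [Module.Injective R I] (E : Submodule R I) :
    Module.Injective R E ↔ ∀ E' : Submodule R I, E ≤ E' →
      (∀ N : Submodule R I, N ≤ E' → N ≠ ⊥ → N ⊓ E ≠ ⊥) → E' = E :=
  ⟨fun hE E' h1 h2 => injective_submodule_imp E hE E' h1 h2,
    injective_submodule_of_no_essential_ext E⟩

end Groth.Agent.H8
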