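import Groth.Agent.H8.J2Descent
import Groth.Agent.Lib.Helper47.SeparableSmooth
import Groth.Agent.Lib.Helper47.RegularHomAscent
import Groth.Agent.S1468

set_option autoImplicit false
universe u
open TensorProduct

namespace Groth.Agent.H8.J2

/-- `Localization.Away a` is a regular ring when `D(a)` lies in the regular locus. -/
theorem isRegularRing_away_of_basicOpen_subset (A : Type u) [CommRing A] [IsNoetherianRing A] (a : A)
    (Aa : Type u) [CommRing Aa] [Algebra A Aa] [IsLocalization.Away a Aa]
    (h : (PrimeSpectrum.basicOpen a : Set (PrimeSpectrum A)) ⊆ EGA4.regLocus A) :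
    IsRegularRing Aa := by
  have hN : IsNoetherianRing Aa := IsLocalization.isNoetherianRing (Submonoid.powers a) Aa inferInstance
  rw [isRegularRing_iff]
  intro Q hQ
  apply isRegularLocalRing_atPrime_of_isLocalization (Submonoid.powers a) Aa
  have hmem : (⟨Q.comap (algebraMap A Aa), inferInstance⟩ : PrimeSpectrum A) ∈
      (PrimeSpectrum.basicOpen a : Set (PrimeSpectrum A)) := by
    change (⟨_, _⟩ : PrimeSpectrum A) ∈ PrimeSpectrum.basicOpen a
    rw [PrimeSpectrum.mem_basicOpen]
    intro hmem
    have h1 : algebraMap A Aa a ∈ Q := hmem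
    have h2 : IsUnit (algebraMap A Aa a) := IsLocalization.Away.algebraMap_isUnit a
    exact hQ.ne_top (Ideal.eq_top_of_isUnit_mem _ h1 h2)
  exact h hmem

/-- conversely: primes in `D(a)` are regular when `Localization.Away a` is a regular ring -/
theorem basicOpen_subset_regLocus_of_isRegularRing (A : Type u) [CommRing A] (a : A)
    (Aa : Type u) [CommRing Aa] [Algebra A Aa] [IsLocalization.Away a Aa] [IsRegularRing Aa] :
    (PrimeSpectrum.basicOpen a : Set (PrimeSpectrum A)) ⊆ EGA4.regLocus A := by
  intro p hp
  have hap : a ∉ p.asIdeal := (PrimeSpectrum.mem_basicOpen _ _).mp hp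
  have hdisj : Disjoint (Submonoid.powers a : Set A) (p.asIdeal : Set A) := by
    rw [Set.disjoint_left]
    rintro x ⟨n, rfl⟩ hx
    exact hap (p.2.mem_of_pow_mem n hx)
  have hP' : (p.asIdeal.map (algebraMap A Aa)).IsPrime :=
    IsLocalization.isPrime_of_isPrime_disjoint (Submonoid.powers a) Aa _ p.2 hdisj
  have hP'c : (p.asIdeal.map (algebraMap A Aa)).comap (algebraMap A Aa) = p.asIdeal :=
    IsLocalization.under_map_of_isPrime_disjoint (Submonoid.powers a) Aa p.2 hdisj
  have hreg : IsRegularLocalRing (Localization.AtPrime (p.asIdeal.map (algebraMap A Aa))) :=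
    (isRegularRing_iff.mp inferInstance) _
  have : IsLocalization.AtPrime (Localization.AtPrime (p.asIdeal.map (algebraMap A Aa)))
      ((p.asIdeal.map (algebraMap A Aa)).comap (algebraMap A Aa)) :=
    IsLocalization.isLocalization_isLocalization_atPrime_isLocalization (Submonoid.powers a)
      (Localization.AtPrime (p.asIdeal.map (algebraMap A Aa))) (p.asIdeal.map (algebraMap A Aa))
  have key : IsRegularLocalRing (Localization.AtPrime
      ((p.asIdeal.map (algebraMap A Aa)).comap (algebraMap A Aa))) :=
    IsRegularLocalRing.of_ringEquiv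
      (IsLocalization.algEquiv ((p.asIdeal.map (algebraMap A Aa)).comap (algebraMap A Aa)).primeCompl
        (Localization.AtPrime ((p.asIdeal.map (algebraMap A Aa)).comap (algebraMap A Aa)))
        (Localization.AtPrime (p.asIdeal.map (algebraMap A Aa)))).symm.toRingEquiv
  have aux : ∀ (r' : Ideal A) [r'.IsPrime], r' = p.asIdeal →
      IsRegularLocalRing (Localization.AtPrime r') →
      IsRegularLocalRing (Localization.AtPrime p.asIdeal) := by
    intro r' _ e
    subst e
    exact id
  exact aux _ hP'c key


/-- regularity at `q` from regularity at the extended prime of a localization -/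
theorem isRegularLocalRing_of_isLocalization_map {S : Type u} [CommRing S] (M : Submonoid S)
    (S' : Type u) [CommRing S'] [Algebra S S'] [IsLocalization M S']
    (q : Ideal S) [hq : q.IsPrime] (hdisj : Disjoint (M : Set S) (q : Set S))
    (hP' : (q.map (algebraMap S S')).IsPrime)
    (hreg : IsRegularLocalRing (Localization.AtPrime (q.map (algebraMap S S')))) :
    IsRegularLocalRing (Localization.AtPrime q) := by
  have hP'c : (q.map (algebraMap S S')).comap (algebraMap S S') = q :=
    IsLocalization.under_map_of_isPrime_disjoint M S' hq hdisj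
  have : IsLocalization.AtPrime (Localization.AtPrime (q.map (algebraMap S S')))
      ((q.map (algebraMap S S')).comap (algebraMap S S')) :=
    IsLocalization.isLocalization_isLocalization_atPrime_isLocalization M
      (Localization.AtPrime (q.map (algebraMap S S'))) (q.map (algebraMap S S'))
  have key : IsRegularLocalRing (Localization.AtPrime
      ((q.map (algebraMap S S')).comap (algebraMap S S'))) :=
    IsRegularLocalRing.of_ringEquiv
      (IsLocalization.algEquiv ((q.map (algebraMap S S')).comap (algebraMap S S')).primeCompl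
        (Localization.AtPrime ((q.map (algebraMap S S')).comap (algebraMap S S')))
        (Localization.AtPrime (q.map (algebraMap S S')))).symm.toRingEquiv
  have aux : ∀ (r' : Ideal S) [r'.IsPrime], r' = q →
      IsRegularLocalRing (Localization.AtPrime r') →
      IsRegularLocalRing (Localization.AtPrime q) := by
    intro r' _ e
    subst e
    exact id
  exact aux _ hP'c key

theorem regLocus_ascent_separable (A A' K L : Type u) [CommRing A] [CommRing A'] [IsDomain A]
    [IsDomain A'] [IsNoetherianRing A] [Algebra A A'] [FaithfulSMul A A'] [Algebra.FiniteType A A']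
    [Field K] [Field L] [Algebra A K] [IsFractionRing A K] [Algebra A' L] [IsFractionRing A' L]
    [Algebra K L] [Algebra A L] [IsScalarTower A K L] [IsScalarTower A A' L]
    [Algebra.IsGeometricallyReduced K L]
    (h : ∃ U : Set (PrimeSpectrum A), IsOpen U ∧ U.Nonempty ∧ U ⊆ EGA4.regLocus A) :
    ∃ U' : Set (PrimeSpectrum A'), IsOpen U' ∧ U'.Nonempty ∧ U' ⊆ EGA4.regLocus A' := by
  obtain ⟨U, hUo, hUne, hUreg⟩ := h
  obtain ⟨a, ha0, haU⟩ := exists_basicOpen_subset hUo hUne
  have hfp : Algebra.FinitePresentation A A' :=
    Algebra.FinitePresentation.of_finiteType.mp inferInstance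
  -- smoothness at the generic point
  have hKL : Algebra.FormallySmooth K L :=
    Groth.Agent.Lib.Helper47.formallySmooth_of_isGeometricallyReduced K L
  have hAK : Algebra.FormallySmooth A K := Algebra.FormallySmooth.of_isLocalization (nonZeroDivisors A)
  have hAL : Algebra.FormallySmooth A L := Algebra.FormallySmooth.comp A K L
  have hbot : (⊥ : Ideal A').IsPrime := Ideal.isPrime_bot
  have hloc : IsLocalization (nonZeroDivisors A') (Localization.AtPrime (⊥ : Ideal A')) := by
    have key : ∀ (M N : Submonoid A') (_ : M = N) (T : Type u) [CommRing T] [Algebra A' T]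
        [IsLocalization M T], IsLocalization N T := by
      intro M N h T _ _ hT
      subst h
      exact hT
    exact @key _ _ Ideal.primeCompl_bot (Localization.AtPrime (⊥ : Ideal A')) _ _
      (Localization.isLocalization (M := (⊥ : Ideal A').primeCompl))
  let e : L ≃ₐ[A'] Localization.AtPrime (⊥ : Ideal A') :=
    IsLocalization.algEquiv (nonZeroDivisors A') L (Localization.AtPrime (⊥ : Ideal A'))
  have hsm : Algebra.IsSmoothAt A (⊥ : Ideal A') :=
    Algebra.FormallySmooth.of_equiv (e.restrictScalars A)
  obtain ⟨f, hf, hfsm⟩ := Algebra.IsSmoothAt.exists_notMem_smooth (R := A) (⊥ : Ideal A')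
  have hf0 : f ≠ 0 := fun h0 => hf (by rw [h0]; exact Ideal.zero_mem _)
  have ha'0 : algebraMap A A' a ≠ 0 := by
    rw [Ne, FaithfulSMul.algebraMap_eq_zero_iff]
    exact ha0
  -- the rings
  let A'f := Localization.Away f
  let Aa := Localization.Away a
  have hregAa : IsRegularRing Aa :=
    isRegularRing_away_of_basicOpen_subset A a Aa (haU.trans hUreg)
  let B' := Aa ⊗[A] A'f
  have hsmB' : Algebra.Smooth Aa B' := inferInstance
  have hNAa : IsNoetherianRing Aa :=
    IsLocalization.isNoetherianRing (Submonoid.powers a) Aa inferInstance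
  have hNB' : IsNoetherianRing B' := Algebra.FiniteType.isNoetherianRing Aa B'
  have hregB' : IsRegularRing B' :=
    Groth.Agent.Lib.Helper47.isRegularRing_of_isRegularHom
      (Groth.Agent.S1468.isRegularHom_of_smooth Aa B')
  let algB' : Algebra A'f B' := Algebra.TensorProduct.rightAlgebra
  obtain ⟨htower, hlocB'⟩ := isLocalization_tensor_right A (Submonoid.powers a) Aa A'f
  refine ⟨PrimeSpectrum.basicOpen (f * algebraMap A A' a),
    (PrimeSpectrum.basicOpen (f * algebraMap A A' a)).isOpen,
    basicOpen_nonempty (mul_ne_zero hf0 ha'0), ?_⟩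
  intro q hq
  have hq' : f * algebraMap A A' a ∉ q.asIdeal := (PrimeSpectrum.mem_basicOpen _ _).mp hq
  have hfq : f ∉ q.asIdeal := fun h => hq' (Ideal.mul_mem_right _ _ h)
  have haq : algebraMap A A' a ∉ q.asIdeal := fun h => hq' (Ideal.mul_mem_left _ _ h)
  have hdisj1 : Disjoint (Submonoid.powers f : Set A') (q.asIdeal : Set A') := by
    rw [Set.disjoint_left]
    rintro x ⟨n, rfl⟩ hx
    exact hfq (q.2.mem_of_pow_mem n hx)
  have hq1 : (q.asIdeal.map (algebraMap A' A'f)).IsPrime :=
    IsLocalization.isPrime_of_isPrime_disjoint (Submonoid.powers f) A'f _ q.2 hdisj1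
  have hq1c : (q.asIdeal.map (algebraMap A' A'f)).comap (algebraMap A' A'f) = q.asIdeal :=
    IsLocalization.under_map_of_isPrime_disjoint (Submonoid.powers f) A'f q.2 hdisj1
  have hdisj2 : Disjoint (Algebra.algebraMapSubmonoid A'f (Submonoid.powers a) : Set A'f)
      (q.asIdeal.map (algebraMap A' A'f) : Set A'f) := by
    rw [Set.disjoint_left]
    rintro x ⟨y, ⟨n, rfl⟩, rfl⟩ hx
    have h1 : algebraMap A A'f (a ^ n) = algebraMap A' A'f ((algebraMap A A' a) ^ n) := by
      rw [IsScalarTower.algebraMap_apply A A' A'f, map_pow]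
    rw [h1] at hx
    have h2 : (algebraMap A A' a) ^ n ∈ q.asIdeal := by
      rw [← hq1c]
      exact hx
    exact haq (q.2.mem_of_pow_mem n h2)
  have hq2 : ((q.asIdeal.map (algebraMap A' A'f)).map (algebraMap A'f B')).IsPrime :=
    IsLocalization.isPrime_of_isPrime_disjoint
      (Algebra.algebraMapSubmonoid A'f (Submonoid.powers a)) B' _ hq1 hdisj2
  have hreg2 : IsRegularLocalRing (Localization.AtPrime
      ((q.asIdeal.map (algebraMap A' A'f)).map (algebraMap A'f B'))) :=
    (isRegularRing_iff.mp hregB') _
  have hreg1 : IsRegularLocalRing (Localization.AtPrime (q.asIdeal.map (algebraMap A' A'f))) :=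
    isRegularLocalRing_of_isLocalization_map
      (Algebra.algebraMapSubmonoid A'f (Submonoid.powers a)) B' _ hdisj2 hq2 hreg2
  exact isRegularLocalRing_of_isLocalization_map (Submonoid.powers f) A'f _ hdisj1 hq1 hreg1

end Groth.Agent.H8.J2
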