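import Groth.Agent.H8.J2Criterion
import Groth.Agent.Lib.Helper50.SepGen

set_option autoImplicit false
universe u

namespace Groth.Agent.H8.J2

/-- over a ring which is a field (as a proposition), every prime is zero, and regular -/
theorem regLocus_eq_univ_of_isField (D : Type u) [CommRing D] [IsDomain D] (hD : IsField D) :
    Set.univ ⊆ EGA4.regLocus D := by
  intro p _
  have hp : p.asIdeal = ⊥ := by
    rw [eq_bot_iff]
    intro x hx
    by_contra hx0
    obtain ⟨y, hxy⟩ := hD.mul_inv_cancel hx0
    apply p.2.ne_top
    rw [Ideal.eq_top_iff_one, ← hxy]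
    exact Ideal.mul_mem_right _ _ hx
  have : p = ⟨⊥, Ideal.isPrime_bot⟩ := PrimeSpectrum.ext hp
  rw [this]
  exact Groth.Agent.H8.Nagata.bot_mem_regLocus D

/-- a field is J-2 -/
theorem isJ2_of_field (k : Type u) [Field k] : EGA4.IsJ2 k := by
  apply isJ2_of_finite_domains
  intro A' _ _ _ hfin
  have hint : Algebra.IsIntegral k A' := Algebra.IsIntegral.of_finite k A'
  have hA' : IsField A' := isField_of_isIntegral_of_isField' (Field.toIsField k)
  exact ⟨Set.univ, isOpen_univ, ⟨⟨⊥, Ideal.isPrime_bot⟩, trivial⟩, regLocus_eq_univ_of_isField A' hA'⟩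

/-- in characteristic zero every field extension is geometrically reduced -/
theorem isGeometricallyReduced_of_charZero (K L : Type u) [Field K] [Field L] [Algebra K L]
    [CharZero K] : Algebra.IsGeometricallyReduced K L := by
  obtain ⟨s, hs⟩ := exists_isTranscendenceBasis K L
  haveI : Algebra.IsAlgebraic (IntermediateField.adjoin K (Set.range ((↑) : s → L))) L :=
    hs.isAlgebraic_field
  haveI : Algebra.IsSeparable (IntermediateField.adjoin K (Set.range ((↑) : s → L))) L :=
    Algebra.IsAlgebraic.isSeparable_of_perfectField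
  exact Groth.Agent.Lib.Helper50.isGeometricallyReduced_of_isTranscendenceBasis_of_isSeparable
    ((↑) : s → L) hs

end Groth.Agent.H8.J2
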