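import Mathlib

open TopologicalSpace

namespace Groth.Agent.H8.Nagata

theorem isClosed_diff_of_nagata {X : Type*} [TopologicalSpace X] [NoetherianSpace X] [QuasiSober X]
    (U : Set X) (h1 : StableUnderGeneralization U)
    (h2 : ∀ x ∈ U, ∃ O : Set X, IsOpen O ∧ (O ∩ closure {x}).Nonempty ∧ O ∩ closure {x} ⊆ U)
    (s : Closeds X) : IsClosed ((s : Set X) \ U) := by
  apply wellFounded_lt.induction s; clear s
  intro s H
  rcases eq_or_ne s ⊥ with rfl | h₀
  · simp
  by_cases h₁ : IsPreirreducible (s : Set X)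
  · have hirr : IsIrreducible (s : Set X) := ⟨Closeds.coe_nonempty.2 h₀, h₁⟩
    have hgen := hirr.isGenericPoint_genericPoint s.isClosed
    by_cases hξ : hirr.genericPoint ∈ U
    · obtain ⟨O, hO, hne, hsub⟩ := h2 _ hξ
      rw [hgen.def] at hne hsub
      let s' : Closeds X := s ⊓ ⟨Oᶜ, hO.isClosed_compl⟩
      have hlt : s' < s := by
        refine inf_lt_left.2 ?_
        intro hle
        obtain ⟨x, hxO, hxs⟩ := hne
        exact (hle hxs) hxO
      have h3 := H s' hlt
      have heq : (s : Set X) \ U = (s' : Set X) \ U := by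
        ext x
        simp only [Set.mem_sdiff, SetLike.mem_coe, s', Closeds.coe_inf, Set.mem_inter_iff,
          Closeds.coe_mk, Set.mem_compl_iff]
        constructor
        · rintro ⟨hxs, hxU⟩
          exact ⟨⟨hxs, fun hxO => hxU (hsub ⟨hxO, hxs⟩)⟩, hxU⟩
        · rintro ⟨⟨hxs, -⟩, hxU⟩
          exact ⟨hxs, hxU⟩
      rw [heq]
      exact h3
    · have heq : (s : Set X) \ U = s := by
        ext x
        simp only [Set.mem_sdiff, SetLike.mem_coe, and_iff_left_iff_imp]
        intro hx hxU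
        exact hξ (h1 (hgen.specializes hx) hxU)
      rw [heq]
      exact s.isClosed
  · simp only [isPreirreducible_iff_isClosed_union_isClosed, not_forall, not_or] at h₁
    obtain ⟨z₁, z₂, hz₁, hz₂, h, hz₁', hz₂'⟩ := h₁
    lift z₁ to Closeds X using hz₁
    lift z₂ to Closeds X using hz₂
    have e1 := H (s ⊓ z₁) (inf_lt_left.2 hz₁')
    have e2 := H (s ⊓ z₂) (inf_lt_left.2 hz₂')
    have heq : (s : Set X) \ U = ((s ⊓ z₁ : Closeds X) : Set X) \ U ∪
        ((s ⊓ z₂ : Closeds X) : Set X) \ U := by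
      ext x
      simp only [Set.mem_sdiff, SetLike.mem_coe, Closeds.coe_inf, Set.mem_union, Set.mem_inter_iff]
      constructor
      · rintro ⟨hxs, hxU⟩
        rcases h hxs with hx1 | hx2
        · exact Or.inl ⟨⟨hxs, hx1⟩, hxU⟩
        · exact Or.inr ⟨⟨hxs, hx2⟩, hxU⟩
      · rintro (⟨⟨hxs, -⟩, hxU⟩ | ⟨⟨hxs, -⟩, hxU⟩) <;> exact ⟨hxs, hxU⟩
    rw [heq]
    exact e1.union e2

/-- **Nagata's topological criterion for openness.** -/
theorem isOpen_of_nagata {X : Type*} [TopologicalSpace X] [NoetherianSpace X] [QuasiSober X]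
    (U : Set X) (h1 : StableUnderGeneralization U)
    (h2 : ∀ x ∈ U, ∃ O : Set X, IsOpen O ∧ (O ∩ closure {x}).Nonempty ∧ O ∩ closure {x} ⊆ U) :
    IsOpen U := by
  have := isClosed_diff_of_nagata U h1 h2 ⊤
  rw [← isClosed_compl_iff]
  simpa [Set.compl_eq_univ_sdiff] using this

end Groth.Agent.H8.Nagata
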