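import Mathlib
import Groth.Prelude.Def_EGA4b
import Groth.Agent.H8.NagataTop
import Groth.Agent.H8.QuotLift

universe u
open TopologicalSpace

namespace Groth.Agent.H8.Nagata

theorem stableUnderGeneralization_regLocus (R : Type u) [CommRing R] :
    StableUnderGeneralization (EGA4.regLocus R) := by
  intro p q hqp hp
  have hle : q ≤ p := (PrimeSpectrum.le_iff_specializes q p).mpr hqp
  exact QuotLift.isRegularLocalRing_localization_of_le R q.asIdeal p.asIdeal hle hp

theorem isOpen_regLocus_iff (R : Type u) [CommRing R] [IsNoetherianRing R] :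
    IsOpen (EGA4.regLocus R) ↔
      ∀ p ∈ EGA4.regLocus R, ∃ U : Set (PrimeSpectrum R), IsOpen U ∧
        (U ∩ PrimeSpectrum.zeroLocus (p.asIdeal : Set R)).Nonempty ∧
        U ∩ PrimeSpectrum.zeroLocus (p.asIdeal : Set R) ⊆ EGA4.regLocus R := by
  constructor
  · intro h p hp
    refine ⟨EGA4.regLocus R, h, ⟨p, hp, ?_⟩, Set.inter_subset_left⟩
    rw [PrimeSpectrum.mem_zeroLocus]
  · intro h
    apply isOpen_of_nagata _ (stableUnderGeneralization_regLocus R)
    intro p hp
    obtain ⟨U, hU, hne, hsub⟩ := h p hp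
    rw [PrimeSpectrum.closure_singleton]
    exact ⟨U, hU, hne, hsub⟩

end Groth.Agent.H8.Nagata
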