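import Mathlib
import Groth.Prelude.Def_EGA4b
import Groth.Agent.H8.DimFormulaHeight

/-!
# Key algebraic lemma for Nagata's criterion for the openness of the regular locus
-/

universe u
open IsLocalRing

namespace Groth.Agent.H8.NagataReg

/-- Generators of the maximal ideal of `A_p` can be taken in `p`. -/
theorem exists_finset_generators (A : Type u) [CommRing A] [IsNoetherianRing A] (p : Ideal A)
    [p.IsPrime] :
    ∃ X : Finset A, (X : Set A) ⊆ p ∧
      X.card ≤ (maximalIdeal (Localization.AtPrime p)).spanFinrank ∧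
      (Ideal.span (X : Set A)).map (algebraMap A (Localization.AtPrime p)) =
        maximalIdeal (Localization.AtPrime p) := by
  classical
  have hN : IsNoetherianRing (Localization.AtPrime p) :=
    IsLocalization.isNoetherianRing p.primeCompl _ inferInstance
  obtain ⟨T, hTcard, hT⟩ := Submodule.FG.exists_span_finset_card_eq_spanFinrank
    (maximalIdeal (Localization.AtPrime p)).fg_of_isNoetherianRing
  let g : Localization.AtPrime p → A := fun t => (IsLocalization.sec p.primeCompl t).1
  have hg : ∀ t : Localization.AtPrime p,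
      t * algebraMap A (Localization.AtPrime p) (IsLocalization.sec p.primeCompl t).2 =
        algebraMap A (Localization.AtPrime p) (g t) := fun t => IsLocalization.sec_spec _ t
  have hunit : ∀ t : Localization.AtPrime p,
      IsUnit (algebraMap A (Localization.AtPrime p) (IsLocalization.sec p.primeCompl t).2) :=
    fun t => IsLocalization.map_units _ _
  have hspan : (Ideal.span ((T.image g : Finset A) : Set A)).map
      (algebraMap A (Localization.AtPrime p)) = maximalIdeal (Localization.AtPrime p) := by
    rw [Ideal.map_span, ← hT]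
    change Ideal.span _ = Ideal.span (T : Set (Localization.AtPrime p))
    apply le_antisymm
    · rw [Ideal.span_le]
      rintro _ ⟨a, ha, rfl⟩
      rw [Finset.coe_image] at ha
      obtain ⟨t, ht, rfl⟩ := ha
      rw [← hg t]
      exact Ideal.mul_mem_right _ _ (Ideal.subset_span ht)
    · rw [Ideal.span_le]
      intro t ht
      obtain ⟨u, hu⟩ := hunit t
      have : t = algebraMap A (Localization.AtPrime p) (g t) * ↑u⁻¹ := by
        rw [← hg t, ← hu, mul_assoc, Units.mul_inv, mul_one]
      rw [this]
      apply Ideal.mul_mem_right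
      apply Ideal.subset_span
      exact ⟨g t, by rw [Finset.coe_image]; exact ⟨t, ht, rfl⟩, rfl⟩
  refine ⟨T.image g, ?_, ?_, hspan⟩
  · intro a ha
    rw [Finset.coe_image] at ha
    obtain ⟨t, ht, rfl⟩ := ha
    have h1 : algebraMap A (Localization.AtPrime p) (g t) ∈ maximalIdeal (Localization.AtPrime p) := by
      rw [← hg t]
      apply Ideal.mul_mem_right
      rw [← hT]
      exact Submodule.subset_span ht
    exact (IsLocalization.AtPrime.to_map_mem_maximal_iff _ p _).mp h1
  · calc (T.image g).card ≤ T.card := Finset.card_image_le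
      _ = _ := hTcard

/-- a common denominator -/
theorem exists_notMem_mul_mem (A : Type u) [CommRing A] [IsNoetherianRing A] (p : Ideal A)
    [hp : p.IsPrime] (I : Ideal A)
    (h : I.map (algebraMap A (Localization.AtPrime p)) = maximalIdeal (Localization.AtPrime p)) :
    ∃ f : A, f ∉ p ∧ ∀ z ∈ p, f * z ∈ I := by
  classical
  obtain ⟨Y, hY⟩ := (isNoetherianRing_iff_ideal_fg A).mp inferInstance p
  have key : ∀ Y' : Finset A, (Y' : Set A) ⊆ p → ∃ f : A, f ∉ p ∧ ∀ y ∈ Y', f * y ∈ I := by
    intro Y'
    induction Y' using Finset.induction_on with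
    | empty => exact fun _ => ⟨1, fun h => hp.ne_top ((Ideal.eq_top_iff_one p).mpr h), by simp⟩
    | insert a s _ ih =>
      intro hsub
      obtain ⟨f, hf, hfs⟩ := ih (fun y hy => hsub (by simp [Finset.mem_coe.mp hy]))
      have ha : a ∈ p := hsub (by simp)
      have h1 : algebraMap A (Localization.AtPrime p) a ∈
          I.map (algebraMap A (Localization.AtPrime p)) := by
        rw [h]
        exact (IsLocalization.AtPrime.to_map_mem_maximal_iff _ p _).mpr ha
      rw [IsLocalization.algebraMap_mem_map_algebraMap_iff p.primeCompl] at h1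
      obtain ⟨m, hm, hma⟩ := h1
      refine ⟨f * m, Ideal.IsPrime.mul_notMem hp hf hm, ?_⟩
      intro y hy
      rw [Finset.mem_insert] at hy
      rcases hy with rfl | hy
      · rw [mul_assoc]; exact I.mul_mem_left _ hma
      · rw [mul_comm f m, mul_assoc]; exact I.mul_mem_left _ (hfs y hy)
  obtain ⟨f, hf, hfY⟩ := key Y (by rw [← hY]; exact Ideal.subset_span)
  refine ⟨f, hf, ?_⟩
  intro z hz
  rw [← hY] at hz
  refine Submodule.span_induction (p := fun z _ => f * z ∈ I) ?_ ?_ ?_ ?_ hz
  · intro y hy; exact hfY y hy
  · simp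
  · intro x y _ _ hx hy; rw [mul_add]; exact I.add_mem hx hy
  · intro a x _ hx
    rw [smul_eq_mul, mul_left_comm]
    exact I.mul_mem_left _ hx

/-- **Key lemma for Nagata's criterion.** If `A_p` is regular, there is `f ∉ p` such that for
`q ∈ V(p) ∩ D(f)`, regularity of `(A/p)_q` implies regularity of `A_q`. -/
theorem exists_notMem_forall_isRegularLocalRing (A : Type u) [CommRing A] [IsNoetherianRing A]
    (p : Ideal A) [hp : p.IsPrime] (hreg : IsRegularLocalRing (Localization.AtPrime p)) :
    ∃ f : A, f ∉ p ∧ ∀ (q : Ideal A) [q.IsPrime], p ≤ q → f ∉ q →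
      ∀ [(q.map (Ideal.Quotient.mk p)).IsPrime],
        IsRegularLocalRing (Localization.AtPrime (q.map (Ideal.Quotient.mk p))) →
        IsRegularLocalRing (Localization.AtPrime q) := by
  classical
  obtain ⟨X, hXp, hXcard, hXspan⟩ := exists_finset_generators A p
  obtain ⟨f, hf, hfp⟩ := exists_notMem_mul_mem A p (Ideal.span (X : Set A)) hXspan
  refine ⟨f, hf, ?_⟩
  intro q hq hpq hfq hqbar hregq
  have hNq : IsNoetherianRing (Localization.AtPrime q) :=
    IsLocalization.isNoetherianRing q.primeCompl _ inferInstance
  -- generators downstairs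
  obtain ⟨Xb, hXbq, hXbcard, hXbspan⟩ :=
    exists_finset_generators (A ⧸ p) (q.map (Ideal.Quotient.mk p))
  have hsurj : Function.Surjective (Ideal.Quotient.mk p) := Ideal.Quotient.mk_surjective
  let X' : Finset A := Xb.image (Function.surjInv hsurj)
  have hX'img : (Ideal.Quotient.mk p) '' (X' : Set A) = (Xb : Set (A ⧸ p)) := by
    ext y
    simp only [X', Finset.coe_image, Set.mem_image, Finset.mem_coe]
    constructor
    · rintro ⟨x, ⟨z, hz, rfl⟩, rfl⟩
      rw [Function.surjInv_eq hsurj]; exact hz
    · intro hy
      exact ⟨_, ⟨y, hy, rfl⟩, Function.surjInv_eq hsurj y⟩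
  have hX'q : (X' : Set A) ⊆ q := by
    intro a ha
    have h1 : Ideal.Quotient.mk p a ∈ (Xb : Set (A ⧸ p)) := by
      rw [← hX'img]; exact ⟨a, ha, rfl⟩
    exact (Ideal.mem_quotient_iff_mem hpq).mp (hXbq h1)
  -- the maximal ideal of `A_q`
  have hgen : (Ideal.span ((X ∪ X' : Finset A) : Set A)).map
      (algebraMap A (Localization.AtPrime q)) = maximalIdeal (Localization.AtPrime q) := by
    rw [← Localization.AtPrime.map_eq_maximalIdeal]
    apply le_antisymm
    · apply Ideal.map_mono
      rw [Ideal.span_le, Finset.coe_union]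
      exact Set.union_subset (hXp.trans hpq) hX'q
    · rw [Ideal.map_le_iff_le_comap]
      intro z hz
      rw [Ideal.mem_comap, IsLocalization.algebraMap_mem_map_algebraMap_iff q.primeCompl]
      have h1 : algebraMap (A ⧸ p) (Localization.AtPrime (q.map (Ideal.Quotient.mk p)))
          (Ideal.Quotient.mk p z) ∈ (Ideal.span (Xb : Set (A ⧸ p))).map
            (algebraMap (A ⧸ p) (Localization.AtPrime (q.map (Ideal.Quotient.mk p)))) := by
        rw [hXbspan]
        exact (IsLocalization.AtPrime.to_map_mem_maximal_iff _ (q.map (Ideal.Quotient.mk p)) _).mpr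
          ((Ideal.mem_quotient_iff_mem hpq).mpr hz)
      rw [IsLocalization.algebraMap_mem_map_algebraMap_iff
        (q.map (Ideal.Quotient.mk p)).primeCompl] at h1
      obtain ⟨mb, hmb, hmz⟩ := h1
      obtain ⟨m, rfl⟩ := hsurj mb
      have hmq : m ∉ q := fun h => hmb ((Ideal.mem_quotient_iff_mem hpq).mpr h)
      rw [← hX'img, ← Ideal.map_span, ← map_mul,
        Ideal.mem_map_iff_of_surjective _ hsurj] at hmz
      obtain ⟨w, hw, hwz⟩ := hmz
      have hu : m * z - w ∈ p := by
        rw [← Ideal.Quotient.eq_zero_iff_mem, map_sub, hwz, sub_self]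
      refine ⟨f * m, Ideal.IsPrime.mul_notMem hq hfq hmq, ?_⟩
      have h2 : f * m * z = f * w + f * (m * z - w) := by ring
      rw [h2]
      apply Ideal.add_mem
      · apply Ideal.mul_mem_left
        exact Ideal.span_mono (by rw [Finset.coe_union]; exact Set.subset_union_right) hw
      · exact Ideal.span_mono (by rw [Finset.coe_union]; exact Set.subset_union_left)
          (hfp _ hu)
  -- count
  apply IsRegularLocalRing.of_spanFinrank_maximalIdeal_le
  have h1 : (maximalIdeal (Localization.AtPrime q)).spanFinrank ≤ (X ∪ X' : Finset A).card := by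
    rw [← hgen, Ideal.map_span]
    calc (Ideal.span (algebraMap A (Localization.AtPrime q) '' ((X ∪ X' : Finset A) : Set A))).spanFinrank
        ≤ (algebraMap A (Localization.AtPrime q) '' ((X ∪ X' : Finset A) : Set A)).ncard :=
          Submodule.spanFinrank_span_le_ncard_of_finite ((Finset.finite_toSet _).image _)
      _ ≤ ((X ∪ X' : Finset A) : Set A).ncard := Set.ncard_image_le (Finset.finite_toSet _)
      _ = _ := Set.ncard_coe_finset _
  have h2 : (X ∪ X' : Finset A).card ≤ (maximalIdeal (Localization.AtPrime p)).spanFinrank +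
      (maximalIdeal (Localization.AtPrime (q.map (Ideal.Quotient.mk p)))).spanFinrank := by
    calc (X ∪ X' : Finset A).card ≤ X.card + X'.card := Finset.card_union_le _ _
      _ ≤ X.card + Xb.card := by gcongr; exact Finset.card_image_le
      _ ≤ _ := by gcongr
  have h3 := IsRegularLocalRing.spanFinrank_maximalIdeal (R := Localization.AtPrime p)
  have h4 := IsRegularLocalRing.spanFinrank_maximalIdeal
    (R := Localization.AtPrime (q.map (Ideal.Quotient.mk p)))
  rw [IsLocalization.AtPrime.ringKrullDim_eq_height p] at h3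
  rw [IsLocalization.AtPrime.ringKrullDim_eq_height (q.map (Ideal.Quotient.mk p))] at h4
  rw [IsLocalization.AtPrime.ringKrullDim_eq_height q]
  have h5 := Groth.Agent.H8.DimFormula.height_map_mk_add_height_le A p q hpq
  calc ((maximalIdeal (Localization.AtPrime q)).spanFinrank : WithBot ℕ∞)
      ≤ (((maximalIdeal (Localization.AtPrime p)).spanFinrank +
        (maximalIdeal (Localization.AtPrime (q.map (Ideal.Quotient.mk p)))).spanFinrank : ℕ) :
          WithBot ℕ∞) := by exact_mod_cast h1.trans h2
    _ = ((maximalIdeal (Localization.AtPrime p)).spanFinrank : WithBot ℕ∞) +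
        ((maximalIdeal (Localization.AtPrime (q.map (Ideal.Quotient.mk p)))).spanFinrank :
          WithBot ℕ∞) := by push_cast; rfl
    _ = ((p.height : ℕ∞) : WithBot ℕ∞) + (((q.map (Ideal.Quotient.mk p)).height : ℕ∞) :
          WithBot ℕ∞) := by rw [h3, h4]
    _ = (((q.map (Ideal.Quotient.mk p)).height + p.height : ℕ∞) : WithBot ℕ∞) := by
        rw [add_comm]; rfl
    _ ≤ _ := by exact_mod_cast h5

end Groth.Agent.H8.NagataReg
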