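import Mathlib
import Groth.Prelude.Def_EGA4b
import Groth.Agent.H8.NagataRegKey
import Groth.Agent.H8.NagataReg

universe u
open IsLocalRing

namespace Groth.Agent.H8.Nagata

theorem isOpen_regLocus_of_quotients (A : Type u) [CommRing A] [IsNoetherianRing A]
    (h : ∀ p : PrimeSpectrum A, p ∈ EGA4.regLocus A →
      ∃ U : Set (PrimeSpectrum (A ⧸ p.asIdeal)), IsOpen U ∧ U.Nonempty ∧
        U ⊆ EGA4.regLocus (A ⧸ p.asIdeal)) :
    IsOpen (EGA4.regLocus A) := by
  rw [isOpen_regLocus_iff]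
  intro p hp
  obtain ⟨U', hU', hne, hsub⟩ := h p hp
  obtain ⟨f, hf, hfq⟩ :=
    Groth.Agent.H8.NagataReg.exists_notMem_forall_isRegularLocalRing A p.asIdeal hp
  have hsurj : Function.Surjective (Ideal.Quotient.mk p.asIdeal) := Ideal.Quotient.mk_surjective
  have hemb := PrimeSpectrum.isClosedEmbedding_comap_of_surjective (A ⧸ p.asIdeal)
    (Ideal.Quotient.mk p.asIdeal) hsurj
  have hcm : ∀ q : PrimeSpectrum A, p.asIdeal ≤ q.asIdeal →
      (q.asIdeal.map (Ideal.Quotient.mk p.asIdeal)).comap (Ideal.Quotient.mk p.asIdeal) =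
        q.asIdeal := by
    intro q hpq
    rw [Ideal.comap_map_of_surjective _ hsurj, ← RingHom.ker_eq_comap_bot, Ideal.mk_ker]
    exact sup_eq_left.mpr hpq
  refine ⟨(PrimeSpectrum.basicOpen f : Set (PrimeSpectrum A)) ∩
    (PrimeSpectrum.comap (Ideal.Quotient.mk p.asIdeal) '' U'ᶜ)ᶜ, ?_, ?_, ?_⟩
  · refine (PrimeSpectrum.basicOpen f).isOpen.inter ?_
    rw [isOpen_compl_iff]
    exact hemb.isClosedMap _ hU'.isClosed_compl
  · -- nonempty
    have hD : (PrimeSpectrum.basicOpen (Ideal.Quotient.mk p.asIdeal f) :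
        Set (PrimeSpectrum (A ⧸ p.asIdeal))).Nonempty := by
      refine ⟨⟨⊥, Ideal.isPrime_bot⟩, ?_⟩
      rw [PrimeSpectrum.basicOpen_eq_zeroLocus_compl, Set.mem_compl_iff,
        PrimeSpectrum.mem_zeroLocus, Set.singleton_subset_iff]
      change ¬ (Ideal.Quotient.mk p.asIdeal f ∈ (⊥ : Ideal (A ⧸ p.asIdeal)))
      rw [Ideal.mem_bot, Ideal.Quotient.eq_zero_iff_mem]
      exact hf
    obtain ⟨u, huU, huD⟩ := nonempty_preirreducible_inter hU'
      (PrimeSpectrum.basicOpen (Ideal.Quotient.mk p.asIdeal f)).isOpen hne hD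
    refine ⟨PrimeSpectrum.comap (Ideal.Quotient.mk p.asIdeal) u, ⟨?_, ?_⟩, ?_⟩
    · change f ∉ (PrimeSpectrum.comap (Ideal.Quotient.mk p.asIdeal) u).asIdeal
      exact huD
    · rintro ⟨v, hv, hvu⟩
      exact hv ((hemb.injective hvu) ▸ huU)
    · rw [PrimeSpectrum.mem_zeroLocus]
      intro x hx
      change Ideal.Quotient.mk p.asIdeal x ∈ u.asIdeal
      rw [Ideal.Quotient.eq_zero_iff_mem.mpr hx]
      exact u.asIdeal.zero_mem
  · rintro q ⟨⟨hqf, hqU⟩, hqV⟩
    have hpq : p.asIdeal ≤ q.asIdeal := by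
      rw [PrimeSpectrum.mem_zeroLocus] at hqV
      exact hqV
    have hqbar : (q.asIdeal.map (Ideal.Quotient.mk p.asIdeal)).IsPrime :=
      Ideal.map_isPrime_of_surjective hsurj (by rwa [Ideal.mk_ker])
    have hιu : PrimeSpectrum.comap (Ideal.Quotient.mk p.asIdeal)
        ⟨q.asIdeal.map (Ideal.Quotient.mk p.asIdeal), hqbar⟩ = q :=
      PrimeSpectrum.ext (hcm q hpq)
    have huU : (⟨q.asIdeal.map (Ideal.Quotient.mk p.asIdeal), hqbar⟩ :
        PrimeSpectrum (A ⧸ p.asIdeal)) ∈ U' := by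
      by_contra hcon
      exact hqU ⟨_, hcon, hιu⟩
    exact hfq q.asIdeal hpq hqf (hsub huU)

end Groth.Agent.H8.Nagata
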