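import Mathlib
import Groth.Prelude.Def_EGA4b
import Groth.Agent.H8.NagataRegOpen
import Groth.Agent.Lib.Helper47.ArtinianRegular

universe u
open IsLocalRing

namespace Groth.Agent.H8.Nagata

theorem isRegularLocalRing_atPrime_comap_ringEquiv {R₁ R₂ : Type u} [CommRing R₁] [CommRing R₂]
    (e : R₁ ≃+* R₂) (Q : Ideal R₂) [Q.IsPrime] :
    IsRegularLocalRing (Localization.AtPrime (Q.comap e)) ↔
      IsRegularLocalRing (Localization.AtPrime Q) := by
  have H : (Q.comap e).primeCompl.map e.toMonoidHom = Q.primeCompl := by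
    ext y
    constructor
    · rintro ⟨x, hx, rfl⟩
      exact hx
    · intro hy
      refine ⟨e.symm y, ?_, by simp⟩
      change ¬ (e (e.symm y) ∈ Q)
      rwa [RingEquiv.apply_symm_apply]
  let f := IsLocalization.ringEquivOfRingEquiv (Localization.AtPrime (Q.comap e))
    (Localization.AtPrime Q) e H
  exact ⟨fun h => IsRegularLocalRing.of_ringEquiv f, fun h => IsRegularLocalRing.of_ringEquiv f.symm⟩

/-- The generic point of a domain is in the regular locus. -/
theorem bot_mem_regLocus (D : Type u) [CommRing D] [IsDomain D] :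
    (⟨⊥, Ideal.isPrime_bot⟩ : PrimeSpectrum D) ∈ EGA4.regLocus D := by
  change IsRegularLocalRing (Localization.AtPrime (⊥ : Ideal D))
  apply Groth.Agent.Lib.Helper47.isRegularLocalRing_of_isField
  rw [IsLocalRing.isField_iff_maximalIdeal_eq, ← Localization.AtPrime.map_eq_maximalIdeal,
    Ideal.map_bot]

theorem exists_open_regLocus_of_ringEquiv {R₁ R₂ : Type u} [CommRing R₁] [CommRing R₂]
    (e : R₁ ≃+* R₂)
    (h : ∃ U : Set (PrimeSpectrum R₂), IsOpen U ∧ U.Nonempty ∧ U ⊆ EGA4.regLocus R₂) :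
    ∃ U : Set (PrimeSpectrum R₁), IsOpen U ∧ U.Nonempty ∧ U ⊆ EGA4.regLocus R₁ := by
  obtain ⟨U', hU', hne, hsub⟩ := h
  refine ⟨(PrimeSpectrum.comap e.symm.toRingHom) ⁻¹' U', ?_, ?_, ?_⟩
  · exact hU'.preimage (PrimeSpectrum.continuous_comap _)
  · obtain ⟨u', hu'⟩ := hne
    refine ⟨PrimeSpectrum.comap e.toRingHom u', ?_⟩
    rw [Set.mem_preimage]
    convert hu'
    apply PrimeSpectrum.ext
    change (u'.asIdeal.comap e.toRingHom).comap e.symm.toRingHom = u'.asIdeal
    ext x
    change e (e.symm x) ∈ u'.asIdeal ↔ _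
    rw [RingEquiv.apply_symm_apply]
  · intro u hu
    have h1 := hsub hu
    change IsRegularLocalRing (Localization.AtPrime (u.asIdeal.comap e.symm.toRingHom)) at h1
    have h2 := (isRegularLocalRing_atPrime_comap_ringEquiv e
      (u.asIdeal.comap e.symm.toRingHom)).mpr h1
    have h3 : (u.asIdeal.comap e.symm.toRingHom).comap e = u.asIdeal := by
      ext x
      change e.symm (e x) ∈ u.asIdeal ↔ _
      rw [RingEquiv.symm_apply_apply]
    have key : ∀ (q' : Ideal R₁) (hq' : q'.IsPrime), q' = u.asIdeal →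
        IsRegularLocalRing (Localization.AtPrime q') →
          IsRegularLocalRing (Localization.AtPrime u.asIdeal) := by
      rintro q' hq' rfl h
      exact h
    exact key _ _ h3 h2

theorem regLocus_quotients_iff (A : Type u) [CommRing A] [IsNoetherianRing A] :
    (∀ I : Ideal A, IsOpen (EGA4.regLocus (A ⧸ I))) ↔
      ∀ (p : Ideal A) [p.IsPrime],
        ∃ U : Set (PrimeSpectrum (A ⧸ p)), IsOpen U ∧ U.Nonempty ∧ U ⊆ EGA4.regLocus (A ⧸ p) := by
  constructor
  · intro h p _
    exact ⟨EGA4.regLocus (A ⧸ p), h p, ⟨_, bot_mem_regLocus (A ⧸ p)⟩, subset_rfl⟩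
  · intro h I
    apply isOpen_regLocus_of_quotients
    intro P _
    have hsurj : Function.Surjective (Ideal.Quotient.mk I) := Ideal.Quotient.mk_surjective
    have hIp : I ≤ P.asIdeal.comap (Ideal.Quotient.mk I) := by
      intro x hx
      rw [Ideal.mem_comap, Ideal.Quotient.eq_zero_iff_mem.mpr hx]
      exact P.asIdeal.zero_mem
    have hPeq : P.asIdeal = (P.asIdeal.comap (Ideal.Quotient.mk I)).map (Ideal.Quotient.mk I) :=
      (Ideal.map_comap_of_surjective _ hsurj _).symm
    exact exists_open_regLocus_of_ringEquiv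
      ((Ideal.quotEquivOfEq hPeq).trans (DoubleQuot.quotQuotEquivQuotOfLE hIp))
      (h (P.asIdeal.comap (Ideal.Quotient.mk I)))

end Groth.Agent.H8.Nagata
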