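import Groth.Agent.H8.J2Ring
import Groth.Agent.H8.NagataRegOpen
import Groth.Agent.H8.NagataRegQuot

set_option autoImplicit false
universe u

namespace Groth.Agent.H8.J2

/-- the criterion, implication (b) ⇒ J-2 -/
theorem isJ2_of_finite_domains (A : Type u) [CommRing A] [IsNoetherianRing A]
    (hb : ∀ (A' : Type u) [CommRing A'] [IsDomain A'] [Algebra A A'], Module.Finite A A' →
        ∃ U : Set (PrimeSpectrum A'), IsOpen U ∧ U.Nonempty ∧ U ⊆ EGA4.regLocus A') :
    EGA4.IsJ2 A := by
  intro S _ _ hft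
  have hNS : IsNoetherianRing S := Algebra.FiniteType.isNoetherianRing A S
  apply Groth.Agent.H8.Nagata.isOpen_regLocus_of_quotients
  intro P _
  haveI := P.2
  -- the domains A₀ ⊆ B
  have hinj : Function.Injective (algebraMap (A ⧸ P.asIdeal.comap (algebraMap A S)) (S ⧸ P.asIdeal)) :=
    Ideal.algebraMap_quotient_injective
  haveI : (P.asIdeal.comap (algebraMap A S)).IsPrime := inferInstance
  haveI hftB : Algebra.FiniteType A (S ⧸ P.asIdeal) := inferInstance
  haveI : Algebra.FiniteType (A ⧸ P.asIdeal.comap (algebraMap A S)) (S ⧸ P.asIdeal) :=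
    Algebra.FiniteType.of_restrictScalars_finiteType A _ _
  apply exists_open_regLocus_of_finite_domains (A ⧸ P.asIdeal.comap (algebraMap A S)) (S ⧸ P.asIdeal) hinj
  intro A' _ _ _ hfin
  letI : Algebra A A' := ((algebraMap (A ⧸ P.asIdeal.comap (algebraMap A S)) A').comp
    (algebraMap A (A ⧸ P.asIdeal.comap (algebraMap A S)))).toAlgebra
  haveI : IsScalarTower A (A ⧸ P.asIdeal.comap (algebraMap A S)) A' :=
    IsScalarTower.of_algebraMap_eq' rfl
  haveI : Module.Finite A A' := Module.Finite.trans (A ⧸ P.asIdeal.comap (algebraMap A S)) A'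
  exact hb A' inferInstance

end Groth.Agent.H8.J2
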