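import Mathlib
import Groth.Prelude.Def_EGA4b
import Groth.Agent.S0565
import Groth.Agent.Lib.Helper91.GenericFreeness

/-!
# Descent of generic regularity along injective finite type maps of domains (helper8)
-/

set_option autoImplicit false
universe u
open TensorProduct

namespace Groth.Agent.H8.J2

/-- In a domain, a nonempty open subset of the spectrum contains a nonempty basic open. -/
theorem exists_basicOpen_subset {S : Type u} [CommRing S] [IsDomain S]
    {U : Set (PrimeSpectrum S)} (hU : IsOpen U) (hne : U.Nonempty) :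
    ∃ g : S, g ≠ 0 ∧ (PrimeSpectrum.basicOpen g : Set (PrimeSpectrum S)) ⊆ U := by
  obtain ⟨x, hx⟩ := hne
  obtain ⟨_, ⟨g, rfl⟩, hxg, hgU⟩ :=
    PrimeSpectrum.isTopologicalBasis_basic_opens.exists_subset_of_mem_open hx hU
  refine ⟨g, ?_, hgU⟩
  rintro rfl
  exact (PrimeSpectrum.mem_basicOpen _ _).mp hxg (Ideal.zero_mem _)

/-- In a domain, a basic open of a nonzero element is a nonempty open set. -/
theorem basicOpen_nonempty {S : Type u} [CommRing S] [IsDomain S] {g : S} (hg : g ≠ 0) :
    (PrimeSpectrum.basicOpen g : Set (PrimeSpectrum S)).Nonempty := by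
  refine ⟨⟨⊥, Ideal.isPrime_bot⟩, ?_⟩
  change (⟨⊥, Ideal.isPrime_bot⟩ : PrimeSpectrum S) ∈ PrimeSpectrum.basicOpen g
  rw [PrimeSpectrum.mem_basicOpen]
  simpa using hg

/-- Regularity of a localization at a prime, transported along a localization of the ring. -/
theorem isRegularLocalRing_atPrime_of_isLocalization {S : Type u} [CommRing S] (M : Submonoid S)
    (S' : Type u) [CommRing S'] [Algebra S S'] [IsLocalization M S'] (Q : Ideal S') [Q.IsPrime]
    (h : IsRegularLocalRing (Localization.AtPrime (Q.comap (algebraMap S S')))) :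
    IsRegularLocalRing (Localization.AtPrime Q) := by
  have : IsLocalization.AtPrime (Localization.AtPrime Q) (Q.comap (algebraMap S S')) :=
    IsLocalization.isLocalization_isLocalization_atPrime_isLocalization M
      (Localization.AtPrime Q) Q
  exact IsRegularLocalRing.of_ringEquiv
    (IsLocalization.algEquiv (Q.comap (algebraMap S S')).primeCompl
      (Localization.AtPrime (Q.comap (algebraMap S S'))) (Localization.AtPrime Q)).toRingEquiv

/-- Regularity descends along a flat ring map from a localization at a prime to the contracted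
prime. -/
theorem isRegularLocalRing_comap_of_flat (R T : Type u) [CommRing R] [CommRing T]
    [IsNoetherianRing R] [Algebra R T] [Module.Flat R T] (Q : Ideal T) [Q.IsPrime]
    [IsRegularLocalRing (Localization.AtPrime Q)] :
    IsRegularLocalRing (Localization.AtPrime (Q.comap (algebraMap R T))) := by
  have hlies : Q.LiesOver (Q.comap (algebraMap R T)) := ⟨rfl⟩
  let _ := Localization.AtPrime.algebraOfLiesOver (Q.comap (algebraMap R T)) Q
  have hN : IsNoetherianRing (Localization.AtPrime (Q.comap (algebraMap R T))) :=
    IsLocalization.isNoetherianRing (Q.comap (algebraMap R T)).primeCompl _ inferInstance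
  have hflat : Module.Flat (Localization.AtPrime (Q.comap (algebraMap R T)))
      (Localization.AtPrime Q) := inferInstance
  have hloc : IsLocalHom (algebraMap (Localization.AtPrime (Q.comap (algebraMap R T)))
      (Localization.AtPrime Q)) := by
    rw [Localization.AtPrime.IsLiesOverAlgebra.algebraMap_eq]
    exact Localization.isLocalHom_localRingHom _ _ _ _
  exact Groth.Agent.S0565.result (Localization.AtPrime (Q.comap (algebraMap R T)))
    (Localization.AtPrime Q)

theorem isLocalization_tensor_right (R : Type u) [CommRing R] (M : Submonoid R) (Rf S' : Type u)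
    [CommRing Rf] [Algebra R Rf] [IsLocalization M Rf] [CommRing S'] [Algebra R S'] :
    letI : Algebra S' (Rf ⊗[R] S') := Algebra.TensorProduct.rightAlgebra
    IsScalarTower R S' (Rf ⊗[R] S') ∧
    IsLocalization (Algebra.algebraMapSubmonoid S' M) (Rf ⊗[R] S') := by
  let _ : Algebra S' (Rf ⊗[R] S') := Algebra.TensorProduct.rightAlgebra
  have htower : IsScalarTower R S' (Rf ⊗[R] S') := by
    apply IsScalarTower.of_algebraMap_eq
    intro r
    change (algebraMap R Rf r) ⊗ₜ[R] (1 : S') = (1 : Rf) ⊗ₜ[R] (algebraMap R S' r)
    rw [Algebra.algebraMap_eq_smul_one, Algebra.algebraMap_eq_smul_one, TensorProduct.smul_tmul]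
  refine ⟨htower, ?_⟩
  rw [← isLocalizedModule_iff_isLocalization]
  rw [isLocalizedModule_iff_isBaseChange (S := M) (A := Rf)]
  exact TensorProduct.isBaseChange R S' Rf

theorem regular_of_free_tensor (R : Type u) [CommRing R] [IsNoetherianRing R] (f : R)
    (Rf S' : Type u) [CommRing Rf] [Algebra R Rf] [IsLocalization.Away f Rf] [CommRing S']
    [Algebra R S']
    (hreg : ∀ (Q : Ideal S') [Q.IsPrime], IsRegularLocalRing (Localization.AtPrime Q))
    [Module.Free Rf (Rf ⊗[R] S')] [Nontrivial (Rf ⊗[R] S')]
    (p : Ideal R) [hp : p.IsPrime] (hfp : f ∉ p) : IsRegularLocalRing (Localization.AtPrime p) := by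
  let T := Rf ⊗[R] S'
  have hff : Module.FaithfullyFlat Rf T := inferInstance
  have : Module.Flat R Rf := IsLocalization.flat Rf (Submonoid.powers f)
  have hflatT : Module.Flat R T := Module.Flat.trans R Rf T
  have hdisj : Disjoint (Submonoid.powers f : Set R) (p : Set R) := by
    rw [Set.disjoint_left]
    rintro x ⟨n, rfl⟩ hx
    exact hfp (hp.mem_of_pow_mem n hx)
  have hP' : (p.map (algebraMap R Rf)).IsPrime :=
    IsLocalization.isPrime_of_isPrime_disjoint (Submonoid.powers f) Rf _ hp hdisj
  have hP'c : (p.map (algebraMap R Rf)).comap (algebraMap R Rf) = p :=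
    IsLocalization.under_map_of_isPrime_disjoint (Submonoid.powers f) Rf hp hdisj
  obtain ⟨Q, hQ⟩ := PrimeSpectrum.comap_surjective_of_faithfullyFlat (A := Rf) (B := T)
    ⟨p.map (algebraMap R Rf), hP'⟩
  have hQ' : Q.asIdeal.comap (algebraMap Rf T) = p.map (algebraMap R Rf) :=
    congrArg PrimeSpectrum.asIdeal hQ
  have hQR : Q.asIdeal.comap (algebraMap R T) = p := by
    rw [IsScalarTower.algebraMap_eq R Rf T, ← Ideal.comap_comap, hQ', hP'c]
  let algS'T : Algebra S' T := Algebra.TensorProduct.rightAlgebra
  obtain ⟨htower, hloc⟩ := isLocalization_tensor_right R (Submonoid.powers f) Rf S'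
  have hregT : IsRegularLocalRing (Localization.AtPrime Q.asIdeal) :=
    isRegularLocalRing_atPrime_of_isLocalization
      (Algebra.algebraMapSubmonoid S' (Submonoid.powers f)) T Q.asIdeal (hreg _)
  have key := isRegularLocalRing_comap_of_flat R T Q.asIdeal
  have aux : ∀ (r' : Ideal R) [r'.IsPrime], r' = p →
      IsRegularLocalRing (Localization.AtPrime r') →
      IsRegularLocalRing (Localization.AtPrime p) := by
    intro r' _ e
    subst e
    exact id
  exact aux _ hQR key

theorem regLocus_descent (R S : Type u) [CommRing R]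
    [IsDomain R] [IsNoetherianRing R] [CommRing S] [IsDomain S] [Algebra R S] [Algebra.FiniteType R S]
    (hinj : Function.Injective (algebraMap R S))
    (hS : ∃ U : Set (PrimeSpectrum S), IsOpen U ∧ U.Nonempty ∧ U ⊆ EGA4.regLocus S) :
    ∃ U : Set (PrimeSpectrum R), IsOpen U ∧ U.Nonempty ∧ U ⊆ EGA4.regLocus R := by
  obtain ⟨U, hUo, hUne, hUreg⟩ := hS
  obtain ⟨g, hg0, hgU⟩ := exists_basicOpen_subset hUo hUne
  -- the localization S' = S_g
  let S' := Localization.Away g
  have hSS' : Function.Injective (algebraMap S S') :=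
    IsLocalization.injective S' (powers_le_nonZeroDivisors_of_noZeroDivisors hg0)
  have hft : Algebra.FiniteType R S' :=
    Algebra.FiniteType.trans (inferInstanceAs (Algebra.FiniteType R S))
      (IsLocalization.finiteType_of_monoid_fg (Submonoid.powers g) S')
  have hinj' : Function.Injective (algebraMap R S') := by
    rw [IsScalarTower.algebraMap_eq R S S']
    exact hSS'.comp hinj
  obtain ⟨f, hf0, -, hfree, -, -⟩ :=
    Groth.Agent.Lib.Helper91.generic_freeness (R := R) (S := S') (M := S')
  let Rf := Localization.Away f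
  let T := Rf ⊗[R] S'
  have hRf_nt : Nontrivial Rf := by
    have : Function.Injective (algebraMap R Rf) :=
      IsLocalization.injective Rf (powers_le_nonZeroDivisors_of_noZeroDivisors hf0)
    exact this.nontrivial
  -- T is nontrivial
  have hT_nt : Nontrivial T := by
    have h1 : Function.Injective ((Algebra.linearMap R S').lTensor Rf) :=
      Module.Flat.lTensor_preserves_injective_linearMap _ hinj'
    have h2 : Function.Injective (TensorProduct.rid R Rf).symm := (TensorProduct.rid R Rf).symm.injective
    exact (h1.comp h2).nontrivial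
  have hregS' : ∀ (Q : Ideal S') [Q.IsPrime], IsRegularLocalRing (Localization.AtPrime Q) := by
    intro Q hQ
    apply isRegularLocalRing_atPrime_of_isLocalization (Submonoid.powers g) S'
    have hmemU : (⟨Q.comap (algebraMap S S'), inferInstance⟩ : PrimeSpectrum S) ∈ U := by
      apply hgU
      change (⟨_, _⟩ : PrimeSpectrum S) ∈ PrimeSpectrum.basicOpen g
      rw [PrimeSpectrum.mem_basicOpen]
      intro hmem
      have h1 : algebraMap S S' g ∈ Q := hmem
      have h2 : IsUnit (algebraMap S S' g) := IsLocalization.Away.algebraMap_isUnit g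
      exact hQ.ne_top (Ideal.eq_top_of_isUnit_mem _ h1 h2)
    exact hUreg hmemU
  refine ⟨PrimeSpectrum.basicOpen f, (PrimeSpectrum.basicOpen f).isOpen, basicOpen_nonempty hf0, ?_⟩
  intro p hp
  have hfp : f ∉ p.asIdeal := (PrimeSpectrum.mem_basicOpen _ _).mp hp
  exact regular_of_free_tensor R f Rf S' hregS' p.asIdeal hfp

end Groth.Agent.H8.J2
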