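import Mathlib

/-!
# Field theory for the J-2 criterion (helper8)

A finitely generated field extension becomes geometrically reduced (separable) after a finite
extension of the base field.
-/

set_option autoImplicit false
universe u
open TensorProduct

namespace Groth.Agent.H8.J2


/-- the swap `A ⊗ B ≃ B ⊗ A` is `B`-linear for the right structure on the source -/
noncomputable def commRight (K A B : Type u) [CommRing K] [CommRing A] [CommRing B] [Algebra K A]
    [Algebra K B] :
    letI : Algebra B (A ⊗[K] B) := Algebra.TensorProduct.rightAlgebra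
    (A ⊗[K] B) ≃ₗ[B] (B ⊗[K] A) :=
  letI : Algebra B (A ⊗[K] B) := Algebra.TensorProduct.rightAlgebra
  { TensorProduct.comm K A B with
    map_smul' := by
      intro b x
      induction x using TensorProduct.induction_on with
      | zero => simp
      | tmul a b' =>
        simp only [RingHom.id_apply, AddHom.toFun_eq_coe, LinearMap.coe_toAddHom,
          LinearEquiv.coe_coe]
        rw [Algebra.smul_def, Algebra.TensorProduct.right_algebraMap_apply,
          Algebra.TensorProduct.tmul_mul_tmul, one_mul, TensorProduct.comm_tmul,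
          TensorProduct.comm_tmul, TensorProduct.smul_tmul', smul_eq_mul]
      | add x y hx hy =>
        simp only [RingHom.id_apply, AddHom.toFun_eq_coe, LinearMap.coe_toAddHom,
          LinearEquiv.coe_coe] at hx hy ⊢
        rw [smul_add, map_add, map_add, smul_add, hx, hy] }

theorem finrank_tensor_right (K A B : Type u) [Field K] [CommRing A] [CommRing B] [Algebra K A]
    [Algebra K B] [Nontrivial B] :
    letI : Algebra B (A ⊗[K] B) := Algebra.TensorProduct.rightAlgebra
    Module.finrank B (A ⊗[K] B) = Module.finrank K A := by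
  let _ : Algebra B (A ⊗[K] B) := Algebra.TensorProduct.rightAlgebra
  rw [LinearEquiv.finrank_eq (commRight K A B), Module.finrank_baseChange]



/-- if `L/K` is not geometrically reduced, some finite extension `K₁/K` makes `K₁ ⊗ L` non-reduced -/
theorem exists_finite_not_isReduced (K L : Type u) [Field K] [Field L] [Algebra K L]
    (h : ¬ Algebra.IsGeometricallyReduced K L) :
    ∃ (K₁ : Type u) (_ : Field K₁) (_ : Algebra K K₁), Module.Finite K K₁ ∧
      ¬ IsReduced (K₁ ⊗[K] L) := by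
  rw [Algebra.isGeometricallyReduced_field_iff] at h
  have h' : ¬ IsReduced (L ⊗[K] AlgebraicClosure K) := by
    intro hr
    exact h (isReduced_of_injective (Algebra.TensorProduct.comm K (AlgebraicClosure K) L).toRingHom
      (Algebra.TensorProduct.comm K (AlgebraicClosure K) L).injective)
  have h2 : ¬ ∀ B : Subalgebra K (AlgebraicClosure K), B.FG → IsReduced (L ⊗[K] B) :=
    fun hall => h' (IsReduced.tensorProduct_of_flat_of_forall_fg hall)
  push Not at h2
  obtain ⟨B, ⟨s, rfl⟩, hB⟩ := h2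
  have halg : ∀ x ∈ (s : Set (AlgebraicClosure K)), IsAlgebraic K x :=
    fun x _ => Algebra.IsAlgebraic.isAlgebraic x
  let K₁ := IntermediateField.adjoin K (s : Set (AlgebraicClosure K))
  have hK₁ : K₁.toSubalgebra = Algebra.adjoin K (s : Set (AlgebraicClosure K)) :=
    IntermediateField.adjoin_toSubalgebra_of_isAlgebraic halg
  have hfin : Module.Finite K K₁ :=
    IntermediateField.finiteDimensional_adjoin (fun x _ => (halg x ‹_›).isIntegral)
  refine ⟨K₁, inferInstance, inferInstance, hfin, ?_⟩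
  intro hr
  apply hB
  rw [← hK₁]
  exact isReduced_of_injective (Algebra.TensorProduct.comm K L K₁).toRingHom
      (Algebra.TensorProduct.comm K L K₁).injective



/-- conclusion predicate -/
def GoodExt (K L : Type u) [Field K] [Field L] [Algebra K L] : Prop :=
  ∃ (K' L' : Type u) (_ : Field K') (_ : Field L') (_ : Algebra K K') (_ : Algebra K' L')
    (_ : Algebra L L') (_ : Algebra K L') (_ : IsScalarTower K K' L') (_ : IsScalarTower K L L'),
    Module.Finite K K' ∧ Submodule.span K' (Set.range (algebraMap L L')) = ⊤ ∧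
      Algebra.IsGeometricallyReduced K' L'

theorem goodExt_of_isGeometricallyReduced (K L : Type u) [Field K] [Field L] [Algebra K L]
    [Algebra.IsGeometricallyReduced K L] : GoodExt K L := by
  refine ⟨K, L, inferInstance, inferInstance, Algebra.id K, inferInstance, Algebra.id L,
    inferInstance, inferInstance, inferInstance, inferInstance, ?_, inferInstance⟩
  rw [eq_top_iff]
  intro x _
  exact Submodule.subset_span ⟨x, rfl⟩

theorem finrank_lt_of_towers (F F₁ L L₁ : Type u) [Field F] [Field F₁] [Field L] [Field L₁]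
    [Algebra F F₁] [Algebra F₁ L₁] [Algebra F L] [Algebra L L₁] [Algebra F L₁]
    [IsScalarTower F F₁ L₁] [IsScalarTower F L L₁] [Module.Finite F L]
    (h : Module.finrank L L₁ < Module.finrank F F₁) :
    Module.finrank F₁ L₁ < Module.finrank F L := by
  have h1 := Module.finrank_mul_finrank F F₁ L₁
  have h2 := Module.finrank_mul_finrank F L L₁
  have h3 : 0 < Module.finrank F L := Module.finrank_pos
  have h4 : Module.finrank F F₁ * Module.finrank F₁ L₁ <
      Module.finrank F F₁ * Module.finrank F L := by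
    rw [h1, ← h2, mul_comm]
    exact Nat.mul_lt_mul_of_pos_right h h3
  exact Nat.lt_of_mul_lt_mul_left h4

theorem isField_tensor_of_isDomain (K K₁ F : Type u) [Field K] [Field K₁] [Field F] [Algebra K K₁]
    [Algebra K F] [Module.Finite K K₁] [IsDomain (K₁ ⊗[K] F)] : IsField (K₁ ⊗[K] F) := by
  let e := Algebra.TensorProduct.comm K K₁ F
  have hdom : IsDomain (F ⊗[K] K₁) := e.symm.toMulEquiv.isDomain
  have hint : Algebra.IsIntegral F (F ⊗[K] K₁) := Algebra.IsIntegral.of_finite F _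
  have hf : IsField (F ⊗[K] K₁) := isField_of_isIntegral_of_isField' (Field.toIsField F)
  exact e.toMulEquiv.isField hf

theorem free_of_isField {R : Type u} [CommRing R] (h : IsField R) (M : Type u) [AddCommGroup M]
    [inst : Module R M] : Module.Free R M :=
  @Module.Free.of_divisionRing R M h.toField.toDivisionRing _ inst

theorem finrank_lt_of_towers' (F F₁ L L₁ : Type u) [CommRing F] [CommRing F₁] [Field L] [Field L₁]
    (hF : IsField F) (hF₁ : IsField F₁)
    [Algebra F F₁] [Algebra F₁ L₁] [Algebra F L] [Algebra L L₁] [Algebra F L₁]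
    [IsScalarTower F F₁ L₁] [IsScalarTower F L L₁] [Module.Finite F L]
    (h : Module.finrank L L₁ < Module.finrank F F₁) :
    Module.finrank F₁ L₁ < Module.finrank F L := by
  have : Nontrivial F := hF.nontrivial
  have : Nontrivial F₁ := hF₁.nontrivial
  have : IsDomain F := hF.isDomain
  have : Module.Free F F₁ := free_of_isField hF F₁
  have : Module.Free F₁ L₁ := free_of_isField hF₁ L₁
  have : Module.Free F L := free_of_isField hF L
  have h1 := Module.finrank_mul_finrank F F₁ L₁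
  have h2 := Module.finrank_mul_finrank F L L₁
  have h3 : 0 < Module.finrank F L := Module.finrank_pos_iff.mpr inferInstance
  have h4 : Module.finrank F F₁ * Module.finrank F₁ L₁ <
      Module.finrank F F₁ * Module.finrank F L := by
    rw [h1, ← h2, mul_comm]
    exact Nat.mul_lt_mul_of_pos_right h h3
  exact Nat.lt_of_mul_lt_mul_left h4

theorem isField_tensor_of_isDomain' (K K₁ F : Type u) [Field K] [Field K₁] [CommRing F]
    (hFf : IsField F) [Algebra K K₁]
    [Algebra K F] [Module.Finite K K₁] [IsDomain (K₁ ⊗[K] F)] : IsField (K₁ ⊗[K] F) := by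
  let e := Algebra.TensorProduct.comm K K₁ F
  have hdom : IsDomain (F ⊗[K] K₁) := e.symm.toMulEquiv.isDomain
  have hint : Algebra.IsIntegral F (F ⊗[K] K₁) := Algebra.IsIntegral.of_finite F _
  have hf : IsField (F ⊗[K] K₁) := isField_of_isIntegral_of_isField' hFf
  exact e.toMulEquiv.isField hf

set_option maxHeartbeats 800000 in
theorem goodExt_step (K F L K₁ : Type u) [Field K] [CommRing F] (hFf : IsField F) [Field L]
    [Field K₁]
    [Algebra K F] [Algebra F L] [Algebra K L] [IsScalarTower K F L] [Module.Finite F L]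
    [Algebra K K₁] [Module.Finite K K₁]
    (hF : ∀ (K₂ : Type u) [Field K₂] [Algebra K K₂] [Module.Finite K K₂], IsDomain (K₂ ⊗[K] F))
    (hnr : ¬ IsReduced (K₁ ⊗[K] L))
    (ih : ∀ (F₁ L₁ : Type u) [CommRing F₁] (_ : IsField F₁) [Field L₁] [Algebra K₁ F₁]
      [Algebra F₁ L₁] [Algebra K₁ L₁]
      [IsScalarTower K₁ F₁ L₁] [Module.Finite F₁ L₁],
      (∀ (K₂ : Type u) [Field K₂] [Algebra K₁ K₂] [Module.Finite K₁ K₂], IsDomain (K₂ ⊗[K₁] F₁)) →
      Module.finrank F₁ L₁ < Module.finrank F L → GoodExt K₁ L₁) :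
    GoodExt K L := by
  have hFnt : Nontrivial F := hFf.nontrivial
  -- D and R₁
  have hDdom : IsDomain (K₁ ⊗[K] F) := hF K₁
  have hDfield : IsField (K₁ ⊗[K] F) := isField_tensor_of_isDomain' K K₁ F hFf
  have hR₁nt : Nontrivial (K₁ ⊗[K] L) := by
    by_contra hnt
    rw [not_nontrivial_iff_subsingleton] at hnt
    exact hnr ⟨fun x _ => Subsingleton.elim _ _⟩
  obtain ⟨𝔪, h𝔪⟩ := Ideal.exists_maximal (K₁ ⊗[K] L)
  have h𝔪bot : 𝔪 ≠ ⊥ := by
    rintro rfl
    have hfld : IsField (K₁ ⊗[K] L) := Ring.isField_iff_maximal_bot.mpr h𝔪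
    letI := hfld.toField
    exact hnr inferInstance
  haveI := h𝔪
  -- the right algebra structures
  letI algFD : Algebra F (K₁ ⊗[K] F) := Algebra.TensorProduct.rightAlgebra
  letI algLR : Algebra L (K₁ ⊗[K] L) := Algebra.TensorProduct.rightAlgebra
  letI algFR : Algebra F (K₁ ⊗[K] L) :=
    ((algebraMap L (K₁ ⊗[K] L)).comp (algebraMap F L)).toAlgebra
  haveI towFLR : IsScalarTower F L (K₁ ⊗[K] L) := IsScalarTower.of_algebraMap_eq' rfl
  -- D → R₁
  let ι : (K₁ ⊗[K] F) →ₐ[K₁] (K₁ ⊗[K] L) :=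
    Algebra.TensorProduct.map (AlgHom.id K₁ K₁) (IsScalarTower.toAlgHom K F L)
  letI algDR : Algebra (K₁ ⊗[K] F) (K₁ ⊗[K] L) := ι.toRingHom.toAlgebra
  haveI towK₁DR : IsScalarTower K₁ (K₁ ⊗[K] F) (K₁ ⊗[K] L) :=
    IsScalarTower.of_algebraMap_eq (fun k => (ι.commutes k).symm)
  haveI towFDR : IsScalarTower F (K₁ ⊗[K] F) (K₁ ⊗[K] L) := by
    apply IsScalarTower.of_algebraMap_eq
    intro f
    change (1 : K₁) ⊗ₜ[K] (algebraMap F L f) = ι ((1 : K₁) ⊗ₜ[K] f)
    simp [ι]
  -- finiteness and ranks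
  haveI hfinFD : Module.Finite F (K₁ ⊗[K] F) := Module.Finite.equiv (commRight K K₁ F).symm
  haveI hfinLR : Module.Finite L (K₁ ⊗[K] L) := Module.Finite.equiv (commRight K K₁ L).symm
  have hrkD : Module.finrank F (K₁ ⊗[K] F) = Module.finrank K K₁ := finrank_tensor_right K K₁ F
  have hrkR : Module.finrank L (K₁ ⊗[K] L) = Module.finrank K K₁ := finrank_tensor_right K K₁ L
  -- the quotient field
  letI fldL₁ : Field ((K₁ ⊗[K] L) ⧸ 𝔪) := Ideal.Quotient.field 𝔪
  letI modLL₁ : Module L ((K₁ ⊗[K] L) ⧸ 𝔪) := Algebra.toModule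
  let π : (K₁ ⊗[K] L) →ₗ[L] ((K₁ ⊗[K] L) ⧸ 𝔪) := (Ideal.Quotient.mkₐ L 𝔪).toLinearMap
  have hπsurj : Function.Surjective π := Ideal.Quotient.mk_surjective
  have hπker : LinearMap.ker π ≠ ⊥ := by
    intro hker
    apply h𝔪bot
    rw [eq_bot_iff]
    intro x hx
    have : x ∈ LinearMap.ker π := by
      rw [LinearMap.mem_ker]
      exact Ideal.Quotient.eq_zero_iff_mem.mpr hx
    rw [hker] at this
    exact this
  have hrkL₁ : Module.finrank L ((K₁ ⊗[K] L) ⧸ 𝔪) < Module.finrank K K₁ := by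
    have h1 := LinearMap.finrank_range_add_finrank_ker π
    rw [LinearMap.range_eq_top.mpr hπsurj, finrank_top, hrkR] at h1
    have h2 : 0 < Module.finrank L (LinearMap.ker π) := by
      rw [Module.finrank_pos_iff]
      exact (Submodule.nontrivial_iff_ne_bot).mpr hπker
    omega
  have hlt : Module.finrank (K₁ ⊗[K] F) ((K₁ ⊗[K] L) ⧸ 𝔪) < Module.finrank F L :=
    finrank_lt_of_towers' F (K₁ ⊗[K] F) L ((K₁ ⊗[K] L) ⧸ 𝔪) hFf hDfield
      (by rw [hrkD]; exact hrkL₁)
  haveI hfinLL₁ : Module.Finite L ((K₁ ⊗[K] L) ⧸ 𝔪) := Module.Finite.of_surjective π hπsurj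
  haveI hfinFL₁ : Module.Finite F ((K₁ ⊗[K] L) ⧸ 𝔪) := Module.Finite.trans L _
  haveI hfinDL₁ : Module.Finite (K₁ ⊗[K] F) ((K₁ ⊗[K] L) ⧸ 𝔪) :=
    Module.Finite.of_restrictScalars_finite F _ _
  have hF' : ∀ (K₂ : Type u) [Field K₂] [Algebra K₁ K₂] [Module.Finite K₁ K₂],
      IsDomain (K₂ ⊗[K₁] (K₁ ⊗[K] F)) := by
    intro K₂ _ _ _
    letI : Algebra K K₂ := ((algebraMap K₁ K₂).comp (algebraMap K K₁)).toAlgebra
    haveI : IsScalarTower K K₁ K₂ := IsScalarTower.of_algebraMap_eq' rfl
    haveI : Module.Finite K K₂ := Module.Finite.trans K₁ K₂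
    haveI := hF K₂
    exact (Algebra.TensorProduct.cancelBaseChange K K₁ K₂ K₂ F).toMulEquiv.isDomain
  obtain ⟨K', L', fK', fL', aK₁K', aK'L', aL₁L', aK₁L', t1, t2, hfin, hspan, hgr'⟩ :=
    ih (K₁ ⊗[K] F) ((K₁ ⊗[K] L) ⧸ 𝔪) hDfield hF' hlt
  letI aKK' : Algebra K K' := ((algebraMap K₁ K').comp (algebraMap K K₁)).toAlgebra
  letI aLL' : Algebra L L' :=
    ((algebraMap ((K₁ ⊗[K] L) ⧸ 𝔪) L').comp (algebraMap L ((K₁ ⊗[K] L) ⧸ 𝔪))).toAlgebra
  letI aKL' : Algebra K L' := ((algebraMap K' L').comp (algebraMap K K')).toAlgebra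
  have tow1 : IsScalarTower K K' L' := IsScalarTower.of_algebraMap_eq' rfl
  have hcompat : ∀ k : K, algebraMap K₁ ((K₁ ⊗[K] L) ⧸ 𝔪) (algebraMap K K₁ k) =
      algebraMap L ((K₁ ⊗[K] L) ⧸ 𝔪) (algebraMap K L k) := by
    intro k
    change Ideal.Quotient.mk 𝔪 ((algebraMap K K₁ k) ⊗ₜ[K] (1 : L)) =
      Ideal.Quotient.mk 𝔪 ((1 : K₁) ⊗ₜ[K] (algebraMap K L k))
    rw [Algebra.algebraMap_eq_smul_one, Algebra.algebraMap_eq_smul_one, TensorProduct.smul_tmul]
  have tow2 : IsScalarTower K L L' := by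
    apply IsScalarTower.of_algebraMap_eq
    intro k
    change algebraMap K' L' (algebraMap K₁ K' (algebraMap K K₁ k)) =
      algebraMap ((K₁ ⊗[K] L) ⧸ 𝔪) L' (algebraMap L ((K₁ ⊗[K] L) ⧸ 𝔪) (algebraMap K L k))
    rw [← hcompat, ← IsScalarTower.algebraMap_apply K₁ K' L',
      ← IsScalarTower.algebraMap_apply K₁ ((K₁ ⊗[K] L) ⧸ 𝔪) L']
  have hfin' : Module.Finite K K' := by
    haveI : IsScalarTower K K₁ K' := IsScalarTower.of_algebraMap_eq' rfl
    exact Module.Finite.trans K₁ K'
  refine ⟨K', L', fK', fL', aKK', aK'L', aLL', aKL', tow1, tow2, hfin', ?_, hgr'⟩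
  rw [eq_top_iff, ← hspan, Submodule.span_le]
  rintro _ ⟨x₁, rfl⟩
  obtain ⟨x, rfl⟩ := Ideal.Quotient.mk_surjective x₁
  induction x using TensorProduct.induction_on with
  | zero => simp
  | tmul k l =>
    have h1 : (k ⊗ₜ[K] l : K₁ ⊗[K] L) = (k ⊗ₜ[K] (1 : L)) * ((1 : K₁) ⊗ₜ[K] l) := by
      rw [Algebra.TensorProduct.tmul_mul_tmul, mul_one, one_mul]
    have h2 : algebraMap ((K₁ ⊗[K] L) ⧸ 𝔪) L' (Ideal.Quotient.mk 𝔪 (k ⊗ₜ[K] (1 : L))) =
        algebraMap K' L' (algebraMap K₁ K' k) := by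
      rw [← IsScalarTower.algebraMap_apply K₁ K' L',
        IsScalarTower.algebraMap_apply K₁ ((K₁ ⊗[K] L) ⧸ 𝔪) L']
      rfl
    have h3 : algebraMap ((K₁ ⊗[K] L) ⧸ 𝔪) L' (Ideal.Quotient.mk 𝔪 ((1 : K₁) ⊗ₜ[K] l)) =
        algebraMap L L' l := rfl
    rw [h1, map_mul, map_mul, h2, h3, ← Algebra.smul_def]
    exact Submodule.smul_mem _ _ (Submodule.subset_span ⟨l, rfl⟩)
  | add x y hx hy =>
    rw [map_add, map_add]
    exact Submodule.add_mem _ hx hy


/-- the inductive form: `F/K` "geometrically integral" in the weak sense that finite base field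
extensions keep it a domain, `L/F` finite. -/
theorem goodExt_aux : ∀ (n : ℕ) (K F L : Type u) [Field K] [CommRing F] (_ : IsField F) [Field L]
    [Algebra K F] [Algebra F L] [Algebra K L] [IsScalarTower K F L] [Module.Finite F L]
    (_ : ∀ (K₂ : Type u) [Field K₂] [Algebra K K₂] [Module.Finite K K₂], IsDomain (K₂ ⊗[K] F)),
    Module.finrank F L = n → GoodExt K L := by
  intro n
  induction n using Nat.strong_induction_on with
  | _ n ih =>
    intro K F L _ _ hFf _ _ _ _ _ _ hF hn
    by_cases hgr : Algebra.IsGeometricallyReduced K L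
    · exact goodExt_of_isGeometricallyReduced K L
    · obtain ⟨K₁, _, _, hfin, hnr⟩ := exists_finite_not_isReduced K L hgr
      exact goodExt_step K F L K₁ hFf hF hnr
        (fun F₁ L₁ _ hF₁f _ _ _ _ _ _ hF₁ hlt => ih _ (hn ▸ hlt) K₁ F₁ L₁ hF₁f hF₁ rfl)

end Groth.Agent.H8.J2
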