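import Groth.Agent.H8.J2Field
import Groth.Agent.H8.J2Descent

set_option autoImplicit false
universe u
open TensorProduct

namespace Groth.Agent.H8.J2

/-- tensoring a domain-like base change with the fraction field stays a domain -/
theorem isDomain_tensor_fractionField (K P F K₂ : Type u) [Field K] [CommRing P] [Algebra K P]
    [Field F] [Algebra P F] [Algebra K F] [IsScalarTower K P F] [IsFractionRing P F]
    [Field K₂] [Algebra K K₂] (hdom : IsDomain (P ⊗[K] K₂)) : IsDomain (K₂ ⊗[K] F) := by
  have hPdom : IsDomain P :=
    Function.Injective.isDomain (algebraMap P F) (IsFractionRing.injective P F)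
  -- F ⊗[P] (P ⊗[K] K₂) is a localization of P ⊗[K] K₂
  let S' := P ⊗[K] K₂
  let _ : Algebra S' (F ⊗[P] S') := Algebra.TensorProduct.rightAlgebra
  obtain ⟨htower, hloc⟩ := isLocalization_tensor_right P (nonZeroDivisors P) F S'
  have hle : Algebra.algebraMapSubmonoid S' (nonZeroDivisors P) ≤ nonZeroDivisors S' := by
    rintro _ ⟨x, hx, rfl⟩
    have hx0 : x ≠ 0 := nonZeroDivisors.ne_zero hx
    have hinj : Function.Injective (algebraMap P S') := by
      have : Function.Injective (Algebra.TensorProduct.includeLeft : P →ₐ[K] P ⊗[K] K₂) :=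
        Algebra.TensorProduct.includeLeft_injective (algebraMap K K₂).injective
      exact this
    exact mem_nonZeroDivisors_of_ne_zero ((map_ne_zero_iff _ hinj).mpr hx0)
  have hdom1 : IsDomain (F ⊗[P] S') :=
    IsLocalization.isDomain_of_le_nonZeroDivisors (F ⊗[P] S') hle
  have hdom2 : IsDomain (F ⊗[K] K₂) :=
    (Algebra.TensorProduct.cancelBaseChange K P F F K₂).symm.toMulEquiv.isDomain
  exact (Algebra.TensorProduct.comm K K₂ F).toMulEquiv.isDomain


open IntermediateField in
open scoped IntermediateField.algebraAdjoinAdjoin in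
/-- a finitely generated field extension becomes geometrically reduced after a finite base field
extension (and passing to a quotient field of the tensor product) -/
theorem goodExt_of_essFiniteType (K L : Type u) [Field K] [Field L] [Algebra K L]
    [Algebra.EssFiniteType K L] : GoodExt K L := by
  classical
  obtain ⟨s, hs⟩ := IntermediateField.fg_top K L
  have halg0 : Algebra.IsAlgebraic (Algebra.adjoin K (s : Set L)) L := by
    rw [← isAlgebraic_adjoin_iff_top, hs, Algebra.isAlgebraic_iff_isIntegral]
    exact Algebra.isIntegral_of_surjective topEquiv.surjective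
  obtain ⟨t, hts, ht⟩ := exists_isTranscendenceBasis_subset (R := K) (s : Set L)
  have halg : Algebra.IsAlgebraic (IntermediateField.adjoin K (t : Set L)) L := by
    convert! ht.isAlgebraic_field <;> simp
  -- finiteness of L over F
  have hFs : IntermediateField.adjoin (IntermediateField.adjoin K (t : Set L)) (s : Set L) = ⊤ := by
    rw [← IntermediateField.restrictScalars_eq_top_iff (K := K),
      IntermediateField.adjoin_adjoin_left, Set.union_eq_self_of_subset_left hts, hs]
  have hfin0 : FiniteDimensional (IntermediateField.adjoin K (t : Set L))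
      (IntermediateField.adjoin (IntermediateField.adjoin K (t : Set L)) (s : Set L)) :=
    IntermediateField.finiteDimensional_adjoin
      (fun x _ => (Algebra.IsAlgebraic.isAlgebraic x).isIntegral)
  have hfin : Module.Finite (IntermediateField.adjoin K (t : Set L)) L := by
    rw [hFs] at hfin0
    exact Module.Finite.equiv (IntermediateField.topEquiv
      (F := IntermediateField.adjoin K (t : Set L)) (E := L)).toLinearEquiv
  -- the domain property
  have hF : ∀ (K₂ : Type u) [Field K₂] [Algebra K K₂] [Module.Finite K K₂],
      IsDomain (K₂ ⊗[K] (IntermediateField.adjoin K (t : Set L))) := by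
    intro K₂ _ _ _
    apply isDomain_tensor_fractionField K (Algebra.adjoin K (t : Set L))
    have hrange : Set.range ((↑) : t → L) = t := Subtype.range_coe
    let e1 : MvPolynomial t K ≃ₐ[K] Algebra.adjoin K (t : Set L) :=
      (ht.1.aevalEquiv).trans (Subalgebra.equivOfEq _ _ (by rw [hrange]))
    let e2 : (Algebra.adjoin K (t : Set L)) ⊗[K] K₂ ≃ₐ[K] MvPolynomial t K ⊗[K] K₂ :=
      Algebra.TensorProduct.congr e1.symm AlgEquiv.refl
    let e3 : MvPolynomial t K ⊗[K] K₂ ≃ₐ[K] K₂ ⊗[K] MvPolynomial t K :=
      Algebra.TensorProduct.comm K _ _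
    let e4 : K₂ ⊗[K] MvPolynomial t K ≃ₐ[K₂] MvPolynomial t K₂ :=
      MvPolynomial.algebraTensorAlgEquiv K K₂
    have h4 : IsDomain (K₂ ⊗[K] MvPolynomial t K) := e4.toMulEquiv.isDomain
    have h3 : IsDomain (MvPolynomial t K ⊗[K] K₂) := e3.toMulEquiv.isDomain
    exact e2.toMulEquiv.isDomain
  exact goodExt_aux _ K (IntermediateField.adjoin K (t : Set L)) L (Field.toIsField _) hF rfl

end Groth.Agent.H8.J2
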