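import Groth.Agent.H8.J2Semilocal
set_option linter.style.haveILetI false

set_option autoImplicit false
universe u

namespace Groth.Agent.H8.J2

/-- an algebraic finitely generated field extension is finite -/
theorem finite_of_essFiniteType_of_isAlgebraic (K L : Type u) [Field K] [Field L] [Algebra K L]
    [Algebra.EssFiniteType K L] [Algebra.IsAlgebraic K L] : Module.Finite K L := by
  obtain ⟨s, hs⟩ := IntermediateField.fg_top K L
  have hfin0 : FiniteDimensional K (IntermediateField.adjoin K (s : Set L)) :=
    IntermediateField.finiteDimensional_adjoin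
      (fun x _ => (Algebra.IsAlgebraic.isAlgebraic x).isIntegral)
  rw [hs] at hfin0
  exact Module.Finite.equiv (IntermediateField.topEquiv (F := K) (E := L)).toLinearEquiv

/-- the normalization of a finite domain extension of an N-2 domain is finite -/
theorem finite_integralClosure_of_isN2 (R₀ A' : Type u) [CommRing R₀] [IsDomain R₀] [CommRing A']
    [IsDomain A'] [Algebra R₀ A'] [Module.Finite R₀ A'] [FaithfulSMul R₀ A']
    (hN2 : CAlg.IsN2 R₀) :
    Module.Finite A' (integralClosure A' (FractionRing A')) := by
  haveI hint : Algebra.IsIntegral R₀ A' := Algebra.IsIntegral.of_finite R₀ A'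
  haveI : FaithfulSMul R₀ (FractionRing A') := by
    rw [faithfulSMul_iff_algebraMap_injective, IsScalarTower.algebraMap_eq R₀ A' (FractionRing A')]
    exact (IsFractionRing.injective A' (FractionRing A')).comp
      (FaithfulSMul.algebraMap_injective R₀ A')
  letI : Algebra (FractionRing R₀) (FractionRing A') := FractionRing.liftAlgebra R₀ (FractionRing A')
  haveI : IsScalarTower R₀ (FractionRing R₀) (FractionRing A') :=
    FractionRing.isScalarTower_liftAlgebra R₀ (FractionRing A')
  haveI : Algebra.IsAlgebraic (FractionRing R₀) (FractionRing A') :=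
    isAlgebraic_of_isFractionRing R₀ A' (FractionRing R₀) (FractionRing A')
  haveI : Algebra.EssFiniteType A' (FractionRing A') :=
    Algebra.EssFiniteType.of_isLocalization (FractionRing A') (nonZeroDivisors A')
  haveI : Algebra.EssFiniteType R₀ (FractionRing A') :=
    Algebra.EssFiniteType.comp R₀ A' (FractionRing A')
  haveI : Algebra.EssFiniteType (FractionRing R₀) (FractionRing A') :=
    Algebra.EssFiniteType.of_comp R₀ (FractionRing R₀) (FractionRing A')
  have hfd : FiniteDimensional (FractionRing R₀) (FractionRing A') :=
    finite_of_essFiniteType_of_isAlgebraic _ _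
  have hfin0 : Module.Finite R₀ (integralClosure R₀ (FractionRing A')) := hN2 (FractionRing A') hfd
  have hfg0 : (integralClosure R₀ (FractionRing A')).toSubmodule.FG :=
    Module.Finite.iff_fg.mp hfin0
  obtain ⟨T, hT⟩ := hfg0
  suffices h : (integralClosure A' (FractionRing A')).toSubmodule.FG from Module.Finite.iff_fg.mpr h
  refine ⟨T, ?_⟩
  apply le_antisymm
  · rw [Submodule.span_le]
    intro t ht
    have h1 : t ∈ (integralClosure R₀ (FractionRing A')).toSubmodule := by
      rw [← hT]; exact Submodule.subset_span ht
    exact IsIntegral.tower_top (R := R₀) h1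
  · intro x hx
    have hx' : IsIntegral A' x := hx
    have h1 : IsIntegral R₀ x := isIntegral_trans x hx'
    have h2 : x ∈ Submodule.span R₀ (T : Set (FractionRing A')) := by
      rw [hT]; exact h1
    exact Submodule.span_le_restrictScalars R₀ A' _ h2


/-- a Nagata ring of dimension `≤ 1` is J-2 -/
theorem isJ2_of_isNagata_of_dim_le_one (R : Type u) [CommRing R] (hR : CAlg.IsNagata R)
    (hdim : ringKrullDim R ≤ 1) : EGA4.IsJ2 R := by
  haveI hRN : IsNoetherianRing R := hR.1
  apply isJ2_of_finite_domains
  intro A' _ _ _ hfin
  haveI hintRA' : Algebra.IsIntegral R A' := Algebra.IsIntegral.of_finite R A'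
  haveI hNA' : IsNoetherianRing A' := Algebra.FiniteType.isNoetherianRing R A'
  -- the N-2 quotient domain
  haveI hprime : (RingHom.ker (algebraMap R A')).IsPrime := RingHom.ker_isPrime _
  letI : Algebra (R ⧸ RingHom.ker (algebraMap R A')) A' :=
    (RingHom.kerLift (algebraMap R A')).toAlgebra
  haveI : IsScalarTower R (R ⧸ RingHom.ker (algebraMap R A')) A' :=
    IsScalarTower.of_algebraMap_eq (fun x => rfl)
  haveI : Module.Finite (R ⧸ RingHom.ker (algebraMap R A')) A' :=
    Module.Finite.of_restrictScalars_finite R _ _
  haveI : FaithfulSMul (R ⧸ RingHom.ker (algebraMap R A')) A' := by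
    rw [faithfulSMul_iff_algebraMap_injective]
    exact RingHom.kerLift_injective (algebraMap R A')
  haveI hfinN : Module.Finite A' (integralClosure A' (FractionRing A')) :=
    finite_integralClosure_of_isN2 (R ⧸ RingHom.ker (algebraMap R A')) A' (hR.2 _)
  -- the normalization is a Dedekind domain
  haveI hNN : IsNoetherianRing (integralClosure A' (FractionRing A')) :=
    Algebra.FiniteType.isNoetherianRing A' _
  haveI hIC : IsIntegrallyClosed (integralClosure A' (FractionRing A')) :=
    integralClosure.isIntegrallyClosedOfFiniteExtension (FractionRing A')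
  haveI hintN : Algebra.IsIntegral R (integralClosure A' (FractionRing A')) :=
    Algebra.IsIntegral.trans A'
  haveI hD1 : Ring.DimensionLEOne (integralClosure A' (FractionRing A')) :=
    ⟨fun {q} hq0 hq => isMaximal_of_isIntegral_of_dim_le_one R _ hdim q hq0⟩
  haveI hDed : IsDedekindDomain (integralClosure A' (FractionRing A')) :=
    { toIsDomain := inferInstance
      toIsDedekindRing := { } }
  have hinj : Function.Injective (algebraMap A' (integralClosure A' (FractionRing A'))) := by
    intro x y hxy
    apply IsFractionRing.injective A' (FractionRing A')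
    exact congrArg Subtype.val hxy
  exact regLocus_descent A' (integralClosure A' (FractionRing A')) hinj
    ⟨Set.univ, isOpen_univ, ⟨⟨⊥, Ideal.isPrime_bot⟩, trivial⟩,
      regLocus_eq_univ_of_isDedekindDomain _⟩

end Groth.Agent.H8.J2
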