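import Groth.Agent.H8.J2Ascent
import Groth.Agent.H8.J2Field2

set_option autoImplicit false
universe u
open TensorProduct

namespace Groth.Agent.H8.J2

/-- A subalgebra `S` of a field `E` over `K = Frac R` is a fraction-ring model of `E` as soon as a
`K`-spanning set of `E` consists of fractions of elements of `S`. -/
theorem isFractionRing_subalgebra_of_span (R K E : Type u) [CommRing R] [IsDomain R] [Field K]
    [Algebra R K] [IsFractionRing R K] [Field E] [Algebra K E] [Algebra R E] [IsScalarTower R K E]
    (S : Subalgebra R E) (T : Set E) (hT : Submodule.span K T = ⊤)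
    (hfrac : ∀ t ∈ T, ∃ x ∈ S, ∃ y ∈ S, y ≠ 0 ∧ t * y = x) :
    IsFractionRing S E := by
  have hmain : ∀ z : E, ∃ x ∈ S, ∃ y ∈ S, y ≠ 0 ∧ z * y = x := by
    intro z
    have hz : z ∈ Submodule.span K T := by rw [hT]; trivial
    induction hz using Submodule.span_induction with
    | mem t ht => exact hfrac t ht
    | zero => exact ⟨0, S.zero_mem, 1, S.one_mem, one_ne_zero, by simp⟩
    | add z₁ z₂ _ _ h₁ h₂ =>
      obtain ⟨x₁, hx₁, y₁, hy₁, hy₁0, e₁⟩ := h₁
      obtain ⟨x₂, hx₂, y₂, hy₂, hy₂0, e₂⟩ := h₂
      refine ⟨x₁ * y₂ + x₂ * y₁, S.add_mem (S.mul_mem hx₁ hy₂) (S.mul_mem hx₂ hy₁), y₁ * y₂,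
        S.mul_mem hy₁ hy₂, mul_ne_zero hy₁0 hy₂0, ?_⟩
      rw [← e₁, ← e₂]; ring
    | smul c z _ h =>
      obtain ⟨x, hx, y, hy, hy0, e⟩ := h
      obtain ⟨a, b, hb, rfl⟩ := IsFractionRing.div_surjective (A := R) c
      have hb0 : algebraMap R E b ≠ 0 := by
        rw [IsScalarTower.algebraMap_apply R K E]
        have : algebraMap R K b ≠ 0 := IsFractionRing.to_map_ne_zero_of_mem_nonZeroDivisors hb
        exact (map_ne_zero_iff _ (algebraMap K E).injective).mpr this
      refine ⟨algebraMap R E a * x, S.mul_mem (S.algebraMap_mem a) hx, algebraMap R E b * y,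
        S.mul_mem (S.algebraMap_mem b) hy, mul_ne_zero hb0 hy0, ?_⟩
      rw [← e, Algebra.smul_def, map_div₀, ← IsScalarTower.algebraMap_apply R K E,
        ← IsScalarTower.algebraMap_apply R K E]
      field_simp
  have : FaithfulSMul S E := by
    rw [faithfulSMul_iff_algebraMap_injective]
    exact Subtype.val_injective
  apply IsFractionRing.of_field
  intro z
  obtain ⟨x, hx, y, hy, hy0, e⟩ := hmain z
  refine ⟨⟨x, hx⟩, ⟨y, hy⟩, ?_⟩
  change z = x / y
  rw [← e]
  field_simp

set_option maxHeartbeats 800000 in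
/-- second half of the ring-level construction: `A'` abstract -/
theorem exists_open_regLocus_of_goodExt_aux (A₀ B A' L K' L' : Type u) [CommRing A₀] [IsDomain A₀]
    [IsNoetherianRing A₀] [CommRing B] [IsDomain B] [Algebra A₀ B] [Algebra.FiniteType A₀ B]
    [Field L] [Algebra B L] [IsFractionRing B L]
    [CommRing A'] [IsDomain A'] [Algebra A₀ A'] [Module.Finite A₀ A']
    [Field K'] [Field L'] [Algebra A' K'] [IsFractionRing A' K'] [Algebra K' L'] [Algebra L L']
    [Algebra A₀ L'] [Algebra A' L'] [Algebra B L'] [IsScalarTower A' K' L'] [IsScalarTower A₀ A' L']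
    [IsScalarTower B L L'] [IsScalarTower A₀ B L']
    (hspan : Submodule.span K' (Set.range (algebraMap L L')) = ⊤)
    [Algebra.IsGeometricallyReduced K' L']
    (hA' : ∃ U : Set (PrimeSpectrum A'), IsOpen U ∧ U.Nonempty ∧ U ⊆ EGA4.regLocus A') :
 ∃ U : Set (PrimeSpectrum B), IsOpen U ∧ U.Nonempty ∧ U ⊆ EGA4.regLocus B := by
  classical
  have hNB : IsNoetherianRing B := Algebra.FiniteType.isNoetherianRing A₀ B
  have hNA' : IsNoetherianRing A' := Algebra.FiniteType.isNoetherianRing A₀ A'
  have hinjBL' : Function.Injective (algebraMap B L') := by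
    rw [IsScalarTower.algebraMap_eq B L L']
    exact (algebraMap L L').injective.comp (IsFractionRing.injective B L)
  have hinjA'L' : Function.Injective (algebraMap A' L') := by
    rw [IsScalarTower.algebraMap_eq A' K' L']
    exact (algebraMap K' L').injective.comp (IsFractionRing.injective A' K')
  let φ : B →ₐ[A₀] L' := IsScalarTower.toAlgHom A₀ B L'
  let B' : Subalgebra A' L' := Algebra.adjoin A' (Set.range (algebraMap B L'))
  have hBB' : ∀ b : B, algebraMap B L' b ∈ B' := fun b => Algebra.subset_adjoin ⟨b, rfl⟩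
  -- finite generation of B' over A'
  have hfg : B'.FG := by
    obtain ⟨s, hs⟩ := (Algebra.FiniteType.out : (⊤ : Subalgebra A₀ B).FG)
    refine ⟨s.image φ, ?_⟩
    apply le_antisymm
    · exact Algebra.adjoin_mono (by
        rintro _ hx
        rw [Finset.coe_image] at hx
        obtain ⟨b, -, rfl⟩ := hx
        exact ⟨b, rfl⟩)
    · apply Algebra.adjoin_le
      rintro _ ⟨b, rfl⟩
      have hb : b ∈ Algebra.adjoin A₀ (s : Set B) := by rw [hs]; trivial
      have h1 : φ b ∈ Subalgebra.map φ (Algebra.adjoin A₀ (s : Set B)) := ⟨b, hb, rfl⟩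
      rw [AlgHom.map_adjoin] at h1
      have h2 : Algebra.adjoin A₀ (φ '' (s : Set B)) ≤
          (Algebra.adjoin A' ((s.image φ : Finset L') : Set L')).restrictScalars A₀ := by
        apply Algebra.adjoin_le
        intro x hx
        apply Algebra.subset_adjoin
        rw [Finset.coe_image]
        exact hx
      exact h2 h1
  haveI hftA'B' : Algebra.FiniteType A' B' := (Subalgebra.fg_iff_finiteType B').mp hfg
  -- B' as a B-algebra
  let ψ : B →+* B' := (algebraMap B L').codRestrict B' hBB'
  letI algBB' : Algebra B B' := ψ.toAlgebra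
  haveI towBB'L' : IsScalarTower B B' L' := IsScalarTower.of_algebraMap_eq' rfl
  have hinjBB' : Function.Injective (algebraMap B B') := by
    intro x y hxy
    apply hinjBL'
    exact congrArg Subtype.val hxy
  haveI towA₀A'B' : IsScalarTower A₀ A' B' := inferInstance
  haveI towA₀BB' : IsScalarTower A₀ B B' := by
    apply IsScalarTower.of_algebraMap_eq
    intro a
    apply Subtype.ext
    change algebraMap A₀ L' a = algebraMap B L' (algebraMap A₀ B a)
    rw [← IsScalarTower.algebraMap_apply A₀ B L']
  haveI hftA₀B' : Algebra.FiniteType A₀ B' := Algebra.FiniteType.trans (S := A') inferInstance hftA'B'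
  haveI hftBB' : Algebra.FiniteType B B' := Algebra.FiniteType.of_restrictScalars_finiteType A₀ B B'
  haveI hfaith : FaithfulSMul A' B' := by
    rw [faithfulSMul_iff_algebraMap_injective]
    intro x y hxy
    apply hinjA'L'
    have := congrArg Subtype.val hxy
    exact this
  -- fraction field of B'
  haveI hfracB' : IsFractionRing B' L' := by
    apply isFractionRing_subalgebra_of_span A' K' L' B' (Set.range (algebraMap L L')) hspan
    rintro _ ⟨l, rfl⟩
    obtain ⟨b, b₀, hb₀, rfl⟩ := IsFractionRing.div_surjective (A := B) l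
    have hb₀0 : algebraMap B L b₀ ≠ 0 := IsFractionRing.to_map_ne_zero_of_mem_nonZeroDivisors hb₀
    refine ⟨algebraMap B L' b, hBB' b, algebraMap B L' b₀, hBB' b₀, ?_, ?_⟩
    · rw [IsScalarTower.algebraMap_apply B L L']
      exact (map_ne_zero_iff _ (algebraMap L L').injective).mpr hb₀0
    · rw [IsScalarTower.algebraMap_apply B L L', IsScalarTower.algebraMap_apply B L L', ← map_mul,
        div_mul_cancel₀ _ hb₀0]
  exact regLocus_descent B B' hinjBB' (regLocus_ascent_separable A' B' K' L' hA')


set_option maxHeartbeats 800000 in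
/-- the ring-level construction from a good base field extension -/
theorem exists_open_regLocus_of_goodExt (A₀ B K L K' L' : Type u) [CommRing A₀] [IsDomain A₀]
    [IsNoetherianRing A₀] [CommRing B] [IsDomain B] [Algebra A₀ B] [Algebra.FiniteType A₀ B]
    [Field K] [Field L] [Algebra A₀ K] [IsFractionRing A₀ K] [Algebra B L] [IsFractionRing B L]
    [Algebra K L] [Algebra A₀ L] [IsScalarTower A₀ K L] [IsScalarTower A₀ B L]
    [Field K'] [Field L'] [Algebra K K'] [Algebra K' L'] [Algebra L L'] [Algebra K L']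
    [IsScalarTower K K' L'] [IsScalarTower K L L'] [Module.Finite K K']
    (hspan : Submodule.span K' (Set.range (algebraMap L L')) = ⊤)
    [Algebra.IsGeometricallyReduced K' L']
    (hb : ∀ (A' : Type u) [CommRing A'] [IsDomain A'] [Algebra A₀ A'], Module.Finite A₀ A' →
      ∃ U : Set (PrimeSpectrum A'), IsOpen U ∧ U.Nonempty ∧ U ⊆ EGA4.regLocus A') :
    ∃ U : Set (PrimeSpectrum B), IsOpen U ∧ U.Nonempty ∧ U ⊆ EGA4.regLocus B := by
  classical
  letI algA₀K' : Algebra A₀ K' := ((algebraMap K K').comp (algebraMap A₀ K)).toAlgebra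
  haveI towA₀KK' : IsScalarTower A₀ K K' := IsScalarTower.of_algebraMap_eq' rfl
  letI algA₀L' : Algebra A₀ L' := ((algebraMap K' L').comp (algebraMap A₀ K')).toAlgebra
  haveI towA₀K'L' : IsScalarTower A₀ K' L' := IsScalarTower.of_algebraMap_eq' rfl
  letI algBL' : Algebra B L' := ((algebraMap L L').comp (algebraMap B L)).toAlgebra
  haveI towBLL' : IsScalarTower B L L' := IsScalarTower.of_algebraMap_eq' rfl
  haveI towA₀BL' : IsScalarTower A₀ B L' := by
    apply IsScalarTower.of_algebraMap_eq
    intro a
    change algebraMap K' L' (algebraMap K K' (algebraMap A₀ K a)) =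
      algebraMap L L' (algebraMap B L (algebraMap A₀ B a))
    rw [← IsScalarTower.algebraMap_apply K K' L', IsScalarTower.algebraMap_apply K L L',
      ← IsScalarTower.algebraMap_apply A₀ K L, ← IsScalarTower.algebraMap_apply A₀ B L]
  -- a finite spanning set of integral elements
  obtain ⟨s₀, hs₀⟩ := (Module.finite_def.mp (inferInstance : Module.Finite K K'))
  haveI : Algebra.IsAlgebraic A₀ K := IsLocalization.isAlgebraic K (nonZeroDivisors A₀)
  haveI : Algebra.IsAlgebraic K K' := Algebra.IsAlgebraic.of_finite K K'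
  haveI : Algebra.IsAlgebraic A₀ K' := Algebra.IsAlgebraic.trans A₀ K K'
  obtain ⟨y, hy0, hy⟩ := Algebra.IsAlgebraic.exists_integral_multiples A₀ s₀
  let S₁ : Finset K' := s₀.image (fun x => y • x)
  let A' : Subalgebra A₀ K' := Algebra.adjoin A₀ (S₁ : Set K')
  have hS₁int : ∀ x ∈ (S₁ : Set K'), IsIntegral A₀ x := by
    intro x hx
    rw [Finset.coe_image] at hx
    obtain ⟨x₀, hx₀, rfl⟩ := hx
    exact hy x₀ hx₀
  haveI hfinA' : Module.Finite A₀ A' :=
    Module.Finite.iff_fg.mpr (fg_adjoin_of_finite S₁.finite_toSet hS₁int)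
  have hyK : algebraMap A₀ K y ≠ 0 :=
    IsFractionRing.to_map_ne_zero_of_mem_nonZeroDivisors (mem_nonZeroDivisors_of_ne_zero hy0)
  have hspanS₁ : Submodule.span K (S₁ : Set K') = ⊤ := by
    rw [eq_top_iff, ← hs₀, Submodule.span_le]
    intro x hx
    have h1 : y • x ∈ Submodule.span K (S₁ : Set K') :=
      Submodule.subset_span (Finset.mem_image_of_mem _ hx)
    have h2 : x = (algebraMap A₀ K y)⁻¹ • (y • x) := by
      rw [← algebraMap_smul K y x, smul_smul, inv_mul_cancel₀ hyK, one_smul]
    rw [h2]
    exact Submodule.smul_mem _ _ h1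
  haveI hfracA' : IsFractionRing A' K' := by
    apply isFractionRing_subalgebra_of_span A₀ K K' A' (S₁ : Set K') hspanS₁
    intro t ht
    exact ⟨t, Algebra.subset_adjoin ht, 1, A'.one_mem, one_ne_zero, mul_one t⟩
  exact exists_open_regLocus_of_goodExt_aux A₀ B A' L K' L' hspan (hb A' hfinA')


/-- **Key step of the J-2 criterion**: over a Noetherian domain `A₀` all of whose finite domain
extensions are generically regular, every finite type domain extension is generically regular. -/
theorem exists_open_regLocus_of_finite_domains (A₀ B : Type u) [CommRing A₀] [IsDomain A₀]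
    [IsNoetherianRing A₀] [CommRing B] [IsDomain B] [Algebra A₀ B] [Algebra.FiniteType A₀ B]
    (hinj : Function.Injective (algebraMap A₀ B))
    (hb : ∀ (A' : Type u) [CommRing A'] [IsDomain A'] [Algebra A₀ A'], Module.Finite A₀ A' →
      ∃ U : Set (PrimeSpectrum A'), IsOpen U ∧ U.Nonempty ∧ U ⊆ EGA4.regLocus A') :
    ∃ U : Set (PrimeSpectrum B), IsOpen U ∧ U.Nonempty ∧ U ⊆ EGA4.regLocus B := by
  haveI : FaithfulSMul A₀ (FractionRing B) := by
    rw [faithfulSMul_iff_algebraMap_injective, IsScalarTower.algebraMap_eq A₀ B (FractionRing B)]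
    exact (IsFractionRing.injective B (FractionRing B)).comp hinj
  letI : Algebra (FractionRing A₀) (FractionRing B) := FractionRing.liftAlgebra A₀ (FractionRing B)
  haveI : IsScalarTower A₀ (FractionRing A₀) (FractionRing B) :=
    FractionRing.isScalarTower_liftAlgebra A₀ (FractionRing B)
  haveI : Algebra.EssFiniteType B (FractionRing B) :=
    Algebra.EssFiniteType.of_isLocalization (FractionRing B) (nonZeroDivisors B)
  haveI : Algebra.EssFiniteType A₀ (FractionRing B) := Algebra.EssFiniteType.comp A₀ B (FractionRing B)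
  haveI : Algebra.EssFiniteType (FractionRing A₀) (FractionRing B) :=
    Algebra.EssFiniteType.of_comp A₀ (FractionRing A₀) (FractionRing B)
  obtain ⟨K', L', fK', fL', a1, a2, a3, a4, t1, t2, hfin, hspan, hgr⟩ :=
    goodExt_of_essFiniteType (FractionRing A₀) (FractionRing B)
  exact exists_open_regLocus_of_goodExt A₀ B (FractionRing A₀) (FractionRing B) K' L' hspan hb

end Groth.Agent.H8.J2
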