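import Mathlib
import Groth.Agent.H8.RegSeqComp
import Groth.Agent.Lib.Helper47.H1RegularInter

/-!
# Presenting a localization of `A[X]/I` as a complete intersection (helper8)

If `I ⊆ R = A[X₁,…,Xₙ]` becomes generated by a weakly regular sequence in `R[1/h]`, then
`(R/I)[1/h]` is the quotient of `A[X₀,…,Xₙ]` by a regular sequence.
-/

set_option autoImplicit false
universe u

namespace Groth.Agent.H8.LCIPresentation

open RingTheory.Sequence Polynomial

/-- `h T - 1` is a non-zero-divisor of `R[T]`. -/
theorem isSMulRegular_C_mul_X_sub_one {R : Type u} [CommRing R] (h : R) :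
    IsSMulRegular (Polynomial R) (C h * X - 1 : Polynomial R) := by
  intro p q hpq
  simp only [smul_eq_mul] at hpq
  have hu : IsUnit ((C h * X - 1 : Polynomial R) : PowerSeries R) := by
    rw [PowerSeries.isUnit_iff_constantCoeff]
    simp
  have h1 : ((C h * X - 1 : Polynomial R) : PowerSeries R) * (p : PowerSeries R) =
      ((C h * X - 1 : Polynomial R) : PowerSeries R) * (q : PowerSeries R) := by
    rw [← Polynomial.coe_mul, ← Polynomial.coe_mul, hpq]
  exact Polynomial.coe_injective R (hu.mul_left_cancel h1)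

/-- The surjection `R[T] → R[1/h]`, `T ↦ 1/h`. -/
noncomputable def toAway {R : Type u} [CommRing R] (h : R) :
    Polynomial R →+* Localization.Away h :=
  ((Localization.awayEquivAdjoin h).symm : AdjoinRoot (C h * X - 1) →+* Localization.Away h).comp
    (AdjoinRoot.mk (C h * X - 1))

theorem toAway_surjective {R : Type u} [CommRing R] (h : R) :
    Function.Surjective (toAway h) :=
  (Localization.awayEquivAdjoin h).symm.surjective.comp AdjoinRoot.mk_surjective

theorem toAway_C {R : Type u} [CommRing R] (h r : R) :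
    toAway h (C r) = algebraMap R (Localization.Away h) r := by
  simp only [toAway, RingHom.comp_apply]
  have : AdjoinRoot.mk (C h * X - 1) (C r) = algebraMap R (AdjoinRoot (C h * X - 1)) r := rfl
  rw [this]
  exact (Localization.awayEquivAdjoin h).symm.commutes r

theorem ker_toAway {R : Type u} [CommRing R] (h : R) :
    RingHom.ker (toAway h) = Ideal.ofList [(C h * X - 1 : Polynomial R)] := by
  rw [Ideal.ofList_singleton]
  ext p
  simp only [toAway, RingHom.mem_ker, RingHom.comp_apply]
  rw [show ((Localization.awayEquivAdjoin h).symm : AdjoinRoot (C h * X - 1) →+*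
      Localization.Away h) (AdjoinRoot.mk (C h * X - 1) p) =
      (Localization.awayEquivAdjoin h).symm (AdjoinRoot.mk (C h * X - 1) p) from rfl,
    EmbeddingLike.map_eq_zero_iff, AdjoinRoot.mk_eq_zero, Ideal.mem_span_singleton]

/-- If `I` becomes generated by a weakly regular sequence in `A[X₁..Xₙ][1/h]` and `(A[X]/I)[1/h]` is
nonzero, then `(A[X]/I)[1/h]` is the quotient of `A[X₀..Xₙ]` by a regular sequence. -/
theorem exists_presentation (A : Type u) [CommRing A] (n : ℕ)
    (I : Ideal (MvPolynomial (Fin n) A))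
    (h : MvPolynomial (Fin n) A) (as : List (MvPolynomial (Fin n) A))
    (hreg : IsWeaklyRegular (Localization.Away h)
      (as.map (algebraMap (MvPolynomial (Fin n) A) (Localization.Away h))))
    (hI : I.map (algebraMap (MvPolynomial (Fin n) A) (Localization.Away h)) =
      Ideal.ofList (as.map (algebraMap (MvPolynomial (Fin n) A) (Localization.Away h))))
    [Nontrivial (Localization.Away (Ideal.Quotient.mk I h))] :
    ∃ (d : ℕ) (P : Fin d → MvPolynomial (Fin (n + 1)) A),
      IsRegular (MvPolynomial (Fin (n + 1)) A) (List.ofFn P) ∧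
      Nonempty (Localization.Away (Ideal.Quotient.mk I h) ≃ₐ[A]
        (MvPolynomial (Fin (n + 1)) A ⧸ Ideal.ofList (List.ofFn P))) := by
  set g := Ideal.Quotient.mk I h with hg
  set φ1 : Polynomial (MvPolynomial (Fin n) A) →+* Localization.Away h := toAway h with hφ1
  set φ2 : Localization.Away h →+* Localization.Away g :=
    Localization.awayMap (Ideal.Quotient.mk I) h with hφ2
  have hφ2s : Function.Surjective φ2 := Groth.Agent.Lib.Helper47.awayMap_mk_surjective I h
  have hφ2k : RingHom.ker φ2 = I.map (algebraMap _ (Localization.Away h)) :=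
    Groth.Agent.Lib.Helper47.ker_awayMap_mk I h
  let E := MvPolynomial.finSuccEquiv A n
  set P0 : Polynomial (MvPolynomial (Fin n) A) := C h * X - 1 with hP0
  have hmap : (as.map C).map φ1 = as.map (algebraMap _ (Localization.Away h)) := by
    rw [List.map_map]
    exact List.map_congr_left fun a _ => toAway_C h a
  set L0 : List (Polynomial (MvPolynomial (Fin n) A)) := [P0] ++ as.map C with hL0
  have hL0reg : IsWeaklyRegular (Polynomial (MvPolynomial (Fin n) A)) L0 := by
    refine Groth.Agent.H8.RegSeqComp.isWeaklyRegular_append_of_surjective φ1 (toAway_surjective h)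
      [P0] (ker_toAway h) ?_ (as.map C) (by rw [hmap]; exact hreg)
    rw [isWeaklyRegular_singleton_iff]
    exact isSMulRegular_C_mul_X_sub_one h
  have hker : RingHom.ker (φ2.comp φ1) = Ideal.ofList L0 := by
    rw [← RingHom.comap_ker, hφ2k, hI, ← hmap]
    exact Groth.Agent.H8.RegSeqComp.comap_ofList_map φ1 (toAway_surjective h) [P0] (ker_toAway h) _
  -- the algebra map
  let Ψr : MvPolynomial (Fin (n + 1)) A →+* Localization.Away g :=
    (φ2.comp φ1).comp (E : MvPolynomial (Fin (n + 1)) A →+* _)
  have hcomm : ∀ a : A, Ψr (algebraMap A _ a) = algebraMap A (Localization.Away g) a := by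
    intro a
    simp only [Ψr, RingHom.comp_apply]
    have h1 : (E : MvPolynomial (Fin (n + 1)) A →+* _) (algebraMap A _ a) =
        C (algebraMap A (MvPolynomial (Fin n) A) a) := by
      change E (algebraMap A _ a) = _
      rw [E.commutes a]
      rfl
    rw [h1, hφ1, toAway_C, hφ2]
    rw [IsScalarTower.algebraMap_apply A (MvPolynomial (Fin n) A ⧸ I) (Localization.Away g) a]
    rw [← Ideal.Quotient.mk_algebraMap]
    exact IsLocalization.map_eq _ _
  let Ψ : MvPolynomial (Fin (n + 1)) A →ₐ[A] Localization.Away g :=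
    { Ψr with commutes' := hcomm }
  have hΨs : Function.Surjective Ψ :=
    (hφ2s.comp (toAway_surjective h)).comp E.surjective
  let Es : Polynomial (MvPolynomial (Fin n) A) →+* MvPolynomial (Fin (n + 1)) A :=
    RingEquiv.toRingHom E.toRingEquiv.symm
  set L1 : List (MvPolynomial (Fin (n + 1)) A) := L0.map Es with hL1
  have hΨk : RingHom.ker Ψ = Ideal.ofList L1 := by
    have : RingHom.ker Ψ =
        (RingHom.ker (φ2.comp φ1)).comap (E : MvPolynomial (Fin (n + 1)) A →+* _) := by
      rw [RingHom.comap_ker]; rfl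
    rw [this, hker, hL1, ← Ideal.map_ofList]
    exact (Ideal.map_symm E.toRingEquiv).symm
  have hL1reg : IsWeaklyRegular (MvPolynomial (Fin (n + 1)) A) L1 := by
    refine (AddEquiv.isWeaklyRegular_congr (e := (E.symm : _ ≃+ _)) ?_).mp hL0reg
    rw [hL1, List.forall₂_map_right_iff, List.forall₂_same]
    intro r _ x
    simp only [smul_eq_mul]
    exact map_mul E.symm r x
  refine ⟨L1.length, L1.get, ?_, ?_⟩
  · rw [List.ofFn_get]
    refine ⟨hL1reg, ?_⟩
    rw [smul_eq_mul, Ideal.mul_top, ← hΨk]
    exact (RingHom.ker_ne_top _).symm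
  · rw [List.ofFn_get]
    have e1 : (MvPolynomial (Fin (n + 1)) A ⧸ RingHom.ker Ψ) ≃ₐ[A] Localization.Away g :=
      Ideal.quotientKerAlgEquivOfSurjective hΨs
    have e2 : (MvPolynomial (Fin (n + 1)) A ⧸ RingHom.ker Ψ) ≃ₐ[A]
        (MvPolynomial (Fin (n + 1)) A ⧸ Ideal.ofList L1) :=
      Ideal.quotientEquivAlgOfEq A hΨk
    exact ⟨e1.symm.trans e2⟩

end Groth.Agent.H8.LCIPresentation
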