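import Groth.Prelude.Def_Mor2
import Groth.Agent.H8.RegSeqComp
import Mathlib.AlgebraicGeometry.Morphisms.Flat
import Mathlib.AlgebraicGeometry.Morphisms.ClosedImmersion
import Mathlib.AlgebraicGeometry.IdealSheaf.Basic

/-!
helper8: composition of regular closed immersions.
-/

set_option autoImplicit false
universe u

namespace Groth.Agent.H8.RegImmComp

open CategoryTheory AlgebraicGeometry RingTheory.Sequence Groth.Agent.H8.RegSeqComp

/-- Restriction maps between affine opens are flat. -/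
theorem flat_res {X : Scheme.{u}} (V U : X.affineOpens) (e : U.1 ≤ V.1) :
    (X.presheaf.map (homOfLE e).op).hom.Flat := by
  have e' : U.1 ≤ (𝟙 X) ⁻¹ᵁ V.1 := e
  have h := HasRingHomProperty.appLE (P := @Flat) (𝟙 X) inferInstance V U e'
  have happ : (𝟙 X : X ⟶ X).appLE V.1 U.1 e' = X.presheaf.map (homOfLE e).op := by
    rw [Scheme.Hom.appLE]
    simp only [Scheme.Hom.id_app, Category.id_comp]
    rfl
  rwa [happ] at h

/-- A weakly regular sequence generating an ideal sheaf on an affine open restricts to one on a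
smaller affine open. -/
theorem restrict_regular {X : Scheme.{u}} (𝓘 : X.IdealSheafData) (V U : X.affineOpens)
    (e : U.1 ≤ V.1) (rs : List Γ(X, V.1)) (hrs : IsWeaklyRegular Γ(X, V.1) rs)
    (h : 𝓘.ideal V = Ideal.ofList rs) :
    IsWeaklyRegular Γ(X, U.1) (rs.map (X.presheaf.map (homOfLE e).op).hom) ∧
      𝓘.ideal U = Ideal.ofList (rs.map (X.presheaf.map (homOfLE e).op).hom) := by
  constructor
  · letI : Algebra Γ(X, V.1) Γ(X, U.1) := (X.presheaf.map (homOfLE e).op).hom.toAlgebra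
    have : Module.Flat Γ(X, V.1) Γ(X, U.1) := flat_res V U e
    exact hrs.of_flat
  · rw [← 𝓘.map_ideal e, h, Ideal.map_ofList]
    rfl

/-- The composite of regular closed immersions is a regular closed immersion. -/
theorem comp {Z Y X : Scheme.{u}} (i : Z ⟶ Y) (j : Y ⟶ X)
    (hi : Mor2.IsRegularClosedImmersion i) (hj : Mor2.IsRegularClosedImmersion j) :
    Mor2.IsRegularClosedImmersion (i ≫ j) := by
  obtain ⟨hci, hi'⟩ := hi
  obtain ⟨hcj, hj'⟩ := hj
  refine ⟨inferInstance, fun z => ?_⟩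
  obtain ⟨U, hU, hxU, rs, hrs, hrsI⟩ := hj' (i z)
  obtain ⟨V, hV, hyV, ss, hss, hssI⟩ := hi' z
  obtain ⟨U₀, hU₀, hU₀V⟩ := (j.isEmbedding.isInducing.isOpen_iff).mp V.2
  have hx₀ : j (i z) ∈ U₀ := by
    have : i z ∈ (j : Y → X) ⁻¹' U₀ := by rw [hU₀V]; exact hyV
    exact this
  obtain ⟨f, hfle, hxf⟩ := hU.exists_basicOpen_le (V := U ⊓ ⟨U₀, hU₀⟩)
    ⟨j (i z), ⟨hxU, hx₀⟩⟩ hxU
  have hW : IsAffineOpen (X.basicOpen f) := hU.basicOpen f
  have hWU : X.basicOpen f ≤ U := X.basicOpen_le f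
  have hW' : IsAffineOpen (j ⁻¹ᵁ X.basicOpen f) := hW.preimage j
  have hW'V : j ⁻¹ᵁ X.basicOpen f ≤ V := by
    intro y hy
    have h1 : j y ∈ U₀ := (hfle hy).2
    have : y ∈ (j : Y → X) ⁻¹' U₀ := h1
    rw [hU₀V] at this
    exact this
  obtain ⟨hrs', hrsI'⟩ := restrict_regular j.ker ⟨U, hU⟩ ⟨X.basicOpen f, hW⟩ hWU rs
    hrs.toIsWeaklyRegular hrsI
  obtain ⟨hss', hssI'⟩ := restrict_regular i.ker ⟨V, hV⟩ ⟨j ⁻¹ᵁ X.basicOpen f, hW'⟩ hW'V ss
    hss.toIsWeaklyRegular hssI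
  set rs' := rs.map (X.presheaf.map (homOfLE hWU).op).hom with hrs'def
  set ss' := ss.map (Y.presheaf.map (homOfLE hW'V).op).hom with hss'def
  have hφ : Function.Surjective (j.app (X.basicOpen f)).hom := j.app_surjective _ hW
  have hker : RingHom.ker (j.app (X.basicOpen f)).hom = Ideal.ofList rs' := by
    rw [← hrsI', Scheme.Hom.ker_apply]
  obtain ⟨tt, htt⟩ := exists_list_map_eq _ hφ ss'
  have hideal : (i ≫ j).ker.ideal ⟨X.basicOpen f, hW⟩ = Ideal.ofList (rs' ++ tt) := by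
    rw [Scheme.Hom.ker_apply, ← comap_ofList_map _ hφ rs' hker tt, htt, ← hssI',
      Scheme.Hom.ker_apply, RingHom.comap_ker]
    simp only [Scheme.Hom.comp_app]
    rfl
  refine ⟨X.basicOpen f, hW, hxf, rs' ++ tt, ⟨?_, ?_⟩, hideal⟩
  · exact isWeaklyRegular_append_of_surjective _ hφ rs' hker hrs' tt (by rw [htt]; exact hss')
  · intro htop
    rw [smul_eq_mul, Ideal.mul_top, ← hideal] at htop
    have hmem : (i ≫ j) z ∈ (i ≫ j).ker.support :=
      Scheme.Hom.range_subset_ker_support (i ≫ j) ⟨z, rfl⟩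
    rw [Scheme.IdealSheafData.mem_support_iff_of_mem (U := ⟨X.basicOpen f, hW⟩)
      (by simpa using hxf), ← htop, Scheme.mem_zeroLocus_iff] at hmem
    have := hmem 1 (by simp)
    rw [Scheme.basicOpen_of_isUnit _ isUnit_one] at this
    exact this (by simpa using hxf)

end Groth.Agent.H8.RegImmComp
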