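import Groth.Agent.Lib.Helper29.DepthLoc4
import Groth.Agent.H8.RegSeqComp

/-!
helper8: regular sequences: unit scaling, lifting from a localization, spreading out to a basic open.
-/

set_option autoImplicit false
universe u v

namespace Groth.Agent.H8.RegSeqSpread

open RingTheory.Sequence Groth.Agent.Lib.Helper29
open scoped Pointwise

section Unit

variable {R : Type*} [CommRing R]

theorem smul_top_eq_of_unit (M : Type*) [AddCommGroup M] [Module R M] (r : R) (u : Rˣ) :
    ((u : R) * r) • (⊤ : Submodule R M) = r • (⊤ : Submodule R M) := by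
  ext x
  simp only [Submodule.mem_smul_pointwise_iff_exists, Submodule.mem_top, true_and]
  constructor
  · rintro ⟨y, rfl⟩
    exact ⟨(u : R) • y, by rw [smul_smul, mul_comm]⟩
  · rintro ⟨y, rfl⟩
    refine ⟨((u⁻¹ : Rˣ) : R) • y, ?_⟩
    rw [smul_smul, mul_comm (u : R) r, mul_assoc, Units.mul_inv, mul_one]

/-- Scaling the terms of a weakly regular sequence by units keeps it weakly regular. -/
theorem isWeaklyRegular_of_forall₂_unit {rs rs' : List R}
    (h : List.Forall₂ (fun r r' => ∃ u : Rˣ, r' = (u : R) * r) rs rs') :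
    ∀ (M : Type v) [AddCommGroup M] [Module R M], IsWeaklyRegular M rs → IsWeaklyRegular M rs' := by
  induction h with
  | nil => intro M _ _ h; exact h
  | @cons r r' l₁ l₂ hrr' _ ih =>
    intro M _ _ hreg
    obtain ⟨u, rfl⟩ := hrr'
    rw [isWeaklyRegular_cons_iff] at hreg ⊢
    refine ⟨(u.isUnit.isSMulRegular M).mul hreg.1, ?_⟩
    have e : QuotSMulTop ((u : R) * r) M ≃ₗ[R] QuotSMulTop r M :=
      Submodule.quotEquivOfEq _ _ (smul_top_eq_of_unit M r u)
    exact (e.isWeaklyRegular_congr _).mpr (ih _ hreg.2)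

theorem ofList_eq_of_forall₂_unit {rs rs' : List R}
    (h : List.Forall₂ (fun r r' => ∃ u : Rˣ, r' = (u : R) * r) rs rs') :
    Ideal.ofList rs' = Ideal.ofList rs := by
  induction h with
  | nil => rfl
  | @cons r r' l₁ l₂ hrr' _ ih =>
    obtain ⟨u, rfl⟩ := hrr'
    rw [Ideal.ofList_cons, Ideal.ofList_cons, ih]
    congr 1
    rw [mul_comm]
    exact Ideal.span_singleton_mul_right_unit u.isUnit _

end Unit

section Lift

variable {A : Type*} [CommRing A] (S : Submonoid A) (L : Type*) [CommRing L] [Algebra A L]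
  [IsLocalization S L]

include S in
theorem exists_list_map_unit (rs : List L) :
    ∃ as : List A, List.Forall₂ (fun r r' => ∃ u : Lˣ, r' = (u : L) * r) rs
      (as.map (algebraMap A L)) := by
  induction rs with
  | nil => exact ⟨[], by simp⟩
  | cons r rs ih =>
    obtain ⟨as, has⟩ := ih
    obtain ⟨⟨a, s⟩, hs⟩ := IsLocalization.surj S r
    refine ⟨a :: as, ?_⟩
    rw [List.map_cons]
    refine List.Forall₂.cons ⟨(IsLocalization.map_units L s).unit, ?_⟩ has
    rw [IsUnit.unit_spec, mul_comm]
    exact hs.symm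

end Lift

section Spread

variable (A : Type u) [CommRing A]

/-- `(M/xM)_S ≃ M_S / (x/1) M_S` for a general submonoid. -/
noncomputable def localizedModuleQuotSMulTopEquiv' (S : Submonoid A) (M : Type v)
    [AddCommGroup M] [Module A M] (x : A) :
    LocalizedModule S (QuotSMulTop x M) ≃ₗ[Localization S]
      QuotSMulTop (algebraMap A (Localization S) x) (LocalizedModule S M) :=
  (LocalizedModule.isBaseChange S (QuotSMulTop x M)).equiv.symm ≪≫ₗ
    ((QuotSMulTop.algebraMapTensorEquivTensorQuotSMulTop x M (Localization S)).symm ≪≫ₗ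
      QuotSMulTop.congr ((algebraMap A (Localization S)) x)
        (LocalizedModule.isBaseChange S M).equiv)

variable [IsNoetherianRing A]

/-- A sequence which is weakly regular on `M_p` is weakly regular on `M_g` for all multiples `g` of
some `f ∉ p`. -/
theorem exists_isWeaklyRegular_away (p : Ideal A) [p.IsPrime] (as : List A) :
    ∀ (M : Type v) [AddCommGroup M] [Module A M] [Module.Finite A M],
      IsWeaklyRegular (LocalizedModule p.primeCompl M)
        (as.map (algebraMap A (Localization.AtPrime p))) →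
      ∃ f, f ∉ p ∧ ∀ g ∈ Ideal.span {f},
        IsWeaklyRegular (LocalizedModule (Submonoid.powers g) M)
          (as.map (algebraMap A (Localization (Submonoid.powers g)))) := by
  induction as with
  | nil =>
    intro M _ _ _ _
    refine ⟨1, (Ideal.ne_top_iff_one p).mp Ideal.IsPrime.ne_top', fun g _ => ?_⟩
    simp
  | cons a as ih =>
    intro M _ _ _ h
    rw [List.map_cons, isWeaklyRegular_cons_iff] at h
    obtain ⟨h1, h2⟩ := h
    have h2' : IsWeaklyRegular (LocalizedModule p.primeCompl (QuotSMulTop a M))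
        (as.map (algebraMap A (Localization.AtPrime p))) :=
      ((localizedModuleQuotSMulTopEquiv A p M a).isWeaklyRegular_congr _).mpr h2
    obtain ⟨f₂, hf₂, hf₂'⟩ := ih (QuotSMulTop a M) h2'
    have : IsNoetherian A M := isNoetherian_of_isNoetherianRing_of_finite A M
    let K : Submodule A M := LinearMap.ker (LinearMap.lsmul A M a)
    have hK : Module.Finite A K := Module.Finite.of_fg (IsNoetherian.noetherian K)
    have hsupp : (⟨p, inferInstance⟩ : PrimeSpectrum A) ∉ Module.support A K := by
      rw [Module.notMem_support_iff']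
      intro m
      erw [isSMulRegular_localizedModule_iff A p.primeCompl M a] at h1
      obtain ⟨t, ht, htm⟩ := h1 m.1 (by simpa [K] using m.2)
      exact ⟨t, ht, Subtype.ext (by simpa using htm)⟩
    rw [Module.mem_support_iff_of_finite, SetLike.not_le_iff_exists] at hsupp
    obtain ⟨f₁, hf₁, hf₁'⟩ := hsupp
    refine ⟨f₁ * f₂, fun hmem => (Ideal.IsPrime.mem_or_mem inferInstance hmem).elim hf₁' hf₂, ?_⟩
    intro g hg
    obtain ⟨c, rfl⟩ := Ideal.mem_span_singleton'.mp hg
    rw [List.map_cons, isWeaklyRegular_cons_iff]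
    constructor
    · rw [isSMulRegular_localizedModule_iff]
      intro m hm
      refine ⟨c * (f₁ * f₂), Submonoid.mem_powers _, ?_⟩
      have hmK : m ∈ K := by simpa [K] using hm
      have h0 : f₁ • (⟨m, hmK⟩ : K) = 0 := Module.mem_annihilator.mp hf₁ _
      have h0' : f₁ • m = 0 := by simpa using congrArg Subtype.val h0
      rw [mul_comm f₁ f₂, ← mul_assoc, mul_smul, h0', smul_zero]
    · have := hf₂' (c * (f₁ * f₂)) (Ideal.mem_span_singleton'.mpr ⟨c * f₁, by ring⟩)
      exact ((localizedModuleQuotSMulTopEquiv' A (Submonoid.powers (c * (f₁ * f₂))) M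
        a).isWeaklyRegular_congr _).mp this

/-- Ring version with generic localizations. -/
theorem exists_isWeaklyRegular_away_ring (p : Ideal A) [p.IsPrime] (L : Type u) [CommRing L]
    [Algebra A L] [IsLocalization.AtPrime L p] (as : List A)
    (h : IsWeaklyRegular L (as.map (algebraMap A L))) :
    ∃ f, f ∉ p ∧ ∀ g ∈ Ideal.span {f}, ∀ (S' : Type u) [CommRing S'] [Algebra A S']
      [IsLocalization.Away g S'], IsWeaklyRegular S' (as.map (algebraMap A S')) := by
  have h1 : IsWeaklyRegular (LocalizedModule p.primeCompl A)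
      (as.map (algebraMap A (Localization.AtPrime p))) := by
    rw [isWeaklyRegular_map_algebraMap_iff L L as] at h
    rw [isWeaklyRegular_map_algebraMap_iff (Localization.AtPrime p) _ as]
    exact ((IsLocalizedModule.iso p.primeCompl
      (Algebra.linearMap A L)).isWeaklyRegular_congr as).mpr h
  obtain ⟨f, hf, hf'⟩ := exists_isWeaklyRegular_away A p as A h1
  refine ⟨f, hf, fun g hg S' _ _ _ => ?_⟩
  have h2 := hf' g hg
  rw [isWeaklyRegular_map_algebraMap_iff (Localization (Submonoid.powers g)) _ as] at h2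
  rw [isWeaklyRegular_map_algebraMap_iff S' S' as]
  exact ((IsLocalizedModule.iso (Submonoid.powers g)
    (Algebra.linearMap A S')).isWeaklyRegular_congr as).mp h2

/-- If `J_p ≤ J'_p` then `f J ≤ J'` for some `f ∉ p`. -/
theorem exists_mul_mem_of_map_le (p : Ideal A) [p.IsPrime] (L : Type u) [CommRing L]
    [Algebra A L] [IsLocalization.AtPrime L p] (J J' : Ideal A)
    (h : J.map (algebraMap A L) ≤ J'.map (algebraMap A L)) :
    ∃ f, f ∉ p ∧ ∀ a ∈ J, f * a ∈ J' := by
  let N : Submodule A (A ⧸ J') := Submodule.map (Submodule.mkQ J') J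
  have hN : Module.Finite A N :=
    Module.Finite.of_fg ((IsNoetherian.noetherian J).map _)
  have hsupp : (⟨p, inferInstance⟩ : PrimeSpectrum A) ∉ Module.support A N := by
    rw [Module.notMem_support_iff']
    rintro ⟨n, hn⟩
    obtain ⟨a, ha, rfl⟩ := hn
    have h1 : algebraMap A L a ∈ J'.map (algebraMap A L) := h (Ideal.mem_map_of_mem _ ha)
    rw [IsLocalization.mem_map_algebraMap_iff p.primeCompl] at h1
    obtain ⟨⟨y, t⟩, hyt⟩ := h1
    rw [← map_mul, IsLocalization.eq_iff_exists p.primeCompl] at hyt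
    obtain ⟨c, hc⟩ := hyt
    refine ⟨(c : A) * (t : A), fun hmem =>
      (Ideal.IsPrime.mem_or_mem inferInstance hmem).elim c.2 t.2, ?_⟩
    apply Subtype.ext
    change ((c : A) * (t : A)) • Submodule.mkQ J' a = 0
    rw [← map_smul, Submodule.mkQ_apply, Submodule.Quotient.mk_eq_zero, smul_eq_mul]
    have : (c : A) * (t : A) * a = c * (a * t) := by ring
    rw [this, hc]
    exact J'.mul_mem_left _ y.2
  rw [Module.mem_support_iff_of_finite, SetLike.not_le_iff_exists] at hsupp
  obtain ⟨f, hf, hf'⟩ := hsupp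
  refine ⟨f, hf', fun a ha => ?_⟩
  have h0 : f • (⟨Submodule.mkQ J' a, Submodule.mem_map_of_mem ha⟩ : N) = 0 :=
    Module.mem_annihilator.mp hf _
  have h0' : f • Submodule.mkQ J' a = 0 := by simpa using congrArg Subtype.val h0
  rwa [← map_smul, Submodule.mkQ_apply, Submodule.Quotient.mk_eq_zero, smul_eq_mul] at h0'

/-- If `J_p = J'_p` then `J` and `J'` agree after inverting any multiple of some `f ∉ p`. -/
theorem exists_map_eq_away (p : Ideal A) [p.IsPrime] (L : Type u) [CommRing L]
    [Algebra A L] [IsLocalization.AtPrime L p] (J J' : Ideal A)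
    (h : J.map (algebraMap A L) = J'.map (algebraMap A L)) :
    ∃ f, f ∉ p ∧ ∀ g ∈ Ideal.span {f}, ∀ (S' : Type u) [CommRing S'] [Algebra A S']
      [IsLocalization.Away g S'], J.map (algebraMap A S') = J'.map (algebraMap A S') := by
  obtain ⟨f₁, hf₁, hf₁'⟩ := exists_mul_mem_of_map_le A p L J J' h.le
  obtain ⟨f₂, hf₂, hf₂'⟩ := exists_mul_mem_of_map_le A p L J' J h.ge
  refine ⟨f₁ * f₂, fun hmem => (Ideal.IsPrime.mem_or_mem inferInstance hmem).elim hf₁ hf₂, ?_⟩
  intro g hg S' _ _ _
  obtain ⟨c, rfl⟩ := Ideal.mem_span_singleton'.mp hg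
  have hunit : IsUnit (algebraMap A S' (c * (f₁ * f₂))) :=
    IsLocalization.Away.algebraMap_isUnit _
  apply le_antisymm
  · rw [Ideal.map_le_iff_le_comap]
    intro a ha
    rw [Ideal.mem_comap, ← Ideal.unit_mul_mem_iff_mem _ hunit, ← map_mul]
    apply Ideal.mem_map_of_mem
    have : c * (f₁ * f₂) * a = (c * f₂) * (f₁ * a) := by ring
    rw [this]
    exact J'.mul_mem_left _ (hf₁' a ha)
  · rw [Ideal.map_le_iff_le_comap]
    intro a ha
    rw [Ideal.mem_comap, ← Ideal.unit_mul_mem_iff_mem _ hunit, ← map_mul]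
    apply Ideal.mem_map_of_mem
    have : c * (f₁ * f₂) * a = (c * f₁) * (f₂ * a) := by ring
    rw [this]
    exact J.mul_mem_left _ (hf₂' a ha)

end Spread

end Groth.Agent.H8.RegSeqSpread
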