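import Groth.Agent.H8.LCIPresentation
import Groth.Agent.H8.RegImmComp
import Groth.Agent.H8.RegSeqSpread
import Groth.Prelude.Def_RegImm

/-!
# Regular immersions into affine schemes, on basic opens (helper8)
-/

set_option autoImplicit false
universe u

namespace Groth.Agent.H8.LCIPresentation

open RingTheory.Sequence CategoryTheory AlgebraicGeometry

/-- Kernel of the map on global sections of `Spec (R/I) → Spec R`. -/
theorem ker_appTop_SpecMap_mk (R : Type u) [CommRing R] (I : Ideal R) :
    RingHom.ker (Spec.map (CommRingCat.ofHom (Ideal.Quotient.mk I))).appTop.hom =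
      I.map (Scheme.ΓSpecIso (CommRingCat.of R)).inv.hom := by
  have nat := Scheme.ΓSpecIso_inv_naturality (CommRingCat.ofHom (Ideal.Quotient.mk I))
  have nat' : ∀ r : R, (Spec.map (CommRingCat.ofHom (Ideal.Quotient.mk I))).appTop.hom
      ((Scheme.ΓSpecIso (CommRingCat.of R)).inv.hom r) =
      (Scheme.ΓSpecIso (CommRingCat.of (R ⧸ I))).inv.hom (Ideal.Quotient.mk I r) := by
    intro r
    have := congrArg (fun φ => φ.hom r) nat
    simp only [CommRingCat.hom_comp, RingHom.comp_apply, CommRingCat.hom_ofHom] at this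
    exact this.symm
  apply le_antisymm
  · intro x hx
    rw [RingHom.mem_ker] at hx
    obtain ⟨r, rfl⟩ : ∃ r : R, (Scheme.ΓSpecIso (CommRingCat.of R)).inv.hom r = x :=
      ⟨(Scheme.ΓSpecIso (CommRingCat.of R)).hom.hom x, by simp⟩
    rw [nat'] at hx
    have h0 : Ideal.Quotient.mk I r = 0 := by
      have := congrArg (Scheme.ΓSpecIso (CommRingCat.of (R ⧸ I))).hom.hom hx
      simpa using this
    exact Ideal.mem_map_of_mem _ (Ideal.Quotient.eq_zero_iff_mem.mp h0)
  · rw [Ideal.map_le_iff_le_comap]
    intro r hr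
    rw [Ideal.mem_comap, RingHom.mem_ker, nat', Ideal.Quotient.eq_zero_iff_mem.mpr hr, map_zero]

/-- A regular immersion `Spec (R/I) → Spec R` at `q`: on some basic open `D(h) ∋ q` the ideal `I` is
generated by a weakly regular sequence (coming from `R`). -/
theorem exists_away_regular (R : Type u) [CommRing R] (I : Ideal R)
    (q : PrimeSpectrum (R ⧸ I))
    (hreg : RegImm.IsRegularImmersionAt RegImm.Kind.regular
      (Spec.map (CommRingCat.ofHom (Ideal.Quotient.mk I))) q) :
    ∃ h : R, Ideal.Quotient.mk I h ∉ q.asIdeal ∧ ∃ as : List R,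
      IsWeaklyRegular (Localization.Away h) (as.map (algebraMap R (Localization.Away h))) ∧
      I.map (algebraMap R (Localization.Away h)) =
        Ideal.ofList (as.map (algebraMap R (Localization.Away h))) := by
  set i := Spec.map (CommRingCat.ofHom (Ideal.Quotient.mk I)) with hi
  have : IsClosedImmersion i :=
    IsClosedImmersion.spec_of_surjective _ Ideal.Quotient.mk_surjective
  obtain ⟨U, hxU, -, rs, hrs, hker⟩ := hreg
  obtain ⟨W, ⟨h, rfl⟩, hxW, hWU⟩ :=
    TopologicalSpace.Opens.isBasis_iff_nbhd.mp PrimeSpectrum.isBasis_basic_opens hxU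
  have hW : IsAffineOpen (X := Spec (CommRingCat.of R)) (PrimeSpectrum.basicOpen h) :=
    IsAffineOpen.Spec_basicOpen (R := CommRingCat.of R) h
  obtain ⟨hreg', hidl⟩ := Groth.Agent.H8.RegImmComp.restrict_regular i.ker U ⟨_, hW⟩ hWU rs
    hrs.toIsWeaklyRegular (by rw [Scheme.Hom.ker_apply]; exact hker)
  let L : Type u := Γ(Spec (CommRingCat.of R), PrimeSpectrum.basicOpen h)
  letI : CommRing L := inferInstanceAs (CommRing Γ(Spec (CommRingCat.of R), PrimeSpectrum.basicOpen h))
  letI : Algebra R L :=
    AlgebraicGeometry.IsAffineOpen.instAlgebraCarrierObjOppositeOpensCarrierCarrierCommRingCatSpecPresheafOpOpens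
      (R := CommRingCat.of R)
  haveI : IsLocalization.Away h L :=
    AlgebraicGeometry.IsAffineOpen.instAwayCarrierObjOppositeOpensCarrierCarrierCommRingCatSpecPresheafOpOpensBasicOpen
      (R := CommRingCat.of R)
  have hmapI : I.map (algebraMap R L) = i.ker.ideal ⟨_, hW⟩ := by
    rw [← i.ker.map_ideal (U := ⟨_, hW⟩) (V := ⟨⊤, isAffineOpen_top _⟩) (le_top (a := PrimeSpectrum.basicOpen h)),
      Scheme.Hom.ker_apply]
    change _ = Ideal.map _ (RingHom.ker i.appTop.hom)
    rw [hi, ker_appTop_SpecMap_mk, Ideal.map_map]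
    rfl
  -- lift the generators to `R`, up to units
  obtain ⟨as, has⟩ := Groth.Agent.H8.RegSeqSpread.exists_list_map_unit (A := R)
    (Submonoid.powers h) L (rs.map ((Spec (CommRingCat.of R)).presheaf.map (homOfLE hWU).op).hom)
  have hreg2 : IsWeaklyRegular L (as.map (algebraMap R L)) :=
    Groth.Agent.H8.RegSeqSpread.isWeaklyRegular_of_forall₂_unit has L hreg'
  have hidl2 : I.map (algebraMap R L) = Ideal.ofList (as.map (algebraMap R L)) := by
    rw [hmapI, hidl]
    exact (Groth.Agent.H8.RegSeqSpread.ofList_eq_of_forall₂_unit has).symm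
  let ε : L ≃ₐ[R] Localization.Away h :=
    IsLocalization.algEquiv (Submonoid.powers h) L (Localization.Away h)
  have hεmap : (as.map (algebraMap R L)).map (ε : L →+* Localization.Away h) =
      as.map (algebraMap R (Localization.Away h)) := by
    rw [List.map_map]
    exact List.map_congr_left fun a _ => ε.commutes a
  have hεcomp : (ε : L →+* Localization.Away h).comp (algebraMap R L) =
      algebraMap R (Localization.Away h) := RingHom.ext fun a => ε.commutes a
  refine ⟨h, ?_, as, ?_, ?_⟩
  · intro hmem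
    exact hxW hmem
  · rw [← hεmap]
    refine (AddEquiv.isWeaklyRegular_congr (e := (ε : L ≃+ _)) ?_).mp hreg2
    rw [List.forall₂_map_right_iff, List.forall₂_same]
    intro r _ x
    simp only [smul_eq_mul]
    exact map_mul ε r x
  · have := congrArg (Ideal.map (ε : L →+* Localization.Away h)) hidl2
    rwa [Ideal.map_map, Ideal.map_ofList, hεmap, hεcomp] at this

end Groth.Agent.H8.LCIPresentation
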