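import Mathlib.AlgebraicGeometry.OrderOfVanishing
import Mathlib.RingTheory.Ideal.MinimalPrime.Noetherian
import Mathlib.RingTheory.Ideal.Height
import Mathlib.Topology.LocallyFinite

/-!
# Local finiteness of the divisor of a rational function (helper8)
-/

set_option autoImplicit false
universe u

namespace Groth.Agent.H8

open AlgebraicGeometry TopologicalSpace CategoryTheory

theorem ord_ne_zero_locallyFinite (X : Scheme.{u}) [IsIntegral X] [IsLocallyNoetherian X]
    (f : ↑X.functionField) (hf : f ≠ 0) :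
    LocallyFinite (fun ξ : {ξ : ↥X // Order.coheight ξ = 1 ∧ Scheme.ord f ξ ≠ 0} =>
      closure ({ξ.1} : Set ↥X)) := by
  classical
  -- an open on which `f` is a unit
  obtain ⟨U₀, hU₀, f', hne₀, hf', hunit⟩ := exists_isUnit_germ_eq X f hf
  have hord0 : ∀ ξ : X, ξ ∈ U₀ → Scheme.ord f ξ = 0 := by
    intro ξ hξ
    rw [← hf']
    exact Scheme.ord_of_isUnit hunit hξ
  intro x₀
  obtain ⟨W, hW, hxW, -⟩ := exists_isAffineOpen_mem_and_subset (X := X) (x := x₀) (U := ⊤) trivial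
  have hneW : Nonempty W := ⟨⟨x₀, hxW⟩⟩
  have hNoeth : IsNoetherianRing Γ(X, W) := IsLocallyNoetherian.component_noetherian ⟨W, hW⟩
  refine ⟨(W : Set X), W.2.mem_nhds hxW, ?_⟩
  -- the generic point lies in `U₀ ∩ W`
  have hgW : genericPoint X ∈ W :=
    ((genericPoint_spec X).mem_open_set_iff W.isOpen).mpr (by simpa using hneW)
  have hgU₀ : genericPoint X ∈ U₀ :=
    ((genericPoint_spec X).mem_open_set_iff U₀.isOpen).mpr (by simpa using hne₀)
  obtain ⟨c, hcU₀, hgc⟩ := hW.exists_basicOpen_le (V := U₀) ⟨genericPoint X, hgU₀⟩ hgW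
  have hc0 : c ≠ 0 := by
    rintro rfl
    rw [Scheme.basicOpen_zero] at hgc
    exact hgc
  -- the finite set of minimal primes over `(c)`
  have hfin := Ideal.finite_minimalPrimes_of_isNoetherianRing Γ(X, W) (Ideal.span {c})
  -- the map ξ ↦ prime ideal
  have key : ∀ ξ : {ξ : ↥X // Order.coheight ξ = 1 ∧ Scheme.ord f ξ ≠ 0},
      (closure ({ξ.1} : Set ↥X) ∩ (W : Set X)).Nonempty →
      ∃ p : PrimeSpectrum Γ(X, W), p.asIdeal ∈ (Ideal.span {c}).minimalPrimes ∧
        hW.fromSpec p = ξ.1 := by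
    rintro ⟨ξ, hξ1, hξ2⟩ ⟨y, hy1, hy2⟩
    have hξW : ξ ∈ W := by
      have hsp : ξ ⤳ y := specializes_iff_mem_closure.mpr hy1
      exact hsp.mem_open W.2 hy2
    have hξU₀ : ξ ∉ U₀ := fun h => hξ2 (hord0 ξ h)
    have hξc : ξ ∉ X.basicOpen c := fun h => hξU₀ (hcU₀ h)
    set p := hW.primeIdealOf ⟨ξ, hξW⟩ with hp
    have hpξ : hW.fromSpec p = ξ := hW.fromSpec_primeIdealOf ⟨ξ, hξW⟩
    refine ⟨p, ?_, hpξ⟩
    have hcp : c ∈ p.asIdeal := by
      by_contra hcp
      apply hξc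
      have : p ∈ hW.fromSpec ⁻¹ᵁ X.basicOpen c := by
        rw [hW.fromSpec_preimage_basicOpen c]
        exact hcp
      rw [← hpξ]
      exact this
    have hheight : p.asIdeal.height = 1 := by
      rw [idealHeight_eq_coheight, ← coheight_eq_of_isOpenImmersion hW.fromSpec, hpξ, hξ1]
    have hle : Ideal.span {c} ≤ p.asIdeal := by
      rw [Ideal.span_singleton_le_iff_mem]; exact hcp
    have hfh : p.asIdeal.FiniteHeight := ⟨Or.inr (by rw [hheight]; exact ENat.one_ne_top)⟩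
    refine Ideal.mem_minimalPrimes_of_height_le hle ?_
    rw [hheight]
    exact Ideal.one_le_height_span_singleton_of_mem_nonZeroDivisors
      (mem_nonZeroDivisors_of_ne_zero hc0)
  choose! g hg1 hg2 using key
  refine Set.Finite.of_finite_image (f := fun ξ => (g ξ).asIdeal) (hfin.subset ?_) ?_
  · rintro _ ⟨ξ, hξ, rfl⟩
    exact hg1 ξ hξ
  · intro ξ hξ ξ' hξ' h
    apply Subtype.ext
    rw [← hg2 ξ hξ, ← hg2 ξ' hξ']
    have : g ξ = g ξ' := PrimeSpectrum.ext h
    rw [this]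

end Groth.Agent.H8
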