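import Mathlib.AlgebraicGeometry.ProjectiveSpectrum.Basic
import Mathlib.RingTheory.GradedAlgebra.Homogeneous.Ideal
import Mathlib.RingTheory.GradedAlgebra.Radical

/-!
# Quasi-compactness of Proj (helper8)
-/

set_option autoImplicit false
universe u

namespace Groth.Agent.H8

open AlgebraicGeometry

theorem proj_compactSpace_iff {R A : Type u} [CommRing R] [CommRing A] [Algebra R A]
    (𝒜 : ℕ → Submodule R A) [GradedAlgebra 𝒜] :
    CompactSpace ↥(Proj 𝒜) ↔ ∃ s : Finset A, (∀ f ∈ s, ∃ d : ℕ, 0 < d ∧ f ∈ 𝒜 d) ∧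
      (HomogeneousIdeal.irrelevant 𝒜).toIdeal ≤ (Ideal.span (s : Set A)).radical := by
  classical
  constructor
  · intro hc
    -- every point lies in some D₊(f), f homogeneous of positive degree
    have hex : ∀ x : Proj 𝒜, ∃ f : A, (∃ d : ℕ, 0 < d ∧ f ∈ 𝒜 d) ∧ x ∈ Proj.basicOpen 𝒜 f := by
      intro x
      have hx := x.not_irrelevant_le
      rw [HomogeneousIdeal.irrelevant_le] at hx
      push Not at hx
      obtain ⟨i, hi, hle⟩ := hx
      rw [SetLike.not_le_iff_exists] at hle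
      obtain ⟨f, hf, hfx⟩ := hle
      exact ⟨f, ⟨i, hi, hf⟩, hfx⟩
    choose f hf hxf using hex
    obtain ⟨t, ht⟩ := isCompact_univ.elim_finite_subcover
      (fun x : Proj 𝒜 => (Proj.basicOpen 𝒜 (f x) : Set (Proj 𝒜)))
      (fun x => (Proj.basicOpen 𝒜 (f x)).2) (fun x _ => Set.mem_iUnion.mpr ⟨x, hxf x⟩)
    refine ⟨t.image f, ?_, ?_⟩
    · intro g hg
      obtain ⟨x, -, rfl⟩ := Finset.mem_image.mp hg
      exact hf x
    · rw [HomogeneousIdeal.irrelevant_eq_span, Ideal.span_le]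
      intro g hg
      obtain ⟨i, hi⟩ := Set.mem_iUnion.mp hg
      obtain ⟨hipos, hgi⟩ := Set.mem_iUnion.mp hi
      rw [SetLike.mem_coe, Ideal.radical_eq_sInf, Ideal.mem_sInf]
      rintro P ⟨hsP, hP⟩
      by_contra hgP
      -- homogeneous core of P
      have hQprime : (P.homogeneousCore 𝒜).toIdeal.IsPrime := hP.homogeneousCore
      have hQle : (P.homogeneousCore 𝒜).toIdeal ≤ P := Ideal.toIdeal_homogeneousCore_le 𝒜 P
      have hrel : ¬ HomogeneousIdeal.irrelevant 𝒜 ≤ P.homogeneousCore 𝒜 := by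
        intro hle
        apply hgP
        apply hQle
        exact hle (HomogeneousIdeal.mem_irrelevant_of_mem 𝒜 hipos hgi)
      let y : ProjectiveSpectrum 𝒜 := ⟨P.homogeneousCore 𝒜, hQprime, hrel⟩
      have hy := ht (Set.mem_univ (y : Proj 𝒜))
      obtain ⟨x, hx⟩ := Set.mem_iUnion.mp hy
      obtain ⟨hxt, hxy⟩ := Set.mem_iUnion.mp hx
      apply hxy
      change f x ∈ (P.homogeneousCore 𝒜)
      obtain ⟨d, -, hd⟩ := hf x
      refine Ideal.mem_homogeneousCore_of_homogeneous_of_mem ⟨d, hd⟩ ?_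
      exact hsP (Ideal.subset_span (Finset.mem_coe.mpr (Finset.mem_image_of_mem f hxt)))
  · rintro ⟨s, hs, hle⟩
    have hcover : (Set.univ : Set (Proj 𝒜)) = ⋃ g ∈ s, (Proj.basicOpen 𝒜 g : Set (Proj 𝒜)) := by
      symm
      rw [Set.eq_univ_iff_forall]
      intro x
      by_contra hx
      simp only [Set.mem_iUnion, SetLike.mem_coe, Proj.mem_basicOpen, exists_prop, not_exists,
        not_and, not_not] at hx
      apply x.not_irrelevant_le
      intro z hz
      have h1 : Ideal.span (s : Set A) ≤ x.asHomogeneousIdeal.toIdeal := by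
        rw [Ideal.span_le]
        intro g hg
        exact hx g (Finset.mem_coe.mp hg)
      have h2 : (Ideal.span (s : Set A)).radical ≤ x.asHomogeneousIdeal.toIdeal :=
        x.isPrime.radical_le_iff.mpr h1
      exact h2 (hle hz)
    refine ⟨?_⟩
    rw [hcover]
    refine s.isCompact_biUnion fun g hg => ?_
    obtain ⟨d, hd, hgd⟩ := hs g hg
    exact (Proj.isAffineOpen_basicOpen 𝒜 g hgd hd).isCompact

end Groth.Agent.H8
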