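import Groth.Prelude.Def_DualLC
import Mathlib.RingTheory.LocalRing.Module
import Mathlib.RingTheory.Nakayama

/-!
# Projective covers (helper8)
-/

set_option autoImplicit false
universe u

namespace Groth.Agent.H8

open TensorProduct

/-- Uniqueness of projective covers. -/
theorem projectiveCover_unique {R : Type u} [CommRing R] {M P P' : Type u}
    [AddCommGroup M] [Module R M] [AddCommGroup P] [Module R P] [AddCommGroup P'] [Module R P']
    (f : P →ₗ[R] M) (f' : P' →ₗ[R] M) (hf : Dual2.IsProjectiveCover f)
    (hf' : Dual2.IsProjectiveCover f') : ∃ e : P ≃ₗ[R] P', f' ∘ₗ e.toLinearMap = f := by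
  have := hf.projective
  have := hf'.projective
  obtain ⟨g, hg⟩ := Module.projective_lifting_property f' f hf'.surjective
  -- g is surjective
  have hgs : LinearMap.range g = ⊤ := by
    apply hf'.essential
    rw [← LinearMap.range_comp, hg, LinearMap.range_eq_top]
    exact hf.surjective
  have hgs' : Function.Surjective g := LinearMap.range_eq_top.mp hgs
  obtain ⟨s, hs⟩ := Module.projective_lifting_property g LinearMap.id hgs'
  have hfs : f ∘ₗ s = f' := by
    rw [← hg, LinearMap.comp_assoc, hs, LinearMap.comp_id]
  have hss : LinearMap.range s = ⊤ := by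
    apply hf.essential
    rw [← LinearMap.range_comp, hfs, LinearMap.range_eq_top]
    exact hf'.surjective
  have hss' : Function.Surjective s := LinearMap.range_eq_top.mp hss
  have hginj : Function.Injective g := by
    intro a b hab
    obtain ⟨a', rfl⟩ := hss' a
    obtain ⟨b', rfl⟩ := hss' b
    have ha : g (s a') = a' := LinearMap.congr_fun hs a'
    have hb : g (s b') = b' := LinearMap.congr_fun hs b'
    rw [ha, hb] at hab
    rw [hab]
  exact ⟨LinearEquiv.ofBijective g ⟨hginj, hgs'⟩, by ext x; exact LinearMap.congr_fun hg x⟩

/-- Existence of projective covers of finite modules over a local ring. -/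
theorem exists_projectiveCover (R : Type u) [CommRing R] [IsLocalRing R] (M : Type u)
    [AddCommGroup M] [Module R M] [Module.Finite R M] :
    ∃ (n : ℕ) (f : (Fin n → R) →ₗ[R] M), Dual2.IsProjectiveCover f := by
  classical
  let k := IsLocalRing.ResidueField R
  let V := k ⊗[R] M
  let n := Module.finrank k V
  let b : Module.Basis (Fin n) k V := Module.finBasis k V
  have hsurj : Function.Surjective (TensorProduct.mk R k M 1) :=
    TensorProduct.mk_surjective R M k Ideal.Quotient.mk_surjective
  choose x hx using fun i => hsurj (b i)
  let f : (Fin n → R) →ₗ[R] M := Fintype.linearCombination R x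
  have hspan : Submodule.span R (Set.range x) = ⊤ :=
    IsLocalRing.span_eq_top_of_tmul_eq_basis x b hx
  have hfs : Function.Surjective f := by
    rw [← LinearMap.range_eq_top, Fintype.range_linearCombination, hspan]
  have hker : LinearMap.ker f ≤ (IsLocalRing.maximalIdeal R) • (⊤ : Submodule R (Fin n → R)) := by
    intro c hc
    rw [LinearMap.mem_ker, Fintype.linearCombination_apply] at hc
    have h1 : ∑ i, (IsLocalRing.residue R (c i)) • b i = 0 := by
      have := congrArg (TensorProduct.mk R k M 1) hc
      rw [map_sum, map_zero] at this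
      rw [← this]
      refine Finset.sum_congr rfl fun i _ => ?_
      rw [map_smul, hx i]
      rfl
    have h2 : ∀ i, IsLocalRing.residue R (c i) = 0 := by
      have hli := b.linearIndependent
      rw [Fintype.linearIndependent_iff] at hli
      exact hli _ h1
    have h3 : ∀ i, c i ∈ IsLocalRing.maximalIdeal R := fun i =>
      (IsLocalRing.residue_eq_zero_iff _).mp (h2 i)
    have h4 : c = ∑ i, c i • (Pi.single i (1 : R) : Fin n → R) := by
      funext j
      simp [Finset.sum_apply, Pi.single_apply]
    rw [h4]
    exact Submodule.sum_mem _ fun i _ => Submodule.smul_mem_smul (h3 i) Submodule.mem_top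
  refine ⟨n, f, ⟨inferInstance, hfs, ?_⟩⟩
  intro N hN
  rw [eq_top_iff]
  refine Submodule.le_of_le_smul_of_le_jacobson_bot (I := IsLocalRing.maximalIdeal R)
    Module.Finite.fg_top ?_ ?_
  · rw [IsLocalRing.jacobson_eq_maximalIdeal ⊥ bot_ne_top]
  · intro p _
    have hp : f p ∈ Submodule.map f N := by rw [hN]; exact Submodule.mem_top
    obtain ⟨q, hqN, hq⟩ := hp
    have h5 : p - q ∈ LinearMap.ker f := by
      rw [LinearMap.mem_ker, map_sub, hq, sub_self]
    have h6 := hker h5
    have : p = q + (p - q) := by abel
    rw [this]
    exact Submodule.add_mem_sup hqN h6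

end Groth.Agent.H8
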