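import Mathlib.AlgebraicGeometry.QuasiAffine
import Mathlib.AlgebraicGeometry.Morphisms.IsIso
import Mathlib.AlgebraicGeometry.Morphisms.Immersion
import Mathlib.AlgebraicGeometry.IdealSheaf.Subscheme

/-!
# An affineness criterion for quasi-compact immersions into affine schemes
-/

set_option autoImplicit false
universe u

open AlgebraicGeometry CategoryTheory Limits Topology TopologicalSpace

namespace Groth.Agent.H8.QuasiAffineCrit

/-- For a qcqs scheme `V` and a global section `g` with `V_g` affine, `D(g)` lies in the image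
of `V ⟶ Spec Γ(V, ⊤)`. -/
theorem basicOpen_subset_range_toSpecΓ (V : Scheme.{u}) [CompactSpace V] [QuasiSeparatedSpace V]
    (g : Γ(V, ⊤)) (hg : IsAffineOpen (V.basicOpen g)) (y : Spec Γ(V, ⊤))
    (hy : y ∈ (PrimeSpectrum.basicOpen g : Set (PrimeSpectrum Γ(V, ⊤)))) :
    y ∈ Set.range ⇑V.toSpecΓ := by
  have hloc := isLocalization_basicOpen_of_qcqs (X := V) (U := ⊤) isCompact_univ
    isQuasiSeparated_univ g
  have hfac := Scheme.Opens.toSpecΓ_SpecMap_presheaf_map_top (V.basicOpen g)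
  have hiso : IsIso (V.basicOpen g).toSpecΓ := by
    rw [← hg.isoSpec_hom]; infer_instance
  letI : Algebra Γ(V, ⊤) Γ(V, V.basicOpen g) :=
    (V.presheaf.map (homOfLE (le_top : V.basicOpen g ≤ ⊤)).op).hom.toAlgebra
  have hrange : Set.range (PrimeSpectrum.comap (algebraMap Γ(V, ⊤) Γ(V, V.basicOpen g))) =
      (PrimeSpectrum.basicOpen g : Set (PrimeSpectrum Γ(V, ⊤))) :=
    PrimeSpectrum.localization_away_comap_range Γ(V, V.basicOpen g) g
  have hy' : y ∈ Set.range (PrimeSpectrum.comap (algebraMap Γ(V, ⊤) Γ(V, V.basicOpen g))) := by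
    rw [hrange]; exact hy
  obtain ⟨z, hz⟩ := hy'
  obtain ⟨w, hw⟩ := (V.basicOpen g).toSpecΓ.surjective z
  have hzy : Spec.map (V.presheaf.map (homOfLE (le_top : V.basicOpen g ≤ ⊤)).op) z = y := hz
  refine ⟨(V.basicOpen g).ι w, ?_⟩
  rw [← Scheme.Hom.comp_apply, ← hfac, Scheme.Hom.comp_apply, hw, hzy]

theorem isAffine_of_immersion (A : Type u) [CommRing A] (V : Scheme.{u})
    (j : V ⟶ Spec (CommRingCat.of A)) [IsImmersion j] [QuasiCompact j] (f : A)
    (haff : IsAffineOpen (j ⁻¹ᵁ PrimeSpectrum.basicOpen f))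
    (hcl : IsClosed (Set.range ⇑j ∩ PrimeSpectrum.zeroLocus {f})) : IsAffine V := by
  haveI : CompactSpace V := QuasiCompact.compactSpace_of_compactSpace j
  haveI : V.IsQuasiAffine := .of_isImmersion j
  -- the image of `f` in `Γ(V, ⊤)`
  set f' : Γ(V, ⊤) := j.appTop ((Scheme.ΓSpecIso (CommRingCat.of A)).inv f) with hf'
  have hbo : V.basicOpen f' = j ⁻¹ᵁ PrimeSpectrum.basicOpen f := by
    rw [hf', ← Scheme.preimage_basicOpen_top, basicOpen_eq_of_affine]
  have haff' : IsAffineOpen (V.basicOpen f') := hbo ▸ haff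
  -- it suffices to show surjectivity of `V ⟶ Spec Γ(V, ⊤)`
  suffices hsurj : Function.Surjective ⇑V.toSpecΓ by
    have : IsIso V.toSpecΓ :=
      (isIso_iff_isOpenImmersion_and_surjective _).mpr ⟨inferInstance, ⟨hsurj⟩⟩
    exact ⟨this⟩
  intro y
  by_contra hy
  -- the closed subset `K = j⁻¹(V(f))` and its image under `toSpecΓ`
  let K : Closeds V := ⟨⇑j ⁻¹' PrimeSpectrum.zeroLocus {f},
    (PrimeSpectrum.isClosed_zeroLocus _).preimage j.continuous⟩
  let 𝓘 := Scheme.IdealSheafData.vanishingIdeal K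
  have hrK : Set.range ⇑𝓘.subschemeι = (K : Set V) := by
    rw [𝓘.range_subschemeι, Scheme.IdealSheafData.coe_support_vanishingIdeal]
  have hcl1 : IsClosedImmersion (𝓘.subschemeι ≫ j) := by
    apply IsClosedImmersion.of_isPreimmersion
    rw [Scheme.Hom.comp_base, TopCat.coe_comp, Set.range_comp, hrK]
    have hKcoe : (K : Set V) = ⇑j ⁻¹' PrimeSpectrum.zeroLocus {f} := rfl
    have : ⇑j '' (K : Set V) = Set.range ⇑j ∩ PrimeSpectrum.zeroLocus {f} := by
      rw [hKcoe, Set.image_preimage_eq_inter_range, Set.inter_comm]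
    rw [this]
    exact hcl
  have hnat : V.toSpecΓ ≫ Spec.map j.appTop = j ≫ (Spec (CommRingCat.of A)).toSpecΓ :=
    (Scheme.toSpecΓ_naturality j).symm
  have hcl2 : IsClosedImmersion ((𝓘.subschemeι ≫ V.toSpecΓ) ≫ Spec.map j.appTop) := by
    rw [Category.assoc, hnat, ← Category.assoc]
    infer_instance
  have hcl3 : IsClosedImmersion (𝓘.subschemeι ≫ V.toSpecΓ) :=
    IsClosedImmersion.of_comp _ (Spec.map j.appTop)
  have hC : IsClosed (⇑V.toSpecΓ '' (K : Set V)) := by
    have := (𝓘.subschemeι ≫ V.toSpecΓ).isClosedEmbedding.isClosed_range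
    rwa [Scheme.Hom.comp_base, TopCat.coe_comp, Set.range_comp, hrK] at this
  have hyC : y ∉ ⇑V.toSpecΓ '' (K : Set V) := fun ⟨x, _, hx⟩ => hy ⟨x, hx⟩
  -- a basic open around `y` missing the closed set
  obtain ⟨_, ⟨g, rfl⟩, hyg, hgC⟩ := PrimeSpectrum.isTopologicalBasis_basic_opens.exists_subset_of_mem_open
    hyC hC.isOpen_compl
  have hle : V.basicOpen g ≤ V.basicOpen f' := by
    intro x hx
    rw [hbo]
    rw [← Scheme.toSpecΓ_preimage_basicOpen] at hx
    have h1 : V.toSpecΓ x ∉ ⇑V.toSpecΓ '' (K : Set V) := hgC hx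
    have h2 : x ∉ (K : Set V) := fun h => h1 ⟨x, h, rfl⟩
    by_contra hxf
    apply h2
    show j x ∈ PrimeSpectrum.zeroLocus {f}
    have h3 : f ∈ (j x).asIdeal := by
      by_contra h4
      exact hxf h4
    exact (PrimeSpectrum.mem_zeroLocus _ _).mpr (Set.singleton_subset_iff.mpr h3)
  have hgaff : IsAffineOpen (V.basicOpen g) := by
    have h1 := haff'.basicOpen (V.presheaf.map (homOfLE (le_top : V.basicOpen f' ≤ ⊤)).op g)
    rw [Scheme.basicOpen_res] at h1
    rwa [inf_eq_right.mpr hle] at h1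
  exact hy (basicOpen_subset_range_toSpecΓ V g hgaff y hyg)

end Groth.Agent.H8.QuasiAffineCrit
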