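import Groth.Agent.H8.J2Ascent
import Groth.Agent.H8.NagataRegQuot
import Groth.Agent.Lib.Helper48.FormalFibresNagata
import Groth.Agent.Lib.Helper48.NagataCriterion
import Groth.Agent.Lib.Helper50.GeomReduced
import Groth.Agent.Lib.Helper90.SmoothRegular3
import Groth.Agent.Lib.Helper73.RegularNormal
set_option linter.style.haveILetI false

set_option autoImplicit false
universe u
open TensorProduct

namespace Groth.Agent.H8.QE

open Groth.Agent.H8.J2

/-- geometrically regular implies geometrically reduced -/
theorem isGeometricallyReduced_of_isGeometricallyRegular (k S : Type u) [Field k] [CommRing S]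
    [Algebra k S] (h : CAlg.IsGeometricallyRegular k S) : Algebra.IsGeometricallyReduced k S := by
  apply Groth.Agent.Lib.Helper50.isGeometricallyReduced_of_forall_finite_isPurelyInseparable
  intro k' _ _ hfin _
  haveI := h k' hfin
  exact Groth.Agent.Lib.Helper90.SmoothRegular.isReduced_of_isRegularRing _

/-- the local rings of a G-ring have geometrically reduced formal fibres -/
theorem hasGeomReducedFormalFibres_of_isGRing (A : Type u) [CommRing A] (hA : CAlg.IsGRing A)
    (p : Ideal A) [p.IsPrime] : EGA4.HasGeomReducedFormalFibres (Localization.AtPrime p) := by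
  intro P hP
  exact isGeometricallyReduced_of_isGeometricallyRegular _ _ ((hA.2 p).2 P).2

/-- a Noetherian domain with open regular locus has a nonzero `f` with `A_f` integrally closed -/
theorem exists_isIntegrallyClosed_away_of_isOpen_regLocus (B : Type u) [CommRing B] [IsDomain B]
    [IsNoetherianRing B] (h : IsOpen (EGA4.regLocus B)) :
    ∃ f : B, f ≠ 0 ∧ IsIntegrallyClosed (Localization.Away f) := by
  obtain ⟨f, hf0, hfU⟩ := exists_basicOpen_subset h ⟨_, Groth.Agent.H8.Nagata.bot_mem_regLocus B⟩
  refine ⟨f, hf0, ?_⟩
  have hreg : IsRegularRing (Localization.Away f) :=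
    isRegularRing_away_of_basicOpen_subset B f (Localization.Away f) hfU
  have hN : IsNoetherianRing (Localization.Away f) :=
    IsLocalization.isNoetherianRing (Submonoid.powers f) _ inferInstance
  have hdom : IsDomain (Localization.Away f) :=
    IsLocalization.isDomain_localization (powers_le_nonZeroDivisors_of_noZeroDivisors hf0)
  apply Groth.Agent.Lib.Helper73.RegularNormal.isIntegrallyClosed_of_isNormalRing
  apply Groth.Agent.Lib.Helper73.RegularNormal.isNormalRing_of_forall_isRegularLocalRing
  intro q hq
  exact (isRegularRing_iff.mp hreg) q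

/-- a quasi-excellent ring is Nagata -/
theorem isNagata_of_isQuasiExcellent (A : Type u) [CommRing A] (hA : EGA4.IsQuasiExcellent A) :
    CAlg.IsNagata A := by
  obtain ⟨hN, hG, hJ2⟩ := hA
  rw [Groth.Agent.Lib.Helper48.isNagata_iff_localQuotients_N2_and_normalLocus_generic A]
  refine ⟨?_, ?_⟩
  · intro m hm P hP
    have hNm : IsNoetherianRing (Localization.AtPrime m) :=
      IsLocalization.isNoetherianRing m.primeCompl _ inferInstance
    exact (Groth.Agent.Lib.Helper48.isNagata_of_hasGeomReducedFormalFibres _
      (hasGeomReducedFormalFibres_of_isGRing A hG m)).2 P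
  · intro p hp K' _ _ _ _ _ _ B' hfin hfrac
    letI : Algebra A B' := ((algebraMap (A ⧸ p) B').comp (algebraMap A (A ⧸ p))).toAlgebra
    haveI : IsScalarTower A (A ⧸ p) B' := IsScalarTower.of_algebraMap_eq' rfl
    haveI : Module.Finite A (A ⧸ p) := Module.Finite.of_surjective
      (Algebra.linearMap A (A ⧸ p)) Ideal.Quotient.mk_surjective
    haveI : Module.Finite A B' := Module.Finite.trans (A ⧸ p) B'
    have hNB' : IsNoetherianRing B' := Algebra.FiniteType.isNoetherianRing A B'
    exact exists_isIntegrallyClosed_away_of_isOpen_regLocus B' (hJ2 B' inferInstance)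

end Groth.Agent.H8.QE
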