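import Groth.Agent.H8.QuasiExcellent
set_option linter.style.haveILetI false

set_option autoImplicit false
universe u
open TensorProduct

namespace Groth.Agent.H8.QE

open Groth.Agent.H8.J2

/-- a Noetherian J-2 ring whose local rings at maximal ideals have geometrically reduced formal
fibres is Nagata -/
theorem isNagata_of_geomReducedFormalFibres_of_isJ2 (A : Type u) [CommRing A] [IsNoetherianRing A]
    (h1 : ∀ (m : Ideal A) [m.IsMaximal], EGA4.HasGeomReducedFormalFibres (Localization.AtPrime m))
    (h2 : EGA4.IsJ2 A) : CAlg.IsNagata A := by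
  rw [Groth.Agent.Lib.Helper48.isNagata_iff_localQuotients_N2_and_normalLocus_generic A]
  refine ⟨?_, ?_⟩
  · intro m hm P hP
    have hNm : IsNoetherianRing (Localization.AtPrime m) :=
      IsLocalization.isNoetherianRing m.primeCompl _ inferInstance
    exact (Groth.Agent.Lib.Helper48.isNagata_of_hasGeomReducedFormalFibres _ (h1 m)).2 P
  · intro p hp K' _ _ _ _ _ _ B' hfin hfrac
    letI : Algebra A B' := ((algebraMap (A ⧸ p) B').comp (algebraMap A (A ⧸ p))).toAlgebra
    haveI : IsScalarTower A (A ⧸ p) B' := IsScalarTower.of_algebraMap_eq' rfl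
    haveI : Module.Finite A (A ⧸ p) := Module.Finite.of_surjective
      (Algebra.linearMap A (A ⧸ p)) Ideal.Quotient.mk_surjective
    haveI : Module.Finite A B' := Module.Finite.trans (A ⧸ p) B'
    have hNB' : IsNoetherianRing B' := Algebra.FiniteType.isNoetherianRing A B'
    exact exists_isIntegrallyClosed_away_of_isOpen_regLocus B' (h2 B' inferInstance)

end Groth.Agent.H8.QE
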