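import Groth.Agent.H8.RegImmStalk2
import Groth.Agent.Lib.Helper85.RegularIdeal

/-!
helper8: stalk kernels for `RegImm` regular immersions; regularity of the ambient local ring.
-/

set_option autoImplicit false
universe u

open CategoryTheory AlgebraicGeometry RingTheory.Sequence

namespace Groth.Agent.H8.RegImmStalk3

variable {X Z : Scheme.{u}}

/-- The kernel of the stalk map at `z` is generated by the germs of the kernel of `i.app U`, for an
affine open `U ∋ i z` with affine preimage and `i.app U` surjective. -/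
theorem ker_stalkMap' (i : Z ⟶ X) (z : Z) (U : X.affineOpens) (hx : i z ∈ U.1)
    (hV : IsAffineOpen (i ⁻¹ᵁ U.1)) (hsurj : Function.Surjective (i.app U.1).hom) :
    RingHom.ker (i.stalkMap z).hom =
      (RingHom.ker (i.app U.1).hom).map (X.presheaf.germ U.1 (i z) hx).hom := by
  set x := i z with hxdef
  apply le_antisymm
  · intro b' hb'
    rw [RingHom.mem_ker] at hb'
    letI : Algebra Γ(X, U.1) (X.presheaf.stalk x) :=
      TopCat.Presheaf.algebra_section_stalk X.presheaf ⟨x, hx⟩
    have hloc : IsLocalization.AtPrime (X.presheaf.stalk x)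
        (U.2.primeIdealOf ⟨x, hx⟩).asIdeal := U.2.isLocalization_stalk ⟨x, hx⟩
    letI : Algebra Γ(Z, i ⁻¹ᵁ U.1) (Z.presheaf.stalk z) :=
      TopCat.Presheaf.algebra_section_stalk Z.presheaf ⟨z, hx⟩
    have hlocD : IsLocalization.AtPrime (Z.presheaf.stalk z)
        (hV.primeIdealOf ⟨z, hx⟩).asIdeal := hV.isLocalization_stalk ⟨z, hx⟩
    obtain ⟨⟨b, s⟩, hbs⟩ := IsLocalization.surj (U.2.primeIdealOf ⟨x, hx⟩).asIdeal.primeCompl b'
    have hbs' : b' * (X.presheaf.germ U.1 x hx).hom s.1 = (X.presheaf.germ U.1 x hx).hom b := hbs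
    have hsunit : IsUnit ((X.presheaf.germ U.1 x hx).hom s.1) :=
      IsLocalization.map_units (X.presheaf.stalk x) s
    have h1 : (Z.presheaf.germ (i ⁻¹ᵁ U.1) z hx).hom ((i.app U.1).hom b) = 0 := by
      have := Scheme.Hom.germ_stalkMap_apply i U.1 z hx b
      change (i.stalkMap z).hom ((X.presheaf.germ U.1 x hx).hom b) = _ at this
      rw [← this, ← hbs', map_mul, hb', zero_mul]
    obtain ⟨m, hm⟩ := (IsLocalization.map_eq_zero_iff
      (hV.primeIdealOf ⟨z, hx⟩).asIdeal.primeCompl (Z.presheaf.stalk z) _).mp h1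
    obtain ⟨s', hs'⟩ := hsurj m.1
    have hmunit : IsUnit ((Z.presheaf.germ (i ⁻¹ᵁ U.1) z hx).hom m.1) :=
      IsLocalization.map_units (Z.presheaf.stalk z) m
    have hs'unit : IsUnit ((X.presheaf.germ U.1 x hx).hom s') := by
      have h2 := Scheme.Hom.germ_stalkMap_apply i U.1 z hx s'
      change (i.stalkMap z).hom ((X.presheaf.germ U.1 x hx).hom s') = _ at h2
      rw [hs'] at h2
      rw [← h2] at hmunit
      exact (isUnit_map_iff (i.stalkMap z).hom _).mp hmunit
    have h3 : s' * b ∈ RingHom.ker (i.app U.1).hom := by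
      rw [RingHom.mem_ker, map_mul, hs']
      exact hm
    have h4 : (X.presheaf.germ U.1 x hx).hom (s' * b) ∈
        (RingHom.ker (i.app U.1).hom).map (X.presheaf.germ U.1 x hx).hom :=
      Ideal.mem_map_of_mem _ h3
    rw [map_mul, ← hbs'] at h4
    have h5 : b' * ((X.presheaf.germ U.1 x hx).hom s' * (X.presheaf.germ U.1 x hx).hom s.1) ∈
        (RingHom.ker (i.app U.1).hom).map (X.presheaf.germ U.1 x hx).hom := by
      have : b' * ((X.presheaf.germ U.1 x hx).hom s' * (X.presheaf.germ U.1 x hx).hom s.1) =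
          (X.presheaf.germ U.1 x hx).hom s' * (b' * (X.presheaf.germ U.1 x hx).hom s.1) := by ring
      rw [this]
      exact h4
    exact (Ideal.mul_unit_mem_iff_mem _ (hs'unit.mul hsunit)).mp h5
  · rw [Ideal.map_le_iff_le_comap]
    intro a ha
    rw [Ideal.mem_comap, RingHom.mem_ker]
    have := Scheme.Hom.germ_stalkMap_apply i U.1 z hx a
    change (i.stalkMap z).hom ((X.presheaf.germ U.1 x hx).hom a) = _ at this
    rw [this]
    have h0 : (i.app U.1).hom a = 0 := ha
    change (Z.presheaf.germ (i ⁻¹ᵁ U.1) z hx).hom ((i.app U.1).hom a) = 0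
    rw [h0, map_zero]

/-- If `i ∣_ U` is a closed immersion over an affine open `U`, then `i ⁻¹ᵁ U` is affine and
`i.app U` is surjective. -/
theorem affine_and_surjective_of_isClosedImmersion_restrict (i : Z ⟶ X) (U : X.affineOpens)
    [IsClosedImmersion (i ∣_ U.1)] :
    IsAffineOpen (i ⁻¹ᵁ U.1) ∧ Function.Surjective (i.app U.1).hom := by
  haveI : IsAffine (U.1 : Scheme.{u}) := U.2
  have hV : IsAffineOpen (i ⁻¹ᵁ U.1) := isAffine_of_isAffineHom (i ∣_ U.1)
  refine ⟨hV, ?_⟩
  have h1 : Function.Surjective ((i ∣_ U.1).app ⊤).hom :=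
    (i ∣_ U.1).app_surjective ⊤ (isAffineOpen_top _)
  rw [morphismRestrict_app] at h1
  have h2 : Function.Surjective (i.app (U.1.ι ''ᵁ ⊤)).hom := by
    intro b
    obtain ⟨a, ha⟩ := h1 ((Z.presheaf.map (eqToHom (image_morphismRestrict_preimage i U.1
      ⊤)).op).hom b)
    refine ⟨a, ?_⟩
    have hinj := (ConcreteCategory.bijective_of_isIso
      (Z.presheaf.map (eqToHom (image_morphismRestrict_preimage i U.1 ⊤)).op)).1
    exact hinj ha
  have key : ∀ W : X.Opens, W = U.1.ι ''ᵁ ⊤ → Function.Surjective (i.app W).hom := by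
    rintro _ rfl
    exact h2
  exact key U.1 (U.1.ι_image_top).symm

/-- A regular immersion (in the sense of `RegImm`, kind regular) has stalk kernels generated by
regular sequences. -/
theorem exists_isRegular_ker_stalkMap (i : Z ⟶ X)
    (h : RegImm.IsRegularImmersion RegImm.Kind.regular i) (z : Z) :
    ∃ rs : List (X.presheaf.stalk (i z)), IsRegular (X.presheaf.stalk (i z)) rs ∧
      RingHom.ker (i.stalkMap z).hom = Ideal.ofList rs := by
  obtain ⟨U, hzU, hci, rs, hrs, hrsI⟩ := h.2 z
  haveI := hci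
  obtain ⟨hV, hsurj⟩ := affine_and_surjective_of_isClosedImmersion_restrict i U
  have hker := ker_stalkMap' i z U hzU hV hsurj
  rw [hrsI, Ideal.map_ofList] at hker
  letI : Algebra Γ(X, U.1) (X.presheaf.stalk (i z)) :=
    TopCat.Presheaf.algebra_section_stalk X.presheaf ⟨i z, hzU⟩
  have hloc : IsLocalization.AtPrime (X.presheaf.stalk (i z))
      (U.2.primeIdealOf ⟨i z, hzU⟩).asIdeal := U.2.isLocalization_stalk ⟨i z, hzU⟩
  have hreg : IsWeaklyRegular (X.presheaf.stalk (i z))
      (rs.map (algebraMap Γ(X, U.1) (X.presheaf.stalk (i z)))) :=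
    IsWeaklyRegular.of_isLocalization (X.presheaf.stalk (i z))
      (U.2.primeIdealOf ⟨i z, hzU⟩).asIdeal.primeCompl
      (show IsRegular Γ(X, U.1) rs from hrs).toIsWeaklyRegular
  refine ⟨_, ⟨hreg, ?_⟩, hker⟩
  intro htop
  rw [smul_eq_mul, Ideal.mul_top] at htop
  have h1 : RingHom.ker (i.stalkMap z).hom = ⊤ := by
    rw [hker]
    exact htop.symm
  exact RingHom.ker_ne_top _ h1

/-- A closed immersion from a scheme regular at `y` into a locally Noetherian scheme is regular near
`y` iff the ambient local ring is regular. -/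
theorem regular_near_iff_regular [IsLocallyNoetherian X] (j : Z ⟶ X) [IsClosedImmersion j]
    (y : Z) [IsRegularLocalRing (Z.presheaf.stalk y)] :
    (∃ V : X.Opens, j y ∈ V ∧ Mor2.IsRegularClosedImmersion (j ∣_ V)) ↔
      IsRegularLocalRing (X.presheaf.stalk (j y)) := by
  constructor
  · rintro ⟨V, hyV, h⟩
    obtain ⟨rs, hrs, hker⟩ := RegImmStalk.forward j y V hyV h
    apply Groth.Agent.Lib.Helper85.isRegularLocalRing_of_regular_seq rs hrs
    rw [← hker]
    exact IsRegularLocalRing.of_ringEquiv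
      (RingHom.quotientKerEquivOfSurjective (j.stalkMap_surjective y)).symm
  · intro hreg
    obtain ⟨rs, hrs, hker⟩ := RegLocalQuot.exists_regular_ker (j.stalkMap y).hom
      (j.stalkMap_surjective y)
    exact RegImmStalk.backward j y rs hrs hker

end Groth.Agent.H8.RegImmStalk3
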