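import Groth.Agent.H8.QuasiRegLoc
import Groth.Agent.H8.RegSeqSpread
import Groth.Agent.H8.RegImmComp
import Groth.Prelude.Def_RegImm
import Groth.Agent.H8.RegImmStalk3
import Groth.Agent.Lib.Helper18.RegQuasiReg

/-!
# Quasi-regular ⇒ regular on locally Noetherian schemes (helper8)
-/

set_option autoImplicit false
universe u

namespace Groth.Agent.H8.QuasiRegSch

open RingTheory.Sequence CategoryTheory AlgebraicGeometry

/-- On a locally Noetherian scheme, a quasi-regular sequence of sections over an affine open, all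
vanishing at `x`, is weakly regular on a basic open neighbourhood of `x`. -/
theorem exists_basicOpen_isWeaklyRegular_of_quasi {X : Scheme.{u}} [IsLocallyNoetherian X]
    (U : X.affineOpens) (x : X) (hxU : x ∈ U.1) (rs : List Γ(X, U.1))
    (hq : CAlgX.IsQuasiRegular rs.get) (hle : ∀ r ∈ rs, x ∉ X.basicOpen r) :
    ∃ g : Γ(X, U.1), x ∈ X.basicOpen g ∧
      IsWeaklyRegular Γ(X, X.basicOpen g)
        (rs.map (X.presheaf.map (homOfLE (X.basicOpen_le g)).op).hom) := by
  have hN : IsNoetherianRing Γ(X, U.1) := IsLocallyNoetherian.component_noetherian U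
  letI : Algebra Γ(X, U.1) (X.presheaf.stalk x) :=
    TopCat.Presheaf.algebra_section_stalk X.presheaf ⟨x, hxU⟩
  have hloc : IsLocalization.AtPrime (X.presheaf.stalk x)
      (U.2.primeIdealOf ⟨x, hxU⟩).asIdeal := U.2.isLocalization_stalk ⟨x, hxU⟩
  set p := (U.2.primeIdealOf ⟨x, hxU⟩).asIdeal with hp
  have hmem : ∀ g : Γ(X, U.1), x ∈ X.basicOpen g ↔ g ∉ p := by
    intro g
    rw [Scheme.mem_basicOpen _ _ _ hxU]
    exact IsLocalization.AtPrime.isUnit_to_map_iff (X.presheaf.stalk x) p g
  have hle' : Ideal.ofList rs ≤ p := by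
    rw [Ideal.ofList, Ideal.span_le]
    intro r hr
    by_contra hrp
    exact hle r hr ((hmem r).mpr hrp)
  have hreg := QuasiRegLoc.isWeaklyRegular_atPrime_of_isQuasiRegular p (X.presheaf.stalk x) rs hq hle'
  obtain ⟨f₁, hf₁, hf₁'⟩ := RegSeqSpread.exists_isWeaklyRegular_away_ring Γ(X, U.1) p
    (X.presheaf.stalk x) rs hreg
  have hlocV : IsLocalization.Away f₁ Γ(X, X.basicOpen f₁) := U.2.isLocalization_basicOpen f₁
  exact ⟨f₁, (hmem f₁).mpr hf₁, hf₁' f₁ (Ideal.mem_span_singleton_self f₁) Γ(X, X.basicOpen f₁)⟩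

end Groth.Agent.H8.QuasiRegSch

namespace Groth.Agent.H8.QuasiRegSch

open RingTheory.Sequence CategoryTheory AlgebraicGeometry

/-- On a locally Noetherian scheme every quasi-regular ideal sheaf is regular. -/
theorem isRegularIdeal_regular_of_quasi {X : Scheme.{u}} [IsLocallyNoetherian X]
    (I : X.IdealSheafData) (h : RegImm.IsRegularIdeal RegImm.Kind.quasi I) :
    RegImm.IsRegularIdeal RegImm.Kind.regular I := by
  intro x hx
  obtain ⟨U, hxU, rs, hq, hI⟩ := h x hx
  have hzero : ∀ r ∈ rs, x ∉ X.basicOpen r := by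
    have hx' := hx
    rw [Scheme.IdealSheafData.mem_support_iff_of_mem (U := U) hxU,
      Scheme.mem_zeroLocus_iff] at hx'
    intro r hr
    exact hx' r (by rw [hI]; exact Ideal.subset_span hr)
  obtain ⟨g, hxg, hreg⟩ := exists_basicOpen_isWeaklyRegular_of_quasi U x hxU rs hq hzero
  have hV : IsAffineOpen (X.basicOpen g) := U.2.basicOpen g
  have hI' : I.ideal ⟨X.basicOpen g, hV⟩ =
      Ideal.ofList (rs.map (X.presheaf.map (homOfLE (X.basicOpen_le g)).op).hom) := by
    rw [← I.map_ideal (U := ⟨_, hV⟩) (V := U) (X.basicOpen_le g), hI, Ideal.map_ofList]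
    rfl
  refine ⟨⟨X.basicOpen g, hV⟩, hxg, _, ⟨hreg, ?_⟩, hI'⟩
  intro htop
  rw [smul_eq_mul, Ideal.mul_top, ← hI'] at htop
  rw [Scheme.IdealSheafData.mem_support_iff_of_mem (U := ⟨_, hV⟩) hxg, ← htop,
    Scheme.mem_zeroLocus_iff] at hx
  have := hx 1 (by simp)
  rw [Scheme.basicOpen_of_isUnit _ isUnit_one] at this
  exact this hxg

end Groth.Agent.H8.QuasiRegSch

namespace Groth.Agent.H8.QuasiRegSch

open RingTheory.Sequence CategoryTheory AlgebraicGeometry

/-- Kernel of `f.app` on a basic open of an affine open with affine preimage. -/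
theorem ker_app_basicOpen {X Y : Scheme.{u}} (f : Y ⟶ X) {U : X.Opens} (hU : IsAffineOpen U)
    (h : IsAffineOpen (f ⁻¹ᵁ U)) (r : Γ(X, U)) :
    RingHom.ker (f.app (X.basicOpen r)).hom =
      (RingHom.ker (f.app U).hom).map (X.presheaf.map (homOfLE (X.basicOpen_le r)).op).hom := by
  haveI := hU.isLocalization_basicOpen r
  haveI := h.isLocalization_basicOpen (f.app U r)
  rw [hU.app_basicOpen_eq_away_map f h r, CommRingCat.hom_comp]
  have hinj : Function.Injective (Y.presheaf.map (eqToHom (by simp :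
      f ⁻¹ᵁ X.basicOpen r = Y.basicOpen (f.app U r))).op).hom := by
    have : IsIso (Y.presheaf.map (eqToHom (by simp :
      f ⁻¹ᵁ X.basicOpen r = Y.basicOpen (f.app U r))).op) := inferInstance
    exact ((ConcreteCategory.isIso_iff_bijective _).mp this).1
  rw [RingHom.ker_comp_of_injective _ hinj, CommRingCat.hom_ofHom]
  exact IsLocalization.ker_map (S := Γ(X, X.basicOpen r)) (Γ(Y, Y.basicOpen (f.app U r)))
    (f.app U).hom (Submonoid.map_powers _ r)

/-- Restricting a closed immersion over `U` to a basic open of `U`. -/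
theorem isClosedImmersion_restrict_basicOpen {X Y : Scheme.{u}} (f : Y ⟶ X) (U : X.Opens)
    [IsClosedImmersion (f ∣_ U)] (r : Γ(X, U)) : IsClosedImmersion (f ∣_ X.basicOpen r) := by
  have e := morphismRestrictRestrictBasicOpen f U r
  exact (MorphismProperty.arrow_mk_iso_iff @IsClosedImmersion e).mp inferInstance

end Groth.Agent.H8.QuasiRegSch

namespace Groth.Agent.H8.QuasiRegSch

open RingTheory.Sequence CategoryTheory AlgebraicGeometry

/-- On a locally Noetherian scheme, a morphism which is a quasi-regular immersion at `z` is a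
regular immersion at `z`. -/
theorem isRegularImmersionAt_regular_of_quasi {X Y : Scheme.{u}} [IsLocallyNoetherian X]
    (j : Y ⟶ X) (z : Y) (h : RegImm.IsRegularImmersionAt RegImm.Kind.quasi j z) :
    RegImm.IsRegularImmersionAt RegImm.Kind.regular j z := by
  obtain ⟨U, hzU, hcl, rs, hq, hker⟩ := h
  haveI := hcl
  obtain ⟨hV, hsurj⟩ := RegImmStalk3.affine_and_surjective_of_isClosedImmersion_restrict j U
  have hzero : ∀ r ∈ rs, j z ∉ X.basicOpen r := by
    intro r hr hmem
    have hr0 : (j.app U.1).hom r = 0 := by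
      have : r ∈ RingHom.ker (j.app U.1).hom := by rw [hker]; exact Ideal.subset_span hr
      exact this
    have : z ∈ j ⁻¹ᵁ X.basicOpen r := hmem
    rw [Scheme.preimage_basicOpen, hr0, Scheme.basicOpen_zero] at this
    exact this
  obtain ⟨g, hxg, hreg⟩ := exists_basicOpen_isWeaklyRegular_of_quasi U (j z) hzU rs hq hzero
  have hW : IsAffineOpen (X.basicOpen g) := U.2.basicOpen g
  have hker' : RingHom.ker (j.app (X.basicOpen g)).hom =
      Ideal.ofList (rs.map (X.presheaf.map (homOfLE (X.basicOpen_le g)).op).hom) := by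
    rw [ker_app_basicOpen j U.2 hV g, hker, Ideal.map_ofList]
  refine ⟨⟨X.basicOpen g, hW⟩, hxg, isClosedImmersion_restrict_basicOpen j U.1 g, _,
    ⟨hreg, ?_⟩, hker'⟩
  intro htop
  rw [smul_eq_mul, Ideal.mul_top, ← hker'] at htop
  have h1 : (1 : Γ(X, X.basicOpen g)) ∈ RingHom.ker (j.app (X.basicOpen g)).hom := by
    rw [← htop]; trivial
  rw [RingHom.mem_ker, map_one] at h1
  have : z ∈ Y.basicOpen (1 : Γ(Y, j ⁻¹ᵁ X.basicOpen g)) := by
    rw [Scheme.basicOpen_of_isUnit _ isUnit_one]; exact hxg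
  rw [h1, Scheme.basicOpen_zero] at this
  exact this

/-- A regular immersion (at a point) is quasi-regular (at that point). -/
theorem isRegularImmersionAt_quasi_of_regular {X Y : Scheme.{u}}
    (j : Y ⟶ X) (z : Y) (h : RegImm.IsRegularImmersionAt RegImm.Kind.regular j z) :
    RegImm.IsRegularImmersionAt RegImm.Kind.quasi j z := by
  obtain ⟨U, hzU, hcl, rs, hrs, hker⟩ := h
  refine ⟨U, hzU, hcl, rs, ?_, hker⟩
  exact Groth.Agent.Lib.Helper18.isQuasiRegular_of_isWeaklyRegular _ rs.get
    (by rw [List.ofFn_get]; exact hrs.toIsWeaklyRegular)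

end Groth.Agent.H8.QuasiRegSch
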