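import Groth.Agent.H8.QuasiRegFlat
import Groth.Agent.H8.QuasiRegSch

/-!
# A relative quasi-regular immersion forces flatness of the ambient morphism at Noetherian points
(helper8)
-/

set_option autoImplicit false
universe u

namespace Groth.Agent.H8.QuasiRegFlatSch

open RingTheory.Sequence CategoryTheory AlgebraicGeometry

/-- If `i : Z → X` is a quasi-regular immersion with `Z` flat over `S` and `O_{X, i z}` is Noetherian,
then `f : X → S` is flat at `i z`. -/
theorem flat_stalkMap {Z X S : Scheme.{u}} (f : X ⟶ S) (i : Z ⟶ X)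
    (hi : RegImm.IsRelRegularImmersion RegImm.Kind.quasi f i) (z : Z)
    [IsNoetherianRing (X.presheaf.stalk (i z))] :
    (f.stalkMap (i z)).hom.Flat := by
  obtain ⟨⟨himm, hreg⟩, hflat⟩ := hi
  haveI := himm
  obtain ⟨U, hzU, hcl, rs, hq, hker⟩ := hreg z
  haveI := hcl
  obtain ⟨hV, hsurj⟩ := RegImmStalk3.affine_and_surjective_of_isClosedImmersion_restrict i U
  have hkerst := RegImmStalk3.ker_stalkMap' i z U hzU hV hsurj
  letI : Algebra Γ(X, U.1) (X.presheaf.stalk (i z)) :=
    TopCat.Presheaf.algebra_section_stalk X.presheaf ⟨i z, hzU⟩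
  have hloc : IsLocalization.AtPrime (X.presheaf.stalk (i z))
      (U.2.primeIdealOf ⟨i z, hzU⟩).asIdeal := U.2.isLocalization_stalk ⟨i z, hzU⟩
  have hq' := QuasiRegLoc.isQuasiRegular_localization
    (U.2.primeIdealOf ⟨i z, hzU⟩).asIdeal.primeCompl (X.presheaf.stalk (i z)) rs.get hq
  have hspan : Ideal.span (Set.range fun k =>
      algebraMap Γ(X, U.1) (X.presheaf.stalk (i z)) (rs.get k)) =
      RingHom.ker (i.stalkMap z).hom := by
    rw [hkerst, hker, Ideal.ofList, Ideal.map_span]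
    congr 1
    ext y
    simp only [Set.mem_range, Set.mem_image, Set.mem_ofPred_eq]
    constructor
    · rintro ⟨k, rfl⟩
      exact ⟨rs.get k, List.get_mem rs k, rfl⟩
    · rintro ⟨r, hr, rfl⟩
      obtain ⟨k, rfl⟩ := List.mem_iff_get.mp hr
      exact ⟨k, rfl⟩
  have hJ : Ideal.span (Set.range fun k =>
      algebraMap Γ(X, U.1) (X.presheaf.stalk (i z)) (rs.get k)) ≤ Ideal.jacobson ⊥ := by
    rw [hspan]
    exact (IsLocalRing.le_maximalIdeal (RingHom.ker_ne_top _)).trans
      (IsLocalRing.maximalIdeal_le_jacobson ⊥)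
  have hcomp : ((i ≫ f).stalkMap z).hom =
      (i.stalkMap z).hom.comp (f.stalkMap (i z)).hom := by
    rw [Scheme.Hom.stalkMap_comp]; rfl
  have hfl : ((i.stalkMap z).hom.comp (f.stalkMap (i z)).hom).Flat := by
    rw [← hcomp]
    exact Flat.stalkMap (i ≫ f) z
  have hQ := QuasiRegFlat.flat_quotient_of_flat_comp (f.stalkMap (i z)).hom (i.stalkMap z).hom
    (i.stalkMap_surjective z) _ hspan hfl
  letI : Algebra (S.presheaf.stalk (f (i z))) (X.presheaf.stalk (i z)) :=
    (f.stalkMap (i z)).hom.toAlgebra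
  exact QuasiRegFlat.flat_of_isQuasiRegular _ hq' hJ hQ

end Groth.Agent.H8.QuasiRegFlatSch
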