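import Groth.Agent.Lib.Helper69.UnivHomeo2
import Groth.Agent.Lib.Helper2.UnivHomeo
import Groth.Agent.H8.EtDescent
import Groth.Agent.S2912

/-!
# Étale schemes along a faithfully flat quasi-compact radicial morphism (helper8)

SGA 1 IX 4.10–4.11.  For `g : S' ⟶ S` universally injective, every étale `S'`-scheme `V` carries a
canonical descent datum relative to `g`: two points `x₀, x₁ : T ⟶ S'` with the same image in `S` agree
on a surjective closed subscheme of `T` (the pullback of the diagonal of `g`), and morphisms into an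
étale scheme extend uniquely along such thickenings (helper69).  If `g` is moreover fpqc the datum is
effective (helper26's `S2912`), so that base change `Et(S) ⥤ Et(S')` is essentially surjective; it is
fully faithful by `EtDescent.existsUnique_hom_of_baseChange`.
-/

set_option autoImplicit false
set_option linter.style.haveILetI false
set_option linter.unusedSectionVars false
universe u
open CategoryTheory CategoryTheory.Limits AlgebraicGeometry Desc

namespace Groth.Agent.H8.RadDescent

section Rel

variable {S' : Scheme.{u}} (V : Over S')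

/-- `w` agrees with `v` after restriction along some surjective morphism. -/
def Rel {T : Scheme.{u}} {x₀ x₁ : T ⟶ S'} (v : Lifts V x₀) (w : Lifts V x₁) : Prop :=
  ∃ (F : Scheme.{u}) (j : F ⟶ T), Surjective j ∧ j ≫ v.1 = j ≫ w.1

variable {V}

lemma Rel.refl {T : Scheme.{u}} {x : T ⟶ S'} (v : Lifts V x) : Rel V v v :=
  ⟨T, 𝟙 T, inferInstance, rfl⟩

lemma Rel.symm {T : Scheme.{u}} {x₀ x₁ : T ⟶ S'} {v : Lifts V x₀} {w : Lifts V x₁}
    (h : Rel V v w) : Rel V w v := by
  obtain ⟨F, j, hj, e⟩ := h
  exact ⟨F, j, hj, e.symm⟩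

lemma Rel.trans {T : Scheme.{u}} {x₀ x₁ x₂ : T ⟶ S'} {v : Lifts V x₀} {w : Lifts V x₁}
    {z : Lifts V x₂} (h₁ : Rel V v w) (h₂ : Rel V w z) : Rel V v z := by
  obtain ⟨F₁, j₁, hj₁, e₁⟩ := h₁
  obtain ⟨F₂, j₂, hj₂, e₂⟩ := h₂
  refine ⟨pullback j₁ j₂, pullback.fst j₁ j₂ ≫ j₁, inferInstance, ?_⟩
  rw [Category.assoc, e₁, ← Category.assoc, pullback.condition, Category.assoc, e₂,
    Category.assoc]

lemma Rel.comp {T T' : Scheme.{u}} {x₀ x₁ : T ⟶ S'} {v : Lifts V x₀} {w : Lifts V x₁}
    (h : Rel V v w) (k : T' ⟶ T) (v' : Lifts V (k ≫ x₀)) (w' : Lifts V (k ≫ x₁))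
    (hv' : v'.1 = k ≫ v.1) (hw' : w'.1 = k ≫ w.1) : Rel V v' w' := by
  obtain ⟨F, j, hj, e⟩ := h
  refine ⟨pullback j k, pullback.snd j k, inferInstance, ?_⟩
  rw [hv', hw', ← Category.assoc, ← pullback.condition, Category.assoc, e, ← Category.assoc,
    pullback.condition, Category.assoc]

variable [Etale V.hom]

lemma Rel.unique {T : Scheme.{u}} {x₀ x₁ : T ⟶ S'} {v : Lifts V x₀} {w w' : Lifts V x₁}
    (h : Rel V v w) (h' : Rel V v w') : w = w' := by
  obtain ⟨F, j, hj, e⟩ := h.symm.trans h'
  haveI : IsOpenImmersion (pullback.diagonal V.hom) := inferInstance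
  exact Subtype.ext (Groth.Agent.Lib.Helper69.eq_of_comp_eq_of_surjective V.hom w.1 w'.1
    (w.2.trans w'.2.symm) j e)

end Rel

section DD

variable {S' S : Scheme.{u}} (g : S' ⟶ S) [UniversallyInjective g] (V : Over S') [Etale V.hom]

/-- Existence of the transported point. -/
lemma exists_rel {T : Scheme.{u}} (x₀ x₁ : T ⟶ S') (h : x₀ ≫ g = x₁ ≫ g) (v : Lifts V x₀) :
    ∃ w : Lifts V x₁, Rel V v w := by
  haveI : IsClosedImmersion (pullback.diagonal g) :=
    Groth.Agent.Lib.Helper2.isClosedImmersion_diagonal_of_universallyInjective g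
  haveI : Surjective (pullback.diagonal g) := (UniversallyInjective.iff_diagonal g).mp ‹_›
  let i : pullback (pullback.lift x₀ x₁ h) (pullback.diagonal g) ⟶ T := pullback.fst _ _
  have hi₀ : i ≫ x₀ = pullback.snd (pullback.lift x₀ x₁ h) (pullback.diagonal g) := by
    calc i ≫ x₀ = i ≫ (pullback.lift x₀ x₁ h ≫ pullback.fst g g) := by rw [pullback.lift_fst]
      _ = (i ≫ pullback.lift x₀ x₁ h) ≫ pullback.fst g g := (Category.assoc _ _ _).symm
      _ = (pullback.snd (pullback.lift x₀ x₁ h) (pullback.diagonal g) ≫ pullback.diagonal g) ≫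
            pullback.fst g g := by rw [pullback.condition]
      _ = _ := by rw [Category.assoc, pullback.diagonal_fst, Category.comp_id]
  have hi₁ : i ≫ x₁ = pullback.snd (pullback.lift x₀ x₁ h) (pullback.diagonal g) := by
    calc i ≫ x₁ = i ≫ (pullback.lift x₀ x₁ h ≫ pullback.snd g g) := by rw [pullback.lift_snd]
      _ = (i ≫ pullback.lift x₀ x₁ h) ≫ pullback.snd g g := (Category.assoc _ _ _).symm
      _ = (pullback.snd (pullback.lift x₀ x₁ h) (pullback.diagonal g) ≫ pullback.diagonal g) ≫
            pullback.snd g g := by rw [pullback.condition]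
      _ = _ := by rw [Category.assoc, pullback.diagonal_snd, Category.comp_id]
  haveI : IsIntegralHom i := inferInstance
  haveI : UniversallyInjective i := inferInstance
  haveI : Surjective i := inferInstance
  obtain ⟨w, hw1, hw2⟩ := Groth.Agent.Lib.Helper69.exists_desc_of_universalHomeo' i V.hom x₁
    (i ≫ v.1) (by rw [Category.assoc, v.2, hi₀, hi₁])
  exact ⟨⟨w, hw1⟩, _, i, inferInstance, hw2.symm⟩

/-- The canonical descent datum on an étale scheme over the source of a radicial morphism. -/
noncomputable def dd : SchDD g where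
  obj := V
  φ T x₀ x₁ h :=
    { toFun := fun v => (exists_rel g V x₀ x₁ h v).choose
      invFun := fun w => (exists_rel g V x₁ x₀ h.symm w).choose
      left_inv := fun v =>
        ((exists_rel g V x₀ x₁ h v).choose_spec.trans
          (exists_rel g V x₁ x₀ h.symm _).choose_spec).unique (Rel.refl v)
      right_inv := fun w =>
        ((exists_rel g V x₁ x₀ h.symm w).choose_spec.trans
          (exists_rel g V x₀ x₁ h _).choose_spec).unique (Rel.refl w) }
  φ_natural T T' k x₀ x₁ h h' v v' hv' := by
    have h1 := (exists_rel g V x₀ x₁ h v).choose_spec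
    have h2 := (exists_rel g V (k ≫ x₀) (k ≫ x₁) h' v').choose_spec
    have h3 : Rel V v' (⟨k ≫ (exists_rel g V x₀ x₁ h v).choose.1, by
        rw [Category.assoc, (exists_rel g V x₀ x₁ h v).choose.2]⟩ : Lifts V (k ≫ x₁)) :=
      h1.comp k v' _ hv' rfl
    exact congrArg Subtype.val (h2.unique h3)
  φ_self T x v := ((exists_rel g V x x rfl v).choose_spec).unique (Rel.refl v)
  φ_comp T x₀ x₁ x₂ h₀₁ h₁₂ v :=
    (((exists_rel g V x₀ x₁ h₀₁ v).choose_spec).trans
      (exists_rel g V x₁ x₂ h₁₂ _).choose_spec).unique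
      (exists_rel g V x₀ x₂ (h₀₁.trans h₁₂) v).choose_spec

end DD

section Main

variable {S' S : Scheme.{u}} (g : S' ⟶ S)

/-- A surjective radicial morphism has geometrically connected fibres. -/
theorem geometricallyConnected_of_radicial [Surjective g] [UniversallyInjective g] :
    GeometricallyConnected g := by
  refine ⟨geometrically_iff_of_isClosedUnderIsomorphisms.mpr fun K _ y => ?_⟩
  haveI : UniversallyInjective (pullback.snd g y) :=
    MorphismProperty.pullback_snd (P := @UniversallyInjective) g y inferInstance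
  have hinj : Function.Injective (pullback.snd g y) := (pullback.snd g y).injective
  have hsurj : Function.Surjective (pullback.snd g y) := (pullback.snd g y).surjective
  haveI : Subsingleton ↥(pullback g y) := ⟨fun a b => hinj (Subsingleton.elim _ _)⟩
  obtain ⟨z⟩ : Nonempty ↥(Spec (CommRingCat.of K)) := inferInstance
  obtain ⟨a, _⟩ := hsurj z
  exact { toPreconnectedSpace := inferInstance, toNonempty := ⟨a⟩ }

/-- Full faithfulness of base change of étale schemes along an fpqc morphism with geometrically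
connected fibres, in `Over` form. -/
theorem bijective_pullback_map [Flat g] [Surjective g] [QuasiCompact g] [GeometricallyConnected g]
    (X Y : Over S) [Etale Y.hom] :
    Function.Bijective ((Over.pullback g).map : (X ⟶ Y) → _) := by
  have hleft : ∀ φ : X ⟶ Y, ((Over.pullback g).map φ).left ≫ pullback.fst Y.hom g =
      pullback.fst X.hom g ≫ φ.left := by
    intro φ
    simp only [Over.pullback_map_left]
    exact pullback.lift_fst _ _ _
  constructor
  · intro φ1 φ2 h
    obtain ⟨u, _, huniq⟩ := Groth.Agent.H8.EtDescent.existsUnique_hom_of_baseChange g X.hom Y.hom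
      ((Over.pullback g).map φ1).left (Over.w ((Over.pullback g).map φ1))
    have h1 := huniq φ1.left ⟨Over.w φ1, (hleft φ1).symm⟩
    have h2 := huniq φ2.left ⟨Over.w φ2, by rw [h]; exact (hleft φ2).symm⟩
    ext1
    exact h1.trans h2.symm
  · intro ψ
    obtain ⟨u, ⟨hu1, hu2⟩, _⟩ := Groth.Agent.H8.EtDescent.existsUnique_hom_of_baseChange g
      X.hom Y.hom ψ.left (Over.w ψ)
    refine ⟨Over.homMk u hu1, ?_⟩
    ext1
    apply pullback.hom_ext
    · rw [hleft]
      exact hu2
    · exact (Over.w ((Over.pullback g).map (Over.homMk u hu1 : X ⟶ Y))).trans (Over.w ψ).symm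

/-- Every étale scheme over the source of an fpqc radicial morphism descends. -/
theorem exists_descent [Flat g] [Surjective g] [QuasiCompact g] [UniversallyInjective g]
    (V : Over S') [Etale V.hom] :
    ∃ (U : Over S) (_ : Etale U.hom) (e : pullback U.hom g ≅ V.left),
      e.hom ≫ V.hom = pullback.snd U.hom g := by
  obtain ⟨U, ⟨iso⟩⟩ := Groth.Agent.S2912.result g (dd g V)
  have h1 : iso.hom.hom ≫ iso.inv.hom = 𝟙 _ := by
    rw [← Desc.SchDD.comp_hom, iso.hom_inv_id]; rfl
  have h2 : iso.inv.hom ≫ iso.hom.hom = 𝟙 _ := by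
    rw [← Desc.SchDD.comp_hom, iso.inv_hom_id]; rfl
  have hiso : IsIso iso.hom.hom.left :=
    ⟨⟨iso.inv.hom.left, by rw [← Over.comp_left, h1]; rfl, by rw [← Over.comp_left, h2]; rfl⟩⟩
  have hw : iso.hom.hom.left ≫ V.hom = pullback.fst g U.hom := Over.w iso.hom.hom
  have hgQ : (@Surjective ⊓ @Flat ⊓ @QuasiCompact : MorphismProperty Scheme.{u}) g :=
    ⟨⟨inferInstance, inferInstance⟩, inferInstance⟩
  have het : Etale (pullback.fst g U.hom) := by
    rw [← hw]
    have hV : Etale V.hom := inferInstance
    exact (MorphismProperty.cancel_left_of_respectsIso @Etale iso.hom.hom.left V.hom).2 hV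
  have hU : Etale U.hom := MorphismProperty.of_pullback_fst_of_descendsAlong (P := @Etale)
    (Q := @Surjective ⊓ @Flat ⊓ @QuasiCompact) hgQ het
  refine ⟨U, hU, pullbackSymmetry U.hom g ≪≫ @asIso _ _ _ _ iso.hom.hom.left hiso, ?_⟩
  have e1 : (pullbackSymmetry U.hom g ≪≫ @asIso _ _ _ _ iso.hom.hom.left hiso).hom ≫ V.hom =
      (pullbackSymmetry U.hom g).hom ≫ (iso.hom.hom.left ≫ V.hom) := Category.assoc _ _ _
  exact e1.trans ((congrArg (fun m => (pullbackSymmetry U.hom g).hom ≫ m) hw).trans
    (pullbackSymmetry_hom_comp_fst _ _))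

end Main

end Groth.Agent.H8.RadDescent
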