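import Groth.Agent.H8.RegImmStalk4
import Groth.Agent.Lib.Helper29.DepthCM
import Groth.Agent.Lib.Helper29.DepthQuot
import Groth.Agent.Lib.Helper29.Depth

/-!
helper8: a regularly immersed closed subscheme of a Cohen–Macaulay scheme has no embedded points.
-/

set_option autoImplicit false
universe u

open CategoryTheory AlgebraicGeometry RingTheory.Sequence IsLocalRing

namespace Groth.Agent.H8.RegImmCM

open Groth.Agent.Lib.Helper29

/-- Quotient of a CM local ring by a regular sequence: dimension equals depth. -/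
theorem ringKrullDim_eq_depth_of_surjective {R S : Type u} [CommRing R] [CommRing S]
    [LocCoh.IsCohenMacaulayLocalRing R] [IsLocalRing S] (φ : R →+* S)
    (hφ : Function.Surjective φ) (rs : List R) (hrs : IsRegular R rs)
    (hker : RingHom.ker φ = Ideal.ofList rs) :
    ringKrullDim S = ((LocCoh.depth S S : ℕ∞) : WithBot ℕ∞) := by
  have hCM : LocCoh.IsCohenMacaulayModule R R :=
    LocCoh.IsCohenMacaulayLocalRing.supportDim_eq_depth
  have hrsm : ∀ r ∈ rs, r ∈ maximalIdeal R := fun r hr =>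
    RegLocalQuot2.mem_maximalIdeal_of_isRegular hrs (Ideal.subset_span hr)
  have h1 := isCohenMacaulayModule_quotient_ofList R R hCM rs hrsm hrs.toIsWeaklyRegular
  have heq : (Ideal.ofList rs • ⊤ : Submodule R R) = Ideal.ofList rs := by
    rw [smul_eq_mul, Ideal.mul_top]
  let e₁ : (R ⧸ (Ideal.ofList rs • ⊤ : Submodule R R)) ≃ₗ[R] (R ⧸ Ideal.ofList rs) :=
    Submodule.quotEquivOfEq _ _ heq
  have h2 : LocCoh.IsCohenMacaulayModule R (R ⧸ Ideal.ofList rs) :=
    (isCohenMacaulayModule_congr R e₁).mp h1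
  have hne : Ideal.ofList rs ≠ ⊤ := by
    rw [← hker]
    exact RingHom.ker_ne_top φ
  haveI : IsLocalRing (R ⧸ Ideal.ofList rs) :=
    Groth.Agent.Lib.Helper85.isLocalRing_quotient _ hne
  have h3 : ringKrullDim (R ⧸ Ideal.ofList rs) =
      ((LocCoh.depth (R ⧸ Ideal.ofList rs) (R ⧸ Ideal.ofList rs) : ℕ∞) : WithBot ℕ∞) := by
    rw [depth_self_eq_depth_of_surjective (R := R) (R' := R ⧸ Ideal.ofList rs)
      Ideal.Quotient.mk_surjective, ← Module.supportDim_quotient_eq_ringKrullDim]
    exact h2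
  let e : (R ⧸ Ideal.ofList rs) ≃+* S :=
    (Ideal.quotEquivOfEq hker.symm).trans (RingHom.quotientKerEquivOfSurjective hφ)
  haveI : IsNoetherianRing (R ⧸ Ideal.ofList rs) := inferInstance
  rw [← e.ringKrullDim, h3, depth_self_eq_of_ringEquiv e]

/-- No embedded points on a regularly immersed closed subscheme of a CM scheme. -/
theorem ringKrullDim_stalk_eq_zero {X Z : Scheme.{u}} [IsLocallyNoetherian X]
    (hCM : ∀ x : X, LocCoh.IsCohenMacaulayLocalRing (X.presheaf.stalk x))
    (i : Z ⟶ X) [IsClosedImmersion i] (hi : RegImm.IsRegularImmersion RegImm.Kind.regular i)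
    (z : Z)
    (hz : IsAssociatedPrime (maximalIdeal (Z.presheaf.stalk z)) (Z.presheaf.stalk z)) :
    ringKrullDim (Z.presheaf.stalk z) = 0 := by
  obtain ⟨rs, hrs, hker⟩ := RegImmStalk3.exists_isRegular_ker_stalkMap i hi z
  haveI := hCM (i z)
  haveI : IsLocallyNoetherian Z := RegImmStalk4.isLocallyNoetherian_of_isClosedImmersion i
  rw [ringKrullDim_eq_depth_of_surjective (i.stalkMap z).hom (i.stalkMap_surjective z) rs hrs hker]
  have h0 : LocCoh.depth (Z.presheaf.stalk z) (Z.presheaf.stalk z) = 0 :=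
    (depth_eq_zero_iff (Z.presheaf.stalk z) (Z.presheaf.stalk z)).mpr hz
  rw [h0]
  rfl

end Groth.Agent.H8.RegImmCM
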