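import Groth.Agent.H8.RegImmStalk
import Groth.Agent.Lib.Helper18.IdealComap
import Mathlib.AlgebraicGeometry.IdealSheaf.Functorial

/-!
helper8: flat base change of regular closed immersions.
-/

set_option autoImplicit false
universe u

open CategoryTheory AlgebraicGeometry RingTheory.Sequence Limits

namespace Groth.Agent.H8.RegImmFlat

open Groth.Agent.Lib.Helper18

/-- The kernel of the base change of a closed immersion is the pulled-back ideal sheaf. -/
theorem ker_pullback_snd {X X' Y : Scheme.{u}} (f : Y ⟶ X) (g : X' ⟶ X) [IsClosedImmersion f] :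
    (pullback.snd f g).ker = f.ker.comap g := by
  rw [← Scheme.IdealSheafData.ker_fst_of_isClosedImmersion f g, ← pullbackSymmetry_hom_comp_fst,
    Scheme.Hom.ker_comp_of_isIso]

/-- Flat base change of a regular closed immersion. -/
theorem baseChange {X X' Y : Scheme.{u}} (f : Y ⟶ X) (g : X' ⟶ X) [Flat g]
    (hf : Mor2.IsRegularClosedImmersion f) :
    Mor2.IsRegularClosedImmersion (pullback.snd f g) := by
  obtain ⟨hci, hf'⟩ := hf
  refine ⟨inferInstance, fun z' => ?_⟩
  obtain ⟨U, hU, hyU, rs, hrs, hrsI⟩ := hf' (pullback.fst f g z')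
  have hcond : f (pullback.fst f g z') = g (pullback.snd f g z') := by
    have := congrArg (fun φ => φ.base z') (pullback.condition (f := f) (g := g))
    simpa using this
  have hx' : pullback.snd f g z' ∈ g ⁻¹ᵁ U := by
    change g (pullback.snd f g z') ∈ U
    rw [← hcond]
    exact hyU
  obtain ⟨_, ⟨U', hU', rfl⟩, hx'U', hU'le⟩ :=
    X'.isBasis_affineOpens.exists_subset_of_mem_open hx' (g ⁻¹ᵁ U).isOpen
  have e : U' ≤ g ⁻¹ᵁ U := hU'le
  have hflat : (g.appLE U U' e).hom.Flat :=
    HasRingHomProperty.appLE (P := @Flat) g inferInstance ⟨U, hU⟩ ⟨U', hU'⟩ e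
  have hreg : IsWeaklyRegular Γ(X', U') (rs.map (g.appLE U U' e).hom) := by
    letI : Algebra Γ(X, U) Γ(X', U') := (g.appLE U U' e).hom.toAlgebra
    have : Module.Flat Γ(X, U) Γ(X', U') := hflat
    exact hrs.toIsWeaklyRegular.of_flat
  have hideal : (pullback.snd f g).ker.ideal ⟨U', hU'⟩ =
      Ideal.ofList (rs.map (g.appLE U U' e).hom) := by
    rw [ker_pullback_snd, ideal_comap_of_le g f.ker ⟨U', hU'⟩ ⟨U, hU⟩ e, hrsI, Ideal.map_ofList]
  exact ⟨U', hU', hx'U', _, ⟨hreg, RegImmStalk.top_ne_ofList_smul_top (pullback.snd f g) z'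
    ⟨U', hU'⟩ hx'U' _ hideal⟩, hideal⟩

end Groth.Agent.H8.RegImmFlat
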