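import Groth.Agent.H8.RegImmComp
import Groth.Agent.H8.RegSeqSpread
import Mathlib.AlgebraicGeometry.Noetherian

/-!
helper8: regular closed immersions and regular sequences in the local ring.
-/

set_option autoImplicit false
universe u

open CategoryTheory AlgebraicGeometry RingTheory.Sequence

namespace Groth.Agent.H8.RegImmStalk

variable {X Z : Scheme.{u}}

/-- The kernel of the stalk map of a closed immersion at `z` is generated by the germs of the kernel
ideal on any affine open containing `i z`. -/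
theorem ker_stalkMap (i : Z ⟶ X) [IsClosedImmersion i] (z : Z) (U : X.affineOpens)
    (hx : i z ∈ U.1) :
    RingHom.ker (i.stalkMap z).hom =
      (i.ker.ideal U).map (X.presheaf.germ U.1 (i z) hx).hom := by
  set x := i z with hxdef
  have hV : IsAffineOpen (i ⁻¹ᵁ U.1) := U.2.preimage i
  have hker : RingHom.ker (i.app U.1).hom = i.ker.ideal U := (Scheme.Hom.ker_apply i U).symm
  have hsurj : Function.Surjective (i.app U.1).hom := i.app_surjective U.1 U.2
  apply le_antisymm
  · intro b' hb'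
    rw [RingHom.mem_ker] at hb'
    letI : Algebra Γ(X, U.1) (X.presheaf.stalk x) :=
      TopCat.Presheaf.algebra_section_stalk X.presheaf ⟨x, hx⟩
    have hloc : IsLocalization.AtPrime (X.presheaf.stalk x)
        (U.2.primeIdealOf ⟨x, hx⟩).asIdeal := U.2.isLocalization_stalk ⟨x, hx⟩
    letI : Algebra Γ(Z, i ⁻¹ᵁ U.1) (Z.presheaf.stalk z) :=
      TopCat.Presheaf.algebra_section_stalk Z.presheaf ⟨z, hx⟩
    have hlocD : IsLocalization.AtPrime (Z.presheaf.stalk z)
        (hV.primeIdealOf ⟨z, hx⟩).asIdeal := hV.isLocalization_stalk ⟨z, hx⟩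
    obtain ⟨⟨b, s⟩, hbs⟩ := IsLocalization.surj (U.2.primeIdealOf ⟨x, hx⟩).asIdeal.primeCompl b'
    have hbs' : b' * (X.presheaf.germ U.1 x hx).hom s.1 = (X.presheaf.germ U.1 x hx).hom b := hbs
    have hsunit : IsUnit ((X.presheaf.germ U.1 x hx).hom s.1) :=
      IsLocalization.map_units (X.presheaf.stalk x) s
    have h1 : (Z.presheaf.germ (i ⁻¹ᵁ U.1) z hx).hom ((i.app U.1).hom b) = 0 := by
      have := Scheme.Hom.germ_stalkMap_apply i U.1 z hx b
      change (i.stalkMap z).hom ((X.presheaf.germ U.1 x hx).hom b) = _ at this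
      rw [← this, ← hbs', map_mul, hb', zero_mul]
    obtain ⟨m, hm⟩ := (IsLocalization.map_eq_zero_iff
      (hV.primeIdealOf ⟨z, hx⟩).asIdeal.primeCompl (Z.presheaf.stalk z) _).mp h1
    obtain ⟨s', hs'⟩ := hsurj m.1
    have hmunit : IsUnit ((Z.presheaf.germ (i ⁻¹ᵁ U.1) z hx).hom m.1) :=
      IsLocalization.map_units (Z.presheaf.stalk z) m
    have hs'unit : IsUnit ((X.presheaf.germ U.1 x hx).hom s') := by
      have h2 := Scheme.Hom.germ_stalkMap_apply i U.1 z hx s'
      change (i.stalkMap z).hom ((X.presheaf.germ U.1 x hx).hom s') = _ at h2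
      rw [hs'] at h2
      rw [← h2] at hmunit
      exact (isUnit_map_iff (i.stalkMap z).hom _).mp hmunit
    have h3 : s' * b ∈ i.ker.ideal U := by
      rw [← hker, RingHom.mem_ker, map_mul, hs']
      exact hm
    have h4 : (X.presheaf.germ U.1 x hx).hom (s' * b) ∈
        (i.ker.ideal U).map (X.presheaf.germ U.1 x hx).hom := Ideal.mem_map_of_mem _ h3
    rw [map_mul, ← hbs'] at h4
    have h5 : b' * ((X.presheaf.germ U.1 x hx).hom s' * (X.presheaf.germ U.1 x hx).hom s.1) ∈
        (i.ker.ideal U).map (X.presheaf.germ U.1 x hx).hom := by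
      have : b' * ((X.presheaf.germ U.1 x hx).hom s' * (X.presheaf.germ U.1 x hx).hom s.1) =
          (X.presheaf.germ U.1 x hx).hom s' * (b' * (X.presheaf.germ U.1 x hx).hom s.1) := by ring
      rw [this]
      exact h4
    exact (Ideal.mul_unit_mem_iff_mem _ (hs'unit.mul hsunit)).mp h5
  · rw [Ideal.map_le_iff_le_comap]
    intro a ha
    rw [Ideal.mem_comap, RingHom.mem_ker]
    have := Scheme.Hom.germ_stalkMap_apply i U.1 z hx a
    change (i.stalkMap z).hom ((X.presheaf.germ U.1 x hx).hom a) = _ at this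
    rw [this]
    have h0 : (i.app U.1).hom a = 0 := by
      rw [← RingHom.mem_ker, hker]
      exact ha
    change (Z.presheaf.germ (i ⁻¹ᵁ U.1) z hx).hom ((i.app U.1).hom a) = 0
    rw [h0, map_zero]

/-- If the kernel ideal on an affine open meeting the image is generated by a list, the list
generates a proper ideal. -/
theorem top_ne_ofList_smul_top (i : Z ⟶ X) (z : Z) (U : X.affineOpens) (hx : i z ∈ U.1)
    (rs : List Γ(X, U.1)) (h : i.ker.ideal U = Ideal.ofList rs) :
    (⊤ : Submodule Γ(X, U.1) Γ(X, U.1)) ≠ Ideal.ofList rs • ⊤ := by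
  intro htop
  rw [smul_eq_mul, Ideal.mul_top, ← h] at htop
  have hmem : i z ∈ i.ker.support := Scheme.Hom.range_subset_ker_support i ⟨z, rfl⟩
  rw [Scheme.IdealSheafData.mem_support_iff_of_mem (U := U) hx, ← htop,
    Scheme.mem_zeroLocus_iff] at hmem
  have := hmem 1 (by simp)
  rw [Scheme.basicOpen_of_isUnit _ isUnit_one] at this
  exact this hx

/-- A closed immersion which is regular near `i z` has the kernel of its stalk map at `z` generated
by a regular sequence. -/
theorem forward (i : Z ⟶ X) [IsClosedImmersion i] (z : Z) (V : X.Opens) (hzV : i z ∈ V)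
    (h : Mor2.IsRegularClosedImmersion (i ∣_ V)) :
    ∃ rs : List (X.presheaf.stalk (i z)), IsRegular (X.presheaf.stalk (i z)) rs ∧
      RingHom.ker (i.stalkMap z).hom = Ideal.ofList rs := by
  obtain ⟨U', hU', hzU', rs, hrs, hrsI⟩ := h.2 ⟨z, hzV⟩
  let W : X.affineOpens := ⟨V.ι ''ᵁ U', hU'.image_of_isOpenImmersion _⟩
  have hzW : i z ∈ W.1 := by
    refine ⟨(i ∣_ V) ⟨z, hzV⟩, hzU', ?_⟩
    have := congrArg (fun φ => φ.base ⟨z, hzV⟩) (morphismRestrict_ι i V)
    simpa using this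
  obtain ⟨rsW, hrsW, hI⟩ : ∃ rsW : List Γ(X, W.1), IsRegular Γ(X, W.1) rsW ∧
      i.ker.ideal W = Ideal.ofList rsW :=
    ⟨rs, hrs, (Scheme.ker_morphismRestrict_ideal i V ⟨U', hU'⟩).symm.trans hrsI⟩
  clear hrsI hrs
  have hker := ker_stalkMap i z W hzW
  rw [hI, Ideal.map_ofList] at hker
  letI : Algebra Γ(X, W.1) (X.presheaf.stalk (i z)) :=
    TopCat.Presheaf.algebra_section_stalk X.presheaf ⟨i z, hzW⟩
  have hloc : IsLocalization.AtPrime (X.presheaf.stalk (i z))
      (W.2.primeIdealOf ⟨i z, hzW⟩).asIdeal := W.2.isLocalization_stalk ⟨i z, hzW⟩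
  have hreg : IsWeaklyRegular (X.presheaf.stalk (i z))
      (rsW.map (algebraMap Γ(X, W.1) (X.presheaf.stalk (i z)))) :=
    IsWeaklyRegular.of_isLocalization (X.presheaf.stalk (i z))
      (W.2.primeIdealOf ⟨i z, hzW⟩).asIdeal.primeCompl hrsW.toIsWeaklyRegular
  refine ⟨_, ⟨hreg, ?_⟩, hker⟩
  intro htop
  rw [smul_eq_mul, Ideal.mul_top] at htop
  have h1 : RingHom.ker (i.stalkMap z).hom = ⊤ := by
    rw [hker]
    exact htop.symm
  exact RingHom.ker_ne_top _ h1

/-- If the kernel of the stalk map at `z` of a closed immersion into a locally Noetherian scheme is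
generated by a regular sequence, then the immersion is regular near `i z`. -/
theorem backward [IsLocallyNoetherian X] (i : Z ⟶ X) [IsClosedImmersion i] (z : Z)
    (rs : List (X.presheaf.stalk (i z))) (hrs : IsRegular (X.presheaf.stalk (i z)) rs)
    (hker : RingHom.ker (i.stalkMap z).hom = Ideal.ofList rs) :
    ∃ V : X.Opens, i z ∈ V ∧ Mor2.IsRegularClosedImmersion (i ∣_ V) := by
  obtain ⟨_, ⟨U, hU, rfl⟩, hxU, -⟩ :=
    X.isBasis_affineOpens.exists_subset_of_mem_open (Set.mem_univ (i z)) isOpen_univ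
  have hxU' : i z ∈ U := hxU
  have hN : IsNoetherianRing Γ(X, U) := IsLocallyNoetherian.component_noetherian ⟨U, hU⟩
  letI : Algebra Γ(X, U) (X.presheaf.stalk (i z)) :=
    TopCat.Presheaf.algebra_section_stalk X.presheaf ⟨i z, hxU'⟩
  have hloc : IsLocalization.AtPrime (X.presheaf.stalk (i z))
      (hU.primeIdealOf ⟨i z, hxU'⟩).asIdeal := hU.isLocalization_stalk ⟨i z, hxU'⟩
  set p := (hU.primeIdealOf ⟨i z, hxU'⟩).asIdeal with hp
  obtain ⟨as, has⟩ := RegSeqSpread.exists_list_map_unit p.primeCompl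
    (X.presheaf.stalk (i z)) rs
  have hreg : IsWeaklyRegular (X.presheaf.stalk (i z))
      (as.map (algebraMap Γ(X, U) (X.presheaf.stalk (i z)))) :=
    RegSeqSpread.isWeaklyRegular_of_forall₂_unit has _ hrs.toIsWeaklyRegular
  have hideal : (Ideal.ofList as).map (algebraMap Γ(X, U) (X.presheaf.stalk (i z))) =
      (i.ker.ideal ⟨U, hU⟩).map (algebraMap Γ(X, U) (X.presheaf.stalk (i z))) := by
    rw [Ideal.map_ofList, RegSeqSpread.ofList_eq_of_forall₂_unit has, ← hker,
      ker_stalkMap i z ⟨U, hU⟩ hxU']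
    rfl
  obtain ⟨f₁, hf₁, hf₁'⟩ := RegSeqSpread.exists_isWeaklyRegular_away_ring Γ(X, U) p
    (X.presheaf.stalk (i z)) as hreg
  obtain ⟨f₂, hf₂, hf₂'⟩ := RegSeqSpread.exists_map_eq_away Γ(X, U) p
    (X.presheaf.stalk (i z)) _ _ hideal
  set g := f₁ * f₂ with hg
  have hgp : g ∉ p := fun hmem => (Ideal.IsPrime.mem_or_mem inferInstance hmem).elim hf₁ hf₂
  have hV : IsAffineOpen (X.basicOpen g) := hU.basicOpen g
  have hVU : X.basicOpen g ≤ U := X.basicOpen_le g
  have hxV : i z ∈ X.basicOpen g := by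
    rw [Scheme.mem_basicOpen _ _ _ hxU']
    exact (IsLocalization.AtPrime.isUnit_to_map_iff (X.presheaf.stalk (i z)) p g).mpr hgp
  have hlocV : IsLocalization.Away g Γ(X, X.basicOpen g) := hU.isLocalization_basicOpen g
  have hregV := hf₁' g (Ideal.mem_span_singleton'.mpr ⟨f₂, by rw [hg]; ring⟩)
    Γ(X, X.basicOpen g)
  have hidealV := hf₂' g (Ideal.mem_span_singleton'.mpr ⟨f₁, by rw [hg]⟩)
    Γ(X, X.basicOpen g)
  have hidealV' : i.ker.ideal ⟨X.basicOpen g, hV⟩ =
      Ideal.ofList (as.map (algebraMap Γ(X, U) Γ(X, X.basicOpen g))) := by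
    rw [← Ideal.map_ofList, hidealV]
    exact (i.ker.map_ideal (U := ⟨X.basicOpen g, hV⟩) (V := ⟨U, hU⟩) hVU).symm
  refine ⟨X.basicOpen g, hxV, inferInstance, fun z' => ?_⟩
  haveI : IsAffine (X.basicOpen g : Scheme.{u}) := hV
  have hU' : IsAffineOpen (⊤ : (X.basicOpen g : Scheme.{u}).Opens) := isAffineOpen_top _
  let W : X.affineOpens := ⟨(X.basicOpen g).ι ''ᵁ ⊤, hU'.image_of_isOpenImmersion _⟩
  have hWV : W.1 ≤ X.basicOpen g := (Scheme.Opens.ι_image_top _).le
  obtain ⟨hreg'', hideal''⟩ := RegImmComp.restrict_regular i.ker ⟨X.basicOpen g, hV⟩ W hWV _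
    hregV hidealV'
  have hkerR : (i ∣_ X.basicOpen g).ker.ideal ⟨⊤, hU'⟩ = Ideal.ofList _ :=
    (Scheme.ker_morphismRestrict_ideal i (X.basicOpen g) ⟨⊤, hU'⟩).trans hideal''
  exact ⟨⊤, hU', trivial, _, ⟨hreg'', top_ne_ofList_smul_top (i ∣_ X.basicOpen g) z' ⟨⊤, hU'⟩
    trivial _ hkerR⟩, hkerR⟩

end Groth.Agent.H8.RegImmStalk
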