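import Groth.Agent.H8.RegImmStalk
import Groth.Agent.H8.RegLocalQuot
import Groth.Prelude.Def_RegImm
import Mathlib.AlgebraicGeometry.Morphisms.Immersion

/-!
helper8: an immersion of regular schemes is a regular immersion.
-/

set_option autoImplicit false
universe u

open CategoryTheory AlgebraicGeometry RingTheory.Sequence
open scoped Set.Notation

namespace Groth.Agent.H8.RegImmStalk2

variable {X Z : Scheme.{u}}

/-- If the kernel of the stalk map at `z` of a closed immersion into a locally Noetherian scheme is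
generated by a regular sequence, then the kernel ideal is generated by a regular sequence on some
affine open neighbourhood of `i z`. -/
theorem backward_affine [IsLocallyNoetherian X] (i : Z ⟶ X) [IsClosedImmersion i] (z : Z)
    (rs : List (X.presheaf.stalk (i z))) (hrs : IsRegular (X.presheaf.stalk (i z)) rs)
    (hker : RingHom.ker (i.stalkMap z).hom = Ideal.ofList rs) :
    ∃ V : X.affineOpens, i z ∈ V.1 ∧ ∃ rs' : List Γ(X, V.1), IsRegular Γ(X, V.1) rs' ∧
      i.ker.ideal V = Ideal.ofList rs' := by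
  obtain ⟨_, ⟨U, hU, rfl⟩, hxU, -⟩ :=
    X.isBasis_affineOpens.exists_subset_of_mem_open (Set.mem_univ (i z)) isOpen_univ
  have hxU' : i z ∈ U := hxU
  have hN : IsNoetherianRing Γ(X, U) := IsLocallyNoetherian.component_noetherian ⟨U, hU⟩
  letI : Algebra Γ(X, U) (X.presheaf.stalk (i z)) :=
    TopCat.Presheaf.algebra_section_stalk X.presheaf ⟨i z, hxU'⟩
  have hloc : IsLocalization.AtPrime (X.presheaf.stalk (i z))
      (hU.primeIdealOf ⟨i z, hxU'⟩).asIdeal := hU.isLocalization_stalk ⟨i z, hxU'⟩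
  set p := (hU.primeIdealOf ⟨i z, hxU'⟩).asIdeal with hp
  obtain ⟨as, has⟩ := RegSeqSpread.exists_list_map_unit p.primeCompl
    (X.presheaf.stalk (i z)) rs
  have hreg : IsWeaklyRegular (X.presheaf.stalk (i z))
      (as.map (algebraMap Γ(X, U) (X.presheaf.stalk (i z)))) :=
    RegSeqSpread.isWeaklyRegular_of_forall₂_unit has _ hrs.toIsWeaklyRegular
  have hideal : (Ideal.ofList as).map (algebraMap Γ(X, U) (X.presheaf.stalk (i z))) =
      (i.ker.ideal ⟨U, hU⟩).map (algebraMap Γ(X, U) (X.presheaf.stalk (i z))) := by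
    rw [Ideal.map_ofList, RegSeqSpread.ofList_eq_of_forall₂_unit has, ← hker,
      RegImmStalk.ker_stalkMap i z ⟨U, hU⟩ hxU']
    rfl
  obtain ⟨f₁, hf₁, hf₁'⟩ := RegSeqSpread.exists_isWeaklyRegular_away_ring Γ(X, U) p
    (X.presheaf.stalk (i z)) as hreg
  obtain ⟨f₂, hf₂, hf₂'⟩ := RegSeqSpread.exists_map_eq_away Γ(X, U) p
    (X.presheaf.stalk (i z)) _ _ hideal
  set g := f₁ * f₂ with hg
  have hgp : g ∉ p := fun hmem => (Ideal.IsPrime.mem_or_mem inferInstance hmem).elim hf₁ hf₂
  have hV : IsAffineOpen (X.basicOpen g) := hU.basicOpen g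
  have hVU : X.basicOpen g ≤ U := X.basicOpen_le g
  have hxV : i z ∈ X.basicOpen g := by
    rw [Scheme.mem_basicOpen _ _ _ hxU']
    exact (IsLocalization.AtPrime.isUnit_to_map_iff (X.presheaf.stalk (i z)) p g).mpr hgp
  have hlocV : IsLocalization.Away g Γ(X, X.basicOpen g) := hU.isLocalization_basicOpen g
  have hregV := hf₁' g (Ideal.mem_span_singleton'.mpr ⟨f₂, by rw [hg]; ring⟩)
    Γ(X, X.basicOpen g)
  have hidealV := hf₂' g (Ideal.mem_span_singleton'.mpr ⟨f₁, by rw [hg]⟩)
    Γ(X, X.basicOpen g)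
  have hidealV' : i.ker.ideal ⟨X.basicOpen g, hV⟩ =
      Ideal.ofList (as.map (algebraMap Γ(X, U) Γ(X, X.basicOpen g))) := by
    rw [← Ideal.map_ofList, hidealV]
    exact (i.ker.map_ideal (U := ⟨X.basicOpen g, hV⟩) (V := ⟨U, hU⟩) hVU).symm
  exact ⟨⟨X.basicOpen g, hV⟩, hxV, _, ⟨hregV, RegImmStalk.top_ne_ofList_smul_top i z
    ⟨X.basicOpen g, hV⟩ hxV _ hidealV'⟩, hidealV'⟩

/-- A closed immersion of regular schemes: near each point the kernel ideal is generated by a
regular sequence on an affine open. -/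
theorem exists_regular_of_regular_stalks [IsLocallyNoetherian X] (i : Z ⟶ X)
    [IsClosedImmersion i] (z : Z) [IsRegularLocalRing (X.presheaf.stalk (i z))]
    [IsRegularLocalRing (Z.presheaf.stalk z)] :
    ∃ V : X.affineOpens, i z ∈ V.1 ∧ ∃ rs' : List Γ(X, V.1), IsRegular Γ(X, V.1) rs' ∧
      i.ker.ideal V = Ideal.ofList rs' := by
  obtain ⟨rs, hrs, hker⟩ := RegLocalQuot.exists_regular_ker (i.stalkMap z).hom
    (i.stalkMap_surjective z)
  exact backward_affine i z rs hrs hker

/-- An immersion of regular (locally Noetherian) schemes is a regular immersion. -/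
theorem isRegularImmersion_of_regular (i : Z ⟶ X) [IsImmersion i] [IsLocallyNoetherian X]
    (hX : ∀ x : X, IsRegularLocalRing (X.presheaf.stalk x))
    (hZ : ∀ z : Z, IsRegularLocalRing (Z.presheaf.stalk z)) :
    RegImm.IsRegularImmersion RegImm.Kind.regular i := by
  refine ⟨inferInstance, fun z => ?_⟩
  set C := i.coborderRange with hC
  set j := i.liftCoborder with hj
  have hji : j ≫ C.ι = i := i.liftCoborder_ι
  haveI : IsRegularLocalRing (C.toScheme.presheaf.stalk (j z)) :=
    haveI := hX (C.ι (j z))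
    IsRegularLocalRing.of_ringEquiv (asIso (C.ι.stalkMap (j z))).commRingCatIsoToRingEquiv
  haveI := hZ z
  obtain ⟨V, hzV, rs, hrs, hI⟩ := exists_regular_of_regular_stalks j z
  have hizU : i z ∈ C.ι ''ᵁ V.1 := by
    refine ⟨j z, hzV, ?_⟩
    have := congrArg (fun φ => φ.base z) hji
    simpa using this
  refine ⟨⟨C.ι ''ᵁ V.1, V.2.image_of_isOpenImmersion _⟩, hizU, ?_, rs, hrs, ?_⟩
  · -- closed immersion over the affine open
    apply IsClosedImmersion.of_isPreimmersion
    have hrange : Set.range (i ∣_ (C.ι ''ᵁ V.1)) =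
        (Subtype.val : (C.ι ''ᵁ V.1 : X.Opens) → X) ⁻¹' Set.range i := by
      ext u
      constructor
      · rintro ⟨w, rfl⟩
        exact ⟨w.1, (morphismRestrict_base_coe i _ w).symm⟩
      · rintro ⟨w, hw⟩
        refine ⟨⟨w, by
          change i w ∈ C.ι ''ᵁ V.1
          rw [hw]; exact u.2⟩, ?_⟩
        apply Subtype.ext
        rw [morphismRestrict_base_coe]
        exact hw
    rw [hrange]
    have hsub : (C.ι ''ᵁ V.1 : Set X) ⊆ coborder (Set.range i) := by
      rintro _ ⟨c, -, rfl⟩
      exact c.2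
    have hcl : IsClosed (coborder (Set.range i) ↓∩ Set.range i) := isClosed_preimage_val_coborder
    have : (Subtype.val : (C.ι ''ᵁ V.1 : X.Opens) → X) ⁻¹' Set.range i =
        (Set.inclusion hsub) ⁻¹' (coborder (Set.range i) ↓∩ Set.range i) := by
      ext u
      rfl
    rw [this]
    exact hcl.preimage (continuous_inclusion hsub)
  · -- the kernel
    refine Eq.trans ?_ hI
    rw [Scheme.Hom.ker_apply, hj, liftCoborder_app]
    ext a
    simp only [RingHom.mem_ker, CommRingCat.hom_comp, RingHom.comp_apply]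
    exact (map_eq_zero_iff _ (ConcreteCategory.bijective_of_isIso
      (Z.presheaf.map (eqToHom (i.liftCoborder_preimage V.1)).op)).1).symm

end Groth.Agent.H8.RegImmStalk2
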