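import Groth.Agent.S6304

/-!
# Algebra for relative effective Cartier divisors

For a nonzerodivisor `d₁` of `B` there is a short exact sequence
`0 → B/(d₂) → B/(d₁ d₂) → B/(d₁) → 0`, hence if `B/(d₁)` is flat over `A` then `B/(d₂)` is flat
iff `B/(d₁ d₂)` is flat.
-/

set_option autoImplicit false
universe u

namespace Groth.Agent.H8.RelCartier

section

variable {B : Type u} [CommRing B]

/-- Multiplication by `d₁` as a map `B/(d₂) → B/(d₁ d₂)`. -/
noncomputable def mulQ (d₁ d₂ : B) :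
    (B ⧸ Ideal.span {d₂}) →ₗ[B] (B ⧸ Ideal.span {d₁ * d₂}) :=
  Submodule.mapQ _ _ (LinearMap.mulLeft B d₁) (by
    intro x hx
    obtain ⟨c, rfl⟩ := Ideal.mem_span_singleton'.mp hx
    refine Ideal.mem_span_singleton'.mpr ⟨c, ?_⟩
    simp only [LinearMap.mulLeft_apply]
    ring)

/-- The projection `B/(d₁ d₂) → B/(d₁)`. -/
noncomputable def projQ (d₁ d₂ : B) :
    (B ⧸ Ideal.span {d₁ * d₂}) →ₗ[B] (B ⧸ Ideal.span {d₁}) :=
  Submodule.mapQ _ _ LinearMap.id (by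
    intro x hx
    obtain ⟨c, rfl⟩ := Ideal.mem_span_singleton'.mp hx
    refine Ideal.mem_span_singleton'.mpr ⟨c * d₂, ?_⟩
    change c * d₂ * d₁ = c * (d₁ * d₂)
    ring)

lemma mulQ_mk (d₁ d₂ x : B) :
    mulQ d₁ d₂ (Ideal.Quotient.mk _ x) = Ideal.Quotient.mk _ (d₁ * x) := rfl

lemma projQ_mk (d₁ d₂ x : B) :
    projQ d₁ d₂ (Ideal.Quotient.mk _ x) = Ideal.Quotient.mk _ x := rfl

lemma mulQ_injective (d₁ d₂ : B) (h₁ : d₁ ∈ nonZeroDivisors B) :
    Function.Injective (mulQ d₁ d₂) := by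
  rw [← LinearMap.ker_eq_bot, LinearMap.ker_eq_bot']
  intro m hm
  obtain ⟨x, rfl⟩ := Ideal.Quotient.mk_surjective m
  rw [mulQ_mk, Ideal.Quotient.eq_zero_iff_mem, Ideal.mem_span_singleton'] at hm
  obtain ⟨c, hc⟩ := hm
  have h0 : (x - c * d₂) * d₁ = 0 := by
    have : (x - c * d₂) * d₁ = d₁ * x - c * (d₁ * d₂) := by ring
    rw [this, hc, sub_self]
  have hx : x = c * d₂ := sub_eq_zero.mp ((mem_nonZeroDivisors_iff_right.mp h₁) _ h0)
  rw [Ideal.Quotient.eq_zero_iff_mem, hx]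
  exact Ideal.mem_span_singleton'.mpr ⟨c, rfl⟩

lemma projQ_surjective (d₁ d₂ : B) : Function.Surjective (projQ d₁ d₂) := by
  intro m
  obtain ⟨x, rfl⟩ := Ideal.Quotient.mk_surjective m
  exact ⟨Ideal.Quotient.mk _ x, rfl⟩

lemma exact_mulQ_projQ (d₁ d₂ : B) : Function.Exact (mulQ d₁ d₂) (projQ d₁ d₂) := by
  intro m
  obtain ⟨y, rfl⟩ := Ideal.Quotient.mk_surjective m
  constructor
  · intro h
    rw [projQ_mk, Ideal.Quotient.eq_zero_iff_mem, Ideal.mem_span_singleton'] at h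
    obtain ⟨c, rfl⟩ := h
    exact ⟨Ideal.Quotient.mk _ c, by rw [mulQ_mk, mul_comm d₁ c]⟩
  · rintro ⟨m', hm'⟩
    obtain ⟨x, rfl⟩ := Ideal.Quotient.mk_surjective m'
    rw [← hm', mulQ_mk, projQ_mk, Ideal.Quotient.eq_zero_iff_mem]
    exact Ideal.mem_span_singleton'.mpr ⟨x, mul_comm _ _⟩

end

section

variable {A B : Type u} [CommRing A] [CommRing B]

theorem module_flat_quotient_mul {A B : Type u} [CommRing A] [CommRing B] [Algebra A B]
    (d₁ d₂ : B) (h₁ : d₁ ∈ nonZeroDivisors B) [Module.Flat A (B ⧸ Ideal.span {d₁})] :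
    Module.Flat A (B ⧸ Ideal.span {d₂}) ↔ Module.Flat A (B ⧸ Ideal.span {d₁ * d₂}) := by
  have := Groth.Agent.S6304.result ((mulQ d₁ d₂).restrictScalars A)
    ((projQ d₁ d₂).restrictScalars A) (mulQ_injective d₁ d₂ h₁) (exact_mulQ_projQ d₁ d₂)
    (projQ_surjective d₁ d₂)
  exact ⟨this.1, this.2⟩

lemma ringHom_flat_quotient_iff (φ : A →+* B) (I : Ideal B) :
    ((Ideal.Quotient.mk I).comp φ).Flat ↔
      (letI := φ.toAlgebra; Module.Flat A (B ⧸ I)) := by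
  let _ := φ.toAlgebra
  have h : ((Ideal.Quotient.mk I).comp φ).toAlgebra =
      (Ideal.Quotient.algebra A : Algebra A (B ⧸ I)) :=
    Algebra.algebra_ext _ _ (fun r => rfl)
  unfold RingHom.Flat
  rw [h]

/-- If `d₁` is a nonzerodivisor and `B/(d₁)` is flat over `A`, then `B/(d₂)` is flat over `A` iff
`B/(d₁ d₂)` is. -/
theorem ringHom_flat_quotient_mul (φ : A →+* B) (d₁ d₂ : B) (h₁ : d₁ ∈ nonZeroDivisors B)
    (hflat : ((Ideal.Quotient.mk (Ideal.span {d₁})).comp φ).Flat) :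
    ((Ideal.Quotient.mk (Ideal.span {d₂})).comp φ).Flat ↔
      ((Ideal.Quotient.mk (Ideal.span {d₁ * d₂})).comp φ).Flat := by
  rw [ringHom_flat_quotient_iff] at hflat ⊢
  rw [ringHom_flat_quotient_iff]
  let _ := φ.toAlgebra
  have : Module.Flat A (B ⧸ Ideal.span {d₁}) := hflat
  exact module_flat_quotient_mul d₁ d₂ h₁

end

end Groth.Agent.H8.RelCartier
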