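import Groth.Agent.H8.RelCartier
import Groth.Agent.H8.RelCartierAlg

/-!
# Sums and differences of relative effective Cartier divisors
-/

set_option autoImplicit false
universe u

open CategoryTheory AlgebraicGeometry

namespace Groth.Agent.H8.RelCartier

open Groth.Agent.H8.EffCartier

variable {X S : Scheme.{u}}

theorem exists_common_generators (f : X ⟶ S) (𝓘₁ 𝓘₂ : X.IdealSheafData)
    (h₁ : BlowUp.IsEffCartierIdeal 𝓘₁) (h₂ : BlowUp.IsEffCartierIdeal 𝓘₂) (x : X) :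
    ∃ (W : S.affineOpens) (U : X.affineOpens) (_ : x ∈ U.1) (_ : U.1 ≤ f ⁻¹ᵁ W.1)
      (d₁ d₂ : Γ(X, U.1)), d₁ ∈ nonZeroDivisors Γ(X, U.1) ∧ d₂ ∈ nonZeroDivisors Γ(X, U.1) ∧
        𝓘₁.ideal U = Ideal.span {d₁} ∧ 𝓘₂.ideal U = Ideal.span {d₂} := by
  obtain ⟨W, hW, hxW, -⟩ := TopologicalSpace.Opens.isBasis_iff_nbhd.mp S.isBasis_affineOpens
    (show f x ∈ (⊤ : S.Opens) from trivial)
  obtain ⟨U₁, hxU₁, hU₁W, d₁, hd₁, hI₁⟩ := exists_generator_le 𝓘₁ h₁ x (f ⁻¹ᵁ W) hxW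
  obtain ⟨U, hxU, hUU₁, d₂, hd₂, hI₂⟩ := exists_generator_le 𝓘₂ h₂ x U₁.1 hxU₁
  obtain ⟨hd₁', hI₁'⟩ := restrict_generator 𝓘₁ U₁ d₁ hd₁ hI₁ U hUU₁
  exact ⟨⟨W, hW⟩, U, hxU, hUU₁.trans hU₁W, _, d₂, hd₁', hd₂, hI₁', hI₂⟩

/-- If `𝓘₁`, `𝓘₂` are effective Cartier and the subscheme of `𝓘₁` is flat over `S`, then the
subscheme of `𝓘₂` is flat over `S` iff the subscheme of `𝓘₁ * 𝓘₂` is. -/
theorem flat_mul_iff (f : X ⟶ S) (𝓘₁ 𝓘₂ : X.IdealSheafData)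
    (h₁ : BlowUp.IsEffCartierIdeal 𝓘₁) (h₂ : BlowUp.IsEffCartierIdeal 𝓘₂)
    [Flat (𝓘₁.subschemeι ≫ f)] :
    Flat (𝓘₂.subschemeι ≫ f) ↔ Flat ((𝓘₁ * 𝓘₂).subschemeι ≫ f) := by
  constructor
  · intro hflat
    apply flat_of_locally_flat_quotient
    intro x
    obtain ⟨W, U, hxU, e, d₁, d₂, hd₁, hd₂, hI₁, hI₂⟩ :=
      exists_common_generators f 𝓘₁ 𝓘₂ h₁ h₂ x
    refine ⟨W, U, hxU, e, ?_⟩
    have F₁ := flat_quotient_of_flat 𝓘₁ f W U e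
    have F₂ := flat_quotient_of_flat 𝓘₂ f W U e
    have hI : (𝓘₁ * 𝓘₂).ideal U = Ideal.span {d₁ * d₂} := by
      rw [Scheme.IdealSheafData.ideal_mul, Pi.mul_apply, hI₁, hI₂,
        Ideal.span_singleton_mul_span_singleton]
    rw [hI₁] at F₁
    rw [hI₂] at F₂
    rw [hI]
    exact (ringHom_flat_quotient_mul _ d₁ d₂ hd₁ F₁).mp F₂
  · intro hflat
    apply flat_of_locally_flat_quotient
    intro x
    obtain ⟨W, U, hxU, e, d₁, d₂, hd₁, hd₂, hI₁, hI₂⟩ :=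
      exists_common_generators f 𝓘₁ 𝓘₂ h₁ h₂ x
    refine ⟨W, U, hxU, e, ?_⟩
    have F₁ := flat_quotient_of_flat 𝓘₁ f W U e
    have F₂ := flat_quotient_of_flat (𝓘₁ * 𝓘₂) f W U e
    have hI : (𝓘₁ * 𝓘₂).ideal U = Ideal.span {d₁ * d₂} := by
      rw [Scheme.IdealSheafData.ideal_mul, Pi.mul_apply, hI₁, hI₂,
        Ideal.span_singleton_mul_span_singleton]
    rw [hI₁] at F₁
    rw [hI] at F₂
    rw [hI₂]
    exact (ringHom_flat_quotient_mul _ d₁ d₂ hd₁ F₁).mpr F₂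

end Groth.Agent.H8.RelCartier
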