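import Groth.Agent.H8.RelCartier2
import Mathlib.Algebra.Category.Ring.Constructions
import Mathlib.RingTheory.Flat.Equalizer

/-!
# Base change of a relative effective Cartier divisor
-/

set_option autoImplicit false
universe u

open CategoryTheory CategoryTheory.Limits AlgebraicGeometry TensorProduct

namespace Groth.Agent.H8.RelCartier

section Algebra

variable {A B : Type u} [CommRing A] [CommRing B] [Algebra A B]

/-- If `d` is a nonzerodivisor of `B` with `B/(d)` flat over `A`, then multiplication by `d` stays
injective after any base change. -/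
theorem lTensor_mulLeft_injective (d : B) (hd : d ∈ nonZeroDivisors B)
    [Module.Flat A (B ⧸ Ideal.span {d})] (A' : Type u) [AddCommGroup A'] [Module A A'] :
    Function.Injective (((LinearMap.mulLeft B d).restrictScalars A).lTensor A') := by
  apply LinearMap.lTensor_injective_of_exact_of_flat
    ((Submodule.mkQ (Ideal.span {d})).restrictScalars A)
  · exact Submodule.mkQ_surjective _
  · intro x y hxy
    have h : d * x = d * y := hxy
    have h0 : (x - y) * d = 0 := by rw [sub_mul, mul_comm x, mul_comm y, h, sub_self]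
    exact sub_eq_zero.mp ((mem_nonZeroDivisors_iff_right.mp hd) _ h0)
  · intro y
    change Submodule.Quotient.mk y = 0 ↔ _
    rw [Submodule.Quotient.mk_eq_zero]
    constructor
    · intro hy
      obtain ⟨c, hc⟩ := Ideal.mem_span_singleton'.mp hy
      exact ⟨c, by change d * c = y; rw [mul_comm, hc]⟩
    · rintro ⟨c, rfl⟩
      exact Ideal.mem_span_singleton'.mpr ⟨c, mul_comm _ _⟩

theorem one_tmul_mem_nonZeroDivisors (d : B) (hd : d ∈ nonZeroDivisors B)
    [Module.Flat A (B ⧸ Ideal.span {d})] (A' : Type u) [CommRing A'] [Algebra A A'] :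
    ((1 : A') ⊗ₜ[A] d) ∈ nonZeroDivisors (A' ⊗[A] B) := by
  have hmul : ∀ w : A' ⊗[A] B,
      w * ((1 : A') ⊗ₜ[A] d) = ((LinearMap.mulLeft B d).restrictScalars A).lTensor A' w := by
    intro w
    induction w using TensorProduct.induction_on with
    | zero => simp
    | tmul a b =>
      rw [Algebra.TensorProduct.tmul_mul_tmul, LinearMap.lTensor_tmul, mul_one]
      congr 1
      exact mul_comm _ _
    | add x y hx hy => rw [add_mul, hx, hy, map_add]
  rw [mem_nonZeroDivisors_iff_right]
  intro w hw
  rw [hmul] at hw
  exact lTensor_mulLeft_injective d hd A' (hw.trans (map_zero _).symm)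

end Algebra

/-- In a pushout square of commutative rings `C = B ⊗[A] A'`, if `d` is a nonzerodivisor of `B`
with `B/(d)` flat over `A`, then the image of `d` in `C` is a nonzerodivisor. -/
theorem map_mem_nonZeroDivisors_of_isPushout {A B A' C : CommRingCat.{u}} (φ : A ⟶ B)
    (γ : A ⟶ A') (α : B ⟶ C) (β : A' ⟶ C) (H : IsPushout φ γ α β) (d : B)
    (hd : d ∈ nonZeroDivisors B)
    (hflat : ((Ideal.Quotient.mk (Ideal.span {d})).comp φ.hom).Flat) :
    α.hom d ∈ nonZeroDivisors C := by
  rw [ringHom_flat_quotient_iff] at hflat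
  letI := φ.hom.toAlgebra
  letI := γ.hom.toAlgebra
  have : Module.Flat A (B ⧸ Ideal.span {d}) := hflat
  have Ht := CommRingCat.isPushout_tensorProduct A A' B
  have H' : IsPushout (CommRingCat.ofHom (algebraMap A A')) (CommRingCat.ofHom (algebraMap A B))
      β α := H.flip
  let e := Ht.isoIsPushout _ _ H'
  have he : ∀ b : B, e.hom.hom ((1 : A') ⊗ₜ[A] b) = α.hom b := by
    intro b
    have := IsPushout.inr_isoIsPushout_hom _ _ Ht H'
    exact congr($(this).hom b)
  have hnz := one_tmul_mem_nonZeroDivisors (A := A) d hd A'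
  have hinj : Function.Injective e.hom.hom :=
    ((ConcreteCategory.isIso_iff_bijective e.hom).mp inferInstance).1
  have hsurj : Function.Surjective e.hom.hom :=
    ((ConcreteCategory.isIso_iff_bijective e.hom).mp inferInstance).2
  rw [mem_nonZeroDivisors_iff_right]
  intro z hz
  obtain ⟨w, rfl⟩ := hsurj z
  rw [← he, ← map_mul] at hz
  have hw : w * ((1 : A') ⊗ₜ[A] d) = 0 := hinj (hz.trans (map_zero _).symm)
  rw [(mem_nonZeroDivisors_iff_right.mp hnz) w hw, map_zero]

end Groth.Agent.H8.RelCartier
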