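import Groth.Agent.H8.RelCartier3
import Mathlib.RingTheory.Localization.BaseChange
import Mathlib.RingTheory.Flat.Tensor

/-!
# Flatness from a flat relative Cartier divisor and a flat complement

If `t ∈ B` is a nonzerodivisor, `B/tB` is flat over `A` and `B[1/t]` is flat over `A`, then `B` is
flat over `A`.
-/

set_option autoImplicit false
universe u

open TensorProduct

namespace Groth.Agent.H8.RelCartier

section

variable {A B : Type u} [CommRing A] [CommRing B] [Algebra A B]

/-- Multiplication by `d` on `B ⊗[A] N` is injective when `d` is a nonzerodivisor with `B/(d)`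
flat over `A`. -/
theorem smul_tmul_injective (d : B) (hd : d ∈ nonZeroDivisors B)
    [Module.Flat A (B ⧸ Ideal.span {d})] (N : Type u) [AddCommGroup N] [Module A N]
    (x : B ⊗[A] N) (hx : d • x = 0) : x = 0 := by
  have hinj : Function.Injective (((LinearMap.mulLeft B d).restrictScalars A).rTensor N) := by
    rw [← LinearMap.lTensor_inj_iff_rTensor_inj]
    exact lTensor_mulLeft_injective d hd N
  have hsmul : ∀ y : B ⊗[A] N, d • y = ((LinearMap.mulLeft B d).restrictScalars A).rTensor N y := by
    intro y
    induction y using TensorProduct.induction_on with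
    | zero => simp
    | tmul b n => rw [TensorProduct.smul_tmul', LinearMap.rTensor_tmul]; rfl
    | add y z hy hz => rw [smul_add, hy, hz, map_add]
  apply hinj
  rw [← hsmul, hx, map_zero]

theorem pow_smul_tmul_injective (d : B) (hd : d ∈ nonZeroDivisors B)
    [Module.Flat A (B ⧸ Ideal.span {d})] (N : Type u) [AddCommGroup N] [Module A N]
    (n : ℕ) (x : B ⊗[A] N) (hx : d ^ n • x = 0) : x = 0 := by
  induction n with
  | zero => simpa using hx
  | succ n ih =>
    apply ih
    apply smul_tmul_injective d hd N
    rw [smul_smul, ← pow_succ']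
    exact hx

/-- If `t` is a nonzerodivisor of `B`, `B/tB` is flat over `A` and `B[1/t]` is flat over `A`, then
`B` is flat over `A`. -/
theorem flat_of_flat_quotient_of_flat_away (t : B) (ht : t ∈ nonZeroDivisors B)
    [Module.Flat A (B ⧸ Ideal.span {t})] (Bt : Type u) [CommRing Bt] [Algebra B Bt]
    [IsLocalization.Away t Bt] [Algebra A Bt] [IsScalarTower A B Bt] [Module.Flat A Bt] :
    Module.Flat A B := by
  rw [Module.Flat.iff_lTensor_injective']
  intro a
  rw [injective_iff_map_eq_zero]
  intro x hx
  let ℓ : B →ₗ[B] Bt := Algebra.linearMap B Bt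
  have hℓ : IsLocalizedModule (Submonoid.powers t) ℓ :=
    (isLocalizedModule_iff_isLocalization).mpr inferInstance
  have hloc : IsLocalizedModule (Submonoid.powers t)
      (TensorProduct.AlgebraTensorModule.rTensor A a ℓ) := inferInstance
  have hsq : ∀ y : B ⊗[A] a, (LinearMap.lTensor Bt a.subtype)
      (TensorProduct.AlgebraTensorModule.rTensor A a ℓ y) =
      (TensorProduct.AlgebraTensorModule.rTensor A A ℓ) (LinearMap.lTensor B a.subtype y) := by
    intro y
    induction y using TensorProduct.induction_on with
    | zero => simp
    | tmul b n => simp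
    | add y z hy hz => simp only [map_add, hy, hz]
  have h0 : TensorProduct.AlgebraTensorModule.rTensor A a ℓ x = 0 := by
    apply Module.Flat.lTensor_preserves_injective_linearMap (M := Bt) a.subtype
      (Submodule.injective_subtype a)
    rw [hsq, hx, map_zero, map_zero]
  obtain ⟨⟨s, n, rfl⟩, hs⟩ := (IsLocalizedModule.eq_zero_iff (Submonoid.powers t) _).mp h0
  exact pow_smul_tmul_injective t ht a n x hs

end

end Groth.Agent.H8.RelCartier
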