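import Groth.Agent.H8.RelCartier5
import Groth.Agent.H8.RelCartier4

/-!
# A morphism is flat if it is flat off a relative effective Cartier divisor
-/

set_option autoImplicit false
universe u

open CategoryTheory CategoryTheory.Limits AlgebraicGeometry

namespace Groth.Agent.H8.RelCartier

open Groth.Agent.H8.EffCartier

variable {X S : Scheme.{u}}

/-- If `f` is flat at all points of an open `D`, then `D.ι ≫ f` is flat. -/
theorem flat_ι_comp_of_stalkMap (f : X ⟶ S) (D : X.Opens)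
    (h : ∀ x : X, x ∈ D → (f.stalkMap x).hom.Flat) : Flat (D.ι ≫ f) := by
  apply Flat.of_stalkMap
  intro y
  rw [Scheme.Hom.stalkMap_comp]
  have h1 : (f.stalkMap (D.ι y)).hom.Flat := h _ y.2
  have h2 : (D.ι.stalkMap y).hom.Flat :=
    RingHom.Flat.of_bijective ((ConcreteCategory.isIso_iff_bijective _).mp inferInstance)
  exact RingHom.Flat.comp h1 h2

theorem flat_appLE_of_relEffCartier_of_flat_off (f : X ⟶ S) (𝓘 : X.IdealSheafData)
    [Flat (𝓘.subschemeι ≫ f)]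
    (hflat : ∀ x : X, x ∉ 𝓘.support → (f.stalkMap x).hom.Flat)
    (W : S.affineOpens) (U : X.affineOpens) (e : U.1 ≤ f ⁻¹ᵁ W.1) (t : Γ(X, U.1))
    (ht : t ∈ nonZeroDivisors Γ(X, U.1)) (hU : 𝓘.ideal U = Ideal.span {t}) :
    (f.appLE W.1 U.1 e).hom.Flat := by
  have hq := flat_quotient_of_flat 𝓘 f W U e
  rw [hU, ringHom_flat_quotient_iff] at hq
  obtain ⟨D, hDdef⟩ : ∃ D : X.Opens, D = X.basicOpen t := ⟨_, rfl⟩
  have hDU : D ≤ U.1 := hDdef ▸ X.basicOpen_le t
  have hDaff : IsAffineOpen D := hDdef ▸ U.2.basicOpen t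
  have : IsAffine D.toScheme := hDaff
  have hDflat : Flat (D.ι ≫ f) := by
    apply flat_ι_comp_of_stalkMap
    intro x hx
    exact hflat x (notMem_support_of_mem_basicOpen 𝓘 U t hU x (hDdef ▸ hx))
  have e' : (⊤ : D.toScheme.Opens) ≤ (D.ι ≫ f) ⁻¹ᵁ W.1 := by
    intro y _
    exact e (hDU y.2)
  have hfl : ((D.ι ≫ f).appLE W.1 ⊤ e').hom.Flat :=
    HasRingHomProperty.appLE (P := @Flat) (D.ι ≫ f) inferInstance W
      ⟨⊤, isAffineOpen_top D.toScheme⟩ e'
  have hdec : (D.ι ≫ f).appLE W.1 ⊤ e' =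
      f.appLE W.1 U.1 e ≫ X.presheaf.map (homOfLE hDU).op ≫
        D.ι.appLE D ⊤ D.ι_preimage_self.ge := by
    rw [← Category.assoc, Scheme.Hom.appLE_map, Scheme.Hom.appLE_comp_appLE]
  have hbij : Function.Bijective (D.ι.appLE D ⊤ D.ι_preimage_self.ge).hom :=
    (ConcreteCategory.isIso_iff_bijective _).mp inferInstance
  have hfl2 : ((X.presheaf.map (homOfLE hDU).op).hom.comp (f.appLE W.1 U.1 e).hom).Flat := by
    rw [hdec] at hfl
    have : (f.appLE W.1 U.1 e ≫ X.presheaf.map (homOfLE hDU).op ≫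
        D.ι.appLE D ⊤ D.ι_preimage_self.ge).hom =
        (D.ι.appLE D ⊤ D.ι_preimage_self.ge).hom.comp
          ((X.presheaf.map (homOfLE hDU).op).hom.comp (f.appLE W.1 U.1 e).hom) := rfl
    rw [this, RingHom.Flat.comp_iff_of_bijective_left hbij] at hfl
    exact hfl
  subst hDdef
  letI := (f.appLE W.1 U.1 e).hom.toAlgebra
  letI : Algebra Γ(S, W.1) Γ(X, X.basicOpen t) :=
    ((X.presheaf.map (homOfLE hDU).op).hom.comp (f.appLE W.1 U.1 e).hom).toAlgebra
  have : IsScalarTower Γ(S, W.1) Γ(X, U.1) Γ(X, X.basicOpen t) :=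
    IsScalarTower.of_algebraMap_eq' rfl
  have : IsLocalization.Away t Γ(X, X.basicOpen t) := U.2.isLocalization_basicOpen t
  have : Module.Flat Γ(S, W.1) Γ(X, X.basicOpen t) := hfl2
  have : Module.Flat Γ(S, W.1) (Γ(X, U.1) ⧸ Ideal.span {t}) := hq
  exact flat_of_flat_quotient_of_flat_away t ht Γ(X, X.basicOpen t)

/-- Let `𝓘` be a relative effective Cartier divisor on `X/S`. If `f` is flat at every point of `X`
off the divisor, then `f` is flat. -/
theorem flat_of_relEffCartier_of_flat_off (f : X ⟶ S) (𝓘 : X.IdealSheafData)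
    (hD : BlowUp.IsEffCartierIdeal 𝓘) [Flat (𝓘.subschemeι ≫ f)]
    (hflat : ∀ x : X, x ∉ 𝓘.support → (f.stalkMap x).hom.Flat) : Flat f := by
  rw [HasRingHomProperty.iff_exists_appLE (P := @Flat)
    flat_stableUnderCompositionWithLocalizationAwaySource]
  intro x
  obtain ⟨W, hW, hxW, -⟩ := TopologicalSpace.Opens.isBasis_iff_nbhd.mp S.isBasis_affineOpens
    (show f x ∈ (⊤ : S.Opens) from trivial)
  obtain ⟨U, hxU, hUW, t, ht, hU⟩ := exists_generator_le 𝓘 hD x (f ⁻¹ᵁ W) hxW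
  exact ⟨⟨W, hW⟩, U, hxU, hUW,
    flat_appLE_of_relEffCartier_of_flat_off f 𝓘 hflat ⟨W, hW⟩ U hUW t ht hU⟩

end Groth.Agent.H8.RelCartier
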