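import Groth.Agent.H8.RelCartier5
import Mathlib.RingTheory.Filtration
import Mathlib.LinearAlgebra.TensorProduct.RightExactness

/-!
# A local criterion of flatness along a relative Cartier divisor

If `B` is a Noetherian local ring, `t` a nonzerodivisor in the maximal ideal of `B` and `B/tB` is
flat over `A`, then `B` is flat over `A`.
-/

set_option autoImplicit false
universe u

open TensorProduct

namespace Groth.Agent.H8.RelCartier

variable {A B : Type u} [CommRing A] [CommRing B] [Algebra A B]

lemma smul_eq_rTensor_mulLeft (d : B) (N : Type u) [AddCommGroup N] [Module A N]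
    (y : B ⊗[A] N) : d • y = ((LinearMap.mulLeft B d).restrictScalars A).rTensor N y := by
  induction y using TensorProduct.induction_on with
  | zero => simp
  | tmul b n => rw [TensorProduct.smul_tmul', LinearMap.rTensor_tmul]; rfl
  | add y z hy hz => rw [smul_add, hy, hz, map_add]

lemma flat_quotient_span_congr {d d' : B} (h : d = d')
    (hf : Module.Flat A (B ⧸ Ideal.span {d})) : Module.Flat A (B ⧸ Ideal.span {d'}) := by
  subst h
  exact hf

theorem flat_quotient_pow (t : B) (ht : t ∈ nonZeroDivisors B)
    [Module.Flat A (B ⧸ Ideal.span {t})] (n : ℕ) :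
    Module.Flat A (B ⧸ Ideal.span {t ^ (n + 1)}) := by
  induction n with
  | zero => exact flat_quotient_span_congr (by rw [zero_add, pow_one]) inferInstance
  | succ n ih =>
    exact flat_quotient_span_congr (pow_succ' t (n + 1)).symm
      ((module_flat_quotient_mul (A := A) t (t ^ (n + 1)) ht).mp ih)

/-- A local criterion of flatness: if `B` is Noetherian local, `t` a nonunit nonzerodivisor of `B`
and `B/tB` is flat over `A`, then `B` is flat over `A`. -/
theorem flat_of_flat_quotient_of_isLocalRing [IsNoetherianRing B] [IsLocalRing B] (t : B)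
    (ht : t ∈ nonZeroDivisors B) (htm : ¬ IsUnit t) [Module.Flat A (B ⧸ Ideal.span {t})] :
    Module.Flat A B := by
  rw [Module.Flat.iff_lTensor_injective]
  intro a ha
  rw [injective_iff_map_eq_zero]
  intro x hx
  have : Module.Finite A a := Module.Finite.iff_fg.mpr ha
  have hfin : Module.Finite B (B ⊗[A] a) := inferInstance
  have hI : Ideal.span {t} ≠ ⊤ := by
    rw [Ne, Ideal.span_singleton_eq_top]
    exact htm
  have hK := Ideal.iInf_pow_smul_eq_bot_of_isLocalRing (I := Ideal.span {t}) (M := B ⊗[A] a) hI
  have hmem : x ∈ (⨅ i : ℕ, (Ideal.span {t}) ^ i • ⊤ : Submodule B (B ⊗[A] a)) := by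
    rw [Submodule.mem_iInf]
    intro n
    cases n with
    | zero => simp
    | succ n =>
      have hfl := flat_quotient_pow (A := A) t ht n
      let qA : B →ₗ[A] B ⧸ Ideal.span {t ^ (n + 1)} :=
        (Submodule.mkQ (Ideal.span {t ^ (n + 1)})).restrictScalars A
      have hsq : ∀ y : B ⊗[A] a, (LinearMap.lTensor (B ⧸ Ideal.span {t ^ (n + 1)}) a.subtype)
          (LinearMap.rTensor a qA y) = LinearMap.rTensor A qA (LinearMap.lTensor B a.subtype y) := by
        intro y
        induction y using TensorProduct.induction_on with
        | zero => simp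
        | tmul b m => simp
        | add y z hy hz => simp only [map_add, hy, hz]
      have hq0 : LinearMap.rTensor a qA x = 0 := by
        apply Module.Flat.lTensor_preserves_injective_linearMap
          (M := B ⧸ Ideal.span {t ^ (n + 1)}) a.subtype (Submodule.injective_subtype a)
        rw [hsq, hx, map_zero, map_zero]
      have hex : Function.Exact ((LinearMap.mulLeft B (t ^ (n + 1))).restrictScalars A) qA := by
        intro y
        change Submodule.Quotient.mk y = 0 ↔ _
        rw [Submodule.Quotient.mk_eq_zero]
        constructor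
        · intro hy
          obtain ⟨c, hc⟩ := Ideal.mem_span_singleton'.mp hy
          exact ⟨c, by change t ^ (n + 1) * c = y; rw [mul_comm, hc]⟩
        · rintro ⟨c, rfl⟩
          exact Ideal.mem_span_singleton'.mpr ⟨c, mul_comm _ _⟩
      have hex' := rTensor_exact a hex (Submodule.mkQ_surjective _)
      obtain ⟨y, hy⟩ := (hex' x).mp hq0
      rw [← hy, ← smul_eq_rTensor_mulLeft]
      exact Submodule.smul_mem_smul (Ideal.pow_mem_pow (Ideal.mem_span_singleton_self t) _)
        Submodule.mem_top
  rw [hK] at hmem
  exact hmem

end Groth.Agent.H8.RelCartier
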