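import Groth.Agent.H8.EffCartier5
import Mathlib.AlgebraicGeometry.IdealSheaf.Subscheme

/-!
# Strict transforms of the `Y_i` in the blowing up of `⋂ Y_i` have empty intersection
-/

set_option autoImplicit false
universe u

open CategoryTheory AlgebraicGeometry

namespace Groth.Agent.H8.EffCartier

open Groth.Agent.Lib.Helper18

variable {X X' : Scheme.{u}}

/-- If `span S = (t)` with `t` a nonzerodivisor and `p` is a proper ideal, some element of `S`
equals `u t` with `u ∉ p`. -/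
lemma exists_mem_eq_mul_of_span_eq_span {A : Type*} [CommRing A] (S : Set A)
    (t : A) (ht : t ∈ nonZeroDivisors A) (hS : Ideal.span S = Ideal.span {t}) (p : Ideal A)
    (hp : p ≠ ⊤) : ∃ c ∈ S, ∃ u, u ∉ p ∧ c = u * t := by
  by_contra h
  push_neg at h
  have hle : Ideal.span S ≤ p * Ideal.span {t} := by
    rw [Ideal.span_le]
    intro c hc
    have hct : c ∈ Ideal.span {t} := hS ▸ Ideal.subset_span hc
    obtain ⟨u, hu⟩ := Ideal.mem_span_singleton'.mp hct
    have hup : u ∈ p := by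
      by_contra hup
      exact h c hc u hup hu.symm
    rw [SetLike.mem_coe, ← hu]
    exact Ideal.mul_mem_mul hup (Ideal.mem_span_singleton_self t)
  have hfm : t ∈ p * Ideal.span {t} := hle (hS ▸ Ideal.mem_span_singleton_self t)
  obtain ⟨z, hz, hzt⟩ := Ideal.mem_mul_span_singleton.mp hfm
  have : (z - 1) * t = 0 := by rw [sub_mul, hzt, one_mul, sub_self]
  have hz1 : z = 1 := sub_eq_zero.mp ((mem_nonZeroDivisors_iff_right.mp ht) _ this)
  apply hp
  rw [Ideal.eq_top_iff_one, ← hz1]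
  exact hz

/-- Around a point of a blowing up of `⨆ 𝓙 i`, the exceptional ideal is generated by the pullback of
a section of one of the `𝓙 i`. -/
theorem exists_generator_of_isBlowUp_iSup {ι : Type*} (𝓙 : ι → X.IdealSheafData) (b : X' ⟶ X)
    (hb : BlowUp.IsBlowUp b (⨆ i, 𝓙 i)) (x' : X') :
    ∃ (i : ι) (V : X.affineOpens) (U : X'.affineOpens) (e : U.1 ≤ b ⁻¹ᵁ V.1) (a : Γ(X, V.1)),
      x' ∈ U.1 ∧ a ∈ (𝓙 i).ideal V ∧
        ((⨆ i, 𝓙 i).comap b).ideal U = Ideal.span {(b.appLE V.1 U.1 e).hom a} := by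
  obtain ⟨V, hV, hbxV, -⟩ := TopologicalSpace.Opens.isBasis_iff_nbhd.mp X.isBasis_affineOpens
    (show b x' ∈ (⊤ : X.Opens) from trivial)
  obtain ⟨U', hxU', hU'V, t, ht, hU'⟩ :=
    exists_generator_le ((⨆ i, 𝓙 i).comap b) hb.1 x' (b ⁻¹ᵁ V) hbxV
  have hmap : Ideal.span (⋃ i, (b.appLE V U'.1 hU'V).hom '' ((𝓙 i).ideal ⟨V, hV⟩ : Set Γ(X, V))) =
      Ideal.span {t} := by
    rw [← hU', ideal_comap_of_le b _ U' ⟨V, hV⟩ hU'V, Scheme.IdealSheafData.ideal_iSup,
      iSup_apply, Ideal.map_iSup, Ideal.span_iUnion]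
    rfl
  obtain ⟨c, hc, u, hu, hcu⟩ := exists_mem_eq_mul_of_span_eq_span _ t ht hmap
    (U'.2.primeIdealOf ⟨x', hxU'⟩).asIdeal (U'.2.primeIdealOf ⟨x', hxU'⟩).2.ne_top
  obtain ⟨i, hci⟩ := Set.mem_iUnion.mp hc
  obtain ⟨a, ha, rfl⟩ := hci
  have hxu : x' ∈ X'.basicOpen u := (mem_basicOpen_iff_notMem_primeIdealOf U' x' hxU' u).mpr hu
  let U'' : X'.affineOpens := X'.affineBasicOpen u
  have hU''U' : U''.1 ≤ U'.1 := X'.basicOpen_le u
  obtain ⟨-, hρ⟩ := restrict_generator _ U' t ht hU' U'' hU''U'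
  have huu : IsUnit ((X'.presheaf.map (homOfLE hU''U').op).hom u) :=
    X'.toRingedSpace.isUnit_res_basicOpen u
  refine ⟨i, ⟨V, hV⟩, U'', hU''U'.trans hU'V, a, hxu, ha, ?_⟩
  rw [hρ, ← Ideal.span_singleton_mul_left_unit huu, ← map_mul, ← hcu]
  congr 2
  have := Scheme.Hom.appLE_map b hU'V (homOfLE hU''U').op
  exact congr($(this).hom a)

end Groth.Agent.H8.EffCartier
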