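import Groth.Agent.H8.StrictTransformInter

/-!
# Strict transforms of the `Y_i` in the blowing up of `⋂ Y_i` have empty intersection (II)
-/

set_option autoImplicit false
universe u

open CategoryTheory AlgebraicGeometry

namespace Groth.Agent.H8.EffCartier

open Groth.Agent.Lib.Helper18

variable {X X' : Scheme.{u}}

theorem iInter_range_strictTransform_eq_empty {ι : Type*} (𝓙 : ι → X.IdealSheafData)
    (b : X' ⟶ X) (hb : BlowUp.IsBlowUp b (⨆ i, 𝓙 i))
    (Y' : ι → Scheme.{u}) (b' : ∀ i, Y' i ⟶ (𝓙 i).subscheme)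
    (hb' : ∀ i, BlowUp.IsBlowUp (b' i) ((⨆ j, 𝓙 j).comap (𝓙 i).subschemeι))
    (k : ∀ i, Y' i ⟶ X') (hk : ∀ i, k i ≫ b = b' i ≫ (𝓙 i).subschemeι) :
    (⋂ i, Set.range (fun y => k i y)) = (∅ : Set X') := by
  rw [Set.eq_empty_iff_forall_notMem]
  intro x' hx'
  obtain ⟨i, V, U, e, a, hxU, ha, hU⟩ := exists_generator_of_isBlowUp_iSup 𝓙 b hb x'
  obtain ⟨y', hy'⟩ := Set.mem_iInter.mp hx' i
  have hy'' : k i y' = x' := hy'
  have hE : BlowUp.IsEffCartierIdeal (((⨆ j, 𝓙 j).comap b).comap (k i)) := by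
    rw [← Scheme.IdealSheafData.comap_comp, hk i, Scheme.IdealSheafData.comap_comp]
    exact (hb' i).1
  obtain ⟨W, hyW, hWU, s, hs, hW⟩ := exists_generator_le _ hE y' ((k i) ⁻¹ᵁ U.1)
    (show k i y' ∈ U.1 from hy'' ▸ hxU)
  have hzero : (((⨆ j, 𝓙 j).comap b).comap (k i)).ideal W = ⊥ := by
    rw [ideal_comap_of_le (k i) _ W U hWU, hU, Ideal.map_span, Set.image_singleton]
    have h2 : ∀ (m : Y' i ⟶ X) (_ : m = b' i ≫ (𝓙 i).subschemeι) (e' : W.1 ≤ m ⁻¹ᵁ V.1),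
        (m.appLE V.1 W.1 e').hom a = 0 := by
      rintro m rfl e'
      rw [Scheme.Hom.comp_appLE]
      have h0 : ((𝓙 i).subschemeι.app V.1).hom a = 0 := by
        rw [← RingHom.mem_ker, (𝓙 i).ker_subschemeι_app V]
        exact ha
      change ((b' i).appLE _ W.1 _).hom (((𝓙 i).subschemeι.app V.1).hom a) = 0
      rw [h0, map_zero]
    have e'' : W.1 ≤ (k i ≫ b) ⁻¹ᵁ V.1 := fun z hz => e (hWU hz)
    have h1 : b.appLE V.1 U.1 e ≫ (k i).appLE U.1 W.1 hWU = (k i ≫ b).appLE V.1 W.1 e'' :=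
      Scheme.Hom.appLE_comp_appLE ..
    have h3 : ((k i).appLE U.1 W.1 hWU).hom ((b.appLE V.1 U.1 e).hom a) = 0 := by
      have := h2 (k i ≫ b) (hk i) e''
      rw [← h1] at this
      exact this
    rw [h3]
    simp
  rw [hzero] at hW
  have hs0 : s = 0 := by
    have : s ∈ (⊥ : Ideal Γ(Y' i, W.1)) := hW ▸ Ideal.mem_span_singleton_self s
    simpa using this
  have h10 : (1 : Γ(Y' i, W.1)) = 0 :=
    (mem_nonZeroDivisors_iff_right.mp hs) 1 (by rw [hs0, mul_zero])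
  have := congrArg ((Y' i).presheaf.germ W.1 y' hyW).hom h10
  rw [map_one, map_zero] at this
  exact one_ne_zero this

end Groth.Agent.H8.EffCartier
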