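import Groth.Agent.Lib.Helper26.SubmersiveDescent
import Groth.Agent.H8.EtDescent

/-!
# Universally submersive morphisms with geometrically connected fibres (helper8)

SGA 1 IX 3.4: étale schemes pull back fully faithfully along a universally submersive morphism whose
geometric fibres are connected.  Existence is helper26's descent along universally submersive
morphisms, the cocycle condition being automatic by `EtDescent.fst_comp_eq_snd_comp`.
-/

set_option autoImplicit false
set_option linter.style.haveILetI false
set_option linter.unusedSectionVars false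
universe u
open CategoryTheory CategoryTheory.Limits AlgebraicGeometry

namespace Groth.Agent.H8.SubmConn

/-- connectedness of the fibres over algebraically closed points gives Mathlib's
`GeometricallyConnected`. -/
theorem geometricallyConnected_of_algClosed {S' S : Scheme.{u}} (g : S' ⟶ S)
    (hconn : ∀ (K : Type u) [Field K] [IsAlgClosed K] (ξ : Spec (CommRingCat.of K) ⟶ S),
      ConnectedSpace ↑(pullback g ξ)) : GeometricallyConnected g := by
  refine ⟨geometrically_iff_of_isClosedUnderIsomorphisms.mpr fun K _ y => ?_⟩
  let Kb := AlgebraicClosure K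
  let j : Spec (CommRingCat.of Kb) ⟶ Spec (CommRingCat.of K) :=
    Spec.map (CommRingCat.ofHom (algebraMap K Kb))
  haveI : Surjective j := by
    refine ⟨fun x => ?_⟩
    obtain ⟨z⟩ : Nonempty ↥(Spec (CommRingCat.of Kb)) := inferInstance
    exact ⟨z, Subsingleton.elim _ _⟩
  haveI := hconn Kb (j ≫ y)
  have hw : pullback.fst g (j ≫ y) ≫ g = (pullback.snd g (j ≫ y) ≫ j) ≫ y := by
    rw [Category.assoc, pullback.condition]
  let m : pullback g (j ≫ y) ⟶ pullback g y :=
    pullback.lift (pullback.fst g (j ≫ y)) (pullback.snd g (j ≫ y) ≫ j) hw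
  have hm1 : m ≫ pullback.fst g y = pullback.fst g (j ≫ y) := pullback.lift_fst _ _ _
  have hm2 : m ≫ pullback.snd g y = pullback.snd g (j ≫ y) ≫ j := pullback.lift_snd _ _ _
  have hm : IsPullback m (pullback.snd g (j ≫ y)) (pullback.snd g y) j := by
    refine IsPullback.of_right (h₁₂ := pullback.fst g y) (v₁₃ := g) (h₂₂ := y) ?_ hm2
      (IsPullback.of_hasPullback g y)
    rw [hm1]
    exact IsPullback.of_hasPullback g (j ≫ y)
  haveI : Surjective m := MorphismProperty.of_isPullback (P := @Surjective) hm.flip inferInstance
  exact Function.Surjective.connectedSpace m.surjective m.continuous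

/-- the source of a universally submersive morphism with geometrically connected fibres over a
connected base is connected. -/
theorem connectedSpace_of_univSubmersive {S' S : Scheme.{u}} (g : S' ⟶ S)
    (hg : SGA1.UnivSubmersive g) [GeometricallyConnected g] [ConnectedSpace S] :
    ConnectedSpace S' := by
  have hq : Topology.IsQuotientMap g.base :=
    hg (𝟙 S') (𝟙 S) g (IsPullback.id_vert g)
  have := Topology.IsCoinducing.isConnected_preimage_of_isClosed
    (f := g.base) g.isConnected_preimage_singleton hq.isCoinducing isClosed_univ isConnected_univ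
  simpa [connectedSpace_iff_univ] using this

/-- descent of morphisms to an étale scheme. -/
theorem existsUnique_hom {S' S X Y : Scheme.{u}} (g : S' ⟶ S) (hg : SGA1.UnivSubmersive g)
    [GeometricallyConnected g] (p : X ⟶ S) (q : Y ⟶ S) [Etale q]
    (f' : pullback p g ⟶ pullback q g) (hf' : f' ≫ pullback.snd q g = pullback.snd p g) :
    ∃! u : X ⟶ Y, u ≫ q = p ∧ f' ≫ pullback.fst q g = pullback.fst p g ≫ u := by
  refine Groth.Agent.Lib.Helper26.SubmersiveDescent.existsUnique_descend g p q hg f' hf' ?_
  have hψ : (f' ≫ pullback.fst q g) ≫ q = pullback.fst p g ≫ p := by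
    rw [Category.assoc, pullback.condition, ← Category.assoc, hf', pullback.condition]
  have key := Groth.Agent.H8.EtDescent.fst_comp_eq_snd_comp (pullback.fst p g) q p
    (f' ≫ pullback.fst q g) hψ
  set m₁ := pullback.map p (pullback.fst g g ≫ g) p g (𝟙 X) (pullback.fst g g) (𝟙 S)
    ((Category.comp_id _).trans (Category.id_comp _).symm) (Category.comp_id _) with hm₁
  set m₂ := pullback.map p (pullback.fst g g ≫ g) p g (𝟙 X) (pullback.snd g g) (𝟙 S)
    ((Category.comp_id _).trans (Category.id_comp _).symm)
    ((Category.comp_id _).trans pullback.condition) with hm₂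
  have h12 : m₁ ≫ pullback.fst p g = m₂ ≫ pullback.fst p g := by
    rw [hm₁, hm₂, pullback.lift_fst, pullback.lift_fst]
  obtain ⟨ℓ, hℓ1, hℓ2⟩ : ∃ ℓ : pullback p (pullback.fst g g ≫ g) ⟶
      pullback (pullback.fst p g) (pullback.fst p g),
      ℓ ≫ pullback.fst _ _ = m₁ ∧ ℓ ≫ pullback.snd _ _ = m₂ :=
    ⟨pullback.lift m₁ m₂ h12, pullback.lift_fst _ _ _, pullback.lift_snd _ _ _⟩
  rw [← hℓ1, ← hℓ2, Category.assoc, Category.assoc, key]

end Groth.Agent.H8.SubmConn
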