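import Groth.Agent.H8.SubschemeStalk
import Groth.Agent.H8.RelCartier7

/-!
# The local ring of an effective Cartier divisor; flatness along a relative Cartier divisor
-/

set_option autoImplicit false
universe u

open CategoryTheory AlgebraicGeometry

namespace Groth.Agent.H8.SubschemeStalk

open Groth.Agent.H8.EffCartier Groth.Agent.H8.RelCartier

variable {X S : Scheme.{u}}

/-- At a point of an effective Cartier divisor `D`, the kernel of `O_{X,x} → O_{D,d}` is generated
by a nonunit nonzerodivisor. -/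
theorem exists_generator_stalk (𝓘 : X.IdealSheafData) (h𝓘 : BlowUp.IsEffCartierIdeal 𝓘)
    (d : 𝓘.subscheme) :
    ∃ t' : X.presheaf.stalk (𝓘.subschemeι d),
      t' ∈ nonZeroDivisors (X.presheaf.stalk (𝓘.subschemeι d)) ∧ ¬ IsUnit t' ∧
        RingHom.ker (𝓘.subschemeι.stalkMap d).hom = Ideal.span {t'} := by
  obtain ⟨U, hxU, t, ht, hU⟩ := h𝓘 (𝓘.subschemeι d)
  refine ⟨(X.presheaf.germ U.1 _ hxU).hom t, germ_mem_nonZeroDivisors U.2 t ht _ hxU, ?_, ?_⟩
  · have hsupp : 𝓘.subschemeι d ∈ 𝓘.support := by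
      have : 𝓘.subschemeι d ∈ Set.range 𝓘.subschemeι := ⟨d, rfl⟩
      rw [𝓘.range_subschemeι] at this
      exact this
    rw [Scheme.IdealSheafData.mem_support_iff_of_mem hxU, hU, Scheme.zeroLocus_span,
      Scheme.zeroLocus_singleton] at hsupp
    intro hunit
    exact hsupp ((X.mem_basicOpen t _ hxU).mpr hunit)
  · rw [ker_stalkMap 𝓘 d U hxU, hU, Ideal.map_span, Set.image_singleton]

/-- Let `𝓘` be a relative effective Cartier divisor on `X/S` and `x` a point of the divisor at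
which the local ring of `X` is Noetherian. Then `f` is flat at `x`. -/
theorem flat_stalkMap_of_relEffCartier (f : X ⟶ S) (𝓘 : X.IdealSheafData)
    (h𝓘 : BlowUp.IsEffCartierIdeal 𝓘) [Flat (𝓘.subschemeι ≫ f)] (d : 𝓘.subscheme)
    [IsNoetherianRing (X.presheaf.stalk (𝓘.subschemeι d))] :
    (f.stalkMap (𝓘.subschemeι d)).hom.Flat := by
  obtain ⟨t', ht', hnu, hker⟩ := exists_generator_stalk 𝓘 h𝓘 d
  have hcomp : ((𝓘.subschemeι ≫ f).stalkMap d).hom.Flat := Flat.stalkMap (𝓘.subschemeι ≫ f) d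
  rw [Scheme.Hom.stalkMap_comp] at hcomp
  have hsurj := stalkMap_surjective 𝓘 d
  obtain ⟨e, he⟩ : ∃ e : (X.presheaf.stalk (𝓘.subschemeι d) ⧸
      RingHom.ker (𝓘.subschemeι.stalkMap d).hom) ≃+* 𝓘.subscheme.presheaf.stalk d,
      ∀ b, e (Ideal.Quotient.mk _ b) = (𝓘.subschemeι.stalkMap d).hom b :=
    ⟨RingHom.quotientKerEquivOfSurjective hsurj, fun b => rfl⟩
  have hq : ((Ideal.Quotient.mk (RingHom.ker (𝓘.subschemeι.stalkMap d).hom)).comp
      (f.stalkMap (𝓘.subschemeι d)).hom).Flat := by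
    have hb : Function.Bijective (e : (X.presheaf.stalk (𝓘.subschemeι d) ⧸
        RingHom.ker (𝓘.subschemeι.stalkMap d).hom) →+* 𝓘.subscheme.presheaf.stalk d) := e.bijective
    rw [← RingHom.Flat.comp_iff_of_bijective_left hb]
    have : (e : _ →+* _).comp ((Ideal.Quotient.mk (RingHom.ker (𝓘.subschemeι.stalkMap d).hom)).comp
        (f.stalkMap (𝓘.subschemeι d)).hom) =
        (f.stalkMap (𝓘.subschemeι d) ≫ 𝓘.subschemeι.stalkMap d).hom := by
      ext a
      exact he _
    rw [this]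
    exact hcomp
  rw [hker, ringHom_flat_quotient_iff] at hq
  letI := (f.stalkMap (𝓘.subschemeι d)).hom.toAlgebra
  have : Module.Flat (S.presheaf.stalk (f (𝓘.subschemeι d)))
    (X.presheaf.stalk (𝓘.subschemeι d) ⧸ Ideal.span {t'}) := hq
  exact flat_of_flat_quotient_of_isLocalRing t' ht' hnu

end Groth.Agent.H8.SubschemeStalk
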