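import Groth.Agent.H8.SubschemeStalk2
import Groth.Agent.Lib.Helper29.DepthQuot
import Mathlib.RingTheory.KrullDimension.Regular
import Mathlib.AlgebraicGeometry.Noetherian

/-!
# Depth and dimension of the local ring of an effective Cartier divisor
-/

set_option autoImplicit false
universe u

open CategoryTheory AlgebraicGeometry IsLocalRing

namespace Groth.Agent.H8.SubschemeStalk

open Groth.Agent.Lib.Helper29

variable {X : Scheme.{u}}

theorem depth_and_dim_stalk [IsLocallyNoetherian X] (𝓘 : X.IdealSheafData)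
    (h𝓘 : BlowUp.IsEffCartierIdeal 𝓘) (d : 𝓘.subscheme) :
    LocCoh.depth (𝓘.subscheme.presheaf.stalk d) (𝓘.subscheme.presheaf.stalk d) + 1 =
        LocCoh.depth (X.presheaf.stalk (𝓘.subschemeι d)) (X.presheaf.stalk (𝓘.subschemeι d)) ∧
      ringKrullDim (𝓘.subscheme.presheaf.stalk d) + 1 =
        ringKrullDim (X.presheaf.stalk (𝓘.subschemeι d)) := by
  obtain ⟨t', ht', hnu, hker⟩ := exists_generator_stalk 𝓘 h𝓘 d
  have hsurj := stalkMap_surjective 𝓘 d
  have hreg : IsSMulRegular (X.presheaf.stalk (𝓘.subschemeι d)) t' :=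
    Module.Flat.isSMulRegular_of_nonZeroDivisors ht'
  have htm : t' ∈ maximalIdeal (X.presheaf.stalk (𝓘.subschemeι d)) := hnu
  letI : Algebra (X.presheaf.stalk (𝓘.subschemeι d)) (𝓘.subscheme.presheaf.stalk d) :=
    (𝓘.subschemeι.stalkMap d).hom.toAlgebra
  have d2 := depth_self_eq_depth_of_surjective
    (R := X.presheaf.stalk (𝓘.subschemeι d)) (R' := 𝓘.subscheme.presheaf.stalk d) hsurj
  have hkerl : LinearMap.ker (Algebra.linearMap (X.presheaf.stalk (𝓘.subschemeι d))
      (𝓘.subscheme.presheaf.stalk d)) = Ideal.span {t'} := by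
    rw [← hker]
    rfl
  let e : (𝓘.subscheme.presheaf.stalk d) ≃ₗ[X.presheaf.stalk (𝓘.subschemeι d)]
      QuotSMulTop t' (X.presheaf.stalk (𝓘.subschemeι d)) :=
    ((LinearMap.quotKerEquivOfSurjective (Algebra.linearMap (X.presheaf.stalk (𝓘.subschemeι d))
      (𝓘.subscheme.presheaf.stalk d)) hsurj).symm.trans
        (Submodule.quotEquivOfEq _ _ hkerl)).trans
      (quotientSpanSingletonEquivQuotSMulTop _ t')
  have d3 : LocCoh.depth (X.presheaf.stalk (𝓘.subschemeι d)) (𝓘.subscheme.presheaf.stalk d) =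
      LocCoh.depth (X.presheaf.stalk (𝓘.subschemeι d))
        (QuotSMulTop t' (X.presheaf.stalk (𝓘.subschemeι d))) := idealDepth_congr _ e
  have d4 := depth_quotSMulTop_add_one (X.presheaf.stalk (𝓘.subschemeι d))
    (X.presheaf.stalk (𝓘.subschemeι d)) htm hreg
  refine ⟨by rw [d2, d3, d4], ?_⟩
  have k3 := ringKrullDim_quotient_span_singleton_succ_eq_ringKrullDim hreg htm
  have k4 : ringKrullDim (𝓘.subscheme.presheaf.stalk d) =
      ringKrullDim (X.presheaf.stalk (𝓘.subschemeι d) ⧸ Ideal.span {t'}) :=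
    ringKrullDim_eq_of_ringEquiv
      ((RingHom.quotientKerEquivOfSurjective hsurj).symm.trans (Ideal.quotEquivOfEq hker))
  rw [k4]
  exact k3

end Groth.Agent.H8.SubschemeStalk
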