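import Mathlib
import Groth.Prelude.Def_Curves

/-!
# Tsen–Lang for systems of forms: basic tools

* `isCi_of_ringEquiv`: property `C_i` (systems) is invariant under ring isomorphisms.
* `IsCi.fintype`: `C_i` for forms/variables indexed by arbitrary finite types.
* `eval_sum_monomial_linear`: evaluating the coefficientwise image of a polynomial under a linear
  functional.
* `core`: the expansion lemma: substitute `x_j = ∑_l c_{jl} ω_l` and take linear functionals.
-/

set_option autoImplicit false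
universe u v w

namespace Groth.Agent.H8.TsenLang

open MvPolynomial Curves

theorem isCi_of_ringEquiv {K : Type u} [Field K] {L : Type v} [Field L] (e : K ≃+* L) {i : ℕ}
    (hK : IsCi K i) : IsCi L i := by
  intro r n f d hf hd hn
  obtain ⟨a, ha, haf⟩ := hK r n (fun ρ => map (e.symm : L →+* K) (f ρ)) d
    (fun ρ => (hf ρ).map _) hd hn
  refine ⟨fun j => e (a j), ?_, fun ρ => ?_⟩
  · intro h
    apply ha
    funext j
    have := congrFun h j
    simpa using this
  · have h1 := haf ρ
    have h2 : eval (fun j => e (a j)) (f ρ) = e (eval a (map (e.symm : L →+* K) (f ρ))) := by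
      rw [eval_map]
      change _ = (e : K →+* L) _
      rw [MvPolynomial.eval₂_comp_left (e : K →+* L)]
      have : ((e : K →+* L).comp (e.symm : L →+* K)) = RingHom.id L := by
        ext x; simp
      rw [this]
      rfl
    rw [h2, h1, map_zero]

theorem IsCi.fintype {K : Type u} [Field K] {i : ℕ} (hK : IsCi K i) {ι : Type v} {σ : Type w}
    [Fintype ι] [Fintype σ] (f : ι → MvPolynomial σ K) (d : ι → ℕ)
    (hf : ∀ ρ, (f ρ).IsHomogeneous (d ρ)) (hd : ∀ ρ, 0 < d ρ)
    (h : ∑ ρ, d ρ ^ i < Fintype.card σ) :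
    ∃ a : σ → K, a ≠ 0 ∧ ∀ ρ, eval a (f ρ) = 0 := by
  classical
  let eι := Fintype.equivFin ι
  let eσ := Fintype.equivFin σ
  obtain ⟨a, ha, haf⟩ := hK (Fintype.card ι) (Fintype.card σ)
    (fun ρ => rename eσ (f (eι.symm ρ))) (fun ρ => d (eι.symm ρ))
    (fun ρ => (hf _).rename_isHomogeneous) (fun ρ => hd _)
    (by rw [Equiv.sum_comp eι.symm (fun ρ => d ρ ^ i)]; exact h)
  refine ⟨a ∘ eσ, ?_, fun ρ => ?_⟩
  · intro h0
    apply ha
    funext j
    have := congrFun h0 (eσ.symm j)
    simpa using this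
  · have := haf (eι ρ)
    simpa [eval_rename] using this

/-- Coefficientwise image of a polynomial under a linear functional. -/
noncomputable def coeffMap {K : Type u} [Field K] {A : Type v} [CommRing A] [Algebra K A]
    {ν : Type w} (φ : A →ₗ[K] K) (G : MvPolynomial ν A) : MvPolynomial ν K :=
  ∑ s ∈ G.support, monomial s (φ (coeff s G))

theorem coeff_coeffMap {K : Type u} [Field K] {A : Type v} [CommRing A] [Algebra K A]
    {ν : Type w} (φ : A →ₗ[K] K) (G : MvPolynomial ν A) (s : ν →₀ ℕ) :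
    coeff s (coeffMap φ G) = φ (coeff s G) := by
  classical
  unfold coeffMap
  rw [coeff_sum]
  simp only [coeff_monomial]
  rw [Finset.sum_ite_eq' G.support s]
  split_ifs with h
  · rfl
  · rw [notMem_support_iff.mp h, map_zero]

theorem coeffMap_isHomogeneous {K : Type u} [Field K] {A : Type v} [CommRing A] [Algebra K A]
    {ν : Type w} (φ : A →ₗ[K] K) {G : MvPolynomial ν A} {d : ℕ} (hG : G.IsHomogeneous d) :
    (coeffMap φ G).IsHomogeneous d := by
  intro s hs
  rw [coeff_coeffMap] at hs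
  apply hG
  intro h
  apply hs
  rw [h, map_zero]

theorem eval_coeffMap {K : Type u} [Field K] {A : Type v} [CommRing A] [Algebra K A]
    {ν : Type w} (φ : A →ₗ[K] K) (G : MvPolynomial ν A) (a : ν → K) :
    eval a (coeffMap φ G) = φ (eval (fun v => algebraMap K A (a v)) G) := by
  classical
  unfold coeffMap
  rw [map_sum, eval_eq, map_sum]
  refine Finset.sum_congr rfl fun s _ => ?_
  rw [eval_monomial]
  have : coeff s G * ∏ v ∈ s.support, algebraMap K A (a v) ^ s v
      = (∏ v ∈ s.support, a v ^ s v) • coeff s G := by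
    rw [Algebra.smul_def, map_prod, mul_comm]
    simp only [map_pow]
  rw [this, map_smul, smul_eq_mul, mul_comm]
  rfl

/-- The expansion lemma. -/
theorem core {K : Type u} [Field K] {i : ℕ} (hK : IsCi K i) {A : Type v} [CommRing A] [Algebra K A]
    {ι σ τ : Type} [Fintype ι] [Fintype σ] [Fintype τ]
    (ω : τ → A) (F : ι → MvPolynomial σ A) (d : ι → ℕ)
    (hF : ∀ ρ, (F ρ).IsHomogeneous (d ρ)) (hd : ∀ ρ, 0 < d ρ)
    (μ : ι → Type) [∀ ρ, Fintype (μ ρ)] (Φ : ∀ ρ, μ ρ → (A →ₗ[K] K))
    (h : ∑ ρ, Fintype.card (μ ρ) * d ρ ^ i < Fintype.card σ * Fintype.card τ) :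
    ∃ c : σ → τ → K, c ≠ 0 ∧
      ∀ ρ (m : μ ρ), Φ ρ m (eval (fun j => ∑ l, c j l • ω l) (F ρ)) = 0 := by
  classical
  let G : ι → MvPolynomial (σ × τ) A := fun ρ =>
    eval₂ (C : A →+* MvPolynomial (σ × τ) A) (fun j => ∑ l, C (ω l) * X (j, l)) (F ρ)
  have hG : ∀ ρ, (G ρ).IsHomogeneous (d ρ) := by
    intro ρ
    have := (hF ρ).eval₂ (C : A →+* MvPolynomial (σ × τ) A) (fun j => ∑ l, C (ω l) * X (j, l))
      (n := 1) (fun r => isHomogeneous_C _ r)
      (fun j => IsHomogeneous.sum _ _ _ fun l _ => isHomogeneous_C_mul_X (ω l) (j, l))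
    simpa using this
  obtain ⟨a, ha, haf⟩ := IsCi.fintype hK (ι := Σ ρ, μ ρ) (σ := σ × τ)
    (fun p => coeffMap (Φ p.1 p.2) (G p.1)) (fun p => d p.1)
    (fun p => coeffMap_isHomogeneous _ (hG p.1)) (fun p => hd p.1)
    (by
      rw [Fintype.sum_sigma, Fintype.card_prod]
      simpa using h)
  refine ⟨fun j l => a (j, l), ?_, fun ρ m => ?_⟩
  · intro h0
    apply ha
    funext ⟨j, l⟩
    exact congrFun (congrFun h0 j) l
  · have h1 := haf ⟨ρ, m⟩
    simp only at h1
    rw [eval_coeffMap] at h1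
    rw [← h1]
    congr 1
    change _ = eval _ (eval₂ _ _ _)
    rw [MvPolynomial.eval₂_comp_left (eval fun v => algebraMap K A (a v))]
    have hC : ((eval fun v : σ × τ => algebraMap K A (a v)).comp
        (C : A →+* MvPolynomial (σ × τ) A)) = RingHom.id A := by
      ext x; simp
    rw [hC]
    change eval _ _ = eval _ _
    refine congrArg (fun g => eval g (F ρ)) ?_
    funext j
    simp only [Function.comp_apply, map_sum, map_mul, eval_C, eval_X]
    refine Finset.sum_congr rfl fun l _ => ?_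
    rw [Algebra.smul_def, mul_comm]

end Groth.Agent.H8.TsenLang
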