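import Groth.Agent.H8.TsenLang

/-!
# Single-form `C_1` passes to finite extensions (norm form argument)
-/

set_option autoImplicit false
universe u v w

namespace Groth.Agent.H8.TsenLang

open MvPolynomial Curves

theorem IsCr.fintype {K : Type u} [Field K] {r : ℕ} (hK : IsCr K r) {σ : Type w}
    [Fintype σ] (f : MvPolynomial σ K) (d : ℕ)
    (hf : f.IsHomogeneous d) (hd : 0 < d) (h : d ^ r < Fintype.card σ) :
    ∃ a : σ → K, a ≠ 0 ∧ eval a f = 0 := by
  classical
  let eσ := Fintype.equivFin σ
  obtain ⟨a, ha, haf⟩ := hK (Fintype.card σ) d (rename eσ f) hf.rename_isHomogeneous hd h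
  refine ⟨a ∘ eσ, ?_, ?_⟩
  · intro h0
    apply ha
    funext j
    have := congrFun h0 (eσ.symm j)
    simpa using this
  · simpa [eval_rename] using haf

/-- The linear substitution `x_j = ∑_l ω_l y_{jl}`. -/
noncomputable def subst {A : Type v} [CommRing A] {σ τ : Type w} [Fintype τ]
    (ω : τ → A) (F : MvPolynomial σ A) : MvPolynomial (σ × τ) A :=
  eval₂ (C : A →+* MvPolynomial (σ × τ) A) (fun j => ∑ l, C (ω l) * X (j, l)) F

theorem subst_isHomogeneous {A : Type v} [CommRing A] {σ τ : Type w} [Fintype τ]
    (ω : τ → A) {F : MvPolynomial σ A} {d : ℕ} (hF : F.IsHomogeneous d) :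
    (subst ω F).IsHomogeneous d := by
  unfold subst
  have := hF.eval₂ (C : A →+* MvPolynomial (σ × τ) A) (fun j => ∑ l, C (ω l) * X (j, l))
    (n := 1) (fun r => isHomogeneous_C _ r)
    (fun j => IsHomogeneous.sum _ _ _ fun l _ => isHomogeneous_C_mul_X (ω l) (j, l))
  simpa using this

theorem eval_subst {K : Type u} [Field K] {A : Type v} [CommRing A] [Algebra K A]
    {σ τ : Type w} [Fintype τ] (ω : τ → A) (F : MvPolynomial σ A) (a : σ × τ → K) :
    eval (fun v => algebraMap K A (a v)) (subst ω F)
      = eval (fun j => ∑ l, a (j, l) • ω l) F := by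
  unfold subst
  rw [MvPolynomial.eval₂_comp_left (eval fun v => algebraMap K A (a v))]
  have hC : ((eval fun v : σ × τ => algebraMap K A (a v)).comp
      (C : A →+* MvPolynomial (σ × τ) A)) = RingHom.id A := by
    ext x; simp
  rw [hC]
  change eval _ _ = eval _ _
  refine congrArg (fun g => eval g F) ?_
  funext j
  simp only [Function.comp_apply, map_sum, map_mul, eval_C, eval_X]
  refine Finset.sum_congr rfl fun l _ => ?_
  rw [Algebra.smul_def, mul_comm]

theorem isCr_one_of_finite {K : Type u} [Field K] {L : Type v} [Field L] [Algebra K L]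
    [FiniteDimensional K L] (hK : IsCr K 1) : IsCr L 1 := by
  classical
  intro n d f hf hd hn
  let e := Module.finrank K L
  let b := Module.finBasis K L
  have he : 0 < e := Module.finrank_pos
  let G : MvPolynomial (Fin n × Fin e) L := subst (fun l => b l) f
  have hG : G.IsHomogeneous d := subst_isHomogeneous _ hf
  let g : Fin e → MvPolynomial (Fin n × Fin e) K := fun m => coeffMap (b.coord m) G
  have hg : ∀ m, (g m).IsHomogeneous d := fun m => coeffMap_isHomogeneous _ hG
  let Mat : Matrix (Fin e) (Fin e) (MvPolynomial (Fin n × Fin e) K) :=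
    fun p q => ∑ m, g m * C (Algebra.leftMulMatrix b (b m) p q)
  have hMat : ∀ p q, (Mat p q).IsHomogeneous d := by
    intro p q
    refine IsHomogeneous.sum _ _ _ fun m _ => ?_
    have := (hg m).mul (isHomogeneous_C (Fin n × Fin e) (Algebra.leftMulMatrix b (b m) p q))
    simpa using this
  have hdet : Mat.det.IsHomogeneous (d * e) := by
    rw [Matrix.det_apply]
    refine IsHomogeneous.sum _ _ _ fun π _ => ?_
    have hprod : (∏ q, Mat (π q) q).IsHomogeneous (d * e) := by
      have := IsHomogeneous.prod Finset.univ (fun q => Mat (π q) q) (fun _ => d)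
        (fun q _ => hMat (π q) q)
      simpa [mul_comm] using this
    rcases Int.units_eq_one_or (Equiv.Perm.sign π) with h | h
    · rw [h, one_smul]; exact hprod
    · rw [h, Units.neg_smul, one_smul]; exact hprod.neg
  obtain ⟨a, ha, haP⟩ := IsCr.fintype hK Mat.det (d * e) hdet (Nat.mul_pos hd he)
    (by
      rw [Fintype.card_prod, Fintype.card_fin, Fintype.card_fin, pow_one]
      rw [pow_one] at hn
      exact Nat.mul_lt_mul_of_pos_right hn he)
  let z : L := eval (fun v => algebraMap K L (a v)) G
  have hz : Algebra.leftMulMatrix b z = (eval a).mapMatrix Mat := by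
    have hzsum : z = ∑ m, eval a (g m) • b m := by
      conv_lhs => rw [← b.sum_repr z]
      refine Finset.sum_congr rfl fun m _ => ?_
      rw [eval_coeffMap]
      rfl
    rw [hzsum, map_sum]
    ext p q
    simp only [map_smul, RingHom.mapMatrix_apply, Matrix.map_apply, Mat, map_sum, map_mul,
      eval_C, Matrix.sum_apply, Matrix.smul_apply, smul_eq_mul]
  have hz0 : z = 0 := by
    have h1 : Algebra.norm K z = 0 := by
      rw [Algebra.norm_eq_matrix_det b z, hz, ← RingHom.map_det]
      exact haP
    exact (Algebra.norm_eq_zero_iff_of_basis b).mp h1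
  refine ⟨fun j => ∑ l, a (j, l) • b l, ?_, ?_⟩
  · intro h0
    apply ha
    funext ⟨j, l⟩
    have := congrFun h0 j
    exact Fintype.linearIndependent_iff.mp b.linearIndependent (fun l => a (j, l)) this l
  · rw [← eval_subst (fun l => b l) f a]
    exact hz0

end Groth.Agent.H8.TsenLang
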